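import Cfsg.Agent.MQ.Steps
import Cfsg.Agent.CharactersDeep.MaxInduced
import Cfsg.Agent.CharactersDeep.Extraspecial
import Cfsg.Agent.CharDeep.CliffordCorr
import Cfsg.Agent.Characters.AverageRoots
import Cfsg.Agent.H112.GLB.Gb3
import Cfsg.Agent.H614.GLn.RSForm
import Cfsg.Agent.H417.GU.Shift_m3
import Cfsg.Agent.MQ.Co.Two
import Cfsg.Agent.CharactersDeep.AbelianQuotient
import Cfsg.Agent.CharactersDeep.CliffordSum
import Cfsg.Agent.CharactersDeep.IndFun
import Cfsg.Agent.CharactersDeep.NormalInd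
import Cfsg.Agent.S0900
import Cfsg.Agent.S0886
import Cfsg.Agent.FastGrp
import Cfsg.Agent.Prune
set_option linter.all false
prune_inst 0x7fbcadf92ba8a1defffb7e3ffed1dffe11848fffafdef94bffe061bf8bdf030209c56b850de050fe1fd6401410b87813fb7eeeffe86bdc7ffffd5ff41ffbee5fe5f6b508119080240f302ff683f0778a6f3ffffffffffffffffffff7ffffffbeffbff3feffff
open scoped Cfsg.Agent.FastGrp

-- part: MO/TA/Abs
section
/-!
# MO, types `A` and `²A` in cross characteristic: the abstract boxes (helper15)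

Plan: `notes/P3/think_helper15.md`.  All groups are subgroups of one finite group `A`.

* `Tr H a f f'` : conjugation by `a` transforms `f` into `f'`; `res`, `ip`, `Stb`, `yc`;
* `Fr B N Nt Nh F` : a frame (`B = Nt Nh`, `Nt ⊓ Nh = N`, `Nt / N` cyclic, `Nh / N` abelian, generated by `φ` and an
  involution `τ`, `F` central);
* `Good` : a constituent of `χ|N` which extends to the stabiliser of `χ|N` in `Nh`; `Mul` : the local criterion;
* `Loc`, `Act`, `Om` : the local subgroup, the action on `X`, the bijection for the regular embedding;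
* the boxes `B2` (good constituents) and `B1` (the criterion).
-/

set_option autoImplicit false

namespace Cfsg.Agent.MO.TA

open Cfsg Subgroup

section defs

variable {A : Type} [Group A]

/-- conjugation by `a` transforms `f` into `f'` -/
def Tr (H : Subgroup A) (a : A) (f f' : H → ℂ) : Prop := ∀ x y : H, (y : A) = a * x * a⁻¹ → f' y = f x

/-- the restriction (zero outside `K`) -/
noncomputable def res (H : Subgroup A) {K : Subgroup A} (f : K → ℂ) : H → ℂ := fun x => extendByZero K f x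

theorem res_apply {H K : Subgroup A} (f : K → ℂ) (x : H) (y : K) (h : (y : A) = x) : res H f x = f y := by
  rw [res, ← h]
  exact Subtype.val_injective.extend_apply f 0 y

theorem res_of_le {H K : Subgroup A} (h : H ≤ K) (f : K → ℂ) (x : H) : res H f x = f (inclusion h x) :=
  res_apply f x _ rfl

/-- the inner product -/
noncomputable def ip {G : Type} [Group G] [Finite G] (f g : G → ℂ) : ℂ := @classInner G _ (Fintype.ofFinite G) f g

theorem ip_eq {G : Type} [Group G] [Fintype G] (f g : G → ℂ) : ip f g = classInner f g := by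
  rw [ip, Subsingleton.elim (Fintype.ofFinite G) ‹_›]

/-- the stabiliser in `H` of the function `f` on `N` -/
def Stb (H N : Subgroup A) (f : N → ℂ) : Subgroup A where
  carrier := {a | a ∈ H ∧ (∀ x, x ∈ N ↔ a * x * a⁻¹ ∈ N) ∧ Tr N a f f}
  one_mem' := ⟨one_mem _, fun x => by simp, fun x y h => congrArg f (Subtype.ext (by simpa using h))⟩
  mul_mem' := fun {a b} ha hb => ⟨mul_mem ha.1 hb.1, fun x => by
      rw [hb.2.1, ha.2.1, mul_inv_rev]
      simp only [mul_assoc],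
    fun x y h => (ha.2.2 ⟨_, (hb.2.1 x).1 x.2⟩ y (by rw [h]; simp only [mul_assoc, _root_.mul_inv_rev])).trans (hb.2.2 x _ rfl)⟩
  inv_mem' := fun {a} ha => ⟨inv_mem ha.1, fun x => by
      rw [ha.2.1 (a⁻¹ * x * a⁻¹⁻¹)]
      simp [mul_assoc],
    fun x y h => (ha.2.2 y x (by rw [h]; simp [mul_assoc])).symm⟩

/-- a linear character of `Nt / N` -/
def Lin (N : Subgroup A) {Nt : Subgroup A} (μ : Nt →* ℂˣ) : Prop := ∀ x : Nt, (x : A) ∈ N → μ x = 1

/-- the number of linear characters of `Nt / N` which fix `χ` -/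
noncomputable def yc (N : Subgroup A) {Nt : Subgroup A} (χ : Nt → ℂ) : ℕ :=
  Nat.card {μ : Nt →* ℂˣ // Lin N μ ∧ ∀ x, (μ x : ℂ) * χ x = χ x}

/-- central in `H` -/
def Cn (H : Subgroup A) (z : A) : Prop := z ∈ H ∧ ∀ g ∈ H, z * g = g * z

/-- **a frame** -/
structure Fr (B N Nt Nh : Subgroup A) (F : A) : Prop where
  tB : Nt ≤ B
  hB : Nh ≤ B
  inf : Nt ⊓ Nh = N
  sup : ∀ b ∈ B, ∃ t ∈ Nt, ∃ h ∈ Nh, b = t * h
  nN : ∀ b ∈ B, ∀ x ∈ N, b * x * b⁻¹ ∈ N
  nT : ∀ b ∈ B, ∀ x ∈ Nt, b * x * b⁻¹ ∈ Nt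
  cyc : ∃ g ∈ Nt, ∀ x ∈ Nt, ∃ k : ℕ, ∃ y ∈ N, x = g ^ k * y
  gen : ∃ φ ∈ Nh, ∃ τ ∈ Nh, τ * τ ∈ N ∧ φ * τ * φ⁻¹ * τ⁻¹ ∈ N ∧ ∀ h ∈ Nh, ∃ i j : ℕ, ∃ y ∈ N, h = φ ^ i * τ ^ j * y
  Fh : F ∈ Nh
  Fc : ∀ b ∈ B, F * b = b * F
  Ft : ∀ k : ℕ, F ^ k ∈ Nt → F ^ k = 1

/-- `θ` is a constituent of `χ|N` and extends to the stabiliser of `χ|N` in `Nh`, with `F` in the kernel -/
def Good [Finite A] (N : Subgroup A) {Nt : Subgroup A} (Nh : Subgroup A) (F : A) (χ : Nt → ℂ) (θ : N → ℂ) : Prop :=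
  IsIrrCharacter N θ ∧ ip (res N χ) θ ≠ 0 ∧ ∃ η : Stb Nh N (res N χ) → ℂ, IsCharacter _ η ∧ res N η = θ ∧
    ∀ y : Stb Nh N (res N χ), (y : A) = F → η y = η 1

/-- the local criterion at the prime `s` -/
def Mul [Finite A] (N : Subgroup A) {Nt : Subgroup A} (Nh : Subgroup A) (χ : Nt → ℂ) (s : ℕ) : Prop :=
  ∀ D : Subgroup A, N ≤ D → D ≤ Stb Nh N (res N χ) → (∀ a ∈ D, ∃ k : ℕ, a ^ s ^ k ∈ N) →
    ∃ Φ : D → ℂ, IsCharacter D Φ ∧ ∃ m : ℕ, ¬ s ∣ m ∧ ip (res N Φ) (res N χ) = m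

/-- the local criterion at all relevant primes -/
def MulAll [Finite A] (N : Subgroup A) {Nt : Subgroup A} (Nh : Subgroup A) (χ : Nt → ℂ) : Prop :=
  ∀ s : ℕ, s.Prime → (s = 2 ∨ s ∣ N.relIndex Nt) → Mul N Nh χ s

theorem Mul.mono [Finite A] {N Nt Nh Nh' : Subgroup A} {χ : Nt → ℂ} {s : ℕ} (h : Mul N Nh χ s) (hle : Nh' ≤ Nh) :
    Mul N Nh' χ s := fun D h1 h2 => h D h1 fun _ ha => ⟨hle (h2 ha).1, (h2 ha).2⟩

theorem MulAll.mono [Finite A] {N Nt Nh Nh' : Subgroup A} {χ : Nt → ℂ} (h : MulAll N Nh χ) (hle : Nh' ≤ Nh) :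
    MulAll N Nh' χ := fun s hs h2 => (h s hs h2).mono hle

/-- the local subgroup -/
structure Loc (l : ℕ) (B G Gt C : Subgroup A) (F : A) : Prop where
  le : C ≤ B
  sup : ∀ b ∈ B, ∃ c ∈ C, ∃ g ∈ G, b = c * g
  zC : ∀ z, Cn Gt z → z ∈ C
  FC : F ∈ C
  ne : ¬ G ≤ C
  syl : ∃ P : Subgroup A, P ≤ G ∧ IsPGroup l P ∧ ¬ l ∣ P.relIndex G ∧
    ∀ b ∈ B, (∀ x ∈ P, b * x * b⁻¹ ∈ P) → b ∈ C

/-- the action on the quotient `X` of `G` -/
structure Act (B G Gt : Subgroup A) (F : A) {X : Type} [Group X] (π : G →* X) (a : B →* MulAut X) : Prop where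
  surj : Function.Surjective π
  kerπ : ∀ x : G, π x = 1 → Cn Gt x
  act : ∀ (b : B) (x y : G), (y : A) = b * x * (b : A)⁻¹ → π y = a b (π x)
  kera : ∀ b : B, a b = 1 → ∃ z, Cn Gt z ∧ ∃ k : ℕ, (b : A) = z * F ^ k

/-- the bijection for the regular embedding; `Z₀` is the kernel of `π` -/
structure Om (l : ℕ) (G Gt C : Subgroup A) (Z₀ : Set A) (S : Set (Gt → ℂ)) (S' : Set (↥(Gt ⊓ C) → ℂ))
    (Ω : (Gt → ℂ) → ↥(Gt ⊓ C) → ℂ) : Prop where
  irr : ∀ χ ∈ S, IsIrrCharacter _ χ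
  irr' : ∀ ψ ∈ S', IsIrrCharacter _ ψ
  bij : Set.BijOn Ω S S'
  tr : ∀ c ∈ C, ∀ χ ∈ S, ∀ χ', Tr Gt c χ χ' → χ' ∈ S ∧ Tr (Gt ⊓ C) c (Ω χ) (Ω χ')
  tw : ∀ μ : Gt →* ℂˣ, Lin G μ → ∀ χ ∈ S, (fun x => (μ x : ℂ) * χ x) ∈ S ∧
    Ω (fun x => (μ x : ℂ) * χ x) = fun y => (μ (inclusion inf_le_left y) : ℂ) * Ω χ y
  cen : ∀ χ ∈ S, ∀ z : ↥(Gt ⊓ C), Cn Gt z → Ω χ z * χ 1 = χ (inclusion inf_le_left z) * Ω χ 1
  deg : ∀ χ ∈ S, (charDegree χ).factorization l = (charDegree (Ω χ)).factorization l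
  out : ∀ χ : Gt → ℂ, IsIrrCharacter _ χ → χ ∉ S → (∀ z : Gt, (z : A) ∈ Z₀ → χ z = χ 1) →
    (yc G χ).factorization l < (charDegree χ).factorization l
  out' : ∀ ψ : ↥(Gt ⊓ C) → ℂ, IsIrrCharacter _ ψ → ψ ∉ S' → (∀ z : ↥(Gt ⊓ C), (z : A) ∈ Z₀ → ψ z = ψ 1) →
    (yc (G ⊓ C) ψ).factorization l < (charDegree ψ).factorization l

end defs

/-- **box B2** : good constituents from the local criterion -/
def B2 : Prop :=
  ∀ (A : Type) [Group A] [Finite A] (B N Nt Nh : Subgroup A) (F : A), Fr B N Nt Nh F →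
    ∀ χ : Nt → ℂ, IsIrrCharacter Nt χ → MulAll N Nh χ → ∃ θ, Good N Nh F χ θ

/-- **box B1** : the criterion -/
def B1 : Prop :=
  ∀ (l : ℕ) [Fact l.Prime] (A : Type) [Group A] [Finite A] (B G Gt Gh C : Subgroup A) (F : A)
    (X : Type) [Group X] [Finite X] (π : G →* X) (a : B →* MulAut X) (Γ : Subgroup (MulAut X))
    (S : Set (Gt → ℂ)) (S' : Set (↥(Gt ⊓ C) → ℂ)) (Ω : (Gt → ℂ) → ↥(Gt ⊓ C) → ℂ),
    Fr B G Gt Gh F → Loc l B G Gt C F → Act B G Gt F π a → Om l G Gt C (Subtype.val '' (π.ker : Set G)) S S' Ω →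
    (∀ χ ∈ S, ∃ θ, Good G Gh F χ θ) → (∀ ψ ∈ S', ∃ θ, Good (G ⊓ C) (Gh ⊓ C) F ψ θ) →
    Sit l X Γ → Γ ≤ a.range → Gd l X Γ

end Cfsg.Agent.MO.TA
end

-- part: MO/TA/Ind
section
/-!
# MO, types `A` and `²A`: sources for the local criterion `Mul` (helper20)

* `mul_of_ind` : induction from a supplement `Bh` of `N` in `D`;
* `mul_of_prim` : a subgroup `K ≤ N` centralised by an abelian supplement, with a multiplicity prime to `s`;
* `mul_of_elt` : an element `u` of an abelian supplement whose value is not `s` times an algebraic integer.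
-/

set_option autoImplicit false

namespace Cfsg.Agent.MO.TA

open Cfsg Subgroup Cfsg.Agent.Characters.Core

variable {A : Type} [Group A]

theorem res_res {H K L : Subgroup A} (h : H ≤ K) (f : L → ℂ) : res H (res K f) = res H f :=
  funext fun x => res_of_le h _ x

theorem res_self {H : Subgroup A} (f : H → ℂ) : res H f = f := funext fun x => res_apply f x x rfl

theorem res_eq_comp {H K : Subgroup A} (h : H ≤ K) (f : K → ℂ) : res H f = f ∘ inclusion h :=
  funext fun x => res_of_le h f x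

theorem isChar_res {H K : Subgroup A} (h : H ≤ K) {f : K → ℂ} (hf : IsCharacter K f) : IsCharacter H (res H f) := by
  rw [res_eq_comp h]
  exact isCharacter_comp _ hf

theorem isClass_res {H K : Subgroup A} (h : H ≤ K) {f : K → ℂ} (hf : IsClassFunction K f) :
    IsClassFunction H (res H f) := fun x y => by
  rw [res_of_le h, res_of_le h, map_mul, map_mul, map_inv, hf]

theorem irr_of_res [Finite A] {H K : Subgroup A} (h : H ≤ K) {f : K → ℂ} (hf : IsCharacter K f)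
    (hi : IsIrrCharacter H (res H f)) : IsIrrCharacter K f :=
  CharactersDeep.MaxInduced.isIrr_of_comp (inclusion h) hf (res_eq_comp h f ▸ hi)

section ip

variable {G G' : Type} [Group G] [Finite G] [Group G'] [Finite G']

theorem ip_comp (e : G' ≃* G) (f f' : G → ℂ) : ip (f ∘ e) (f' ∘ e) = ip f f' := by
  have := Fintype.ofFinite G
  have := Fintype.ofFinite G'
  rw [ip_eq, ip_eq, Characters.Clifford.classInner_comp_mulEquiv]

theorem ip_nat {f f' : G → ℂ} (h : IsCharacter G f) (h' : IsCharacter G f') : ∃ m : ℕ, ip f f' = m := by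
  have := Fintype.ofFinite G
  rw [ip_eq]
  exact classInner_isNat h h'

theorem ip_comm {f f' : G → ℂ} (h : IsCharacter G f) (h' : IsCharacter G f') : ip f f' = ip f' f := by
  have := Fintype.ofFinite G
  obtain ⟨m, hm⟩ := classInner_isNat h h'
  rw [ip_eq, ip_eq, ← classInner_conj_symm f f', hm, map_natCast]

theorem ip_irr {f f' : G → ℂ} (h : IsIrrCharacter G f) (h' : IsIrrCharacter G f') (h0 : ip f f' ≠ 0) : f = f' := by
  have := Fintype.ofFinite G
  by_contra h1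
  exact h0 ((ip_eq f f').trans (classInner_irr_ne h h' h1))

theorem ip_self {f : G → ℂ} (h : IsIrrCharacter G f) : ip f f = 1 := by
  have := Fintype.ofFinite G
  exact (ip_eq f f).trans (classInner_irr_self h)

/-- a multiplicity prime to `s` is seen on an irreducible constituent -/
theorem exists_irr_of_not_dvd {f f' : G → ℂ} (h : IsCharacter G f) (h' : IsCharacter G f') {s m : ℕ} (hm : ip f f' = m)
    (hs : ¬ s ∣ m) : ∃ η, IsIrrCharacter G η ∧ ∃ a b : ℕ, ¬ s ∣ a * b ∧ ip f η = a ∧ ip η f' = b := by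
  classical
  have := Fintype.ofFinite G
  have := finite_irr (G := G)
  have := Fintype.ofFinite (IrrCharacter G)
  obtain ⟨c, hc, hc'⟩ := CharDeep.CliffordCorr.exists_nat_coeffs h
  choose e he using fun η : IrrCharacter G => classInner_isNat (isIrr_isCharacter η.2) h'
  have h1 : (m : ℂ) = ((∑ η : IrrCharacter G, c η * e η : ℕ) : ℂ) := by
    rw [← hm, ip_eq]
    conv_lhs => rw [hc]
    rw [classInner_sum_left, Nat.cast_sum]
    exact Finset.sum_congr rfl fun η _ => by rw [classInner_smul_left, he, Nat.cast_mul]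
  by_contra hcon
  push Not at hcon
  refine hs ?_
  rw [Nat.cast_injective h1]
  refine Finset.dvd_sum fun η _ => ?_
  by_contra h2
  exact hcon η η.2 _ _ h2 ((ip_eq _ _).trans (hc' η)) ((ip_eq _ _).trans (he η))

/-- a value which is not `s` times an algebraic integer gives a multiplicity prime to `s` -/
theorem exists_irr_of_val {f : G → ℂ} (h : IsCharacter G f) {s : ℕ} {u : G} (hu : ¬ ∃ a : ℂ, IsIntegral ℤ a ∧ f u = s * a) :
    ∃ η, IsIrrCharacter G η ∧ ∃ m : ℕ, ¬ s ∣ m ∧ ip η f = m := by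
  classical
  have := Fintype.ofFinite G
  have := finite_irr (G := G)
  have := Fintype.ofFinite (IrrCharacter G)
  obtain ⟨c, hc, hc'⟩ := CharDeep.CliffordCorr.exists_nat_coeffs h
  by_contra hcon
  push Not at hcon
  have h1 : ∀ η : IrrCharacter G, s ∣ c η := fun η => by
    by_contra h2
    exact hcon η η.2 _ h2 ((ip_comm (isIrr_isCharacter η.2) h).trans ((ip_eq _ _).trans (hc' η)))
  choose d hd using h1
  refine hu ⟨∑ η : IrrCharacter G, (d η : ℂ) * (η : G → ℂ) u, IsIntegral.sum _ fun η _ => ?_, ?_⟩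
  · obtain ⟨n, ρ, -, h2⟩ := η.2
    rw [← h2]
    exact (isIntegral_natCast _).mul (Characters.AverageRoots.isIntegral_character ρ u)
  · conv_lhs => rw [hc]
    rw [Finset.sum_apply, Finset.mul_sum]
    exact Finset.sum_congr rfl fun η _ => by rw [Pi.smul_apply, hd, Nat.cast_mul, smul_eq_mul, mul_assoc]

omit [Finite G] [Finite G'] in
/-- an irreducible character stays irreducible on a supplement of the centre -/
theorem irr_comp_of_center (f : G' →* G) (hf : ∀ g : G, ∃ x, ∃ z ∈ center G, g = f x * z) {χ : G → ℂ}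
    (hχ : IsIrrCharacter G χ) : IsIrrCharacter G' (χ ∘ f) := by
  obtain ⟨n, ρ, hρ, rfl⟩ := hχ
  obtain ⟨c, hc⟩ := CharactersDeep.Extraspecial.exists_central_hom_rep ρ hρ
  refine ⟨n, ρ.comp f, ?_, rfl⟩
  have hnt : Nontrivial (Subrepresentation (ρ.comp f)) := by
    obtain ⟨a, b, hab⟩ := hρ.toNontrivial
    refine ⟨⟨a.toSubmodule, fun g v hv => a.apply_mem_toSubmodule (f g) hv⟩,
      ⟨b.toSubmodule, fun g v hv => b.apply_mem_toSubmodule (f g) hv⟩, fun h => hab ?_⟩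
    apply Subrepresentation.toSubmodule_injective
    exact congrArg (Subrepresentation.toSubmodule (ρ := ρ.comp f)) h
  refine ⟨fun a => ?_⟩
  have key : ∀ (g : G) ⦃v : Fin n → ℂ⦄, v ∈ a.toSubmodule → ρ g v ∈ a.toSubmodule := by
    intro g v hv
    obtain ⟨x, z, hz, rfl⟩ := hf g
    rw [map_mul, Module.End.mul_apply, hc ⟨z, hz⟩]
    exact a.apply_mem_toSubmodule x (a.toSubmodule.smul_mem _ hv)
  rcases hρ.eq_bot_or_eq_top ⟨a.toSubmodule, key⟩ with h | h
  · left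
    apply Subrepresentation.toSubmodule_injective
    exact congrArg (Subrepresentation.toSubmodule (ρ := ρ)) h
  · right
    apply Subrepresentation.toSubmodule_injective
    exact congrArg (Subrepresentation.toSubmodule (ρ := ρ)) h

end ip

variable [Finite A]

/-- **induction from a supplement** -/
theorem exists_ind {N D Bh : Subgroup A} (hN : N ≤ D) (hB : Bh ≤ D) (hn : ∀ d ∈ D, ∀ x ∈ N, d * x * d⁻¹ ∈ N)
    (hsup : ∀ d ∈ D, ∃ x ∈ N, ∃ b ∈ Bh, d = x * b) {β : Bh → ℂ} (hβ : IsCharacter Bh β) :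
    ∃ Φ : D → ℂ, IsCharacter D Φ ∧ ∀ f : N → ℂ, IsClassFunction N f →
      ip (res N Φ) f = ip (res (Bh ⊓ N) β) (res (Bh ⊓ N) f) := by
  classical
  have := Fintype.ofFinite D
  have hM : (N.subgroupOf D).Normal := ⟨fun x hx d => hn d d.2 x hx⟩
  have := Fintype.ofFinite (N.subgroupOf D)
  have := Fintype.ofFinite ((Bh.subgroupOf D).subgroupOf (N.subgroupOf D))
  have hβ' : IsCharacter (Bh.subgroupOf D) (β ∘ subgroupOfEquivOfLe hB) :=
    isCharacter_comp (subgroupOfEquivOfLe hB : Bh.subgroupOf D →* Bh) hβ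
  refine ⟨indFun (Bh.subgroupOf D) (β ∘ subgroupOfEquivOfLe hB), CharDeep.CliffordCorr.isCharacter_indFun _ hβ',
    fun f hf => ?_⟩
  have h1 : N.subgroupOf D ⊔ Bh.subgroupOf D = ⊤ := eq_top_iff.2 fun d _ => by
    obtain ⟨x, hx, b, hb, h⟩ := hsup d d.2
    rw [show d = ⟨x, hN hx⟩ * ⟨b, hB hb⟩ from Subtype.ext h]
    exact mul_mem (mem_sup_left hx) (mem_sup_right hb)
  let e : (Bh.subgroupOf D).subgroupOf (N.subgroupOf D) ≃* ↥(Bh ⊓ N) :=
    { toFun := fun x => ⟨x.1.1.1, x.2, x.1.2⟩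
      invFun := fun y => ⟨⟨⟨y.1, hN y.2.2⟩, y.2.2⟩, y.2.1⟩
      left_inv := fun _ => rfl
      right_inv := fun _ => rfl
      map_mul' := fun _ _ => rfl }
  simp only [← ip_comp (subgroupOfEquivOfLe hN), ← ip_comp e, ip_eq, ip_eq]
  have h2 : res N (indFun (Bh.subgroupOf D) (β ∘ subgroupOfEquivOfLe hB)) ∘ subgroupOfEquivOfLe hN =
      indFun ((Bh.subgroupOf D).subgroupOf (N.subgroupOf D)) (res (Bh ⊓ N) β ∘ e) := funext fun m => by
    rw [Function.comp_apply, res_apply _ (subgroupOfEquivOfLe hN m) m.1 rfl,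
      CharactersDeep.MaxInduced.indFun_restrict _ _ h1 _ (isCharacter_isClassFunction hβ') m]
    congr 1
    exact funext fun j => (res_apply β (e j) _ rfl).symm
  rw [h2, CharactersDeep.NormalInd.classInner_indFun _ _ _ fun x y => by
    rw [Function.comp_apply, Function.comp_apply, map_mul, map_mul, map_inv, hf]]
  congr 1
  exact funext fun j => (res_apply f (e j) _ rfl).symm

/-- Frobenius reciprocity -/
theorem exists_ind_le {H K : Subgroup A} (h : H ≤ K) {β : H → ℂ} (hβ : IsCharacter H β) :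
    ∃ Φ : K → ℂ, IsCharacter K Φ ∧ ∀ f : K → ℂ, IsClassFunction K f → ip Φ f = ip β (res H f) := by
  classical
  have := Fintype.ofFinite K
  have := Fintype.ofFinite (H.subgroupOf K)
  refine ⟨indFun (H.subgroupOf K) (β ∘ subgroupOfEquivOfLe h), CharDeep.CliffordCorr.isCharacter_indFun _
    (isCharacter_comp (subgroupOfEquivOfLe h : H.subgroupOf K →* H) hβ), fun f hf => ?_⟩
  rw [← ip_comp (subgroupOfEquivOfLe h) β, ip_eq, ip_eq, CharactersDeep.NormalInd.classInner_indFun _ _ _ hf]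
  congr 1
  exact funext fun j => (res_apply f _ j.1 rfl).symm

/-- an irreducible character lies under an irreducible character -/
theorem exists_over {H K : Subgroup A} (h : H ≤ K) {β : H → ℂ} (hβ : IsIrrCharacter H β) :
    ∃ η : K → ℂ, IsIrrCharacter K η ∧ ip β (res H η) ≠ 0 := by
  classical
  obtain ⟨Φ, h1, h2⟩ := exists_ind_le h (isIrr_isCharacter hβ)
  by_contra hcon
  push Not at hcon
  have := Fintype.ofFinite K
  have h3 : Φ = 0 := classFunction_eq_zero (isCharacter_isClassFunction h1) fun η hη =>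
    (ip_eq _ _).symm.trans ((h2 η (isIrr_isClassFunction hη)).trans (hcon η hη))
  let δ : K → ℂ := fun x => if x = 1 then 1 else 0
  have h4 := h2 δ fun x y => by simp only [δ, _root_.conj_eq_one_iff]
  have := Fintype.ofFinite H
  rw [h3, ip_eq, ip_eq, classInner_zero_left, classInner_def, Finset.sum_eq_single 1 (fun x _ hx => by
    rw [res_of_le h, show δ (inclusion h x) = 0 from if_neg fun e => hx (inclusion_injective h (e.trans (map_one _).symm)),
      map_zero, mul_zero]) (fun e => absurd (Finset.mem_univ _) e), res_of_le h, map_one, show δ 1 = 1 from if_pos rfl,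
    map_one, mul_one] at h4
  exact mul_ne_zero (inv_ne_zero card_ne_zero_complex) (isIrr_apply_one_ne_zero hβ) h4.symm

/-- extension over a central supplement -/
theorem ext_of_center {H K : Subgroup A} (h : H ≤ K)
    (hc : ∀ k ∈ K, ∃ x ∈ H, ∃ z ∈ K, (∀ y ∈ K, y * z = z * y) ∧ k = x * z) {β : H → ℂ} (hβ : IsIrrCharacter H β) :
    ∃ η : K → ℂ, IsIrrCharacter K η ∧ res H η = β := by
  obtain ⟨η, h1, h2⟩ := exists_over h hβ
  refine ⟨η, h1, (ip_irr hβ ?_ h2).symm⟩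
  rw [res_eq_comp h]
  refine irr_comp_of_center _ (fun k => ?_) h1
  obtain ⟨x, hx, z, hz, h3, h4⟩ := hc k k.2
  exact ⟨⟨x, hx⟩, ⟨z, hz⟩, mem_center_iff.2 fun y => Subtype.ext (h3 y y.2), Subtype.ext h4⟩

/-- **the local criterion from a character of a supplement** -/
theorem mul_of_ind {N Nt D Bh : Subgroup A} (hNt : N ≤ Nt) (hN : N ≤ D) (hB : Bh ≤ D)
    (hn : ∀ d ∈ D, ∀ x ∈ N, d * x * d⁻¹ ∈ N) (hsup : ∀ d ∈ D, ∃ x ∈ N, ∃ b ∈ Bh, d = x * b) {β : Bh → ℂ}
    (hβ : IsCharacter Bh β) {χ : Nt → ℂ} (hχ : IsClassFunction Nt χ) :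
    ∃ Φ : D → ℂ, IsCharacter D Φ ∧ ip (res N Φ) (res N χ) = ip (res (Bh ⊓ N) β) (res (Bh ⊓ N) χ) := by
  obtain ⟨Φ, h1, h2⟩ := exists_ind hN hB hn hsup hβ
  exact ⟨Φ, h1, by rw [h2 _ (isClass_res hNt hχ), res_res inf_le_right]⟩

/-- **the local criterion from a subgroup which is centralised by an abelian supplement** -/
theorem mul_of_prim {N Nt D P K : Subgroup A} (hNt : N ≤ Nt) (hN : N ≤ D) (hn : ∀ d ∈ D, ∀ x ∈ N, d * x * d⁻¹ ∈ N)
    (hP : ∀ a ∈ P, ∀ b ∈ P, a * b = b * a) (hsup : ∀ d ∈ D, ∃ x ∈ N, ∃ b ∈ P, d = x * b) (hK : K ≤ N)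
    (hPK : ∀ a ∈ P, ∀ k ∈ K, a * k = k * a) {χ : Nt → ℂ} (hχ : IsCharacter Nt χ) {s m : ℕ} {γ : K → ℂ}
    (hγ : IsCharacter K γ) (hm : ip γ (res K χ) = m) (hs : ¬ s ∣ m) :
    ∃ Φ : D → ℂ, IsCharacter D Φ ∧ ∃ m : ℕ, ¬ s ∣ m ∧ ip (res N Φ) (res N χ) = m := by
  let Bh : Subgroup A :=
    { carrier := {b | ∃ k ∈ K, ∃ a ∈ P ⊓ D, b = k * a}
      one_mem' := ⟨1, one_mem _, 1, one_mem _, (one_mul 1).symm⟩
      mul_mem' := by
        rintro _ _ ⟨k, hk, a, ha, rfl⟩ ⟨k', hk', a', ha', rfl⟩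
        exact ⟨_, mul_mem hk hk', _, mul_mem ha ha', by
          rw [mul_assoc, ← mul_assoc a, hPK a ha.1 k' hk', mul_assoc, mul_assoc]⟩
      inv_mem' := by
        rintro _ ⟨k, hk, a, ha, rfl⟩
        exact ⟨_, inv_mem hk, _, inv_mem ha, by rw [mul_inv_rev, hPK _ (inv_mem ha.1) _ (inv_mem hk)]⟩ }
  have h1 : Bh ≤ D := by
    rintro _ ⟨k, hk, a, ha, rfl⟩
    exact mul_mem (hN (hK hk)) ha.2
  have h2 : K ≤ Bh ⊓ N := fun k hk => ⟨⟨k, hk, 1, one_mem _, (mul_one k).symm⟩, hK hk⟩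
  have h3 : Bh ⊓ N ≤ Nt := inf_le_right.trans hNt
  obtain ⟨Ψ, h4, h5⟩ := exists_ind_le h2 hγ
  obtain ⟨η, h6, a, b, h7, -, h8⟩ := exists_irr_of_not_dvd h4 (isChar_res h3 hχ)
    (by rw [h5 _ (isCharacter_isClassFunction (isChar_res h3 hχ)), res_res h2, hm]) hs
  obtain ⟨β, h9, h10⟩ := ext_of_center (inf_le_left : Bh ⊓ N ≤ Bh) (by
    rintro _ ⟨k, hk, c, hc, rfl⟩
    refine ⟨k, h2 hk, c, ⟨1, one_mem _, c, hc, (one_mul c).symm⟩, ?_, rfl⟩
    rintro _ ⟨k', hk', c', hc', rfl⟩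
    rw [mul_assoc, hP c' hc'.1 c hc.1, ← mul_assoc, ← hPK c hc.1 k' hk', mul_assoc]) h6
  obtain ⟨Φ, h11, h12⟩ := mul_of_ind hNt hN h1 hn (fun d hd => by
    obtain ⟨x, hx, c, hc, h⟩ := hsup d hd
    refine ⟨x, hx, c, ⟨1, one_mem _, c, ⟨hc, ?_⟩, (one_mul c).symm⟩, h⟩
    rw [eq_inv_mul_of_mul_eq h.symm]
    exact D.mul_mem (D.inv_mem (hN hx)) hd) (isIrr_isCharacter h9) (isCharacter_isClassFunction hχ)
  exact ⟨Φ, h11, b, fun e => h7 (e.mul_left a), by rw [h12, h10, h8]⟩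

/-- the same from a value on `K` -/
theorem mul_of_val {N Nt D P K : Subgroup A} (hNt : N ≤ Nt) (hN : N ≤ D) (hn : ∀ d ∈ D, ∀ x ∈ N, d * x * d⁻¹ ∈ N)
    (hP : ∀ a ∈ P, ∀ b ∈ P, a * b = b * a) (hsup : ∀ d ∈ D, ∃ x ∈ N, ∃ b ∈ P, d = x * b) (hK : K ≤ N)
    (hPK : ∀ a ∈ P, ∀ k ∈ K, a * k = k * a) {χ : Nt → ℂ} (hχ : IsCharacter Nt χ) {s : ℕ} {u : Nt} (hu : (u : A) ∈ K)
    (hv : ¬ ∃ a : ℂ, IsIntegral ℤ a ∧ χ u = s * a) :
    ∃ Φ : D → ℂ, IsCharacter D Φ ∧ ∃ m : ℕ, ¬ s ∣ m ∧ ip (res N Φ) (res N χ) = m := by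
  obtain ⟨γ, h1, m, h2, h3⟩ := exists_irr_of_val (isChar_res (hK.trans hNt) hχ) (s := s) (u := ⟨u, hu⟩)
    (by rwa [res_apply χ (⟨u, hu⟩ : K) u rfl])
  exact mul_of_prim hNt hN hn hP hsup hK hPK hχ (isIrr_isCharacter h1) h3 h2

/-- **the local criterion from an element of an abelian supplement** -/
theorem mul_of_elt {N Nt D P : Subgroup A} (hNt : N ≤ Nt) (hN : N ≤ D) (hn : ∀ d ∈ D, ∀ x ∈ N, d * x * d⁻¹ ∈ N)
    (hP : ∀ a ∈ P, ∀ b ∈ P, a * b = b * a) (hsup : ∀ d ∈ D, ∃ x ∈ N, ∃ b ∈ P, d = x * b) {χ : Nt → ℂ}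
    (hχ : IsCharacter Nt χ) {s : ℕ} {u : Nt} (huP : (u : A) ∈ P) (huN : (u : A) ∈ N)
    (hv : ¬ ∃ a : ℂ, IsIntegral ℤ a ∧ χ u = s * a) :
    ∃ Φ : D → ℂ, IsCharacter D Φ ∧ ∃ m : ℕ, ¬ s ∣ m ∧ ip (res N Φ) (res N χ) = m :=
  mul_of_val (K := P ⊓ N) hNt hN hn hP hsup inf_le_right (fun a ha k hk => hP a ha k hk.1) hχ ⟨huP, huN⟩ hv

/-- the criterion `Mul` from an element which commutes with an abelian supplement of `N` in `Nh` -/
theorem Mul.of_elt {N Nt Nh P : Subgroup A} (hNt : N ≤ Nt) (hP : ∀ a ∈ P, ∀ b ∈ P, a * b = b * a)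
    (hsup : ∀ d ∈ Nh, ∃ x ∈ N, ∃ b ∈ P, d = x * b) {χ : Nt → ℂ} (hχ : IsCharacter Nt χ) {s : ℕ} {u : Nt}
    (huP : (u : A) ∈ P) (huN : (u : A) ∈ N) (hv : ¬ ∃ a : ℂ, IsIntegral ℤ a ∧ χ u = s * a) : Mul N Nh χ s :=
  fun _ h1 h2 _ => mul_of_elt hNt h1 (fun _ hd x hx => ((h2 hd).2.1 x).1 hx) hP (fun d hd => hsup d (h2 hd).1) hχ huP huN hv

end Cfsg.Agent.MO.TA
end

-- part: MO/TA/Lab
section
/-!
# MO, types `A` and `²A`: labels (helper15)

* `vz`, `PH`, `hk` : valuations, the order polynomial, sums over the hooks of a `β`-tuple;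
* `mulL` : a unit of `ZMod M` acts on the labels `LabZ`; `tot` : the label of the central character;
* `LabW Q M d m w` : the labels of the characters of the wreath product; `mulW`, `shiftW`, `totW`;
* `dfG`, `dfW` : the defects.
-/

set_option autoImplicit false

namespace Cfsg.Agent.MO.TA

open Finset Cfsg.Agent.H577.GLB.Std
open Cfsg.Agent.H614.GLn.RSt (repsZ)

/-- the valuation of an integer -/
noncomputable def vz (l : ℕ) (z : ℤ) : ℕ := z.natAbs.factorization l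

/-- the order polynomial -/
def PH (Q : ℤ) (n : ℕ) : ℤ := ∏ i ∈ range n, (Q ^ (i + 1) - 1)

/-- the sum over the hooks -/
def hk {m : ℕ} (F : ℕ → ℕ) (β : Fin m → ℕ) : ℕ := ∑ j, ∑ x ∈ range (β j) \ (Iio j).image β, F (β j - x)

variable {Q : ℤ} {M : ℕ} [NeZero M] {d m n w : ℕ}

/-- the action of a unit on the labels -/
def mulL (t : LabZ Q M m n) (k : (ZMod M)ˣ) : LabZ Q M m n where
  t c := t.t (k * c)
  mono c := t.mono _
  orb c := by rw [mul_left_comm, t.orb]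
  sum := (Equiv.sum_comp (Units.mulLeft k) fun c => bsz (t.t c)).trans t.sum

/-- the label of the central character -/
def tot (t : LabZ Q M m n) : ZMod M := ∑ c, bsz (t.t c) • c

/-- the defect -/
noncomputable def dfG (l : ℕ) (t : LabZ Q M m n) : ℕ :=
  ∑ c ∈ repsZ Q M, hk (fun h => vz l ((Q ^ perZ Q M c) ^ h - 1)) (t.t c)

/-- the labels of the wreath product: a tuple for each label `c` of level `d` and each `j < d / per c`; a tuple is counted
`per c` times in the sum over all `c` -/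
@[ext] structure LabW (Q : ℤ) (M d m w : ℕ) [NeZero M] where
  /-- the tuples -/
  t : ZMod M → Fin d → Fin m → ℕ
  mono : ∀ c j, StrictMono (t c j)
  orb : ∀ c, t ((Q : ZMod M) * c) = t c
  supp : ∀ c j, bsz (t c j) ≠ 0 → TorZ Q M d c ∧ (j : ℕ) < d / perZ Q M c
  sum : ∑ c ∈ repsZ Q M, ∑ j, bsz (t c j) = w

/-- `ν'` is the image of `ν` under the unit `k` -/
def MulW (ν ν' : LabW Q M d m w) (k : (ZMod M)ˣ) : Prop := ∀ c, ν'.t c = ν.t (k * c)

/-- `ν'` is the translate of `ν` by `a` -/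
def ShiftW (ν ν' : LabW Q M d m w) (a : ZMod M) : Prop := ∀ c, ν'.t c = ν.t (c - a)

/-- the label of the central character -/
noncomputable def totW (ν : LabW Q M d m w) : ZMod M := ∑ c, ((∑ j, bsz (ν.t c j)) * (d / perZ Q M c)) • c

/-- the defect -/
noncomputable def dfW (l : ℕ) (ν : LabW Q M d m w) : ℕ :=
  ∑ c ∈ repsZ Q M, ∑ j, hk (fun h => h.factorization l) (ν.t c j)

end Cfsg.Agent.MO.TA
end

-- part: MO/TA/Mod
section
/-!
# MO, types `A` and `²A`: the model (helper15)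

`K` is a large finite field, the finite abelian group `E` acts on `GL ι K` by field automorphisms and the inverse
transpose, `F : E` is the Frobenius map (`x ↦ x ^ Q` on the eigenvalues).

* `D0` : the data; `AA ι = GL ι K ⋊ E`; `ue` : the action on `Kˣ`, `ex` : the exponent;
* `Ah v` : the centraliser of `v F`, `Gt v`, `Gh v`, `G v`; `Lg v` : `v F` is conjugate to `F` under `SL`;
* `ty` : the type of a matrix, `IsL` : labels, `Tab` : the character table;
* `Cx` : the data with Lang's theorem and the tables.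
-/

set_option autoImplicit false

namespace Cfsg.Agent.MO.TA

open Cfsg Subgroup Matrix Cfsg.Agent.H577.GLB.Std Cfsg.Agent.H615.GU
open scoped MatrixGroups

section act

variable (K : Type) [Field K] (ι : Type) [Fintype ι] [DecidableEq ι]

/-- field automorphisms -/
def fm : (K ≃+* K) →* MulAut (GL ι K) where
  toFun σ :=
    { toFun := GeneralLinearGroup.map (σ : K →+* K)
      invFun := GeneralLinearGroup.map (σ.symm : K →+* K)
      left_inv := fun _ => Units.ext (Matrix.ext fun _ _ => σ.symm_apply_apply _)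
      right_inv := fun _ => Units.ext (Matrix.ext fun _ _ => σ.apply_symm_apply _)
      map_mul' := map_mul _ }
  map_one' := MulEquiv.ext fun _ => Units.ext (Matrix.ext fun _ _ => rfl)
  map_mul' _ _ := MulEquiv.ext fun _ => Units.ext (Matrix.ext fun _ _ => rfl)

/-- the inverse transpose -/
def itm : MulAut (GL ι K) where
  toFun g := ⟨(g⁻¹).1ᵀ, g.1ᵀ, by rw [← transpose_mul, Units.mul_inv, transpose_one],
    by rw [← transpose_mul, Units.inv_mul, transpose_one]⟩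
  invFun g := ⟨(g⁻¹).1ᵀ, g.1ᵀ, by rw [← transpose_mul, Units.mul_inv, transpose_one],
    by rw [← transpose_mul, Units.inv_mul, transpose_one]⟩
  left_inv _ := rfl
  right_inv _ := rfl
  map_mul' g h := Units.ext (by
    show ((g * h)⁻¹).1ᵀ = (g⁻¹).1ᵀ * (h⁻¹).1ᵀ
    rw [_root_.mul_inv_rev, Units.val_mul, transpose_mul])

theorem itm_sq : itm K ι * itm K ι = 1 := rfl

/-- the sign acts by the inverse transpose -/
def sm : ℤˣ →* MulAut (GL ι K) where
  toFun s := if s = 1 then 1 else itm K ι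
  map_one' := if_pos rfl
  map_mul' s t := by
    rcases Int.units_eq_one_or s with rfl | rfl <;> rcases Int.units_eq_one_or t with rfl | rfl <;> simp [itm_sq]

variable {K ι}

theorem fm_apply (σ : K ≃+* K) (g : GL ι K) (i j : ι) : (fm K ι σ g).1 i j = σ (g.1 i j) := rfl

theorem itm_val (g : GL ι K) : (itm K ι g).1 = (g⁻¹).1ᵀ := rfl

theorem sm_one : sm K ι 1 = 1 := map_one _

theorem sm_neg : sm K ι (-1) = itm K ι := rfl

theorem fm_sm (σ : K ≃+* K) (s : ℤˣ) : Commute (fm K ι σ) (sm K ι s) := by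
  rcases Int.units_eq_one_or s with rfl | rfl
  · rw [sm_one]
    exact Commute.one_right _
  · rw [sm_neg]
    exact MulEquiv.ext fun _ => Units.ext (Matrix.ext fun _ _ => rfl)

theorem det_fm (σ : K ≃+* K) (g : GL ι K) :
    GeneralLinearGroup.det (fm K ι σ g) = Units.map (σ : K →* K) (GeneralLinearGroup.det g) :=
  Units.ext ((σ : K →+* K).map_det g.1).symm

theorem det_sm (s : ℤˣ) (g : GL ι K) : GeneralLinearGroup.det (sm K ι s g) = GeneralLinearGroup.det g ^ (s : ℤ) := by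
  rcases Int.units_eq_one_or s with rfl | rfl
  · rw [sm_one, Units.val_one, zpow_one]
    rfl
  · rw [sm_neg, Units.val_neg, Units.val_one, _root_.zpow_neg_one, ← map_inv]
    exact Units.ext (det_transpose _)

/-- the columns of the matrix `g` at the eigenvalue `x` -/
noncomputable def col (g : GL ι K) (x : Kˣ) : Col := colOf (toLin' (g.1 - scalar ι (x : K)))

/-- the type of a matrix -/
noncomputable def ty [Finite K] (Q : ℤ) (g : GL ι K) : Ty (Orb K Q) :=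
  Finsupp.equivFunOnFinite.symm fun o => col g o.out

/-- a diagonal matrix -/
def dg : (ι → Kˣ) →* GL ι K where
  toFun t := ⟨diagonal fun i => (t i : K), diagonal fun i => ((t i)⁻¹ : Kˣ), by simp, by simp⟩
  map_one' := Units.ext (by simp)
  map_mul' s t := Units.ext (by simp)

/-- a permutation matrix: `pm π` maps `e j` to `e (π j)` -/
def pm : Equiv.Perm ι →* GL ι K := (Matrix.permMatrixHom : Equiv.Perm ι →* Matrix ι ι K).toHomUnits

theorem dg_val (t : ι → Kˣ) : (dg t : GL ι K).1 = diagonal fun i => (t i : K) := rfl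

theorem pm_apply (π : Equiv.Perm ι) (i j : ι) : (pm π : GL ι K).1 i j = if i = π j then 1 else 0 := by
  change (π⁻¹.permMatrix K) i j = _
  simp only [Equiv.Perm.permMatrix, PEquiv.toMatrix_apply, Equiv.toPEquiv_apply, Option.mem_def, Option.some.injEq,
    Equiv.Perm.inv_eq_iff_eq]

end act

/-- the data -/
structure D0 where
  /-- the large field -/
  K : Type
  [fld : Field K]
  [fin : Fintype K]
  /-- the characteristic -/
  p : ℕ
  /-- `q = p ^ f` -/
  f : ℕ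
  [pp : Fact p.Prime]
  [chp : CharP K p]
  /-- the automorphisms -/
  E : Type
  [cg : CommGroup E]
  [finE : Finite E]
  /-- the field part -/
  σ : E →* (K ≃+* K)
  /-- the graph part -/
  sg : E →* ℤˣ
  /-- the Frobenius map -/
  F : E
  /-- the embedding of the roots of unity -/
  θ : K →*₀ ℂ
  /-- `Q = ± q` -/
  Q : ℤ
  /-- the order of `Kˣ` -/
  M : ℕ
  [nz : NeZero M]
  /-- the bound for the dimensions -/
  n : ℕ
  fpos : 0 < f
  hQ : Q = sg F * (p : ℤ) ^ f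
  hF : ∀ x, σ F x = x ^ p ^ f
  inj : ∀ e, σ e = 1 → sg e = 1 → e = 1
  gen : ∃ φ τ : E, τ * τ = 1 ∧ ∀ e, ∃ i j : ℕ, e = φ ^ i * τ ^ j
  ctx : CtxQ θ Q M (2 * n + 2)

attribute [instance] D0.fld D0.fin D0.pp D0.chp D0.cg D0.finE D0.nz

namespace D0

variable (c : D0) (ι : Type) [Fintype ι] [DecidableEq ι]

/-- the action on the matrices -/
def act : c.E →* MulAut (GL ι c.K) :=
  MonoidHom.mk' (fun e => fm c.K ι (c.σ e) * sm c.K ι (c.sg e)) fun a b => by
    rw [map_mul, map_mul, map_mul, map_mul]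
    exact (fm_sm (c.σ b) (c.sg a)).mul_mul_mul_comm _ _

/-- the action on the units -/
def ue (e : c.E) (x : c.Kˣ) : c.Kˣ := Units.map (c.σ e : c.K →* c.K) (x ^ (c.sg e : ℤ))

/-- `e` acts on the units as the `k`-th power -/
def Ex (e : c.E) (k : (ZMod c.M)ˣ) : Prop := ∀ x : c.Kˣ, c.ue e x = x ^ (k : ZMod c.M).val

/-- the ambient group -/
abbrev AA : Type := GL ι c.K ⋊[c.act ι] c.E

instance finite_AA : Finite (c.AA ι) := Finite.of_equiv _ SemidirectProduct.equivProd.symm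

variable {ι}

theorem act_apply (e : c.E) (g : GL ι c.K) : c.act ι e g = fm c.K ι (c.σ e) (sm c.K ι (c.sg e) g) := rfl

theorem det_act (e : c.E) (g : GL ι c.K) :
    GeneralLinearGroup.det (c.act ι e g) = c.ue e (GeneralLinearGroup.det g) := by
  rw [act_apply, det_fm, det_sm, ue]

theorem ue_one (e : c.E) : c.ue e 1 = 1 := by rw [ue, _root_.one_zpow, map_one]

/-- the determinant -/
def dt (a : c.AA ι) : c.Kˣ := GeneralLinearGroup.det a.left

variable (ι) in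
/-- the matrices -/
def GLs : Subgroup (c.AA ι) := (SemidirectProduct.rightHom : c.AA ι →* c.E).ker

variable (ι) in
/-- `SL ⋊ E` -/
def SE : Subgroup (c.AA ι) where
  carrier := {a | c.dt a = 1}
  one_mem' := map_one _
  mul_mem' := fun {a b} ha hb => by
    change GeneralLinearGroup.det (a.left * c.act ι a.right b.left) = 1
    rw [map_mul, det_act, show GeneralLinearGroup.det a.left = 1 from ha, show GeneralLinearGroup.det b.left = 1 from hb,
      ue_one, one_mul]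
  inv_mem' := fun {a} ha => by
    change GeneralLinearGroup.det (c.act ι a.right⁻¹ a.left⁻¹) = 1
    rw [det_act, map_inv, show GeneralLinearGroup.det a.left = 1 from ha, inv_one, ue_one]

/-- the twisted Frobenius map -/
def tw (v : GL ι c.K) : c.AA ι := ⟨v, c.F⟩

/-- the group with all automorphisms -/
def Ah (v : GL ι c.K) : Subgroup (c.AA ι) := centralizer {c.tw v}

/-- `GL_n(Q)` -/
def Gt (v : GL ι c.K) : Subgroup (c.AA ι) := c.Ah v ⊓ c.GLs ι

/-- `SL_n(Q) ⋊ E` -/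
def Gh (v : GL ι c.K) : Subgroup (c.AA ι) := c.Ah v ⊓ c.SE ι

/-- `SL_n(Q)` -/
def G (v : GL ι c.K) : Subgroup (c.AA ι) := c.Gt v ⊓ c.Gh v

/-- `v F` is conjugate to `F` -/
def Lg (v : GL ι c.K) : Prop := ∃ y : GL ι c.K, GeneralLinearGroup.det y = 1 ∧ y * v = c.act ι c.F y

/-- the linear character with the label `a` -/
noncomputable def lin (a : ZMod c.M) (x : c.Kˣ) : ℂ := c.θ (x : c.K) ^ expoZ c.Q c.M 1 a

/-- `t` is the label of `χ` -/
def IsL {v : GL ι c.K} {m n : ℕ} (t : LabZ c.Q c.M m n) (χ : c.Gt v → ℂ) : Prop :=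
  ∃ s : ℤˣ, ∀ g : c.Gt v, evR c.θ c.Q c.M (SchP c.Q c.M t.t) (ty c.Q g.1.left) = ((s : ℤ) : ℂ) * χ g

/-- the character table -/
structure Tab (v : GL ι c.K) : Prop where
  orb : ∀ (g : c.Gt v) (x : c.Kˣ), ty c.Q g.1.left (Quotient.mk (orbSetoid c.K c.Q) x) = col g.1.left x
  typ : ∃ T : TypeData (dOrb c.K c.Q) c.Q (c.Gt v) (Fintype.card ι), ∀ g, T.typ g = ty c.Q g.1.left
  lab : ∀ m, Fintype.card ι ≤ m → ∀ χ : c.Gt v → ℂ, IsIrrCharacter _ χ →
    ∃! t : LabZ c.Q c.M m (Fintype.card ι), c.IsL t χ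
  chr : ∀ m, Fintype.card ι ≤ m → ∀ t : LabZ c.Q c.M m (Fintype.card ι),
    ∃! χ : c.Gt v → ℂ, IsIrrCharacter _ χ ∧ c.IsL t χ

end D0

/-- the data with Lang's theorem and the character tables -/
structure Cx extends D0 where
  lang : ∀ (ι : Type) [Fintype ι] [DecidableEq ι], Fintype.card ι ≤ n → ∀ v : GL ι K, GeneralLinearGroup.det v = 1 →
    (∀ i j, ∃ z : ℤ, v.1 i j = z) → toD0.Lg v
  tab : ∀ (ι : Type) [Fintype ι] [DecidableEq ι], Fintype.card ι ≤ n → ∀ v : GL ι K, toD0.Lg v → toD0.Tab v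

end Cfsg.Agent.MO.TA
end

-- part: MO/TA/Box
section
/-!
# MO, types `A` and `²A`: the boxes (helper15)

* `Frm` (box `BoxF`) : the frame, the centre, the order, the determinant;
* `Glob` (box `BoxG`) : the labels of `Gt v` with all symmetries; `BoxU`, `BoxT` : the local criterion `Mul`;
* `Ix`, `vd`, `Cl` : the normaliser of the Sylow `d`-torus; `Locl` (box `BoxL`) : its characters; `BoxS` : Sylow;
* `BoxO` : the bijection; `BoxX` : the exception `PSL₃(Q)`, `l = 3`;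
* `BoxC` : the contexts exist; `GenL`, `GenU`, `Real`, `BoxR` : the realisation of `X`.
-/

set_option autoImplicit false

namespace Cfsg.Agent.MO.TA

open Cfsg Subgroup Matrix Cfsg.Agent.H577.GLB.Std Cfsg.Agent.H615.GU
open Cfsg.Agent.H112.GLB (shiftL)
open scoped MatrixGroups

namespace D0

variable (c : D0)

section gen

variable {ι : Type} [Fintype ι] [DecidableEq ι]

/-- the group theory of `Ah v` -/
structure Frm (v : GL ι c.K) : Prop where
  fr : Fr (c.Ah v) (c.G v) (c.Gt v) (c.Gh v) (c.tw v)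
  idx : (((c.G v).relIndex (c.Gt v) : ℕ) : ℤ) ∣ c.Q - 1
  cen : ∀ z, Cn (c.Gt v) z ↔ z ∈ c.Gt v ∧ ∃ x : c.Kˣ, z.left = dg fun _ => x
  card : ∀ l : ℕ, l.Prime → l ≠ c.p → (Nat.card (c.Gt v)).factorization l = vz l (PH c.Q (Fintype.card ι))
  det : ∀ g ∈ c.Gt v, c.dt g ^ (c.Q - 1) = 1
  onto : Nonempty ι → ∀ x : c.Kˣ, x ^ (c.Q - 1) = 1 → ∃ g ∈ c.Gt v, c.dt g = x

/-- the characters of `Gt v` -/
structure Glob (v : GL ι c.K) {m n : ℕ} (ch : LabZ c.Q c.M m n → c.Gt v → ℂ) : Prop where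
  isL : ∀ t, c.IsL t (ch t)
  bij : Set.BijOn ch Set.univ {χ | IsIrrCharacter _ χ}
  ex : ∀ e, ∃ k, c.Ex e k
  tr : ∀ a ∈ c.Ah v, ∀ k, c.Ex a.right k → ∀ t, Tr (c.Gt v) a (ch t) (ch (mulL t k))
  lin : ∀ μ : c.Gt v →* ℂˣ, Lin (c.G v) μ → ∃ a, TorZ c.Q c.M 1 a ∧ ∀ g, (μ g : ℂ) = c.lin a (c.dt g.1)
  tw : ∀ a (ha : TorZ c.Q c.M 1 a) t g, ch (shiftL t ha) g = c.lin a (c.dt g.1) * ch t g
  cen : ∀ (z : c.Gt v) (x : c.Kˣ), z.1.left = dg (fun _ => x) → ∀ t, ch t z = c.lin (tot t) x * ch t 1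
  deg : ∀ l : ℕ, l.Prime → l ≠ c.p → ∀ t, (charDegree (ch t)).factorization l + dfG l t = vz l (PH c.Q n)
  ycd : ∀ t, ((yc (c.G v) (ch t) : ℕ) : ℤ) ∣ c.Q - 1
  yc2 : ∀ t, (∀ a (ha : TorZ c.Q c.M 1 a), shiftL t ha = t → a + a = 0) → ∃ k : ℕ, yc (c.G v) (ch t) = 2 ^ k

end gen

end D0

/-- the coordinates: `w` blocks of size `d` and a rest of size `r` -/
abbrev Ix (d w r : ℕ) : Type := (Fin w × ZMod d) ⊕ Fin r

namespace D0

variable (c : D0) (d w r : ℕ) [NeZero d]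

/-- the signed `d`-cycle of determinant one -/
def sig : GL (ZMod d) c.K := dg (fun i => if i = 0 then (-1) ^ (d - 1) else 1) * pm (Equiv.addRight 1)

/-- the twisting element: the signed cycle in each block -/
def vd : GL (Ix d w r) c.K :=
  dg (Sum.elim (fun x => if x.2 = 0 then (-1) ^ (d - 1) else 1) fun _ => 1) *
    pm (Equiv.sumCongr (Equiv.prodCongr (Equiv.refl _) (Equiv.addRight 1)) (Equiv.refl _))

/-- the diagonal matrices which are trivial on the rest -/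
def Dt : Subgroup (c.AA (Ix d w r)) :=
  (Subgroup.pi (Set.range Sum.inr) fun _ => (⊥ : Subgroup c.Kˣ)).map (SemidirectProduct.inl.comp dg)

/-- the local subgroup -/
def Cl : Subgroup (c.AA (Ix d w r)) := c.Ah (c.vd d w r) ⊓ normalizer (c.Dt d w r : Set (c.AA (Ix d w r)))

variable {d w r}

/-- the characters of the local subgroup -/
structure Locl {m : ℕ} (ψ : LabW c.Q c.M d m w → LabZ c.Q c.M m r → ↥(c.Gt (c.vd d w r) ⊓ c.Cl d w r) → ℂ) : Prop where
  bij : Set.BijOn (fun x : LabW c.Q c.M d m w × LabZ c.Q c.M m r => ψ x.1 x.2) Set.univ {χ | IsIrrCharacter _ χ}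
  tr : ∀ a ∈ c.Cl d w r, ∀ k, c.Ex a.right k → ∀ ν ν' t, MulW ν ν' k → Tr _ a (ψ ν t) (ψ ν' (mulL t k))
  tw : ∀ a (ha : TorZ c.Q c.M 1 a) ν ν' t g, ShiftW ν ν' a → ψ ν' (shiftL t ha) g = c.lin a (c.dt g.1) * ψ ν t g
  cen : ∀ (z : ↥(c.Gt (c.vd d w r) ⊓ c.Cl d w r)) (x : c.Kˣ), z.1.left = dg (fun _ => x) → ∀ ν t,
    ψ ν t z = c.lin (totW ν + tot t) x * ψ ν t 1
  deg : ∀ l : ℕ, l.Prime → l ≠ c.p → orderOf (c.Q : ZMod l) = d → r < d → ∀ ν t,
    (charDegree (ψ ν t)).factorization l + dfW l ν = w.factorial.factorization l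

end D0

/-- **box F** : the frame -/
def BoxF : Prop :=
  ∀ (c : Cx) (ι : Type) [Fintype ι] [DecidableEq ι], Fintype.card ι ≤ c.n → ∀ v : GL ι c.K, c.Lg v → c.Frm v

/-- **box G** : the labels with all symmetries -/
def BoxG : Prop :=
  ∀ (c : Cx) (ι : Type) [Fintype ι] [DecidableEq ι], Fintype.card ι ≤ c.n → ∀ v : GL ι c.K, c.Lg v →
    ∀ m n : ℕ, Fintype.card ι = n → n ≤ m → ∃ ch : LabZ c.Q c.M m n → c.Gt v → ℂ, c.Glob v ch

/-- **box U** : the primes which divide `Q - 1` -/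
def BoxU : Prop :=
  ∀ (c : Cx) (ι : Type) [Fintype ι] [DecidableEq ι], Fintype.card ι ≤ c.n → ∀ v : GL ι c.K, c.Lg v →
    ∀ χ : c.Gt v → ℂ, IsIrrCharacter _ χ → ∀ s : ℕ, s.Prime → (s : ℤ) ∣ c.Q - 1 → Mul (c.G v) (c.Gh v) χ s

/-- **box T** : the prime two in characteristic two -/
def BoxT : Prop :=
  ∀ (c : Cx) (ι : Type) [Fintype ι] [DecidableEq ι], Fintype.card ι ≤ c.n → ∀ v : GL ι c.K, c.Lg v → c.p = 2 →
    ∀ χ : c.Gt v → ℂ, IsIrrCharacter _ χ → Mul (c.G v) (c.Gh v) χ 2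

/-- **box L** : the characters of the local subgroup -/
def BoxL : Prop :=
  ∀ (c : Cx) (d w r m : ℕ) [NeZero d], 0 < w → d * w + r ≤ c.n → d * w + r ≤ m →
    ∃ ψ : LabW c.Q c.M d m w → LabZ c.Q c.M m r → ↥(c.Gt (c.vd d w r) ⊓ c.Cl d w r) → ℂ, c.Locl ψ

/-- **box M** : the local criterion for the local subgroup -/
def BoxM : Prop :=
  ∀ (c : Cx) (d w r : ℕ) [NeZero d], 0 < w → d * w + r ≤ c.n → ∀ ψ : ↥(c.Gt (c.vd d w r) ⊓ c.Cl d w r) → ℂ,
    IsIrrCharacter _ ψ → ∀ s : ℕ, s.Prime → (s = 2 ∨ (s : ℤ) ∣ c.Q - 1) →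
    Mul (c.G (c.vd d w r) ⊓ c.Cl d w r) (c.Gh (c.vd d w r) ⊓ c.Cl d w r) ψ s

/-- **box S** : the normaliser of a Sylow subgroup -/
def BoxS : Prop :=
  ∀ (c : Cx) (l d w r : ℕ) [NeZero d], l.Prime → l ≠ 2 → l ≠ c.p → orderOf (c.Q : ZMod l) = d → r < d → 0 < w →
    d * w + r ≤ c.n → ¬ (l = 3 ∧ d = 1 ∧ w = 3 ∧ vz 3 (c.Q - 1) = 1) → IsQuasisimple (c.G (c.vd d w r)) →
    Loc l (c.Ah (c.vd d w r)) (c.G (c.vd d w r)) (c.Gt (c.vd d w r)) (c.Cl d w r) (c.tw (c.vd d w r))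

/-- **box O** : the bijection -/
def BoxO : Prop :=
  ∀ (c : Cx) (l d w r m : ℕ) [NeZero d], l.Prime → l ≠ 2 → l ≠ c.p → orderOf (c.Q : ZMod l) = d → r < d →
    d * w + r ≤ m → c.Frm (c.vd d w r) →
    ∀ (ch : LabZ c.Q c.M m (d * w + r) → c.Gt (c.vd d w r) → ℂ), c.Glob (c.vd d w r) ch →
    ∀ (ψ : LabW c.Q c.M d m w → LabZ c.Q c.M m r → ↥(c.Gt (c.vd d w r) ⊓ c.Cl d w r) → ℂ), c.Locl ψ →
    ∀ Z₀, ∃ S Ω, Om l (c.G (c.vd d w r)) (c.Gt (c.vd d w r)) (c.Cl d w r) Z₀ S {χ | IsIrrCharacter _ χ} Ω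

/-- **box X** : the exception -/
def BoxX : Prop :=
  ∀ c : Cx, 3 ≤ c.n → vz 3 (c.Q - 1) = 1 → IsQuasisimple (c.G (1 : GL (Fin 3) c.K)) →
    ∀ Z₀ : Set (c.AA (Fin 3)), (∀ z ∈ c.G 1, Cn (c.Gt 1) z → z ∈ Z₀) →
    ∃ (C : Subgroup (c.AA (Fin 3))) (S : _) (S' : _) (Ω : _), Loc 3 (c.Ah 1) (c.G 1) (c.Gt 1) C (c.tw 1) ∧
      Om 3 (c.G 1) (c.Gt 1) C Z₀ S S' Ω ∧ ∀ ψ ∈ S', ∃ θ, Good (c.G 1 ⊓ C) (c.Gh 1 ⊓ C) (c.tw 1) ψ θ

/-- **box C** : the contexts exist; `gr` says that the inverse transpose belongs to `E` -/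
def BoxC : Prop :=
  ∀ (p f n : ℕ) (s : ℤˣ) (gr : Prop), p.Prime → 0 < f → (s = -1 → gr) → ∃ c : Cx, c.p = p ∧ c.f = f ∧ c.n = n ∧
    c.sg c.F = s ∧ (∀ τ, ∃ e, c.σ e = τ ∧ c.sg e = 1) ∧ (gr → ∃ e, c.σ e = 1 ∧ c.sg e = -1) ∧ (¬ gr → ∀ e, c.sg e = 1)

/-- quotients of `SL_n(q)` -/
def GenL (r : ℕ) (X : Type) [Group X] : Prop :=
  ∃ (F : Type) (_ : Field F) (_ : Fintype F) (n : ℕ), CharP F r ∧ 2 ≤ n ∧
    ∃ π : _root_.Matrix.SpecialLinearGroup (Fin n) F →* X, Function.Surjective π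

/-- quotients of `SU_n(q)` -/
def GenU (r : ℕ) (X : Type) [Group X] : Prop :=
  ∃ (F : Type) (_ : Field F) (_ : Fintype F) (n q : ℕ), CharP F r ∧ Fintype.card F = q ^ 2 ∧ 3 ≤ n ∧
    ∃ π : SU n F q →* X, Function.Surjective π

/-- `X` is realised in all twisted models -/
def Real (r : ℕ) (X : Type) [Group X] : Prop :=
  ∃ (c : Cx) (n : ℕ), c.p = r ∧ 2 ≤ n ∧ n ≤ c.n ∧ ∀ (ι : Type) [Fintype ι] [DecidableEq ι], Fintype.card ι = n →
    ∀ v : GL ι c.K, c.Lg v → IsQuasisimple (c.G v) ∧ ∃ (π : c.G v →* X) (a : c.Ah v →* MulAut X),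
      Act (c.Ah v) (c.G v) (c.Gt v) (c.tw v) π a ∧ Function.Surjective a

/-- **box R** : the realisation -/
def BoxR : Prop :=
  ∀ (r : ℕ) (X : Type) [Group X] [Finite X], r.Prime → IsQuasisimple X → GenL r X ∨ GenU r X → Real r X

end Cfsg.Agent.MO.TA
end

-- part: MO/TA/Box2
section
/-!
# MO, types `A` and `²A`: the parts of the boxes `L`, `M` and the covers (helper15)

* `Hd d` : the normaliser of the torus of the signed cycle in `GL_d(Q)`, `A0 d` : the subgroup generated by the cycle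
  and `-1`;
* `Iso` (box `BoxI`) : `Gt ⊓ Cl ≃ (Hd ≀ S_w) × GL_r(Q)`; `Hl` (box `BoxH`) : the characters of `Hd`;
* `BoxU1`, `BoxU2` : the two halves of `BoxU`;
* `BoxV` : covers with a centre of order prime to the characteristic.
-/

set_option autoImplicit false

namespace Cfsg.Agent.MO.TA

open Cfsg Subgroup Matrix Cfsg.Agent.H577.GLB.Std Cfsg.Agent.H615.GU
open Cfsg.Agent.H614.GLn.RSt (repsZ)
open Cfsg.Agent.MO.W (Wr)
open scoped MatrixGroups

namespace D0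

variable (c : D0) (d : ℕ) [NeZero d]

/-- the monomial matrices in `Gt (sig d)` -/
def Hd : Subgroup (c.AA (ZMod d)) :=
  c.Gt (c.sig d) ⊓ normalizer (((SemidirectProduct.inl.comp dg : (ZMod d → c.Kˣ) →* c.AA (ZMod d)).range : Subgroup _) : Set _)

/-- the subgroup generated by the signed cycle and `-1` -/
def A0 : Subgroup (c.Hd d) :=
  (_root_.Subgroup.closure {SemidirectProduct.inl (c.sig d), SemidirectProduct.inl (dg fun _ => -1)}).subgroupOf (c.Hd d)

variable {d} {w r : ℕ}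

/-- the structure of the local subgroup -/
structure Iso (j : Wr (c.Hd d) (Fin w) × c.Gt (1 : GL (Fin r) c.K) ≃* ↥(c.Gt (c.vd d w r) ⊓ c.Cl d w r)) : Prop where
  ll : ∀ x g i i' a b, (j (x, g)).1.left.1 (.inl (i, a)) (.inl (i', b)) = if i = x.right i' then (x.left i).1.left.1 a b else 0
  lr : ∀ x g i k, (j (x, g)).1.left.1 (.inl i) (.inr k) = 0
  rl : ∀ x g k i, (j (x, g)).1.left.1 (.inr k) (.inl i) = 0
  rr : ∀ x g k k', (j (x, g)).1.left.1 (.inr k) (.inr k') = g.1.left.1 k k'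
  dt : ∀ x g, c.dt (j (x, g)).1 = (∏ i, c.dt (x.left i).1) *
    Units.map (Int.castRingHom c.K : ℤ →* c.K) (Equiv.Perm.sign x.right) ^ d * c.dt g.1
  eH : ∀ e, ∃ α : c.Hd d ≃* c.Hd d, ∀ h, (α h).1.left = c.act _ e h.1.left
  eG : ∀ e, ∃ β : c.Gt (1 : GL (Fin r) c.K) ≃* c.Gt (1 : GL (Fin r) c.K), ∀ g, (β g).1.left = c.act _ e g.1.left
  act : ∀ e x x' g g', (∀ i, (x'.left i).1.left = c.act _ e (x.left i).1.left) → x'.right = x.right →
    g'.1.left = c.act _ e g.1.left → (j (x', g')).1.left = c.act _ e (j (x, g)).1.left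
  inr : ∀ e, (SemidirectProduct.inr e : c.AA (Ix d w r)) ∈ c.Cl d w r
  sca : ∀ (z : ↥(c.Gt (c.vd d w r) ⊓ c.Cl d w r)) (y : c.Kˣ), z.1.left = dg (fun _ => y) → ∃ (h : c.Hd d) (g : _),
    h.1.left = dg (fun _ => y) ∧ g.1.left = dg (fun _ => y) ∧ z = j (W.dz _ h, g)

/-- the characters of `Hd` -/
structure Hl (κ : ZMod c.M → ℕ → c.Hd d → ℂ) : Prop where
  irr : ∀ x j, TorZ c.Q c.M d x → j < d / perZ c.Q c.M x → IsIrrCharacter _ (κ x j)
  orb : ∀ x, κ ((c.Q : ZMod c.M) * x) = κ x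
  inj : ∀ x ∈ repsZ c.Q c.M, ∀ x' ∈ repsZ c.Q c.M, ∀ j j', TorZ c.Q c.M d x → j < d / perZ c.Q c.M x →
    TorZ c.Q c.M d x' → j' < d / perZ c.Q c.M x' → κ x j = κ x' j' → x = x' ∧ j = j'
  surj : ∀ χ, IsIrrCharacter _ χ → ∃ x ∈ repsZ c.Q c.M, ∃ j, TorZ c.Q c.M d x ∧ j < d / perZ c.Q c.M x ∧ κ x j = χ
  tr : ∀ e k, c.Ex e k → ∀ x j (h h' : c.Hd d), TorZ c.Q c.M d x → h'.1.left = c.act _ e h.1.left →
    κ x j h' = κ (k * x) j h
  tw : ∀ a, TorZ c.Q c.M 1 a → ∀ x j h, TorZ c.Q c.M d x → κ (x + a) j h = κ x j h * c.lin a (c.dt h.1)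
  cen : ∀ (z : c.Hd d) (y : c.Kˣ), z.1.left = dg (fun _ => y) → ∀ x j h, TorZ c.Q c.M d x →
    κ x j (z * h) = c.θ (y : c.K) ^ expoZ c.Q c.M d x * κ x j h
  deg : ∀ x j, TorZ c.Q c.M d x → κ x j 1 = perZ c.Q c.M x
  one : ∀ x j, TorZ c.Q c.M d x → j < d / perZ c.Q c.M x →
    ∃ β, IsIrrCharacter (c.A0 d) β ∧ ip (fun g : c.A0 d => κ x j g) β = 1
  fix : ∀ (g : c.A0 d) e, c.act _ e g.1.1.left = g.1.1.left
  neg : ∃ z : c.A0 d, z.1.1.left = dg fun _ => -1
  sgn : ∃ δ : c.A0 d →* ℤˣ, (∀ g, c.dt g.1.1 = Units.map (Int.castRingHom c.K : ℤ →* c.K) (δ g)) ∧ (Even d → δ = 1)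

end D0

/-- **box I** : the structure of the local subgroup -/
def BoxI : Prop :=
  ∀ (c : Cx) (d w r : ℕ) [NeZero d], 0 < w → d * w + r ≤ c.n →
    ∃ j : Wr (c.Hd d) (Fin w) × c.Gt (1 : GL (Fin r) c.K) ≃* ↥(c.Gt (c.vd d w r) ⊓ c.Cl d w r), c.Iso j

/-- **box H** : the characters of `Hd` -/
def BoxH : Prop := ∀ (c : Cx) (d : ℕ) [NeZero d], d ≤ c.n → ∃ κ : ZMod c.M → ℕ → c.Hd d → ℂ, c.Hl κ

/-- **box U1** : a unipotent type where the value is not divisible by `s` -/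
def BoxU1 : Prop :=
  ∀ (c : D0) (m n : ℕ) (t : LabZ c.Q c.M m n) (s : ℕ), n ≤ c.n → s.Prime → (s : ℤ) ∣ c.Q - 1 → ∃ l : Col, l.size = n ∧
    ¬ ∃ z : ℂ, IsIntegral ℤ z ∧
      evR c.θ c.Q c.M (SchP c.Q c.M t.t) (Finsupp.single (Quotient.mk (orbSetoid c.K c.Q) 1) l) = s * z

/-- **box U2** : an abelian supplement which contains a unipotent element of the given type -/
def BoxU2 : Prop :=
  ∀ (c : Cx) (ι : Type) [Fintype ι] [DecidableEq ι], Fintype.card ι ≤ c.n → ∀ v : GL ι c.K, c.Lg v →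
    ∀ l : Col, l.size = Fintype.card ι → ∃ P : Subgroup (c.AA ι), P ≤ c.Gh v ∧ (∀ a ∈ P, ∀ b ∈ P, a * b = b * a) ∧
      (∀ a ∈ c.Gh v, ∃ g ∈ c.G v, ∃ y ∈ P, a = g * y) ∧
      ∃ u ∈ P ⊓ c.G v, ty c.Q u.left = Finsupp.single (Quotient.mk (orbSetoid c.K c.Q) 1) l

/-- **box V** : the covers -/
def BoxV : Prop :=
  ∀ (r : ℕ) (X : Type) [Group X] [Finite X], r.Prime → IsQuasisimple X → ¬ r ∣ Nat.card (center X) →
    (IsPSLChar r (X ⧸ center X) → GenL r X) ∧ (IsPSUChar r (X ⧸ center X) → GenU r X)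

end Cfsg.Agent.MO.TA
end

-- part: MO/TA/Bas
section
/-!
# MO, types `A` and `²A`: the basic API of the model (helper60)

* matrices: `dg_inj`, `det_dg`, `det_pm`, `pm_mul_dg`, `dg_const_comm`, `um` (signs as units of `K`);
* `ueA` (the action on `Kˣ` as a homomorphism), `ue_F`, `act_dg`, `act_pm`;
* `mem_Ah`, `mem_Gt`, `mem_Gh`, `mem_G`, `dt_mul`, `dtH`;
* `det_sig`, `det_vd`, `act_sig`, `act_vd`, `int_sig`, `int_vd`, `lg_one`, `Cx.lg_sig`, `Cx.lg_vd`;
* `col_eq_of_rank`, `col_conj`, `ty_conj`, `col_fm`, `col_itm`, `col_act`;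
* `Mp φ H H'` : the isomorphism `φ` of ambient groups maps `H` onto `H'`; transport of `res`, `Tr`, `Stb`, `Mul`, `MulAll`,
  `Good`, `Cn`, `Lin`, `yc`, `Fr`;
* `cj y`, `Cj v v' y` : conjugation by `inl y` carries the model of `v` to the model of `v'`.
-/

set_option autoImplicit false

namespace Cfsg.Agent.MO.TA

open Cfsg Subgroup Matrix Cfsg.Agent.H577.GLB.Std Cfsg.Agent.H615.GU
open Cfsg.Agent.Characters.Core
open SemidirectProduct (inl inr)
open scoped MatrixGroups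

/-! ### matrices -/

section mat

variable {K : Type} [Field K] {ι : Type} [Fintype ι] [DecidableEq ι]

/-- a sign as a unit of `K` -/
abbrev um (K : Type) [Field K] : ℤˣ →* Kˣ := Units.map (Int.castRingHom K : ℤ →* K)

theorem um_val (s : ℤˣ) : (um K s : K) = ((s : ℤ) : K) := rfl

theorem um_neg_one : um K (-1) = -1 := Units.ext (by simp only [_root_.Units.map_neg, _root_.map_one, _root_.Units.val_neg, _root_.Units.val_one])

theorem um_mul_self (s : ℤˣ) : um K s * um K s = 1 := by rw [← map_mul, Int.units_mul_self, map_one]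

theorem dg_apply (t : ι → Kˣ) (i j : ι) : (dg t : GL ι K).1 i j = if i = j then (t i : K) else 0 := by
  rw [dg_val, diagonal_apply]

theorem dg_inj : Function.Injective (dg : (ι → Kˣ) → GL ι K) := fun s t h => funext fun i => Units.ext (by
  have h1 := congrArg (fun g : GL ι K => g.1 i i) h
  simpa only [dg_apply, if_true] using h1)

theorem pm_inj : Function.Injective (pm : Equiv.Perm ι → GL ι K) := fun s t h => Equiv.ext fun j => by
  have h1 := congrArg (fun g : GL ι K => g.1 (s j) j) h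
  simp only [pm_apply, if_true] at h1
  by_contra h2
  rw [if_neg h2] at h1
  exact one_ne_zero h1

theorem det_dg (t : ι → Kˣ) : GeneralLinearGroup.det (dg t : GL ι K) = ∏ i, t i := Units.ext (by
  rw [GeneralLinearGroup.val_det_apply, dg_val, det_diagonal, Units.coe_prod])

theorem det_pm (π : Equiv.Perm ι) : GeneralLinearGroup.det (pm π : GL ι K) = um K (Equiv.Perm.sign π) := Units.ext (by
  rw [GeneralLinearGroup.val_det_apply]
  change det (π⁻¹.permMatrix K) = _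
  rw [det_permutation, Equiv.Perm.sign_inv, um_val])

theorem dg_mul_apply (t : ι → Kˣ) (g : GL ι K) (i j : ι) : (dg t * g : GL ι K).1 i j = t i * g.1 i j := by
  rw [Units.val_mul, dg_val, diagonal_mul]

theorem mul_dg_apply (t : ι → Kˣ) (g : GL ι K) (i j : ι) : (g * dg t : GL ι K).1 i j = g.1 i j * t j := by
  rw [Units.val_mul, dg_val, mul_diagonal]

theorem mul_pm_apply (π : Equiv.Perm ι) (g : GL ι K) (i j : ι) : (g * pm π : GL ι K).1 i j = g.1 i (π j) := by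
  simp only [Units.val_mul, mul_apply, pm_apply, mul_ite, mul_one, mul_zero, Finset.sum_ite_eq', Finset.mem_univ, if_true]

theorem pm_mul_apply (π : Equiv.Perm ι) (g : GL ι K) (i j : ι) : (pm π * g : GL ι K).1 i j = g.1 (π⁻¹ i) j := by
  simp only [Units.val_mul, mul_apply, pm_apply, ite_mul, one_mul, zero_mul, ← Equiv.Perm.inv_eq_iff_eq,
    Finset.sum_ite_eq, Finset.mem_univ, if_true]

theorem dg_pm_apply (t : ι → Kˣ) (π : Equiv.Perm ι) (i j : ι) :
    (dg t * pm π : GL ι K).1 i j = if i = π j then (t i : K) else 0 := by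
  rw [dg_mul_apply, pm_apply, mul_ite, mul_one, mul_zero]

theorem pm_mul_dg (π : Equiv.Perm ι) (t : ι → Kˣ) : (pm π * dg t : GL ι K) = dg (fun i => t (π⁻¹ i)) * pm π :=
  Units.ext (Matrix.ext fun i j => by
    rw [mul_dg_apply, dg_mul_apply, pm_apply]
    split_ifs with h
    · rw [h, Equiv.Perm.coe_inv, Equiv.symm_apply_apply, mul_comm]
    · rw [zero_mul, mul_zero])

theorem pm_dg_conj (π : Equiv.Perm ι) (t : ι → Kˣ) : (pm π * dg t * (pm π)⁻¹ : GL ι K) = dg fun i => t (π⁻¹ i) := by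
  rw [pm_mul_dg, mul_inv_cancel_right]

theorem dg_comm (s t : ι → Kˣ) : (dg s * dg t : GL ι K) = dg t * dg s := by rw [← map_mul, ← map_mul, mul_comm]

theorem dg_const_comm (x : Kˣ) (g : GL ι K) : dg (fun _ => x) * g = g * dg fun _ => x :=
  Units.ext (Matrix.ext fun i j => by rw [mul_dg_apply, dg_mul_apply, mul_comm])

theorem dg_const_val (x : Kˣ) : (dg fun _ => x : GL ι K).1 = scalar ι (x : K) := rfl

theorem det_dg_const (x : Kˣ) : GeneralLinearGroup.det (dg fun _ => x : GL ι K) = x ^ Fintype.card ι := by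
  rw [det_dg, Finset.prod_const, Finset.card_univ]

theorem fm_val (σ : K ≃+* K) (g : GL ι K) : (fm K ι σ g).1 = g.1.map σ := rfl

theorem itm_apply (g : GL ι K) (i j : ι) : (itm K ι g).1 i j = (g⁻¹).1 j i := rfl

theorem itm_itm (g : GL ι K) : itm K ι (itm K ι g) = g := rfl

theorem fm_dg (σ : K ≃+* K) (t : ι → Kˣ) : fm K ι σ (dg t) = dg fun i => Units.map (σ : K →* K) (t i) :=
  Units.ext (Matrix.ext fun i j => by
    rw [fm_apply, dg_apply, dg_apply]
    split_ifs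
    · rfl
    · exact map_zero σ)

theorem fm_pm (σ : K ≃+* K) (π : Equiv.Perm ι) : fm K ι σ (pm π) = pm π :=
  Units.ext (Matrix.ext fun i j => by
    rw [fm_apply, pm_apply]
    split_ifs
    · exact map_one σ
    · exact map_zero σ)

theorem fm_of_int (σ : K ≃+* K) {g : GL ι K} (h : ∀ i j, ∃ z : ℤ, g.1 i j = z) : fm K ι σ g = g :=
  Units.ext (Matrix.ext fun i j => by
    obtain ⟨z, hz⟩ := h i j
    rw [fm_apply, hz, map_intCast])

theorem itm_dg (t : ι → Kˣ) : itm K ι (dg t) = dg t⁻¹ := Units.ext (by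
  rw [itm_val, ← map_inv, dg_val, diagonal_transpose])

theorem itm_pm (π : Equiv.Perm ι) : itm K ι (pm π) = pm π :=
  Units.ext (Matrix.ext fun i j => by
    rw [itm_apply, ← map_inv, pm_apply, pm_apply]
    exact if_congr (by rw [Equiv.Perm.eq_inv_iff_eq, eq_comm]) rfl rfl)

theorem sm_dg (s : ℤˣ) (t : ι → Kˣ) : sm K ι s (dg t) = dg fun i => t i ^ (s : ℤ) := by
  rcases Int.units_eq_one_or s with rfl | rfl
  · simp only [sm_one, Units.val_one, zpow_one, MulAut.one_apply]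
  · simp only [sm_neg, itm_dg, Units.val_neg, Units.val_one, _root_.zpow_neg_one]
    rfl

theorem sm_pm (s : ℤˣ) (π : Equiv.Perm ι) : sm K ι s (pm π) = pm π := by
  rcases Int.units_eq_one_or s with rfl | rfl
  · rw [sm_one, MulAut.one_apply]
  · rw [sm_neg, itm_pm]

/-! ### columns -/

theorem col_add (g : GL ι K) (x : Kˣ) (i : ℕ) :
    col g x i + (Fintype.card ι - ((g.1 - scalar ι (x : K)) ^ i).rank) =
      Fintype.card ι - ((g.1 - scalar ι (x : K)) ^ (i + 1)).rank := by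
  have h : ∀ A : Matrix ι ι K, Module.finrank K (LinearMap.ker (toLin' A)) = Fintype.card ι - A.rank := fun A => by
    have h1 := LinearMap.finrank_range_add_finrank_ker (toLin' A)
    rw [Module.finrank_fintype_fun_eq_card] at h1
    exact Nat.eq_sub_of_add_eq' h1
  have h2 := colOf_add (toLin' (g.1 - scalar ι (x : K))) i
  ((conv at h2 => enter [@2, @6]; rw [← toLin'_pow]); (conv at h2 => enter [@3]; rw [← toLin'_pow]); (conv at h2 => enter [@2, @6]; rw [h]); rewrite [h] at h2; assumption)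

/-- the columns are determined by the ranks -/
theorem col_eq_of_rank {g g' : GL ι K} {x x' : Kˣ}
    (h : ∀ i : ℕ, ((g.1 - scalar ι (x : K)) ^ i).rank = ((g'.1 - scalar ι (x' : K)) ^ i).rank) : col g x = col g' x' := by
  ext i
  have h1 := col_add g x i
  have h2 := col_add g' x' i
  rw [h, h] at h1
  exact Nat.add_right_cancel (h1.trans h2.symm)

theorem rank_units_mul (y : GL ι K) (A : Matrix ι ι K) : (y.1 * A).rank = A.rank :=
  rank_mul_eq_right_of_isUnit_det _ _ ((isUnit_iff_isUnit_det _).1 y.isUnit)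

theorem rank_mul_units (y : GL ι K) (A : Matrix ι ι K) : (A * y.1).rank = A.rank :=
  rank_mul_eq_left_of_isUnit_det _ _ ((isUnit_iff_isUnit_det _).1 y.isUnit)

theorem col_conj (y g : GL ι K) (x : Kˣ) : col (y * g * y⁻¹) x = col g x := col_eq_of_rank fun i => by
  have h : (y * g * y⁻¹).1 - scalar ι (x : K) = y.1 * (g.1 - scalar ι (x : K)) * (y⁻¹).1 := by
    rw [mul_sub, sub_mul, ← dg_const_val, ← Units.val_mul y (dg _), ← dg_const_comm, ← Units.val_mul (dg _ * y),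
      mul_inv_cancel_right, Units.val_mul, Units.val_mul]
  rw [h, Units.conj_pow, rank_mul_units, rank_units_mul]

theorem ty_apply [Finite K] (Q : ℤ) (g : GL ι K) (o : Orb K Q) : ty Q g o = col g o.out := rfl

theorem ty_conj [Finite K] (Q : ℤ) (y g : GL ι K) : ty Q (y * g * y⁻¹) = ty Q g :=
  Finsupp.ext fun o => col_conj y g o.out

theorem rank_map (σ : K ≃+* K) (A : Matrix ι ι K) : (A.map σ).rank = A.rank := by
  have key : ∀ (τ : K ≃+* K) (B : Matrix ι ι K), (B.map τ).rank ≤ B.rank := fun τ B => by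
    obtain ⟨P, R, h⟩ : ∃ (P : Matrix ι (Fin B.rank) K) (R : Matrix (Fin B.rank) ι K), B = P * R := by
      let b := Module.finBasisOfFinrankEq K (LinearMap.range B.mulVecLin) (n := B.rank) rfl
      refine ⟨of fun i k => (b k).1 i, of fun k j => b.repr ⟨B.mulVecLin (Pi.single j 1), _, rfl⟩ k,
        Matrix.ext fun i j => ?_⟩
      have h1 := congrArg (fun v : LinearMap.range B.mulVecLin => v.1 i) (b.sum_repr ⟨B.mulVecLin (Pi.single j 1), _, rfl⟩)
      simp only [Submodule.coe_sum, Finset.sum_apply, Submodule.coe_smul, Pi.smul_apply, smul_eq_mul, mulVecLin_apply,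
        mulVec_single_one, col_apply] at h1
      simp only [mul_apply, of_apply, mulVecLin_apply, mulVec_single_one]
      rw [← h1]
      exact Finset.sum_congr rfl fun k _ => mul_comm _ _
    have h2 : B.map τ = P.map τ * R.map τ := by
      conv_lhs => rw [h]
      exact Matrix.map_mul (f := (τ : K →+* K))
    rw [h2]
    exact (rank_mul_le_left _ _).trans ((rank_le_card_width _).trans (Fintype.card_fin _).le)
  refine le_antisymm (key σ A) ?_
  have h3 := key σ.symm (A.map σ)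
  rwa [show (A.map σ).map σ.symm = A from Matrix.ext fun i j => σ.symm_apply_apply _] at h3

theorem col_fm (σ : K ≃+* K) (g : GL ι K) (x : Kˣ) : col (fm K ι σ g) (Units.map (σ : K →* K) x) = col g x :=
  col_eq_of_rank fun i => by
    have h : (fm K ι σ g).1 - scalar ι ((Units.map (σ : K →* K) x : Kˣ) : K) =
        (σ : K →+* K).mapMatrix (g.1 - scalar ι (x : K)) := by
      rw [map_sub, ← dg_const_val, ← dg_const_val, ← fm_dg]
      rfl
    rw [h, ← map_pow]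
    exact rank_map σ _

theorem col_inv (g : GL ι K) (x : Kˣ) : col g⁻¹ x⁻¹ = col g x := col_eq_of_rank fun i => by
  have h : (g⁻¹).1 - scalar ι ((x⁻¹ : Kˣ) : K) = (dg (fun _ => -x⁻¹) * g⁻¹ : GL ι K).1 * (g.1 - scalar ι (x : K)) := by
    rw [mul_sub, ← dg_const_val x, ← Units.val_mul, ← Units.val_mul, inv_mul_cancel_right, mul_assoc, ← dg_const_comm,
      ← mul_assoc, ← map_mul]
    ext a b
    simp only [Matrix.sub_apply, dg_mul_apply, dg_apply, Pi.mul_apply, scalar_apply, diagonal_apply, neg_mul, inv_mul_cancel,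
      Units.val_neg, Units.val_one, one_mul]
    split_ifs <;> ring
  have h2 : Commute (dg (fun _ => -x⁻¹) * g⁻¹ : GL ι K).1 (g.1 - scalar ι (x : K)) := by
    refine Commute.sub_right ?_ (scalar_commute _ (fun _ => Commute.all _ _) _).symm
    exact (Commute.mul_left (dg_const_comm _ _) (Commute.refl g).inv_left).units_val
  rw [h, h2.mul_pow, ← Units.val_pow_eq_pow_val, rank_units_mul]

theorem col_itm (g : GL ι K) (x : Kˣ) : col (itm K ι g) x⁻¹ = col g x := by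
  rw [← col_inv g x]
  refine col_eq_of_rank fun i => ?_
  rw [itm_val, ← rank_transpose, transpose_pow, transpose_sub, transpose_transpose, scalar_apply, diagonal_transpose]

theorem col_sm (s : ℤˣ) (g : GL ι K) (x : Kˣ) : col (sm K ι s g) (x ^ (s : ℤ)) = col g x := by
  rcases Int.units_eq_one_or s with rfl | rfl
  · rw [sm_one, MulAut.one_apply, Units.val_one, zpow_one]
  · rw [sm_neg, Units.val_neg, Units.val_one, _root_.zpow_neg_one, col_itm]

end mat

/-! ### transport along isomorphisms of the ambient group -/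

section tp

variable {A A' : Type} [Group A] [Group A']

/-- `φ` maps `H` onto `H'` -/
def Mp (φ : A ≃* A') (H : Subgroup A) (H' : Subgroup A') : Prop := ∀ x, φ x ∈ H' ↔ x ∈ H

namespace Mp

variable {φ : A ≃* A'} {H K N Nt Nh B : Subgroup A} {H' K' N' Nt' Nh' B' : Subgroup A'}

theorem symm (h : Mp φ H H') : Mp φ.symm H' H := fun x => by rw [← h, φ.apply_symm_apply]

theorem of_symm (h : Mp φ.symm H' H) : Mp φ H H' := h.symm

theorem inf (h : Mp φ H H') (h' : Mp φ K K') : Mp φ (H ⊓ K) (H' ⊓ K') := fun x => and_congr (h x) (h' x)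

theorem of_comap (φ : A ≃* A') (H' : Subgroup A') : Mp φ (H'.comap (φ : A →* A')) H' := fun _ => Iff.rfl

theorem of_map (φ : A ≃* A') (H : Subgroup A) : Mp φ H (H.map (φ : A →* A')) := fun x =>
  ⟨fun ⟨_, hy, e⟩ => φ.injective e ▸ hy, fun hx => ⟨x, hx, rfl⟩⟩

theorem eq_comap (h : Mp φ H H') : H = H'.comap (φ : A →* A') := Subgroup.ext fun x => (h x).symm

theorem eq_map (h : Mp φ H H') : H' = H.map (φ : A →* A') := Subgroup.ext fun x => by
  rw [← φ.apply_symm_apply x, h, of_map]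

theorem le (h : Mp φ H H') (h' : Mp φ K K') : H' ≤ K' ↔ H ≤ K :=
  ⟨fun e x hx => (h' x).1 (e ((h x).2 hx)), fun e x hx => (h'.symm x).1 (e ((h.symm x).2 hx))⟩

/-- the induced isomorphism -/
def eqv (h : Mp φ H H') : H ≃* H' where
  toFun x := ⟨φ x, (h x).2 x.2⟩
  invFun y := ⟨φ.symm y, (h.symm y).2 y.2⟩
  left_inv x := Subtype.ext (φ.symm_apply_apply x)
  right_inv y := Subtype.ext (φ.apply_symm_apply y)
  map_mul' x y := Subtype.ext (map_mul φ x.1 y.1)

theorem eqv_coe (h : Mp φ H H') (x : H) : (h.eqv x : A') = φ x := rfl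

theorem eqv_symm (h : Mp φ H H') : h.eqv.symm = h.symm.eqv := rfl

theorem comp_symm (h : Mp φ H H') (f : H' → ℂ) : (f ∘ h.eqv) ∘ h.symm.eqv = f :=
  funext fun y => congrArg f (h.eqv.apply_symm_apply y)

theorem symm_comp (h : Mp φ H H') (f : H → ℂ) : (f ∘ h.symm.eqv) ∘ h.eqv = f :=
  funext fun y => congrArg f (h.eqv.symm_apply_apply y)

theorem card (h : Mp φ H H') : Nat.card H = Nat.card H' := Nat.card_congr h.eqv.toEquiv

theorem relIndex (h : Mp φ H H') (h' : Mp φ K K') : H.relIndex K = H'.relIndex K' := by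
  rw [h.eq_comap, h'.eq_map, relIndex_comap]

theorem res (h : Mp φ H H') (h' : Mp φ K K') (f : K' → ℂ) : res H (f ∘ h'.eqv) = res H' f ∘ h.eqv := funext fun x => by
  by_cases hx : (x : A) ∈ K
  · rw [res_apply _ x ⟨x, hx⟩ rfl, Function.comp_apply, Function.comp_apply, res_apply f (h.eqv x) (h'.eqv ⟨x, hx⟩) rfl]
  · rw [Function.comp_apply, TA.res, TA.res, extendByZero, extendByZero, Function.extend_apply', Function.extend_apply']
    · rfl
    · rintro ⟨y, hy⟩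
      exact hx ((h' x).1 (by rw [← h.eqv_coe, ← hy]; exact y.2))
    · rintro ⟨y, hy⟩
      exact hx (hy ▸ y.2)

theorem tr (h : Mp φ H H') (a : A) (f f' : H' → ℂ) : Tr H a (f ∘ h.eqv) (f' ∘ h.eqv) ↔ Tr H' (φ a) f f' := by
  refine ⟨fun e x y hy => ?_, fun e x y hy => e _ _ (by rw [eqv_coe, eqv_coe, hy, map_mul, map_mul, map_inv])⟩
  obtain ⟨x, rfl⟩ := h.eqv.surjective x
  obtain ⟨y, rfl⟩ := h.eqv.surjective y
  exact e x y (φ.injective (by rw [map_mul, map_mul, map_inv]; exact hy))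

theorem stb (h : Mp φ H H') (hN : Mp φ N N') (f : N' → ℂ) : Mp φ (Stb H N (f ∘ hN.eqv)) (Stb H' N' f) := fun a => by
  refine and_congr (h a) (and_congr ⟨fun e x => ?_, fun e x => ?_⟩ (hN.tr a f f).symm)
  · rw [← hN, e, ← hN, map_mul, map_mul, map_inv]
  · obtain ⟨x, rfl⟩ := φ.surjective x
    rw [hN, e, ← hN, map_mul, map_mul, map_inv]

theorem cn (h : Mp φ H H') (z : A) : Cn H' (φ z) ↔ Cn H z := by
  refine and_congr (h z) ⟨fun e g hg => φ.injective ?_, fun e g hg => ?_⟩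
  · rw [map_mul, map_mul]
    exact e _ ((h g).2 hg)
  · obtain ⟨g, rfl⟩ := φ.surjective g
    rw [← map_mul, ← map_mul, e g ((h g).1 hg)]

theorem lin (hN : Mp φ N N') (ht : Mp φ Nt Nt') (μ : Nt' →* ℂˣ) : Lin N (μ.comp (ht.eqv : Nt →* Nt')) ↔ Lin N' μ := by
  refine ⟨fun e x hx => ?_, fun e x hx => e _ ((hN x).2 hx)⟩
  obtain ⟨x, rfl⟩ := ht.eqv.surjective x
  exact e x ((hN x).1 hx)

theorem yc (hN : Mp φ N N') (ht : Mp φ Nt Nt') (χ : Nt' → ℂ) : yc N (χ ∘ ht.eqv) = yc N' χ :=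
  Nat.card_congr
    { toFun := fun μ => ⟨μ.1.comp (ht.symm.eqv : Nt' →* Nt), (hN.symm.lin ht.symm _).2 μ.2.1, fun x => by
        obtain ⟨x, rfl⟩ := ht.eqv.surjective x
        exact (congrArg (fun y => (μ.1 y : ℂ) * χ (ht.eqv x)) (ht.eqv.symm_apply_apply x)).trans (μ.2.2 x)⟩
      invFun := fun μ => ⟨μ.1.comp (ht.eqv : Nt →* Nt'), (hN.lin ht _).2 μ.2.1, fun x => μ.2.2 _⟩
      left_inv := fun μ => Subtype.ext (MonoidHom.ext fun x => congrArg μ.1 (ht.eqv.symm_apply_apply x))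
      right_inv := fun μ => Subtype.ext (MonoidHom.ext fun x => congrArg μ.1 (ht.eqv.apply_symm_apply x)) }

theorem isChar (h : Mp φ H H') {f : H' → ℂ} : IsCharacter H (f ∘ h.eqv) ↔ IsCharacter H' f :=
  ⟨fun e => h.comp_symm f ▸ isCharacter_comp (h.symm.eqv : H' →* H) e, fun e => isCharacter_comp (h.eqv : H →* H') e⟩

theorem isIrr (h : Mp φ H H') {f : H' → ℂ} : IsIrrCharacter H (f ∘ h.eqv) ↔ IsIrrCharacter H' f :=
  ⟨fun e => h.comp_symm f ▸ irr_comp_of_center (h.symm.eqv : H' →* H)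
      (fun g => ⟨h.eqv g, 1, one_mem _, by rw [mul_one]; exact (h.eqv.symm_apply_apply g).symm⟩) e,
    fun e => irr_comp_of_center (h.eqv : H →* H')
      (fun g => ⟨h.eqv.symm g, 1, one_mem _, by rw [mul_one]; exact (h.eqv.apply_symm_apply g).symm⟩) e⟩

theorem fr (hB : Mp φ B B') (hN : Mp φ N N') (ht : Mp φ Nt Nt') (hh : Mp φ Nh Nh') {F : A} (h : Fr B' N' Nt' Nh' (φ F)) :
    Fr B N Nt Nh F where
  tB := (ht.le hB).1 h.tB
  hB := (hh.le hB).1 h.hB
  inf := Subgroup.ext fun x => by rw [← hN, ← h.inf, ht.inf hh]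
  sup b hb := by
    obtain ⟨t, h1, u, h2, e⟩ := h.sup _ ((hB b).2 hb)
    exact ⟨_, (ht.symm t).2 h1, _, (hh.symm u).2 h2, by rw [← map_mul, ← e, φ.symm_apply_apply]⟩
  nN b hb x hx := (hN _).1 (by
    rw [map_mul, map_mul, map_inv]
    exact h.nN _ ((hB b).2 hb) _ ((hN x).2 hx))
  nT b hb x hx := (ht _).1 (by
    rw [map_mul, map_mul, map_inv]
    exact h.nT _ ((hB b).2 hb) _ ((ht x).2 hx))
  cyc := by
    obtain ⟨g, hg, e⟩ := h.cyc
    refine ⟨_, (ht.symm g).2 hg, fun x hx => ?_⟩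
    obtain ⟨k, y, hy, e1⟩ := e _ ((ht x).2 hx)
    exact ⟨k, _, (hN.symm y).2 hy, by rw [← map_pow, ← map_mul, ← e1, φ.symm_apply_apply]⟩
  gen := by
    obtain ⟨a, ha, b, hb, h1, h2, e⟩ := h.gen
    refine ⟨_, (hh.symm a).2 ha, _, (hh.symm b).2 hb, ?_, ?_, fun x hx => ?_⟩
    · rw [← map_mul]
      exact (hN.symm _).2 h1
    · rw [← map_inv, ← map_inv, ← map_mul, ← map_mul, ← map_mul]
      exact (hN.symm _).2 h2
    · obtain ⟨i, j, y, hy, e1⟩ := e _ ((hh x).2 hx)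
      exact ⟨i, j, _, (hN.symm y).2 hy, by rw [← map_pow, ← map_pow, ← map_mul, ← map_mul, ← e1, φ.symm_apply_apply]⟩
  Fh := (hh F).1 h.Fh
  Fc b hb := φ.injective (by
    rw [map_mul, map_mul]
    exact h.Fc _ ((hB b).2 hb))
  Ft k hk := φ.injective (by
    rw [map_pow, map_one]
    exact h.Ft k (by rw [← map_pow]; exact (ht _).2 hk))

variable [Finite A] [Finite A']

theorem ip (h : Mp φ H H') (f f' : H' → ℂ) : ip (f ∘ h.eqv) (f' ∘ h.eqv) = ip f f' := ip_comp _ _ _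

theorem mul (hN : Mp φ N N') (ht : Mp φ Nt Nt') (hh : Mp φ Nh Nh') {χ : Nt' → ℂ} {s : ℕ} (h : Mul N' Nh' χ s) :
    Mul N Nh (χ ∘ ht.eqv) s := fun D h1 h2 h3 => by
  have hD := of_map φ D
  rw [hN.res ht] at h2 ⊢
  obtain ⟨Φ, h4, m, h5, h6⟩ := h _ ((hN.le hD).2 h1) ((hD.le (hh.stb hN _)).2 h2) (by
    rintro _ ⟨a, ha, rfl⟩
    obtain ⟨k, hk⟩ := h3 a ha
    exact ⟨k, by rw [← map_pow]; exact (hN _).2 hk⟩)
  exact ⟨Φ ∘ hD.eqv, hD.isChar.2 h4, m, h5, by rw [hN.res hD, hN.ip, h6]⟩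

theorem mul' (hN : Mp φ N N') (ht : Mp φ Nt Nt') (hh : Mp φ Nh Nh') {χ : Nt' → ℂ} {s : ℕ} (h : Mul N Nh (χ ∘ ht.eqv) s) :
    Mul N' Nh' χ s := ht.comp_symm χ ▸ hN.symm.mul ht.symm hh.symm h

theorem mulAll (hN : Mp φ N N') (ht : Mp φ Nt Nt') (hh : Mp φ Nh Nh') {χ : Nt' → ℂ} (h : MulAll N' Nh' χ) :
    MulAll N Nh (χ ∘ ht.eqv) := fun s h1 h2 => hN.mul ht hh (h s h1 (hN.relIndex ht ▸ h2))

theorem good (hN : Mp φ N N') (ht : Mp φ Nt Nt') (hh : Mp φ Nh Nh') {F : A} {χ : Nt' → ℂ} {θ : N' → ℂ}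
    (h : Good N' Nh' (φ F) χ θ) : Good N Nh F (χ ∘ ht.eqv) (θ ∘ hN.eqv) := by
  obtain ⟨h1, h2, η, h3, h4, h5⟩ := h
  unfold Good
  rw [hN.res ht]
  have hS := hh.stb hN (TA.res N' χ)
  exact ⟨hN.isIrr.2 h1, by rwa [hN.ip], η ∘ hS.eqv, hS.isChar.2 h3, by rw [hN.res hS, h4], fun y hy => by
    rw [Function.comp_apply, Function.comp_apply, map_one]
    exact h5 _ (congrArg φ hy)⟩

end Mp

end tp

/-! ### the model -/

namespace D0

variable (c : D0) {ι : Type} [Fintype ι] [DecidableEq ι]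

theorem ue_val (e : c.E) (x : c.Kˣ) : (c.ue e x : c.K) = c.σ e (x ^ (c.sg e : ℤ) : c.Kˣ) := rfl

theorem ue_mul (e : c.E) (x y : c.Kˣ) : c.ue e (x * y) = c.ue e x * c.ue e y := by rw [ue, mul_zpow, map_mul, ue, ue]

theorem one_ue (x : c.Kˣ) : c.ue 1 x = x := Units.ext (by rw [ue_val, map_one, map_one, Units.val_one, zpow_one]; rfl)

theorem mul_ue (e e' : c.E) (x : c.Kˣ) : c.ue (e * e') x = c.ue e (c.ue e' x) := by
  simp only [ue, ue, ue, ← map_zpow, ← _root_.zpow_mul, map_mul, map_mul, Units.val_mul, mul_comm (c.sg e : ℤ)]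
  rfl

/-- the action on the units as a homomorphism -/
def ueA : c.E →* MulAut c.Kˣ where
  toFun e :=
    { toFun := c.ue e
      invFun := c.ue e⁻¹
      left_inv := fun x => by rw [← mul_ue, inv_mul_cancel, one_ue]
      right_inv := fun x => by rw [← mul_ue, mul_inv_cancel, one_ue]
      map_mul' := c.ue_mul e }
  map_one' := MulEquiv.ext c.one_ue
  map_mul' e e' := MulEquiv.ext (c.mul_ue e e')

theorem ueA_apply (e : c.E) (x : c.Kˣ) : c.ueA e x = c.ue e x := rfl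

theorem ue_inj (e : c.E) : Function.Injective (c.ue e) := (c.ueA e).injective

theorem ue_inv (e : c.E) (x : c.Kˣ) : c.ue e x⁻¹ = (c.ue e x)⁻¹ := map_inv (c.ueA e) x

theorem ue_pow (e : c.E) (x : c.Kˣ) (k : ℕ) : c.ue e (x ^ k) = c.ue e x ^ k := map_pow (c.ueA e) x k

theorem ue_zpow (e : c.E) (x : c.Kˣ) (k : ℤ) : c.ue e (x ^ k) = c.ue e x ^ k := map_zpow (c.ueA e) x k

theorem ue_prod {α : Type} (e : c.E) (s : Finset α) (x : α → c.Kˣ) : c.ue e (∏ i ∈ s, x i) = ∏ i ∈ s, c.ue e (x i) :=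
  map_prod (c.ueA e) x s

theorem ue_eq_one (e : c.E) {x : c.Kˣ} : c.ue e x = 1 ↔ x = 1 := (c.ueA e).map_eq_one_iff

theorem ue_neg_one (e : c.E) : c.ue e (-1) = -1 := Units.ext (by
  rcases Int.units_eq_one_or (c.sg e) with h | h <;> simp only [ue_val, h, _root_.Units.val_one, _root_.zpow_ofNat, _root_.pow_one, _root_.Units.val_neg, _root_.RingEquiv.map_neg_one, _root_.Int.reduceNeg, _root_.zpow_neg, _root_.inv_neg, _root_.inv_one])

theorem ue_neg (e : c.E) (x : c.Kˣ) : c.ue e (-x) = -c.ue e x := by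
  rw [← neg_one_mul, ue_mul, ue_neg_one, neg_one_mul]

theorem ue_um (e : c.E) (s : ℤˣ) : c.ue e (um c.K s) = um c.K s := by
  rcases Int.units_eq_one_or s with rfl | rfl
  · rw [map_one, ue_one]
  · rw [um_neg_one, ue_neg_one]

theorem ue_F (x : c.Kˣ) : c.ue c.F x = x ^ c.Q := Units.ext (by
  rw [ue_val, c.hF, c.hQ, _root_.zpow_mul, ← Nat.cast_pow, zpow_natCast, Units.val_pow_eq_pow_val])

theorem ue_F_pow (k : ℕ) (x : c.Kˣ) : c.ue (c.F ^ k) x = x ^ c.Q ^ k := by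
  induction k with
  | zero => rw [pow_zero, pow_zero, one_ue, zpow_one]
  | succ k ih => rw [pow_succ', mul_ue, ih, ue_F, ← _root_.zpow_mul, pow_succ]

theorem act_mul (e e' : c.E) (g : GL ι c.K) : c.act ι (e * e') g = c.act ι e (c.act ι e' g) := by
  rw [map_mul, MulAut.mul_apply]

theorem act_comm (e e' : c.E) (g : GL ι c.K) : c.act ι e (c.act ι e' g) = c.act ι e' (c.act ι e g) := by
  rw [← act_mul, mul_comm, act_mul]

theorem act_one (g : GL ι c.K) : c.act ι 1 g = g := by rw [map_one, MulAut.one_apply]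

theorem act_dg (e : c.E) (t : ι → c.Kˣ) : c.act ι e (dg t) = dg fun i => c.ue e (t i) := by
  rw [act_apply, sm_dg, fm_dg]
  rfl

theorem act_pm (e : c.E) (π : Equiv.Perm ι) : c.act ι e (pm π) = pm π := by rw [act_apply, sm_pm, fm_pm]

theorem act_of_sg_one {e : c.E} (h : c.sg e = 1) (g : GL ι c.K) (i j : ι) : (c.act ι e g).1 i j = c.σ e (g.1 i j) := by
  rw [act_apply, h, sm_one, MulAut.one_apply, fm_apply]

theorem act_of_sg_neg {e : c.E} (h : c.sg e = -1) (g : GL ι c.K) (i j : ι) :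
    (c.act ι e g).1 i j = c.σ e ((g⁻¹).1 j i) := by
  rw [act_apply, h, sm_neg, fm_apply, itm_apply]

theorem col_act (e : c.E) (g : GL ι c.K) (x : c.Kˣ) : col (c.act ι e g) (c.ue e x) = col g x := by
  rw [act_apply, ue, col_fm, col_sm]

theorem eq_inl {a : c.AA ι} (h : a.right = 1) : a = inl a.left := SemidirectProduct.ext rfl h

theorem conj_left (a b : c.AA ι) :
    (b * a * b⁻¹).left = b.left * c.act ι b.right a.left * (c.act ι a.right b.left)⁻¹ := by
  rw [SemidirectProduct.mul_left, SemidirectProduct.mul_left, SemidirectProduct.mul_right, SemidirectProduct.inv_left,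
    ← act_mul, mul_comm b.right, mul_inv_cancel_right, map_inv]

theorem conj_right (a b : c.AA ι) : (b * a * b⁻¹).right = a.right := by
  simp only [SemidirectProduct.mul_right, SemidirectProduct.inv_right]
  rw [mul_comm b.right, mul_inv_cancel_right]

theorem conj_inl (b : c.AA ι) (g : GL ι c.K) : b * inl g * b⁻¹ = inl (b.left * c.act ι b.right g * b.left⁻¹) :=
  SemidirectProduct.ext (by rw [conj_left]; simp only [_root_.SemidirectProduct.left_inl, _root_.SemidirectProduct.right_inl, _root_.map_one, _root_.MulAut.one_apply, _root_.map_mul, _root_.map_inv, _root_.SemidirectProduct.mul_left, _root_.SemidirectProduct.mul_right, _root_.mul_one, _root_.SemidirectProduct.inv_left, _root_.inv_one]) (by rw [conj_right]; rfl)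

theorem mem_GLs {a : c.AA ι} : a ∈ c.GLs ι ↔ a.right = 1 := Iff.rfl

theorem mem_SE {a : c.AA ι} : a ∈ c.SE ι ↔ c.dt a = 1 := Iff.rfl

theorem tw_left (v : GL ι c.K) : (c.tw v).left = v := rfl

theorem tw_right (v : GL ι c.K) : (c.tw v).right = c.F := rfl

theorem tw_one : c.tw (1 : GL ι c.K) = inr c.F := rfl

theorem mem_Ah' {v : GL ι c.K} {a : c.AA ι} : a ∈ c.Ah v ↔ c.tw v * a = a * c.tw v := by
  rw [Ah, mem_centralizer_singleton_iff, eq_comm]

theorem mem_Ah {v : GL ι c.K} {a : c.AA ι} : a ∈ c.Ah v ↔ v * c.act ι c.F a.left = a.left * c.act ι a.right v := by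
  rw [mem_Ah', SemidirectProduct.ext_iff]
  exact and_iff_left (mul_comm _ _)

theorem mem_Gt {v : GL ι c.K} {a : c.AA ι} : a ∈ c.Gt v ↔ a.right = 1 ∧ v * c.act ι c.F a.left = a.left * v := by
  rw [Gt, mem_inf, and_comm, mem_GLs, mem_Ah]
  exact and_congr_right fun h => by rw [h, act_one]

theorem mem_Gh {v : GL ι c.K} {a : c.AA ι} :
    a ∈ c.Gh v ↔ v * c.act ι c.F a.left = a.left * c.act ι a.right v ∧ c.dt a = 1 := by
  rw [Gh, mem_inf, mem_Ah, mem_SE]

theorem mem_G' {v : GL ι c.K} {a : c.AA ι} : a ∈ c.G v ↔ a ∈ c.Gt v ∧ c.dt a = 1 :=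
  ⟨fun h => ⟨h.1, h.2.2⟩, fun h => ⟨h.1, h.1.1, h.2⟩⟩

theorem mem_G'' {v : GL ι c.K} {a : c.AA ι} : a ∈ c.G v ↔ a ∈ c.Gh v ∧ a.right = 1 :=
  ⟨fun h => ⟨h.2, h.1.2⟩, fun h => ⟨⟨h.1.1, h.2⟩, h.1⟩⟩

theorem mem_G {v : GL ι c.K} {a : c.AA ι} :
    a ∈ c.G v ↔ a.right = 1 ∧ v * c.act ι c.F a.left = a.left * v ∧ c.dt a = 1 := by
  rw [mem_G', mem_Gt, and_assoc]

theorem inl_mem_Ah {v g : GL ι c.K} : inl g ∈ c.Ah v ↔ v * c.act ι c.F g = g * v := by
  rw [mem_Ah, SemidirectProduct.left_inl, SemidirectProduct.right_inl, act_one]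

theorem inl_mem_Gt {v g : GL ι c.K} : inl g ∈ c.Gt v ↔ v * c.act ι c.F g = g * v := c.mem_Gt.trans (and_iff_right rfl)

theorem inl_mem_G {v g : GL ι c.K} : inl g ∈ c.G v ↔ v * c.act ι c.F g = g * v ∧ GeneralLinearGroup.det g = 1 :=
  c.mem_G.trans (and_iff_right rfl)

theorem inr_mem_Ah {v : GL ι c.K} {e : c.E} : inr e ∈ c.Ah v ↔ c.act ι e v = v := by
  rw [mem_Ah, SemidirectProduct.left_inr, SemidirectProduct.right_inr, map_one, mul_one, one_mul, eq_comm]

theorem mem_Ah_one {a : c.AA ι} : a ∈ c.Ah 1 ↔ c.act ι c.F a.left = a.left := by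
  rw [mem_Ah, map_one, one_mul, mul_one]

theorem mem_Gt_one {a : c.AA ι} : a ∈ c.Gt 1 ↔ a.right = 1 ∧ c.act ι c.F a.left = a.left := by
  rw [mem_Gt, one_mul, mul_one]

theorem Gt_le_Ah (v : GL ι c.K) : c.Gt v ≤ c.Ah v := inf_le_left

theorem Gh_le_Ah (v : GL ι c.K) : c.Gh v ≤ c.Ah v := inf_le_left

theorem G_le_Gt (v : GL ι c.K) : c.G v ≤ c.Gt v := inf_le_left

theorem G_le_Gh (v : GL ι c.K) : c.G v ≤ c.Gh v := inf_le_right

theorem G_le_Ah (v : GL ι c.K) : c.G v ≤ c.Ah v := (c.G_le_Gt v).trans (c.Gt_le_Ah v)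

theorem right_of_Gt {v : GL ι c.K} {a : c.AA ι} (h : a ∈ c.Gt v) : a.right = 1 := h.2

theorem tw_mem_Ah (v : GL ι c.K) : c.tw v ∈ c.Ah v := c.mem_Ah'.2 rfl

theorem dt_inl (g : GL ι c.K) : c.dt (inl g) = GeneralLinearGroup.det g := rfl

theorem dt_inr (e : c.E) : c.dt (inr e : c.AA ι) = 1 := map_one _

theorem dt_one : c.dt (1 : c.AA ι) = 1 := map_one _

theorem dt_tw (v : GL ι c.K) : c.dt (c.tw v) = GeneralLinearGroup.det v := rfl

theorem dt_mul (a b : c.AA ι) : c.dt (a * b) = c.dt a * c.ue a.right (c.dt b) := by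
  rw [dt, SemidirectProduct.mul_left, map_mul, det_act]
  rfl

theorem dt_inv (a : c.AA ι) : c.dt a⁻¹ = (c.ue a.right⁻¹ (c.dt a))⁻¹ := by
  rw [dt, SemidirectProduct.inv_left, det_act, map_inv, ue_inv]
  rfl

theorem dt_conj (a b : c.AA ι) : c.dt (b * a * b⁻¹) = c.dt b * c.ue b.right (c.dt a) * (c.ue a.right (c.dt b))⁻¹ := by
  rw [dt, conj_left, map_mul, map_mul, map_inv, det_act, det_act]
  rfl

theorem dt_conj_of_right {a : c.AA ι} (h : a.right = 1) (b : c.AA ι) : c.dt (b * a * b⁻¹) = c.ue b.right (c.dt a) := by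
  rw [dt_conj, h, one_ue, mul_comm (c.dt b), mul_inv_cancel_right]

theorem inr_mem_Gh {v : GL ι c.K} {e : c.E} : inr e ∈ c.Gh v ↔ c.act ι e v = v :=
  (and_iff_left (c.dt_inr e)).trans c.inr_mem_Ah

theorem inr_mem_Gh_one (e : c.E) : inr e ∈ c.Gh (1 : GL ι c.K) := c.inr_mem_Gh.2 (map_one _)

/-- the determinant on `Gt v` -/
def dtH (v : GL ι c.K) : c.Gt v →* c.Kˣ :=
  MonoidHom.mk' (fun g => c.dt g.1) fun a b => by rw [coe_mul, dt_mul, c.right_of_Gt a.2, one_ue]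

theorem dtH_apply (v : GL ι c.K) (g : c.Gt v) : c.dtH v g = c.dt g.1 := rfl

theorem ker_dtH (v : GL ι c.K) : (c.dtH v).ker = (c.G v).subgroupOf (c.Gt v) :=
  Subgroup.ext fun g => ⟨fun h => c.mem_G'.2 ⟨g.2, h⟩, fun h => (c.mem_G'.1 h).2⟩

/-- the matrix of an element of `Gt v` -/
def lf (v : GL ι c.K) : c.Gt v →* GL ι c.K :=
  MonoidHom.mk' (fun g => g.1.left) fun a b => by rw [coe_mul, SemidirectProduct.mul_left, c.right_of_Gt a.2, act_one]

theorem lf_apply (v : GL ι c.K) (g : c.Gt v) : c.lf v g = g.1.left := rfl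

theorem lf_inj (v : GL ι c.K) : Function.Injective (c.lf v) := fun a b h =>
  Subtype.ext (SemidirectProduct.ext h ((c.right_of_Gt a.2).trans (c.right_of_Gt b.2).symm))

theorem dg_const_mem_Gt {v : GL ι c.K} {x : c.Kˣ} (h : x ^ (c.Q - 1) = 1) : inl (dg fun _ => x) ∈ c.Gt v := by
  rw [inl_mem_Gt, act_dg, ue_F, ← dg_const_comm, ← sub_add_cancel c.Q 1, _root_.zpow_add_one, h, one_mul]

theorem dg_mem_Gt_one {t : ι → c.Kˣ} : inl (dg t) ∈ c.Gt (1 : GL ι c.K) ↔ ∀ i, t i ^ (c.Q - 1) = 1 := by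
  rw [inl_mem_Gt, act_dg, one_mul, mul_one, dg_inj.eq_iff, funext_iff]
  exact forall_congr' fun i => by rw [ue_F, _root_.zpow_sub_one, mul_inv_eq_one]

theorem pm_mem_Gt_one (π : Equiv.Perm ι) : inl (pm π) ∈ c.Gt (1 : GL ι c.K) := by
  rw [inl_mem_Gt, act_pm, one_mul, mul_one]

/-! ### conjugation -/

/-- conjugation by a matrix -/
def cj (y : GL ι c.K) : c.AA ι ≃* c.AA ι := MulAut.conj (inl y)

theorem cj_apply (y : GL ι c.K) (a : c.AA ι) : c.cj y a = inl y * a * (inl y)⁻¹ := rfl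

theorem cj_left (y : GL ι c.K) (a : c.AA ι) : (c.cj y a).left = y * a.left * (c.act ι a.right y)⁻¹ := by
  rw [cj_apply, conj_left, SemidirectProduct.left_inl, SemidirectProduct.right_inl, act_one]

theorem cj_right (y : GL ι c.K) (a : c.AA ι) : (c.cj y a).right = a.right := c.conj_right _ _

theorem cj_left_of_right (y : GL ι c.K) {a : c.AA ι} (h : a.right = 1) : (c.cj y a).left = y * a.left * y⁻¹ := by
  rw [cj_left, h, act_one]

theorem cj_inl (y g : GL ι c.K) : c.cj y (inl g) = inl (y * g * y⁻¹) := by rw [cj_apply, map_mul, map_mul, map_inv]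

theorem cj_symm (y : GL ι c.K) : (c.cj y).symm = c.cj y⁻¹ := MulEquiv.ext fun a => by
  rw [cj_apply, map_inv, inv_inv]
  rfl

/-- `y` has determinant one and conjugates `v F` to `v' F` -/
structure Cj (v v' y : GL ι c.K) : Prop where
  det : GeneralLinearGroup.det y = 1
  eq : y * v = v' * c.act ι c.F y

theorem lg_iff {v : GL ι c.K} : c.Lg v ↔ ∃ y, c.Cj v 1 y :=
  exists_congr fun _ => ⟨fun h => ⟨h.1, h.2.trans (one_mul _).symm⟩, fun h => ⟨h.1, h.2.trans (one_mul _)⟩⟩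

theorem Lg.cj {c : D0} {v : GL ι c.K} (h : c.Lg v) : ∃ y, c.Cj v 1 y := c.lg_iff.1 h

theorem lg_one : c.Lg (1 : GL ι c.K) := ⟨1, map_one _, by rw [map_one, one_mul]⟩

namespace Cj

variable {c} {v v' v'' y y' : GL ι c.K}

theorem symm (h : c.Cj v v' y) : c.Cj v' v y⁻¹ :=
  ⟨by rw [map_inv, h.det, inv_one], by rw [map_inv, inv_mul_eq_iff_eq_mul, ← mul_assoc, h.eq, mul_inv_cancel_right]⟩

theorem trans (h : c.Cj v v' y) (h' : c.Cj v' v'' y') : c.Cj v v'' (y' * y) :=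
  ⟨by rw [map_mul, h.det, h'.det, one_mul], by rw [map_mul, mul_assoc, h.eq, ← mul_assoc, h'.eq, mul_assoc]⟩

theorem det_eq (h : c.Cj v v' y) : GeneralLinearGroup.det v = GeneralLinearGroup.det v' := by
  have h1 := congrArg GeneralLinearGroup.det h.eq
  (simp only [map_mul, map_mul, det_act, h.det, ue_one, one_mul, mul_one] at h1; assumption)

theorem tw (h : c.Cj v v' y) : c.cj y (c.tw v) = c.tw v' :=
  SemidirectProduct.ext (by rw [cj_left, tw_left, tw_right, h.eq, mul_inv_cancel_right, tw_left]) (c.cj_right _ _)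

theorem dt (h : c.Cj v v' y) (a : c.AA ι) : c.dt (c.cj y a) = c.dt a := by
  rw [cj_apply, dt_conj, dt_inl, h.det, ue_one, SemidirectProduct.right_inl, one_ue, one_mul, inv_one, mul_one]

theorem Ah (h : c.Cj v v' y) : Mp (c.cj y) (c.Ah v) (c.Ah v') := fun a => by
  rw [mem_Ah', mem_Ah', ← h.tw, ← map_mul, ← map_mul, (c.cj y).injective.eq_iff]

theorem Gt (h : c.Cj v v' y) : Mp (c.cj y) (c.Gt v) (c.Gt v') :=
  h.Ah.inf fun a => by rw [mem_GLs, mem_GLs, cj_right]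

theorem Gh (h : c.Cj v v' y) : Mp (c.cj y) (c.Gh v) (c.Gh v') :=
  h.Ah.inf fun a => by rw [mem_SE, mem_SE, h.dt]

theorem G (h : c.Cj v v' y) : Mp (c.cj y) (c.G v) (c.G v') := h.Gt.inf h.Gh

theorem left (h : c.Cj v v' y) (g : c.Gt v) : (h.Gt.eqv g).1.left = y * g.1.left * y⁻¹ :=
  c.cj_left_of_right y (c.right_of_Gt g.2)

theorem col (h : c.Cj v v' y) (g : c.Gt v) (x : c.Kˣ) : col (h.Gt.eqv g).1.left x = col g.1.left x := by
  rw [h.left, col_conj]

theorem ty (h : c.Cj v v' y) (g : c.Gt v) : ty c.Q (h.Gt.eqv g).1.left = ty c.Q g.1.left := by rw [h.left, ty_conj]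

theorem isL (h : c.Cj v v' y) {m n : ℕ} (t : LabZ c.Q c.M m n) (χ : c.Gt v' → ℂ) : c.IsL t (χ ∘ h.Gt.eqv) ↔ c.IsL t χ := by
  refine exists_congr fun s => ⟨fun e g => ?_, fun e g => ?_⟩
  · obtain ⟨g, rfl⟩ := h.Gt.eqv.surjective g
    rw [h.ty]
    exact e g
  · rw [← h.ty]
    exact e _

theorem scal (h : c.Cj v v' y) (g : c.Gt v) (x : c.Kˣ) :
    (h.Gt.eqv g).1.left = dg (fun _ => x) ↔ g.1.left = dg fun _ => x := by
  rw [h.left, mul_inv_eq_iff_eq_mul, dg_const_comm, mul_right_inj]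

theorem mul (h : c.Cj v v' y) {χ : c.Gt v' → ℂ} {s : ℕ} (e : Mul (c.G v) (c.Gh v) (χ ∘ h.Gt.eqv) s) :
    Mul (c.G v') (c.Gh v') χ s := h.G.mul' h.Gt h.Gh e

/-- the character table is transported -/
theorem tab (h : c.Cj v v' y) (T : c.Tab v') : c.Tab v where
  orb g x := by rw [← h.ty, ← h.col, T.orb]
  typ := by
    obtain ⟨T', hT⟩ := T.typ
    refine ⟨⟨fun g => T'.typ (h.Gt.eqv g), fun g g' => by (simp +singlePass only [map_mul]; simp only [map_mul]; rewrite [map_inv, T'.conj]; with_reducible rfl), fun g => T'.deg _,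
      fun g g' e => ?_, fun lam e => ?_⟩, fun g => (hT _).trans (h.ty g)⟩
    · have h1 := (h.Gt.eqv.symm : c.Gt v' →* c.Gt v).map_isConj (T'.sep _ _ e)
      rwa [MonoidHom.coe_coe, MulEquiv.symm_apply_apply, MulEquiv.symm_apply_apply] at h1
    · rw [h.Gt.card, ← T'.card lam e]
      congr 2
      exact Nat.card_congr (h.Gt.eqv.toEquiv.subtypeEquiv (q := fun g => T'.typ g = lam) fun _ => Iff.rfl)
  lab m hm χ hχ := by
    rw [← h.Gt.symm_comp χ] at hχ ⊢
    simp only [h.isL]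
    exact T.lab m hm _ (h.Gt.isIrr.1 hχ)
  chr m hm t := by
    obtain ⟨χ, ⟨h1, h2⟩, h3⟩ := T.chr m hm t
    refine ⟨χ ∘ h.Gt.eqv, ⟨h.Gt.isIrr.2 h1, (h.isL t χ).2 h2⟩, fun ψ hψ => ?_⟩
    rw [← h.Gt.symm_comp ψ] at hψ ⊢
    rw [h3 _ ⟨h.Gt.isIrr.1 hψ.1, (h.isL t _).1 hψ.2⟩]

end Cj

theorem Lg.det {c : D0} {v : GL ι c.K} (h : c.Lg v) : GeneralLinearGroup.det v = 1 :=
  h.cj.elim fun _ e => e.det_eq.trans (map_one _)

theorem Lg.tw_mem {c : D0} {v : GL ι c.K} (h : c.Lg v) : c.tw v ∈ c.Gh v := ⟨c.tw_mem_Ah v, h.det⟩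

/-- every element of `E` lifts to `Gh v` -/
theorem Lg.lift {c : D0} {v : GL ι c.K} (h : c.Lg v) (e : c.E) : ∃ a ∈ c.Gh v, a.right = e := by
  obtain ⟨y, hy⟩ := h.cj
  exact ⟨c.cj y⁻¹ (inr e), (hy.symm.Gh _).2 (c.inr_mem_Gh_one e), c.cj_right _ _⟩

/-! ### the signed cycles -/

section cyc

variable (d w r : ℕ) [NeZero d]

theorem sign_addRight : Equiv.Perm.sign (Equiv.addRight (1 : ZMod d)) = (-1) ^ (d - 1) := by
  obtain ⟨d, rfl⟩ := Nat.exists_eq_succ_of_ne_zero (NeZero.ne d)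
  rw [← sign_finRotate]
  congr 1
  exact Equiv.ext fun i => (finRotate_apply (n := d + 1) i).symm

theorem det_sig : GeneralLinearGroup.det (c.sig d) = 1 := by
  rw [sig, map_mul, det_dg, det_pm, sign_addRight, Finset.prod_ite_eq', if_pos (Finset.mem_univ _), map_pow, um_neg_one,
    ← mul_pow, neg_mul_neg, one_mul, one_pow]

theorem det_vd : GeneralLinearGroup.det (c.vd d w r) = 1 := by
  simp only [vd, map_mul, det_dg, det_pm, Equiv.Perm.sign_sumCongr, Equiv.Perm.sign_refl, mul_one, Fintype.prod_sum_type,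
    show Equiv.prodCongr (Equiv.refl (Fin w)) (Equiv.addRight (1 : ZMod d)) =
      Equiv.prodCongrRight fun _ => Equiv.addRight 1 from rfl, Equiv.Perm.sign_prodCongrRight, Fintype.prod_prod_type]
  simp only [Sum.elim_inl, Sum.elim_inr, Finset.prod_const_one, mul_one, Finset.prod_ite_eq', Finset.mem_univ, if_true,
    sign_addRight, map_prod, map_pow, um_neg_one, ← Finset.prod_mul_distrib, ← mul_pow, neg_mul_neg, one_pow]

theorem act_sig (e : c.E) : c.act _ e (c.sig d) = c.sig d := by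
  rw [sig, map_mul, act_dg, act_pm]
  congr 2
  funext i
  split_ifs
  · rw [ue_pow, ue_neg_one]
  · rw [ue_one]

theorem act_vd (e : c.E) : c.act _ e (c.vd d w r) = c.vd d w r := by
  rw [vd, map_mul, act_dg, act_pm]
  congr 2
  funext i
  rcases i with i | i
  · simp only [Sum.elim_inl]
    split_ifs
    · rw [ue_pow, ue_neg_one]
    · rw [ue_one]
  · exact c.ue_one e

theorem sig_apply (i j : ZMod d) : (c.sig d).1 i j = if i = j + 1 then if i = 0 then (-1) ^ (d - 1) else 1 else 0 := by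
  rw [sig, dg_pm_apply]
  refine if_congr Iff.rfl ?_ rfl
  split_ifs <;> simp only [_root_.Units.val_pow_eq_pow_val, _root_.Units.val_neg, _root_.Units.val_one]

theorem int_sig (i j : ZMod d) : ∃ z : ℤ, (c.sig d).1 i j = z := by
  rw [sig_apply]
  split_ifs
  · exact ⟨(-1) ^ (d - 1), by simp only [_root_.Int.reduceNeg, _root_.Int.cast_pow, _root_.Int.cast_neg, _root_.Int.cast_one]⟩
  · exact ⟨1, by simp⟩
  · exact ⟨0, by simp⟩

theorem int_vd (i j : Ix d w r) : ∃ z : ℤ, (c.vd d w r).1 i j = z := by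
  rw [vd, dg_pm_apply]
  split_ifs
  · rcases i with i | i
    · simp only [Sum.elim_inl]
      split_ifs
      · exact ⟨(-1) ^ (d - 1), by simp only [_root_.Units.val_pow_eq_pow_val, _root_.Units.val_neg, _root_.Units.val_one, _root_.Int.reduceNeg, _root_.Int.cast_pow, _root_.Int.cast_neg, _root_.Int.cast_one]⟩
      · exact ⟨1, by simp⟩
    · exact ⟨1, by simp only [_root_.Sum.elim_inr, _root_.Units.val_one, _root_.Int.cast_one]⟩
  · exact ⟨0, by simp⟩

theorem inr_mem_Gh_sig (e : c.E) : inr e ∈ c.Gh (c.sig d) := c.inr_mem_Gh.2 (c.act_sig d e)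

theorem inr_mem_Gh_vd (e : c.E) : inr e ∈ c.Gh (c.vd d w r) := c.inr_mem_Gh.2 (c.act_vd d w r e)

theorem card_Ix : Fintype.card (Ix d w r) = d * w + r := by
  rw [Fintype.card_sum, Fintype.card_prod, Fintype.card_fin, Fintype.card_fin, ZMod.card, mul_comm]

end cyc

end D0

theorem Cx.lg_sig (c : Cx) {d : ℕ} [NeZero d] (h : d ≤ c.n) : c.Lg (c.sig d) :=
  c.lang _ ((ZMod.card d).trans_le h) _ (c.det_sig d) (c.int_sig d)

theorem Cx.lg_vd (c : Cx) {d w r : ℕ} [NeZero d] (h : d * w + r ≤ c.n) : c.Lg (c.vd d w r) :=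
  c.lang _ ((D0.card_Ix d w r).trans_le h) _ (c.det_vd d w r) (c.int_vd d w r)

end Cfsg.Agent.MO.TA
end

-- part: MO/TA/F
section
/-!
# MO, types `A` and `²A`: the box `F` (helper60)

* `D0.natAbs_Q`, `D0.exists_root` : arithmetic of `Q`; `D0.ty_one`, `D0.card_Gt` : the order of `Gt v`;
* `D0.nG`, `D0.nGt`, `D0.dt_pow`, `D0.Lg.fr`, `D0.Lg.onto`, `D0.Lg.cen` : the parts which do not need the tables;
* `boxF`.
-/

set_option autoImplicit false

namespace Cfsg.Agent.MO.TA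

open Cfsg Subgroup Matrix Cfsg.Agent.H577.GLB.Std Cfsg.Agent.H615.GU
open SemidirectProduct (inl inr)
open scoped MatrixGroups

namespace F

variable {K : Type} [Field K] {ι : Type} [Fintype ι] [DecidableEq ι]

theorem scal_of_val {g : GL ι K} {a : K} (h : g.1 = scalar ι a) : ∃ x : Kˣ, g = dg fun _ => x := by
  cases isEmpty_or_nonempty ι with
  | inl _ => exact ⟨1, Units.ext (Subsingleton.elim _ _)⟩
  | inr hι =>
    have h0 : a ≠ 0 := fun e => g.ne_zero (by rw [h, e, map_zero])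
    exact ⟨Units.mk0 a h0, Units.ext h⟩

/-- a matrix which commutes with enough diagonal matrices and all permutation matrices is a scalar -/
theorem scal_of_comm {g : GL ι K} {x : Kˣ} (hx : x ≠ 1) (h1 : ∀ i, g * dg (Pi.mulSingle i x) = dg (Pi.mulSingle i x) * g)
    (h2 : ∀ π, g * pm π = pm π * g) : ∃ x : Kˣ, g = dg fun _ => x := by
  cases isEmpty_or_nonempty ι with
  | inl _ => exact ⟨1, Units.ext (Subsingleton.elim _ _)⟩
  | inr hι =>
    obtain ⟨i₀⟩ := hι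
    refine scal_of_val (a := g.1 i₀ i₀) (Matrix.ext fun i j => ?_)
    rw [scalar_apply, diagonal_apply]
    split_ifs with h
    · have h3 := congrArg (fun y : GL ι K => y.1 i i₀) (h2 (Equiv.swap i i₀))
      simp only [mul_pm_apply, pm_mul_apply, Equiv.swap_inv, Equiv.swap_apply_left, Equiv.swap_apply_right] at h3
      rw [← h, h3]
    · have h3 := congrArg (fun y : GL ι K => y.1 i j) (h1 i)
      simp only [mul_dg_apply, dg_mul_apply, Pi.mulSingle_eq_same, Pi.mulSingle_eq_of_ne (Ne.symm h), Units.val_one,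
        mul_one] at h3
      by_contra h4
      exact hx (Units.ext ((mul_eq_right₀ h4).1 h3.symm))

/-- the elementary transvection -/
def tv {i j : ι} (h : i ≠ j) (a : K) : GL ι K :=
  ⟨transvection i j a, transvection i j (-a), by rw [transvection_mul_transvection_same _ _ h, add_neg_cancel,
    transvection_zero], by rw [transvection_mul_transvection_same _ _ h, neg_add_cancel, transvection_zero]⟩

theorem scal_of_tv {g : GL ι K} (h : ∀ (i j : ι) (e : i ≠ j), g * tv e 1 = tv e 1 * g) : ∃ x : Kˣ, g = dg fun _ => x := by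
  obtain ⟨a, ha⟩ := mem_range_scalar_of_commute_single (M := g.1) fun i j e => by
    have h1 : g.1 * transvection i j 1 = transvection i j 1 * g.1 := congrArg Units.val (h i j e)
    rw [transvection, mul_add, add_mul, mul_one, one_mul, add_right_inj] at h1
    exact h1.symm
  exact scal_of_val ha.symm

theorem int_tv {i j : ι} (h : i ≠ j) (a b : ι) : ∃ z : ℤ, (tv h (1 : K)).1 a b = z := by
  refine ⟨transvection i j 1 a b, ?_⟩
  change transvection i j 1 a b = _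
  simp only [transvection, Matrix.add_apply, one_apply, single_apply, Int.cast_add, Int.cast_ite, Int.cast_one,
    Int.cast_zero]

/-- the partition with one column -/
noncomputable def c1 (n : ℕ) : Col := ⟨Finsupp.single 0 n, antitone_nat_of_succ_le fun i => by simp⟩

theorem c1_zero (n : ℕ) : c1 n 0 = n := Finsupp.single_eq_same

theorem c1_succ (n i : ℕ) : c1 n (i + 1) = 0 := Finsupp.single_eq_of_ne (Nat.succ_ne_zero i)

theorem ap_c1 (n : ℕ) : ap (c1 n) = glp n := by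
  rw [ap, Finset.prod_eq_single 0]
  · rw [c1_zero, c1_succ, Nat.sub_zero, Nat.sub_self, pow_zero, one_mul]
  · intro i hi h0
    obtain ⟨i, rfl⟩ := Nat.exists_eq_succ_of_ne_zero h0
    exact absurd (c1_succ n i) (Finsupp.mem_support_iff.1 hi)
  · intro h
    rw [Finsupp.notMem_support_iff.1 h]
    simp only [_root_.ne_eq, _root_.OfNat.ofNat_ne_zero, _root_.not_false_eq_true, _root_.zero_pow, _root_.zero_add, _root_.zero_tsub, _root_.tsub_self, _root_.pow_zero, _root_.Cfsg.Agent.H615.GU.glp_zero, _root_.mul_one]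

theorem col_one_one : col (1 : GL ι K) 1 = c1 (Fintype.card ι) := by
  ext i
  have h := col_add (1 : GL ι K) 1 i
  rw [Units.val_one, Units.val_one, map_one, sub_self, zero_pow (Nat.succ_ne_zero i), rank_zero] at h
  cases i with
  | zero => rwa [pow_zero, rank_one, Nat.sub_self, c1_zero] at *
  | succ i =>
    rw [zero_pow (Nat.succ_ne_zero i), rank_zero] at h
    rw [c1_succ]
    omega

theorem col_one_ne {x : Kˣ} (hx : x ≠ 1) : col (1 : GL ι K) x = 0 := by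
  ext i
  have h := col_add (1 : GL ι K) x i
  have h0 : (1 : K) - x ≠ 0 := fun e => hx (Units.ext (sub_eq_zero.1 e).symm)
  have h1 : (1 : GL ι K).1 - scalar ι (x : K) = (dg fun _ => Units.mk0 _ h0 : GL ι K).1 := by
    rw [dg_const_val, Units.val_mk0, map_sub, map_one, Units.val_one]
  rw [h1, ← Units.val_pow_eq_pow_val, ← Units.val_pow_eq_pow_val, rank_unit, rank_unit] at h
  rw [Col.zero_apply]
  omega

theorem ev_glp (Q : ℤ) (n : ℕ) : ev (Q : ℂ) (glp n) = ((Q ^ (∑ j ∈ Finset.range n, j) * PH Q n : ℤ) : ℂ) := by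
  rw [PH, ← Finset.prod_range_reflect (fun i => Q ^ (i + 1) - 1), ← Finset.prod_pow_eq_pow_sum, ← Finset.prod_mul_distrib,
    glp, ev, map_prod, Int.cast_prod]
  refine Finset.prod_congr rfl fun j hj => ?_
  rw [Finset.mem_range] at hj
  rw [mul_sub, ← pow_add, show j + (n - 1 - j + 1) = n by omega]
  simp

end F

namespace D0

variable (c : D0) {ι : Type} [Fintype ι] [DecidableEq ι]

theorem natAbs_Q : c.Q.natAbs = c.p ^ c.f := by
  rw [c.hQ, Int.natAbs_mul, Int.units_natAbs, one_mul, Int.natAbs_pow, Int.natAbs_natCast]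

theorem zpow_Q_inj (k : ℕ) {x : c.Kˣ} (h : x ^ c.Q ^ k = 1) : x = 1 := (c.ue_eq_one _).1 ((c.ue_F_pow k x).trans h)

theorem out_one : (Quotient.mk (orbSetoid c.K c.Q) 1).out = 1 := by
  obtain ⟨i, j, h⟩ := Quotient.mk_out (s := orbSetoid c.K c.Q) 1
  exact c.zpow_Q_inj i (h.trans (_root_.one_zpow _))

theorem dOrb_one : dOrb c.K c.Q (Quotient.mk (orbSetoid c.K c.Q) 1) = 1 :=
  Nat.card_eq_one_iff_exists.2 ⟨⟨1, rfl⟩, fun x => Subtype.ext (by
    obtain ⟨i, j, h⟩ := Quotient.exact x.2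
    exact c.zpow_Q_inj i (h.trans (_root_.one_zpow _)))⟩

theorem ty_one : ty c.Q (1 : GL ι c.K) = Finsupp.single (Quotient.mk (orbSetoid c.K c.Q) 1) (F.c1 (Fintype.card ι)) := by
  refine Finsupp.ext fun o => ?_
  by_cases h : o = Quotient.mk (orbSetoid c.K c.Q) 1
  · rw [h, Finsupp.single_eq_same, ty_apply, out_one, F.col_one_one]
  · rw [Finsupp.single_eq_of_ne h, ty_apply, F.col_one_ne fun e => h (by rw [← e, Quotient.out_eq])]

/-- the order of `Gt v` -/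
theorem Tab.card {c : D0} {v : GL ι c.K} (T : c.Tab v) : Nat.card (c.Gt v) =
    c.p ^ (c.f * ∑ j ∈ Finset.range (Fintype.card ι), j) * (PH c.Q (Fintype.card ι)).natAbs := by
  obtain ⟨T', hT⟩ := T.typ
  have h := T'.card _ (T'.deg 1)
  have h0 : Nat.card {g // T'.typ g = T'.typ 1} = 1 :=
    Nat.card_eq_one_iff_exists.2 ⟨⟨1, rfl⟩, fun g => Subtype.ext (isConj_one_left.1 (T'.sep _ _ g.2))⟩
  rw [h0, hT, show (1 : c.Gt v).1.left = 1 from rfl, ty_one] at h
  have h1 : Ag (dOrb c.K c.Q) c.Q (Finsupp.single (Quotient.mk (orbSetoid c.K c.Q) 1) (F.c1 (Fintype.card ι))) =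
      ev ((c.Q : ℂ) ^ dOrb c.K c.Q (Quotient.mk (orbSetoid c.K c.Q) 1)) (ap (F.c1 (Fintype.card ι))) :=
    Finsupp.prod_single_index (h := fun i l => ev ((c.Q : ℂ) ^ dOrb c.K c.Q i) (ap l)) (by simp only [ap, _root_.Cfsg.Agent.H615.GU.Col.zero_apply, _root_.ne_eq, _root_.OfNat.ofNat_ne_zero, _root_.not_false_eq_true, _root_.zero_pow, _root_.tsub_self, _root_.pow_zero, _root_.Cfsg.Agent.H615.GU.glp_zero, _root_.mul_one, _root_.Finset.prod_const_one, _root_.map_one])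
  rw [h1, dOrb_one, pow_one, F.ap_c1, F.ev_glp, Nat.cast_one, one_mul] at h
  have h2 : c.Q.sign ^ Fintype.card ι * (c.Q ^ (∑ j ∈ Finset.range (Fintype.card ι), j) * PH c.Q (Fintype.card ι)) =
      Nat.card (c.Gt v) := by exact_mod_cast h
  have h3 : c.Q ≠ 0 := fun e => by
    have h4 := c.ctx.two
    rw [e] at h4
    exact absurd h4 (by decide)
  have h4 := congrArg Int.natAbs h2
  rw [Int.natAbs_natCast, Int.natAbs_mul, Int.natAbs_mul, Int.natAbs_pow, Int.natAbs_pow, Int.natAbs_sign_of_ne_zero h3,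
    one_pow, one_mul, natAbs_Q, ← pow_mul] at h4
  exact h4.symm

theorem Tab.fac {c : D0} {v : GL ι c.K} (T : c.Tab v) {l : ℕ} (h : l ≠ c.p) :
    (Nat.card (c.Gt v)).factorization l = vz l (PH c.Q (Fintype.card ι)) := by
  have h0 : (PH c.Q (Fintype.card ι)).natAbs ≠ 0 := fun e => (Nat.card_pos (α := c.Gt v)).ne' (by rw [T.card, e, mul_zero])
  rw [T.card, Nat.factorization_mul (pow_ne_zero _ c.pp.1.ne_zero) h0, c.pp.1.factorization_pow, Finsupp.add_apply,
    Finsupp.single_eq_of_ne h, zero_add, vz]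

/-- there is a primitive root of order `k` for every divisor `k` of `M` -/
theorem exists_root {k : ℕ} (h : k ∣ c.M) : ∃ x : c.Kˣ, orderOf x = k := by
  obtain ⟨g, hg⟩ := IsCyclic.exists_ofOrder_eq_natCard (α := c.Kˣ)
  rw [c.ctx.card] at hg
  exact ⟨g ^ (orderOf g / k), orderOf_pow_orderOf_div (hg ▸ NeZero.ne c.M) (hg ▸ h)⟩

theorem natAbs_dvd_M {k : ℕ} (h0 : 0 < k) (h : k ≤ 2 * c.n + 2) : (c.Q ^ k - 1).natAbs ∣ c.M :=
  Int.natAbs_dvd_natAbs.2 (c.ctx.dvd k h0 h)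

variable {v : GL ι c.K}

theorem nGt {b x : c.AA ι} (hb : b ∈ c.Ah v) (hx : x ∈ c.Gt v) : b * x * b⁻¹ ∈ c.Gt v :=
  ⟨(c.Ah v).mul_mem ((c.Ah v).mul_mem hb hx.1) ((c.Ah v).inv_mem hb), (c.conj_right x b).trans hx.2⟩

theorem nG {b x : c.AA ι} (hb : b ∈ c.Ah v) (hx : x ∈ c.G v) : b * x * b⁻¹ ∈ c.G v :=
  c.mem_G'.2 ⟨c.nGt hb hx.1, by rw [c.dt_conj_of_right (c.right_of_Gt hx.1), (c.mem_G'.1 hx).2, ue_one]⟩

theorem dt_pow {g : c.AA ι} (hg : g ∈ c.Gt v) : c.dt g ^ (c.Q - 1) = 1 := by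
  have h := congrArg GeneralLinearGroup.det (c.mem_Gt.1 hg).2
  rw [map_mul, map_mul, det_act, ue_F, mul_comm, mul_left_inj] at h
  rw [_root_.zpow_sub_one, mul_inv_eq_one]
  exact h

theorem cyc_Gt (v : GL ι c.K) : ∃ g ∈ c.Gt v, ∀ x ∈ c.Gt v, ∃ k : ℕ, ∃ y ∈ c.G v, x = g ^ k * y := by
  obtain ⟨⟨_, g, rfl⟩, hg⟩ := IsCyclic.exists_monoid_generator (α := (c.dtH v).range)
  refine ⟨g, g.2, fun x hx => ?_⟩
  obtain ⟨k, hk⟩ := hg ⟨_, ⟨x, hx⟩, rfl⟩
  have h1 : (g ^ k)⁻¹ * ⟨x, hx⟩ ∈ (c.dtH v).ker := by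
    rw [MonoidHom.mem_ker, map_mul, map_inv, map_pow, inv_mul_eq_one]
    exact congrArg Subtype.val hk
  rw [ker_dtH] at h1
  exact ⟨k, _, h1, by simp only [_root_.Subgroup.subtype_apply, _root_.Subgroup.coe_mul, _root_.InvMemClass.coe_inv, _root_.SubmonoidClass.coe_pow, _root_.mul_inv_cancel_left]⟩

theorem relIndex_G (v : GL ι c.K) : (c.G v).relIndex (c.Gt v) = Nat.card (c.dtH v).range := by
  rw [relIndex, ← ker_dtH, index_ker]

theorem idx_dvd (v : GL ι c.K) : (((c.G v).relIndex (c.Gt v) : ℕ) : ℤ) ∣ c.Q - 1 := by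
  obtain ⟨⟨_, g, rfl⟩, hg⟩ := IsCyclic.exists_ofOrder_eq_natCard (α := (c.dtH v).range)
  rw [relIndex_G, ← hg, orderOf_dvd_iff_zpow_eq_one]
  exact Subtype.ext (c.dt_pow g.2)

theorem fr_one : Fr (c.Ah (1 : GL ι c.K)) (c.G 1) (c.Gt 1) (c.Gh 1) (c.tw 1) where
  tB := c.Gt_le_Ah _
  hB := c.Gh_le_Ah _
  inf := rfl
  sup b hb := ⟨inl b.left, c.mem_Gt_one.2 ⟨rfl, (c.mem_Ah_one (a := b)).1 hb⟩, inr b.right, c.inr_mem_Gh_one _,
    (SemidirectProduct.inl_left_mul_inr_right b).symm⟩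
  nN _ hb _ hx := c.nG hb hx
  nT _ hb _ hx := c.nGt hb hx
  cyc := c.cyc_Gt _
  gen := by
    obtain ⟨φ, τ, h1, h2⟩ := c.gen
    refine ⟨inr φ, c.inr_mem_Gh_one _, inr τ, c.inr_mem_Gh_one _, ?_, ?_, fun h hh => ?_⟩
    · rw [← map_mul, h1, map_one]
      exact one_mem _
    · simp only [← map_inv, ← map_inv, ← map_mul, ← map_mul, ← map_mul, mul_inv_cancel_comm, mul_inv_cancel, map_one]
      exact one_mem _
    · obtain ⟨i, j, e⟩ := h2 h.right
      refine ⟨i, j, (inr h.right)⁻¹ * h, c.mem_G''.2 ⟨mul_mem (inv_mem (c.inr_mem_Gh_one _)) hh, by simp⟩, ?_⟩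
      rw [← map_pow, ← map_pow, ← map_mul, ← e, mul_inv_cancel_left]
  Fh := c.lg_one.tw_mem
  Fc _ hb := c.mem_Ah'.1 hb
  Ft k hk := by
    rw [tw_one, ← map_pow] at hk ⊢
    rw [show c.F ^ k = 1 from hk.2, map_one]

theorem cen_one {z : c.AA ι} (h : Cn (c.Gt (1 : GL ι c.K)) z) : ∃ x : c.Kˣ, z.left = dg fun _ => x := by
  have key : ∀ g : GL ι c.K, inl g ∈ c.Gt (1 : GL ι c.K) → z.left * g = g * z.left := fun g hg => by
    have h1 := h.2 _ hg
    rw [c.eq_inl (c.right_of_Gt h.1), ← map_mul, ← map_mul] at h1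
    exact SemidirectProduct.inl_injective h1
  rcases Int.units_eq_one_or (c.sg c.F) with e | e
  · refine F.scal_of_tv fun i j hij => key _ (c.mem_Gt_one.2 ⟨rfl, ?_⟩)
    rw [SemidirectProduct.left_inl, act_apply, e, sm_one, MulAut.one_apply, fm_of_int _ (F.int_tv hij)]
  · obtain ⟨x, hx⟩ := c.exists_root (c.natAbs_dvd_M one_pos (by omega))
    have h1 : x ^ (c.Q - 1) = 1 := by
      rw [← orderOf_dvd_iff_zpow_eq_one, hx, pow_one, Int.natAbs_dvd]
    refine F.scal_of_comm (x := x) (fun h2 => ?_) (fun i => key _ (c.dg_mem_Gt_one.2 fun j => ?_))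
      fun π => key _ (c.pm_mem_Gt_one π)
    · rw [h2, orderOf_one, pow_one, c.hQ, e] at hx
      have h3 : (0 : ℤ) < (c.p : ℤ) ^ c.f := pow_pos (Int.natCast_pos.2 c.pp.1.pos) _
      simp only [Units.val_neg, Units.val_one, neg_mul, one_mul] at hx
      omega
    · by_cases h2 : j = i
      · rw [h2, Pi.mulSingle_eq_same, h1]
      · rw [Pi.mulSingle_eq_of_ne h2, _root_.one_zpow]

variable {c}

theorem cn_of_scal {z : c.AA ι} (hz : z ∈ c.Gt v) {x : c.Kˣ} (h : z.left = dg fun _ => x) : Cn (c.Gt v) z :=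
  ⟨hz, fun g hg => congrArg Subtype.val (c.lf_inj v (a₁ := ⟨z, hz⟩ * ⟨g, hg⟩) (a₂ := ⟨g, hg⟩ * ⟨z, hz⟩) (by
    simp only [map_mul, map_mul, lf_apply, lf_apply, h, dg_const_comm]))⟩

theorem Lg.fr (h : c.Lg v) : Fr (c.Ah v) (c.G v) (c.Gt v) (c.Gh v) (c.tw v) := by
  obtain ⟨y, hy⟩ := h.cj
  exact hy.Ah.fr hy.G hy.Gt hy.Gh (hy.tw ▸ c.fr_one)

theorem Lg.cen (h : c.Lg v) (z : c.AA ι) : Cn (c.Gt v) z ↔ z ∈ c.Gt v ∧ ∃ x : c.Kˣ, z.left = dg fun _ => x := by
  refine ⟨fun hz => ⟨hz.1, ?_⟩, fun ⟨hz, _, hx⟩ => cn_of_scal hz hx⟩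
  obtain ⟨y, hy⟩ := h.cj
  exact (c.cen_one ((hy.Gt.cn z).2 hz)).imp fun x hx => (hy.scal ⟨z, hz.1⟩ x).1 hx

theorem Lg.onto (h : c.Lg v) (hι : Nonempty ι) {x : c.Kˣ} (hx : x ^ (c.Q - 1) = 1) : ∃ g ∈ c.Gt v, c.dt g = x := by
  obtain ⟨y, hy⟩ := h.cj
  obtain ⟨i⟩ := hι
  refine ⟨c.cj y⁻¹ (inl (dg (Pi.mulSingle i x))), (hy.symm.Gt _).2 (c.dg_mem_Gt_one.2 fun j => ?_), ?_⟩
  · by_cases h2 : j = i
    · rw [h2, Pi.mulSingle_eq_same, hx]
    · rw [Pi.mulSingle_eq_of_ne h2, _root_.one_zpow]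
  · rw [hy.symm.dt, dt_inl, det_dg, Finset.prod_pi_mulSingle', if_pos (Finset.mem_univ i)]

/-- the exact index -/
theorem Lg.relIndex (h : c.Lg v) (hι : Nonempty ι) : (c.G v).relIndex (c.Gt v) = (c.Q - 1).natAbs := by
  refine Nat.dvd_antisymm (Int.natCast_dvd.1 (c.idx_dvd v)) ?_
  obtain ⟨x, hx⟩ := c.exists_root (c.natAbs_dvd_M one_pos (by omega))
  rw [pow_one] at hx
  obtain ⟨g, hg, e⟩ := h.onto hι (x := x) (by rw [← orderOf_dvd_iff_zpow_eq_one, hx, Int.natAbs_dvd])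
  rw [relIndex_G, ← hx]
  exact orderOf_dvd_natCard _ ⟨⟨g, hg⟩, e⟩

theorem Lg.frm (h : c.Lg v) (T : c.Tab v) : c.Frm v :=
  ⟨h.fr, c.idx_dvd v, h.cen, fun _ _ e => T.fac e, fun _ hg => c.dt_pow hg, fun hι _ hx => h.onto hι hx⟩

end D0

/-- **box F** -/
theorem boxF : BoxF := fun c ι _ _ hn v h => h.frm (c.tab ι hn v h)

end Cfsg.Agent.MO.TA
end

-- part: MO/TA/Cyc
section
/-!
# MO/TA: Clifford theory for subgroups `N ≤ H` of one group (helper12)

* `Nr`, `cje`, `tr_iff`, the calculus of `Tr`, `res`, `ip`;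
* `Nq N H` (normal), `Aq N H` (abelian quotient), `Cq N H` (cyclic quotient);
* `exists_ind'`, `exists_over'`, `exists_under`, `Nq.cnj`, `Nq.smul`, `Nq.one` (multiplicity one), `Nq.deg`;
* `Aq.ip_self` (`= yc`), `Aq.twist`; `Cq.ext`, `Cq.mult`, `Cq.yc_eq`, `Cq.deg`, `Cq.cc`, `Cq.mem_stb`.
-/

set_option autoImplicit false

namespace Cfsg.Agent.MO.TA

open Cfsg Subgroup Cfsg.Agent.Characters.Core
open scoped ComplexConjugate

/-! ### the inner product -/

section ip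

variable {G : Type} [Group G] [Finite G] {f g : G → ℂ}

theorem ip_def [Fintype G] (f g : G → ℂ) : ip f g = (Nat.card G : ℂ)⁻¹ * ∑ x, f x * conj (g x) := ip_eq f g

theorem ip_ne (h : IsIrrCharacter G f) (h' : IsIrrCharacter G g) (e : f ≠ g) : ip f g = 0 :=
  @classInner_irr_ne G _ (Fintype.ofFinite G) f g h h' e

theorem eq_of_ip (h : IsIrrCharacter G f) (h' : IsIrrCharacter G g) (e : ip f g ≠ 0) : f = g :=
  by_contra fun e' => e (ip_ne h h' e')

theorem ip_conj (f g : G → ℂ) : conj (ip f g) = ip g f := @classInner_conj_symm G _ (Fintype.ofFinite G) f g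

theorem ip_smul (c : ℂ) (f g : G → ℂ) : ip (c • f) g = c * ip f g := @classInner_smul_left G _ (Fintype.ofFinite G) c f g

theorem ip_sum {ι : Type} (s : Finset ι) (f : ι → G → ℂ) (g : G → ℂ) : ip (∑ i ∈ s, f i) g = ∑ i ∈ s, ip (f i) g :=
  @classInner_sum_left G _ (Fintype.ofFinite G) ι s f g

theorem ip_lin (μ : G →* ℂˣ) (f g : G → ℂ) : ip (fun x => (μ x : ℂ) * f x) (fun x => (μ x : ℂ) * g x) = ip f g := by
  have := Fintype.ofFinite G
  rw [ip_eq, ip_eq]
  exact CharactersDeep.AbelianQuotient.classInner_linear_mul μ f g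

theorem irr_lin (μ : G →* ℂˣ) (h : IsIrrCharacter G f) : IsIrrCharacter G fun x => (μ x : ℂ) * f x := by
  have := Fintype.ofFinite G
  exact CharactersDeep.AbelianQuotient.isIrr_linear_mul μ h

theorem lin_mul_conj (μ : G →* ℂˣ) (x : G) : (μ x : ℂ) * conj (μ x : ℂ) = 1 := by
  have := Fintype.ofFinite G
  exact CharactersDeep.AbelianQuotient.hom_mul_conj μ x

omit [Finite G] in
theorem irr_comp_iff {G' : Type} [Group G'] (e : G' ≃* G) : IsIrrCharacter G' (f ∘ e) ↔ IsIrrCharacter G f := by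
  refine ⟨fun h => ?_, isIrr_comp e.toMonoidHom e.surjective⟩
  have h1 := isIrr_comp e.symm.toMonoidHom e.symm.surjective h
  convert h1 using 1
  funext x
  simp

/-- the decomposition of a character -/
theorem exists_dec (h : IsCharacter G f) : ∃ (_ : Fintype (IrrCharacter G)) (a : IrrCharacter G → ℕ),
    f = ∑ χ, (a χ : ℂ) • χ.1 ∧ ∀ χ, ip f χ.1 = a χ := by
  have := finite_irr (G := G)
  have := Fintype.ofFinite (IrrCharacter G)
  have := Fintype.ofFinite G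
  obtain ⟨a, ha⟩ := exists_nat_comb h
  refine ⟨inferInstance, a, by simpa only [Nat.cast_smul_eq_nsmul] using ha, fun χ => ?_⟩
  rw [ip_eq, ha]
  exact classInner_sum_nsmul_irr a χ

/-- a common constituent -/
theorem exists_con (h : IsCharacter G f) (e : ip f g ≠ 0) : ∃ χ, IsIrrCharacter G χ ∧ ip f χ ≠ 0 ∧ ip χ g ≠ 0 := by
  obtain ⟨_, a, h1, h2⟩ := exists_dec h
  rw [h1, ip_sum] at e
  obtain ⟨χ, -, h3⟩ := Finset.exists_ne_zero_of_sum_ne_zero e
  rw [ip_smul] at h3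
  exact ⟨χ.1, χ.2, h2 χ ▸ left_ne_zero_of_mul h3, right_ne_zero_of_mul h3⟩

theorem ip_ne_zero_of_con (h : IsCharacter G f) (h' : IsCharacter G g) {χ : G → ℂ} (hχ : IsIrrCharacter G χ)
    (e : ip f χ ≠ 0) (e' : ip g χ ≠ 0) : ip f g ≠ 0 := by
  obtain ⟨_, a, h1, h2⟩ := exists_dec h
  choose b hb using fun ψ : IrrCharacter G => ip_nat (isIrr_isCharacter ψ.2) h'
  rw [h1, ip_sum]
  simp only [ip_smul, hb, ← Nat.cast_mul, ← Nat.cast_sum]
  rw [Nat.cast_ne_zero, Ne, Finset.sum_eq_zero_iff]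
  intro h3
  rcases mul_eq_zero.1 (h3 ⟨χ, hχ⟩ (Finset.mem_univ _)) with h4 | h4
  · exact e (by rw [h2 ⟨χ, hχ⟩, h4, Nat.cast_zero])
  · exact e' (by rw [ip_comm h' (isIrr_isCharacter hχ), hb ⟨χ, hχ⟩, h4, Nat.cast_zero])

/-- the degree of a constituent -/
theorem deg_le (h : IsCharacter G f) (hg : IsIrrCharacter G g) (e : ip f g ≠ 0) {m n : ℕ} (hm : g 1 = m) (hn : f 1 = n) :
    m ≤ n := by
  obtain ⟨_, a, h1, h2⟩ := exists_dec h
  choose d hd using fun ψ : IrrCharacter G => isCharacter_apply_one (isIrr_isCharacter ψ.2)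
  have h3 : n = ∑ χ, a χ * d χ := by
    rw [h1, Finset.sum_apply] at hn
    simp only [Pi.smul_apply, smul_eq_mul, hd] at hn
    exact_mod_cast hn.symm
  have h4 : d ⟨g, hg⟩ = m := by exact_mod_cast (hd ⟨g, hg⟩).symm.trans hm
  have h5 : a ⟨g, hg⟩ ≠ 0 := fun h5 => e (by rw [h2 ⟨g, hg⟩, h5, Nat.cast_zero])
  rw [h3, ← h4]
  exact (Nat.le_mul_of_pos_left _ (Nat.pos_of_ne_zero h5)).trans
    (Finset.single_le_sum (f := fun χ => a χ * d χ) (fun _ _ => Nat.zero_le _) (Finset.mem_univ _))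

omit [Finite G] in
theorem deg_eq {n : ℕ} (h : f 1 = n) : charDegree f = n := by
  rw [charDegree, h, Complex.natCast_re, Nat.floor_natCast]

omit [Finite G] in
theorem one_eq_deg (h : IsCharacter G f) : f 1 = charDegree f := by
  obtain ⟨n, hn⟩ := isCharacter_apply_one h
  rw [deg_eq hn, hn]

omit [Finite G] in
theorem deg_ne_zero (h : IsIrrCharacter G f) : charDegree f ≠ 0 := fun e =>
  isIrr_apply_one_ne_zero h (by rw [one_eq_deg (isIrr_isCharacter h), e, Nat.cast_zero])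

/-- the central character -/
theorem exists_omega (h : IsIrrCharacter G f) {z : G} (hz : ∀ g, z * g = g * z) :
    ∃ w : ℂ, w * conj w = 1 ∧ ∀ x, f (z * x) = w * f x := by
  have h0 := h
  obtain ⟨n, ρ, hρ, rfl⟩ := h
  obtain ⟨w, hw⟩ := CharactersDeep.IrrEquiv.exists_commute_scalar ρ hρ (ρ z) fun g => by
    rw [← map_mul, ← map_mul, hz g]
  have h1 : ∀ x, ρ.character (z * x) = w * ρ.character x := fun x => by
    change LinearMap.trace ℂ _ (ρ (z * x)) = w * LinearMap.trace ℂ _ (ρ x)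
    simp only [map_mul, hw, smul_mul_assoc, one_mul, map_smul, smul_eq_mul]
  exact ⟨w, MK.E.mul_conj_central h0 (mem_center_iff.2 fun g => (hz g).symm) (by simpa only [_root_.Representation.char_one, _root_.Module.finrank_fintype_fun_eq_card, _root_.Fintype.card_fin, _root_.mul_one] using h1 1), h1⟩

end ip

variable {A : Type} [Group A] {H K M N T : Subgroup A} {a b c : A}

/-! ### conjugation -/

/-- `c` normalises `H` -/
def Nr (H : Subgroup A) (c : A) : Prop := ∀ x, x ∈ H ↔ c * x * c⁻¹ ∈ H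

theorem Nr.inv (h : Nr H c) : Nr H c⁻¹ := fun x => by
  rw [h (c⁻¹ * x * c⁻¹⁻¹)]
  simp [mul_assoc]

theorem Nr.mul (ha : Nr H a) (hb : Nr H b) : Nr H (a * b) := fun x => by
  rw [hb, ha, mul_inv_rev]
  simp only [mul_assoc]

theorem nr_of_mem (h : c ∈ H) : Nr H c := fun x => by
  rw [mul_mem_cancel_right (inv_mem h), mul_mem_cancel_left h]

theorem Nr.inf (h : Nr H c) (h' : Nr K c) : Nr (H ⊓ K) c := fun x => and_congr (h x) (h' x)

theorem nr_of_all {B : Subgroup A} (h : ∀ b ∈ B, ∀ x ∈ N, b * x * b⁻¹ ∈ N) (hb : b ∈ B) : Nr N b := fun x =>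
  ⟨h b hb x, fun hx => by simpa only [mul_assoc, _root_.inv_mul_cancel_left, _root_.inv_inv, _root_.inv_mul_cancel, _root_.mul_one] using h b⁻¹ (inv_mem hb) _ hx⟩

/-- the conjugation as an automorphism -/
def cje (h : Nr H c) : H ≃* H where
  toFun x := ⟨c * x * c⁻¹, (h x).1 x.2⟩
  invFun y := ⟨c⁻¹ * y * c⁻¹⁻¹, (h.inv y).1 y.2⟩
  left_inv x := Subtype.ext (by simp [mul_assoc])
  right_inv x := Subtype.ext (by simp [mul_assoc])
  map_mul' x y := Subtype.ext (by simp only [mul_assoc, _root_.Subgroup.coe_mul, _root_.MulMemClass.mk_mul_mk, _root_.inv_mul_cancel_left])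

theorem cje_coe (h : Nr H c) (x : H) : (cje h x : A) = c * x * c⁻¹ := rfl

section tr

variable {f f' f'' g g' : H → ℂ}

theorem tr_iff (h : Nr H c) : Tr H c f f' ↔ f = f' ∘ cje h :=
  ⟨fun t => funext fun x => (t x _ rfl).symm, fun e x y hy => by
    rw [e, show y = cje h x from Subtype.ext hy]; rfl⟩

theorem exists_tr (h : Nr H c) (f : H → ℂ) : ∃ f', Tr H c f f' :=
  ⟨f ∘ (cje h).symm, (tr_iff h).2 (funext fun x => by simp)⟩

theorem Tr.symm (t : Tr H c f f') : Tr H c⁻¹ f' f := fun x y h => (t y x (by rw [h]; simp only [mul_assoc, _root_.inv_inv, _root_.mul_inv_cancel_left, _root_.mul_inv_cancel, _root_.mul_one])).symm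

theorem Tr.uniq (h : Nr H c) (t : Tr H c f f') (t' : Tr H c f f'') : f' = f'' :=
  ((tr_iff h.inv).1 t.symm).trans ((tr_iff h.inv).1 t'.symm).symm

theorem Tr.uniq' (h : Nr H c) (t : Tr H c f' f) (t' : Tr H c f'' f) : f' = f'' :=
  ((tr_iff h).1 t).trans ((tr_iff h).1 t').symm

theorem Tr.trans (h : Nr H a) (t : Tr H a f f') (t' : Tr H b f' f'') : Tr H (b * a) f f'' := fun x y e =>
  (t' (cje h x) y (by rw [e, cje_coe]; simp only [mul_assoc, _root_.mul_inv_rev])).trans (t x _ rfl)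

theorem Tr.one (t : Tr H c f f') : f' 1 = f 1 := t 1 1 (by simp)

theorem Tr.deg (t : Tr H c f f') : charDegree f' = charDegree f := by rw [charDegree, charDegree, t.one]

theorem Tr.irr (h : Nr H c) (t : Tr H c f f') (hf : IsIrrCharacter H f) : IsIrrCharacter H f' :=
  (irr_comp_iff (cje h)).1 ((tr_iff h).1 t ▸ hf)

theorem Tr.char (h : Nr H c) (t : Tr H c f f') (hf : IsCharacter H f) : IsCharacter H f' :=
  (tr_iff h.inv).1 t.symm ▸ isCharacter_comp (cje h.inv).toMonoidHom hf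

theorem Tr.ip [Finite A] (h : Nr H c) (t : Tr H c f f') (t' : Tr H c g g') : ip f' g' = ip f g := by
  rw [(tr_iff h).1 t, (tr_iff h).1 t', ip_comp]

theorem tr_of_mem (hc : c ∈ H) (hf : IsClassFunction H f) : Tr H c f f := fun x y e => by
  rw [show y = ⟨c, hc⟩ * x * ⟨c, hc⟩⁻¹ from Subtype.ext e]
  exact hf x _

theorem tr_of_comm (hc : ∀ x ∈ H, c * x = x * c) (f : H → ℂ) : Tr H c f f := fun x y e =>
  congrArg f (Subtype.ext (by rw [e, hc x x.2, mul_inv_cancel_right]))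

theorem Tr.res (t : Tr H c f f') (hle : N ≤ H) : Tr N c (res N f) (res N f') := fun x y e => by
  rw [res_of_le hle, res_of_le hle]
  exact t _ _ e

theorem mem_stb {f : N → ℂ} : a ∈ Stb H N f ↔ a ∈ H ∧ Nr N a ∧ Tr N a f f := Iff.rfl

theorem stb_le (f : N → ℂ) : Stb H N f ≤ H := fun _ h => h.1

end tr

/-! ### restriction -/

theorem res_eq (h : N ≤ H) (f : H → ℂ) : res N f = f ∘ inclusion h := funext (res_of_le h f)

theorem res_notMem (f : K → ℂ) {x : H} (h : (x : A) ∉ K) : res H f x = 0 := extendByZero_of_notMem K f h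

theorem res_one (f : K → ℂ) : res H f 1 = f 1 := res_apply f 1 1 rfl

theorem res_char (h : N ≤ H) {f : H → ℂ} (hf : IsCharacter H f) : IsCharacter N (res N f) :=
  res_eq h f ▸ isCharacter_comp (inclusion h) hf

theorem res_lin (h : N ≤ H) {μ : H →* ℂˣ} (hμ : Lin N μ) (f : H → ℂ) : res N (fun x => (μ x : ℂ) * f x) = res N f := by
  funext x
  rw [res_of_le h, res_of_le h, hμ _ x.2, Units.val_one, one_mul]

theorem res_mul (h : N ≤ H) (μ : H →* ℂˣ) (f : H → ℂ) :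
    res N (fun x => (μ x : ℂ) * f x) = fun x => (μ.comp (inclusion h) x : ℂ) * res N f x := by
  funext x
  rw [res_of_le h, res_of_le h]
  rfl

theorem res_comp (h : N ≤ H) (χ : H → ℂ) : res N χ ∘ subgroupOfEquivOfLe h = fun n : N.subgroupOf H => χ n :=
  funext fun _ => res_apply χ _ _ rfl

section fin

variable [Finite A]

theorem ip_res (h : N ≤ H) [Fintype (N.subgroupOf H)] (χ : H → ℂ) (θ : N → ℂ) :
    ip (res N χ) θ = classInner (fun n : N.subgroupOf H => χ n) (θ ∘ subgroupOfEquivOfLe h) := by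
  rw [← ip_comp (subgroupOfEquivOfLe h), res_comp, ip_eq]

/-- the inner product with the extension by zero -/
theorem card_ip_res (h : N ≤ H) (f : H → ℂ) (σ : N → ℂ) :
    Nat.card N * ip (res N f) σ = Nat.card H * ip f (res H σ) := by
  have := Fintype.ofFinite N
  have := Fintype.ofFinite H
  rw [ip_def, ip_def, mul_inv_cancel_left₀ card_ne_zero_complex, mul_inv_cancel_left₀ card_ne_zero_complex]
  refine Fintype.sum_of_injective (inclusion h) (inclusion_injective h) _ _ (fun x hx => ?_) fun x => ?_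
  · rw [res_notMem σ fun h' => hx ⟨⟨x, h'⟩, rfl⟩, map_zero, mul_zero]
  · rw [res_of_le h, res_apply σ (inclusion h x) x rfl]

/-- **induction** -/
theorem exists_ind' (h : K ≤ H) {β : K → ℂ} (hβ : IsCharacter K β) : ∃ Φ : H → ℂ, IsCharacter H Φ ∧
    Φ 1 = K.relIndex H * β 1 ∧ ∀ χ, IsClassFunction H χ → ip Φ χ = ip β (res K χ) := by
  have := Fintype.ofFinite H
  have := Fintype.ofFinite (K.subgroupOf H)
  refine ⟨indFun (K.subgroupOf H) (β ∘ subgroupOfEquivOfLe h), CharactersDeep.IndFun.isCharacter_indFun _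
    (isCharacter_comp (subgroupOfEquivOfLe h).toMonoidHom hβ), ?_, fun χ hχ => ?_⟩
  · rw [CharactersDeep.NormalInd.indFun_one, Function.comp, map_one]
    rfl
  · rw [ip_eq, CharactersDeep.IndFun.classInner_indFun _ _ _ hχ, ← ip_comp (subgroupOfEquivOfLe h), res_comp, ip_eq]

theorem exists_under (h : N ≤ H) {χ : H → ℂ} (hχ : IsIrrCharacter H χ) :
    ∃ θ, IsIrrCharacter N θ ∧ ip (res N χ) θ ≠ 0 := by
  have := Fintype.ofFinite N
  obtain ⟨θ, h1, h2, -⟩ := exists_con (res_char h (isIrr_isCharacter hχ)) (g := res N χ) fun e =>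
    isIrr_apply_one_ne_zero hχ (by
      rw [ip_eq] at e
      rw [← res_one (H := N) χ, classInner_self_eq_zero e, Pi.zero_apply])
  exact ⟨θ, h1, h2⟩

theorem exists_over' (h : N ≤ H) {θ : N → ℂ} (hθ : IsIrrCharacter N θ) :
    ∃ χ, IsIrrCharacter H χ ∧ ip (res N χ) θ ≠ 0 := by
  have := Fintype.ofFinite H
  obtain ⟨Φ, h1, h2, h3⟩ := exists_ind' h (isIrr_isCharacter hθ)
  obtain ⟨χ, h4, h5, -⟩ := exists_con h1 (g := Φ) fun e => by
    rw [ip_eq] at e
    rw [classInner_self_eq_zero e, Pi.zero_apply] at h2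
    exact mul_ne_zero (Nat.cast_ne_zero.2 index_ne_zero_of_finite) (isIrr_apply_one_ne_zero hθ) h2.symm
  refine ⟨χ, h4, ?_⟩
  rwa [h3 χ (isIrr_isClassFunction h4), ip_comm (isIrr_isCharacter hθ) (res_char h (isIrr_isCharacter h4))] at h5

/-- the central character of a constituent -/
theorem cen_res (h : N ≤ H) {χ : H → ℂ} (hχ : IsIrrCharacter H χ) {θ : N → ℂ} (hθ : IsIrrCharacter N θ)
    (e : ip (res N χ) θ ≠ 0) (z : N) (hz : ∀ g ∈ H, z * g = g * z) : θ z * χ 1 = χ (inclusion h z) * θ 1 := by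
  have := Fintype.ofFinite N
  obtain ⟨w, -, hw⟩ := exists_omega hχ (z := inclusion h z) fun g => Subtype.ext (hz g g.2)
  obtain ⟨w', h1, hw'⟩ := exists_omega hθ (z := z) fun g => Subtype.ext (hz g (h g.2))
  have h2 : ip (res N χ) θ = w * conj w' * ip (res N χ) θ := by
    rw [ip_def, mul_left_comm, Finset.mul_sum _ _ (w * _), ← Equiv.sum_comp (Equiv.mulLeft z)]
    congr 1
    refine Finset.sum_congr rfl fun x _ => ?_
    rw [Equiv.coe_mulLeft, hw', res_of_le h, res_of_le h, map_mul, hw, map_mul]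
    ring
  have h3 : w * conj w' = 1 := (mul_eq_right₀ e).1 h2.symm
  have h4 : w = w' := by linear_combination w' * h3 - w * h1
  rw [← mul_one z, hw', map_mul, hw, map_one, h4]
  ring

end fin

/-! ### normal subgroups -/

/-- `N` is a normal subgroup of `H` -/
structure Nq (N H : Subgroup A) : Prop where
  le : N ≤ H
  nrm : ∀ b ∈ H, ∀ x ∈ N, b * x * b⁻¹ ∈ N

namespace Nq

theorem nr (h : Nq N H) (hb : b ∈ H) : Nr N b := nr_of_all h.nrm hb

theorem normal (h : Nq N H) : (N.subgroupOf H).Normal := ⟨fun n hn g => h.nrm g g.2 n hn⟩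

theorem mono (h : Nq N H) (h1 : N ≤ K) (h2 : K ≤ H) : Nq N K := ⟨h1, fun b hb => h.nrm b (h2 hb)⟩

theorem le_stb (h : Nq N H) {θ : N → ℂ} (hθ : IsClassFunction N θ) : N ≤ Stb H N θ := fun _ hx =>
  ⟨h.le hx, nr_of_mem hx, tr_of_mem hx hθ⟩

theorem stb (h : Nq N H) {θ : N → ℂ} (hθ : IsClassFunction N θ) : Nq N (Stb H N θ) := h.mono (h.le_stb hθ) (stb_le θ)

theorem tr_res (h : Nq N H) {χ : H → ℂ} (hχ : IsClassFunction H χ) (hb : b ∈ H) : Tr N b (res N χ) (res N χ) :=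
  (tr_of_mem hb hχ).res h.le

theorem tr_iff' (h : Nq N H) (g : H) {θ θ' : N → ℂ} : Tr N g θ θ' ↔ (θ' ∘ subgroupOfEquivOfLe h.le) ∘
    (haveI := h.normal; (MulAut.conjNormal g : MulAut (N.subgroupOf H))) = θ ∘ subgroupOfEquivOfLe h.le :=
  ⟨fun t => funext fun _ => t _ _ rfl, fun e x y hy => by
    have h1 := congrFun e ((subgroupOfEquivOfLe h.le).symm x)
    rw [show y = cje (h.nr g.2) x from Subtype.ext hy]
    exact h1⟩

variable [Finite A] {χ : H → ℂ} {θ θ' : N → ℂ}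

/-- two constituents are conjugate -/
theorem cnj (h : Nq N H) (hχ : IsIrrCharacter H χ) (hθ : IsIrrCharacter N θ) (hθ' : IsIrrCharacter N θ')
    (e : ip (res N χ) θ ≠ 0) (e' : ip (res N χ) θ' ≠ 0) : ∃ t ∈ H, Tr N t θ θ' := by
  have := Fintype.ofFinite H
  have := Fintype.ofFinite (N.subgroupOf H)
  have := h.normal
  rw [ip_res h.le] at e e'
  obtain ⟨g, hg⟩ := Characters.Clifford.exists_conj_of_constituents (N.subgroupOf H) hχ
    ((irr_comp_iff _).2 hθ') ((irr_comp_iff _).2 hθ) e' e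
  exact ⟨g, g.2, (h.tr_iff' g).2 hg.symm⟩

/-- conjugates of constituents -/
theorem ip_tr (h : Nq N H) (hχ : IsClassFunction H χ) (hb : b ∈ H) (t : Tr N b θ θ') :
    ip (res N χ) θ' = ip (res N χ) θ := (h.tr_res hχ hb).ip (h.nr hb) t

/-- the invariant case -/
theorem smul (h : Nq N H) (hχ : IsIrrCharacter H χ) (hθ : IsIrrCharacter N θ) (e : ip (res N χ) θ ≠ 0)
    (hi : ∀ b ∈ H, Tr N b θ θ) : res N χ = ip (res N χ) θ • θ := by
  have := Fintype.ofFinite H
  have := Fintype.ofFinite (N.subgroupOf H)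
  have := h.normal
  obtain ⟨m, hm⟩ := S0900.restrict_eq_smul (N.subgroupOf H) χ hχ _ ((irr_comp_iff (subgroupOfEquivOfLe h.le)).2 hθ)
    (ip_res h.le χ θ ▸ e) fun g n => hi g g.2 _ _ rfl
  have h1 : res N χ = (m : ℂ) • θ := funext fun x => by
    rw [res_of_le h.le]
    exact congrFun hm ((subgroupOfEquivOfLe h.le).symm x)
  rw [h1, ip_smul, ip_self hθ, mul_one]

/-- **multiplicity one** -/
theorem one (h : Nq N H) {Φ : H → ℂ} (hΦ : IsCharacter H Φ) (hθ : IsIrrCharacter N θ) (e : ip (res N Φ) θ = 1)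
    (hi : ∀ b ∈ H, Tr N b θ θ) : ∃ s, IsIrrCharacter H s ∧ ip Φ s ≠ 0 ∧ res N s = θ ∧
      ∀ s', IsIrrCharacter H s' → ip Φ s' ≠ 0 → ip (res N s') θ ≠ 0 → s' = s := by
  classical
  obtain ⟨_, a, h1, h2⟩ := exists_dec hΦ
  choose m hm using fun ψ : IrrCharacter H => ip_nat (res_char h.le (isIrr_isCharacter ψ.2)) (isIrr_isCharacter hθ)
  have h3 : ∑ ψ, a ψ * m ψ = 1 := by
    have h4 : res N Φ = ∑ ψ : IrrCharacter H, (a ψ : ℂ) • res N ψ.1 := by
      funext x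
      rw [h1]
      simp only [res_of_le h.le, _root_.Finset.sum_apply, _root_.Pi.smul_apply, _root_.smul_eq_mul]
    rw [h4, ip_sum] at e
    simp only [ip_smul, hm] at e
    exact_mod_cast e
  obtain ⟨s, -, h4⟩ := Finset.exists_ne_zero_of_sum_ne_zero (h3 ▸ one_ne_zero : ∑ ψ, a ψ * m ψ ≠ 0)
  rw [← Finset.add_sum_erase _ _ (Finset.mem_univ s)] at h3
  have h5 : a s * m s = 1 := by omega
  have h6 : ∑ ψ ∈ Finset.univ.erase s, a ψ * m ψ = 0 := by omega
  have h7 : ip (res N s.1) θ = 1 := by rw [hm, Nat.eq_one_of_mul_eq_one_left h5, Nat.cast_one]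
  refine ⟨s.1, s.2, ?_, ?_, fun s' h8 h9 h10 => by_contra fun h11 => ?_⟩
  · rw [h2, Nat.eq_one_of_mul_eq_one_right h5, Nat.cast_one]
    exact one_ne_zero
  · rw [h.smul s.2 hθ (h7 ▸ one_ne_zero) hi, h7, one_smul]
  · rcases mul_eq_zero.1 (Finset.sum_eq_zero_iff.1 h6 ⟨s', h8⟩
      (Finset.mem_erase.2 ⟨fun e => h11 (congrArg Subtype.val e), Finset.mem_univ _⟩)) with h12 | h12
    · exact h9 (by rw [h2 ⟨s', h8⟩, h12, Nat.cast_zero])
    · exact h10 (by rw [hm ⟨s', h8⟩, h12, Nat.cast_zero])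

/-- the degree and the norm of the restriction -/
theorem deg (h : Nq N H) (hχ : IsIrrCharacter H χ) (hθ : IsIrrCharacter N θ) {e : ℕ} (he : ip (res N χ) θ = e)
    (h0 : e ≠ 0) : χ 1 = e * (Stb H N θ).relIndex H * θ 1 ∧
      ip (res N χ) (res N χ) = (e ^ 2 * (Stb H N θ).relIndex H : ℕ) := by
  classical
  have := Fintype.ofFinite H
  have := Fintype.ofFinite (N.subgroupOf H)
  have := h.normal
  have hθ' := (irr_comp_iff (subgroupOfEquivOfLe h.le)).2 hθ
  rw [ip_res h.le] at he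
  have h1 := CharactersDeep.CliffordSum.card_conj_mul_card (N.subgroupOf H) (θ ∘ subgroupOfEquivOfLe h.le)
    ((Stb H N θ).subgroupOf H) fun g => ⟨fun hg => (h.tr_iff' g).1 hg.2.2, fun hg => ⟨g.2, h.nr g.2, (h.tr_iff' g).2 hg⟩⟩
  rw [← index_mul_card ((Stb H N θ).subgroupOf H)] at h1
  have h2 := Nat.eq_of_mul_eq_mul_right Nat.card_pos h1
  constructor
  · have h3 := congrFun (CharactersDeep.CliffordSum.restrict_eq_smul_sum (N.subgroupOf H) hχ hθ'
      (he ▸ Nat.cast_ne_zero.2 h0)) 1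
    rw [he, Pi.smul_apply, Finset.sum_apply, Finset.sum_congr rfl (g := fun _ => θ 1) (fun ψ hψ => by
      obtain ⟨x, -, rfl⟩ := Finset.mem_image.1 hψ
      simp only [_root_.Function.comp_apply, _root_.map_one]), Finset.sum_const, h2] at h3
    rw [mul_assoc, relIndex]
    simpa only [_root_.OneMemClass.coe_one, _root_.nsmul_eq_mul, _root_.smul_eq_mul] using h3
  · rw [ip_res h.le, res_comp, CharactersDeep.CliffordSum.classInner_restrict_self_eq _ hχ hθ' he h0, h2]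
    rfl

end Nq

/-! ### abelian quotients -/

/-- `H / N` is abelian -/
structure Aq (N H : Subgroup A) : Prop extends Nq N H where
  comm : ∀ x ∈ H, ∀ y ∈ H, x * y * x⁻¹ * y⁻¹ ∈ N

namespace Aq

theorem mono (h : Aq N H) (h1 : N ≤ K) (h2 : K ≤ H) : Aq N K :=
  ⟨h.toNq.mono h1 h2, fun x hx y hy => h.comm x (h2 hx) y (h2 hy)⟩

theorem up (h : Aq N H) (h1 : N ≤ K) (h2 : K ≤ H) : Aq K H :=
  ⟨⟨h2, fun b hb x hx => by
    rw [← inv_mul_cancel_right (b * x * b⁻¹) x]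
    exact mul_mem (h1 (h.comm b hb x (h2 hx))) hx⟩, fun x hx y hy => h1 (h.comm x hx y hy)⟩

variable [Finite A] {χ χ' : H → ℂ} {θ : N → ℂ}

theorem dual (h : Aq N H) : ∃ Λ : Finset (H →* ℂˣ), (∀ μ, μ ∈ Λ ↔ Lin N μ) ∧ Λ.card = N.relIndex H ∧
    (∀ g : H, (g : A) ∈ N → ∑ μ ∈ Λ, (μ g : ℂ) = N.relIndex H) ∧ ∀ g : H, (g : A) ∉ N → ∑ μ ∈ Λ, (μ g : ℂ) = 0 :=
  haveI := h.normal
  CharactersDeep.AbelianQuotient.exists_linear_dual (N.subgroupOf H) fun x y => h.comm x x.2 y y.2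

/-- the linear characters separate -/
theorem exists_lin (h : Aq N H) {g : H} (hg : (g : A) ∉ N) : ∃ μ : H →* ℂˣ, Lin N μ ∧ μ g ≠ 1 := by
  obtain ⟨Λ, h1, h2, -, h4⟩ := h.dual
  by_contra h5
  push Not at h5
  have h6 := h4 g hg
  rw [Finset.sum_congr rfl (g := fun _ => 1) (fun μ hμ => by rw [h5 μ ((h1 μ).1 hμ), Units.val_one]), Finset.sum_const,
    h2, nsmul_eq_mul, mul_one] at h6
  exact index_ne_zero_of_finite (Nat.cast_eq_zero.1 h6)

theorem card_lin (h : Aq N H) : Nat.card {μ : H →* ℂˣ // Lin N μ} = N.relIndex H := by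
  obtain ⟨Λ, h1, h2, -⟩ := h.dual
  rw [← h2]
  exact Nat.subtype_card Λ h1

theorem finite_lin (h : Aq N H) : Finite {μ : H →* ℂˣ // Lin N μ} :=
  Nat.finite_of_card_ne_zero (h.card_lin ▸ index_ne_zero_of_finite)

/-- the norm of the restriction -/
theorem ip_self (h : Aq N H) (hχ : IsIrrCharacter H χ) : ip (res N χ) (res N χ) = yc N χ := by
  classical
  have := Fintype.ofFinite H
  have := Fintype.ofFinite (N.subgroupOf H)
  obtain ⟨Λ, h1, -, h3, h4⟩ := h.dual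
  rw [ip_res h.le, res_comp, CharactersDeep.AbelianQuotient.classInner_restrict_self _ hχ Λ h3 h4, yc]
  congr 1
  refine (Nat.subtype_card _ fun μ => ?_).symm
  rw [Finset.mem_filter, h1, funext_iff]
  rfl

/-- **two characters over the same constituent** -/
theorem twist (h : Aq N H) (hχ : IsIrrCharacter H χ) (hχ' : IsIrrCharacter H χ') (e : ip (res N χ) (res N χ') ≠ 0) :
    ∃ μ : H →* ℂˣ, Lin N μ ∧ χ' = fun x => (μ x : ℂ) * χ x := by
  obtain ⟨Λ, h1, -, h3, h4⟩ := h.dual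
  have h5 : ∑ μ ∈ Λ, (fun x => (μ x : ℂ) * χ' x) = (N.relIndex H : ℂ) • res H (res N χ') := by
    funext x
    rw [Finset.sum_apply, ← Finset.sum_mul, Pi.smul_apply, smul_eq_mul]
    by_cases hx : (x : A) ∈ N
    · rw [h3 x hx, res_apply _ x ⟨x, hx⟩ rfl, res_apply χ' (⟨x, hx⟩ : N) x rfl]
    · rw [h4 x hx, res_notMem _ hx, zero_mul, mul_zero]
  have h6 : ip (∑ μ ∈ Λ, fun x => (μ x : ℂ) * χ' x) χ ≠ 0 := by
    rw [h5, ip_smul, ← ip_conj]
    refine mul_ne_zero (Nat.cast_ne_zero.2 index_ne_zero_of_finite) ((map_ne_zero _).2 fun h7 => ?_)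
    have h8 := card_ip_res h.le χ (res N χ')
    rw [h7, mul_zero] at h8
    exact mul_ne_zero card_ne_zero_complex e h8
  rw [ip_sum] at h6
  obtain ⟨μ, h7, h8⟩ := Finset.exists_ne_zero_of_sum_ne_zero h6
  refine ⟨μ⁻¹, fun x hx => by rw [MonoidHom.inv_apply, (h1 μ).1 h7 x hx, inv_one], funext fun x => ?_⟩
  rw [← eq_of_ip (irr_lin μ hχ') hχ h8, MonoidHom.inv_apply, ← mul_assoc, Units.inv_mul, one_mul]

theorem twist' (h : Aq N H) (hχ : IsIrrCharacter H χ) (hχ' : IsIrrCharacter H χ') (hθ : IsIrrCharacter N θ)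
    (e : ip (res N χ) θ ≠ 0) (e' : ip (res N χ') θ ≠ 0) : ∃ μ : H →* ℂˣ, Lin N μ ∧ χ' = fun x => (μ x : ℂ) * χ x :=
  h.twist hχ hχ' (ip_ne_zero_of_con (res_char h.le (isIrr_isCharacter hχ)) (res_char h.le (isIrr_isCharacter hχ')) hθ e e')

theorem res_eq_res (h : Aq N H) (hχ : IsIrrCharacter H χ) (hχ' : IsIrrCharacter H χ') (hθ : IsIrrCharacter N θ)
    (e : ip (res N χ) θ ≠ 0) (e' : ip (res N χ') θ ≠ 0) : res N χ' = res N χ := by
  obtain ⟨μ, h1, rfl⟩ := h.twist' hχ hχ' hθ e e'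
  exact res_lin h.le h1 χ

/-- an extension is not fixed by a linear character -/
theorem eq_one (h : Aq N H) (hχ : IsIrrCharacter H χ) (hr : IsIrrCharacter N (res N χ)) {μ : H →* ℂˣ} (hμ : Lin N μ)
    (e : ∀ x, (μ x : ℂ) * χ x = χ x) : μ = 1 := by
  have h1 := h.ip_self hχ
  rw [TA.ip_self hr] at h1
  have h2 := (Nat.card_eq_one_iff_unique.1 (Nat.cast_eq_one.1 h1.symm)).1
  exact congrArg Subtype.val (h2.elim ⟨μ, hμ, e⟩ ⟨1, fun _ _ => rfl, fun x => one_mul _⟩)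

end Aq

/-! ### cyclic quotients -/

/-- `H / N` is cyclic -/
structure Cq (N H : Subgroup A) : Prop extends Nq N H where
  cyc : ∃ g ∈ H, ∀ x ∈ H, ∃ k : ℕ, ∃ y ∈ N, x = g ^ k * y

theorem Fr.cq {B Nt Nh : Subgroup A} {F : A} (h : Fr B N Nt Nh F) : Cq N Nt :=
  ⟨⟨h.inf ▸ inf_le_left, fun b hb => h.nN b (h.tB hb)⟩, h.cyc⟩

namespace Cq

theorem isCyclic (h : Cq N H) : haveI := h.normal; IsCyclic (H ⧸ N.subgroupOf H) := by
  have := h.normal
  obtain ⟨g, hg, h1⟩ := h.cyc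
  refine ⟨⟨((⟨g, hg⟩ : H) : H ⧸ N.subgroupOf H), fun q => ?_⟩⟩
  obtain ⟨x, rfl⟩ := QuotientGroup.mk_surjective q
  obtain ⟨k, y, hy, e⟩ := h1 x x.2
  refine ⟨(k : ℤ), ?_⟩
  rw [show x = ⟨g, hg⟩ ^ k * ⟨y, h.le hy⟩ from Subtype.ext e, QuotientGroup.mk_mul,
    (QuotientGroup.eq_one_iff (⟨y, h.le hy⟩ : H)).2 hy, mul_one, QuotientGroup.mk_pow]
  exact zpow_natCast _ _

theorem aq (h : Cq N H) : Aq N H := by
  refine ⟨h.toNq, fun x hx y hy => ?_⟩
  have := h.normal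
  have := h.isCyclic
  have h1 : ((⟨x, hx⟩ * ⟨y, hy⟩ * ⟨x, hx⟩⁻¹ * ⟨y, hy⟩⁻¹ : H) : H ⧸ N.subgroupOf H) = 1 := by
    obtain ⟨q, hq⟩ := IsCyclic.exists_generator (α := H ⧸ N.subgroupOf H)
    obtain ⟨i, hi⟩ := hq ((⟨x, hx⟩ : H) : H ⧸ N.subgroupOf H)
    obtain ⟨j, hj⟩ := hq ((⟨y, hy⟩ : H) : H ⧸ N.subgroupOf H)
    simp only [QuotientGroup.mk_mul, QuotientGroup.mk_inv, ← hi, ← hj]
    group
  exact (QuotientGroup.eq_one_iff (N := N.subgroupOf H) _).1 h1

variable [Finite A]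

theorem mono (h : Cq N H) (h1 : N ≤ K) (h2 : K ≤ H) : Cq N K := by
  refine ⟨h.toNq.mono h1 h2, ?_⟩
  have := h.normal
  have := h.isCyclic
  let φ := (QuotientGroup.mk' (N.subgroupOf H)).comp (inclusion h2)
  obtain ⟨⟨_, g, rfl⟩, hg⟩ := IsCyclic.exists_monoid_generator (α := φ.range)
  refine ⟨g, g.2, fun x hx => ?_⟩
  obtain ⟨k, hk⟩ := hg ⟨_, ⟨x, hx⟩, rfl⟩
  have h3 : φ (g ^ k) = φ ⟨x, hx⟩ := by
    rw [map_pow]
    exact congrArg Subtype.val hk
  exact ⟨k, ((g : A) ^ k)⁻¹ * x, (QuotientGroup.eq (s := N.subgroupOf H)).1 h3, by group⟩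

variable {χ : H → ℂ} {θ : N → ℂ}

/-- invariant characters extend -/
theorem ext (h : Cq N H) (hθ : IsIrrCharacter N θ) (hi : ∀ b ∈ H, Tr N b θ θ) :
    ∃ χ : H → ℂ, IsIrrCharacter H χ ∧ res N χ = θ := by
  have := h.normal
  obtain ⟨χ, h1, h2⟩ := S0886.result (N.subgroupOf H) h.isCyclic _
    ((irr_comp_iff (subgroupOfEquivOfLe h.le)).2 hθ) fun g n => hi g g.2 _ _ rfl
  refine ⟨χ, h1, funext fun x => ?_⟩
  rw [res_of_le h.le]
  exact h2 ((subgroupOfEquivOfLe h.le).symm x)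

/-- **the restriction is multiplicity free** -/
theorem mult (h : Cq N H) (hχ : IsIrrCharacter H χ) (hθ : IsIrrCharacter N θ) (e : ip (res N χ) θ ≠ 0) :
    ip (res N χ) θ = 1 := by
  have hc := isIrr_isClassFunction hθ
  have hN := h.le_stb hc
  obtain ⟨s, hs, h1⟩ := (h.mono hN (stb_le θ)).ext hθ fun b hb => hb.2.2
  obtain ⟨Φ, h2, h3, h4⟩ := exists_ind' (stb_le θ) (isIrr_isCharacter hs)
  obtain ⟨χ₀, h5, h6⟩ := exists_over' (stb_le θ) hs
  have h7 : ip (res N χ₀) θ ≠ 0 := by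
    have h8 := res_char (stb_le θ) (isIrr_isCharacter h5)
    obtain ⟨_, a, h9, h10⟩ := exists_dec h8
    choose m hm using fun ψ : IrrCharacter (Stb H N θ) => ip_nat (res_char hN (isIrr_isCharacter ψ.2))
      (isIrr_isCharacter hθ)
    have h11 : res N χ₀ = ∑ ψ : IrrCharacter (Stb H N θ), (a ψ : ℂ) • res N ψ.1 := by
      rw [← res_res hN, h9]
      funext x
      simp only [res_of_le hN, _root_.Finset.sum_apply, _root_.Pi.smul_apply, _root_.smul_eq_mul]
    rw [h11, ip_sum]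
    simp only [ip_smul, hm, ← Nat.cast_mul, ← Nat.cast_sum]
    rw [Nat.cast_ne_zero, Ne, Finset.sum_eq_zero_iff]
    intro h12
    rcases mul_eq_zero.1 (h12 ⟨s, hs⟩ (Finset.mem_univ _)) with h13 | h13
    · exact h6 (by rw [h10 ⟨s, hs⟩, h13, Nat.cast_zero])
    · have h14 := hm ⟨s, hs⟩
      rw [h1, ip_self hθ, h13, Nat.cast_zero] at h14
      exact one_ne_zero h14
  rw [h.aq.res_eq_res h5 hχ hθ h7 e]
  obtain ⟨m, hm⟩ := ip_nat (res_char h.le (isIrr_isCharacter h5)) (isIrr_isCharacter hθ)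
  have h0 : m ≠ 0 := fun h0 => h7 (by rw [hm, h0, Nat.cast_zero])
  obtain ⟨d, hd0, hd⟩ := isIrr_apply_one hθ
  have h8 := deg_le h2 h5 (m := m * ((Stb H N θ).relIndex H * d)) (n := (Stb H N θ).relIndex H * d)
    (by rwa [h4 χ₀ (isIrr_isClassFunction h5), ip_comm (isIrr_isCharacter hs) (res_char (stb_le θ) (isIrr_isCharacter h5))])
    (by rw [(h.deg h5 hθ hm h0).1, hd]; push_cast; ring) (by rw [h3, ← res_one (H := N) s, h1, hd, Nat.cast_mul])
  have h9 : 0 < (Stb H N θ).relIndex H * d := Nat.mul_pos (Nat.pos_of_ne_zero index_ne_zero_of_finite) hd0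
  have h10 : m = 1 := by
    have := Nat.le_of_mul_le_mul_right (h8.trans (one_mul _).ge) h9
    omega
  rw [hm, h10, Nat.cast_one]

/-- the number of constituents -/
theorem yc_eq (h : Cq N H) (hχ : IsIrrCharacter H χ) (hθ : IsIrrCharacter N θ) (e : ip (res N χ) θ ≠ 0) :
    yc N χ = (Stb H N θ).relIndex H := by
  have h1 := (h.toNq.deg hχ hθ (e := 1) (by rw [h.mult hχ hθ e, Nat.cast_one]) one_ne_zero).2
  rw [h.aq.ip_self hχ, one_pow, one_mul] at h1
  exact_mod_cast h1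

theorem yc_ne_zero (h : Cq N H) (hχ : IsIrrCharacter H χ) : yc N χ ≠ 0 := by
  obtain ⟨θ, h1, h2⟩ := exists_under h.le hχ
  rw [h.yc_eq hχ h1 h2]
  exact index_ne_zero_of_finite

/-- the degree -/
theorem deg (h : Cq N H) (hχ : IsIrrCharacter H χ) (hθ : IsIrrCharacter N θ) (e : ip (res N χ) θ ≠ 0) :
    charDegree χ = yc N χ * charDegree θ := by
  have h1 := (h.toNq.deg hχ hθ (e := 1) (by rw [h.mult hχ hθ e, Nat.cast_one]) one_ne_zero).1
  rw [Nat.cast_one, one_mul, ← h.yc_eq hχ hθ e, one_eq_deg (isIrr_isCharacter hθ), ← Nat.cast_mul] at h1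
  exact deg_eq h1

/-- **the Clifford correspondent** -/
theorem cc (h : Cq N H) (hχ : IsIrrCharacter H χ) (hθ : IsIrrCharacter N θ) (e : ip (res N χ) θ ≠ 0)
    (h1 : N ≤ T) (h2 : T ≤ Stb H N θ) : ∃ s, IsIrrCharacter T s ∧ ip (res T χ) s ≠ 0 ∧ res N s = θ ∧
      ∀ s', IsIrrCharacter T s' → ip (res T χ) s' ≠ 0 → ip (res N s') θ ≠ 0 → s' = s :=
  (h.toNq.mono h1 (h2.trans (stb_le θ))).one (res_char (h2.trans (stb_le θ)) (isIrr_isCharacter hχ)) hθ
    (by rw [res_res h1, h.mult hχ hθ e]) fun b hb => (h2 hb).2.2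

/-- **the inertia group** -/
theorem mem_stb (h : Cq N H) (hχ : IsIrrCharacter H χ) (hθ : IsIrrCharacter N θ) (e : ip (res N χ) θ ≠ 0) (t : H) :
    (t : A) ∈ Stb H N θ ↔ ∀ μ : H →* ℂˣ, Lin N μ → (∀ x, (μ x : ℂ) * χ x = χ x) → μ t = 1 := by
  have hN := h.le_stb (isIrr_isClassFunction hθ)
  have h1 : ∀ μ : H →* ℂˣ, Lin N μ → (∀ x, (μ x : ℂ) * χ x = χ x) → Lin (Stb H N θ) μ := by
    intro μ hμ hx t ht
    obtain ⟨s, h2, h3, h4, h5⟩ := h.cc hχ hθ e hN le_rfl
    have h6 : Lin N (μ.comp (inclusion (stb_le θ))) := fun x hx => hμ _ hx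
    have h7 := h5 _ (irr_lin (μ.comp (inclusion (stb_le θ))) h2) (by
      rwa [← funext hx, res_mul (stb_le θ), ip_lin]) (by rw [res_lin hN h6, h4, ip_self hθ]; exact one_ne_zero)
    exact DFunLike.congr_fun ((h.aq.mono hN (stb_le θ)).eq_one h2 (by rw [h4]; exact hθ) h6 (congrFun h7)) ⟨t, ht⟩
  refine ⟨fun ht μ hμ hx => h1 μ hμ hx t ht, fun ht => by_contra fun h2 => ?_⟩
  have h3 := h.aq.up hN (stb_le θ)
  obtain ⟨μ, h4, h5⟩ := h3.exists_lin h2
  have := h3.finite_lin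
  obtain ⟨ν, hν⟩ := ((Nat.bijective_iff_injective_and_card
    (fun ν : {μ : H →* ℂˣ // Lin N μ ∧ ∀ x, (μ x : ℂ) * χ x = χ x} =>
      (⟨ν.1, h1 ν.1 ν.2.1 ν.2.2⟩ : {μ : H →* ℂˣ // Lin (Stb H N θ) μ}))).2
    ⟨fun _ _ e => Subtype.ext (congrArg (fun z => z.1) e), (h.yc_eq hχ hθ e).trans h3.card_lin.symm⟩).2 ⟨μ, h4⟩
  have h6 : ν.1 = μ := congrArg Subtype.val hν
  exact h5 (h6 ▸ ht ν.1 ν.2.1 ν.2.2)

end Cq

end Cfsg.Agent.MO.TA
end

-- part: MO/TA/BoxS1
section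
/-!
# MO, types `A` and `²A`, box `S`: monomial matrices, valuations (helper67)

* `k1`, `k2` : a monomial matrix with a long cycle has many non-trivial eigenvalues, many distinct eigenvalues;
* `vz_pow`, `vz_PH` : the valuation of the order polynomial;
* `exists_root`, `exists_ord` : roots in a cyclic group.
-/

set_option autoImplicit false

namespace Cfsg.Agent.MO.TA.S

open Cfsg Subgroup Matrix Equiv Finset
open scoped MatrixGroups

section mat

variable {K ι : Type} [Field K] [Fintype ι] [DecidableEq ι]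

theorem pow_dg_pm (s : ι → Kˣ) (π : Perm ι) : ∀ k : ℕ, ∃ s', (dg s * pm π : GL ι K) ^ k = dg s' * pm (π ^ k)
  | 0 => ⟨1, by simp⟩
  | k + 1 => by
    obtain ⟨s', h⟩ := pow_dg_pm s π k
    exact ⟨_, by rw [pow_succ, h, mul_assoc, ← mul_assoc (pm _), pm_mul_dg, mul_assoc, ← map_mul, ← mul_assoc, ← map_mul,
      ← pow_succ]⟩

theorem eq_of_mul {g : GL ι K} {s s' : ι → Kˣ} (h : g * dg s = dg s' * g) {i j : ι} (hg : g.1 i j ≠ 0) : s' i = s j := by
  have h1 := congrArg (fun x : GL ι K => x.1 i j) h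
  simp only [mul_dg_apply, dg_mul_apply, mul_comm (g.1 i j)] at h1
  exact Units.ext (mul_right_cancel₀ hg h1).symm

theorem mul_of_eq {g : GL ι K} {s s' : ι → Kˣ} (h : ∀ i j, g.1 i j ≠ 0 → s' i = s j) : g * dg s = dg s' * g :=
  Units.ext (Matrix.ext fun i j => by
    rw [mul_dg_apply, dg_mul_apply, mul_comm]
    by_cases h1 : g.1 i j = 0
    · rw [h1, mul_zero, mul_zero]
    · rw [h i j h1])

theorem exists_ne (g : GL ι K) (i : ι) : ∃ j, g.1 i j ≠ 0 := by
  by_contra h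
  exact g.det_ne_zero (det_eq_zero_of_row_eq_zero i fun j => by_contra fun e => h ⟨j, e⟩)

theorem k1 {κ : Type} [Fintype κ] [DecidableEq κ] {J : κ → ι} (hJ : Function.Injective J) {π : Perm ι}
    (h1 : ∀ a b, π (J a) ≠ J b) (h2 : ∀ a b, π (π (J a)) ≠ J b) {s₀ s : ι → Kˣ} {g : GL ι K}
    (h : dg s₀ * pm π = g * dg s * g⁻¹) {Y : Finset ι} (hY : ∀ i, s i ≠ 1 → i ∈ Y) : 2 * Fintype.card κ ≤ #Y := by
  have h0 := dg_pm_apply s₀ π
  have h3 : ((dg s₀ * pm π : GL ι K).1 - 1).submatrix (Sum.elim (fun a => π (J a)) fun a => π (π (J a)))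
      (Sum.elim J fun a => π (J a)) =
      fromBlocks (diagonal fun a => (s₀ (π (J a)) : K)) (-1) 0 (diagonal fun a => (s₀ (π (π (J a))) : K)) := by
    generalize (dg s₀ * pm π : GL ι K).1 = x at h0
    ext (a | a) (b | b) <;> simp [h0, one_apply, diagonal_apply, hJ.eq_iff, h1, h2, (h1 _ _).symm]
  have h4 : (dg s₀ * pm π : GL ι K).1 - 1 = g.1 * diagonal (fun i => (s i : K) - 1) * (g⁻¹).1 := by
    rw [← diagonal_sub, diagonal_one, Matrix.mul_sub, Matrix.sub_mul, Matrix.mul_one, Units.mul_inv, h]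
    rfl
  have h5 := rank_submatrix_le ((dg s₀ * pm π : GL ι K).1 - 1) (Sum.elim (fun a => π (J a)) fun a => π (π (J a)))
    (Sum.elim J fun a => π (J a))
  rw [h3, rank_of_det_ne_zero (by simp only [det_fromBlocks_zero₂₁, prod_ne_zero_iff, _root_.Matrix.det_diagonal, _root_.ne_eq, _root_.mul_eq_zero, _root_.not_or, _root_.Finset.mem_univ, _root_.Units.ne_zero, _root_.not_false_eq_true, _root_.imp_self, _root_.implies_true, _root_.and_self]), Fintype.card_sum, ← two_mul, h4] at h5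
  refine h5.trans ((rank_mul_le_left _ _).trans ((rank_mul_le_right _ _).trans
    (rank_le_card_of_support_subset _ _ fun i hi => hY i fun e => hi (funext fun j => ?_))))
  simp [row, diagonal_apply, e]

theorem k2 {l : ℕ} {π : Perm ι} {u : ι} (hu : Function.Injective fun k : Fin l => (π ^ (k : ℕ)) u) {s₀ s : ι → Kˣ}
    {g : GL ι K} (h : dg s₀ * pm π = g * dg s * g⁻¹) {Y : Finset Kˣ} (hY : ∀ i, s i ∈ Y) : l ≤ #Y := by
  classical
  choose t ht using pow_dg_pm s₀ π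
  let A : Matrix (Fin l) Y K := fun m y => ∑ i, if s i = y then g.1 ((π ^ (m : ℕ)) u) i * (g⁻¹).1 i u else 0
  let B : Matrix Y (Fin l) K := fun y k => (y.1 : K) ^ (k : ℕ)
  have h3 : A * B = diagonal fun m : Fin l => (t m ((π ^ (m : ℕ)) u) : K) := by
    ext m k
    have h4 := dg_pm_apply (t k) (π ^ (k : ℕ)) ((π ^ (m : ℕ)) u) u
    rw [← ht, h, conj_pow, ← map_pow] at h4
    replace h4 : (g.1 * (dg (s ^ (k : ℕ))).1 * (g⁻¹).1) _ _ = _ := h4
    rw [Matrix.mul_apply] at h4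
    simp only [dg_val, mul_diagonal] at h4
    have h5 : (A * B) m k = ∑ i, g.1 ((π ^ (m : ℕ)) u) i * ((s ^ (k : ℕ)) i : K) * (g⁻¹).1 i u := by
      rw [Matrix.mul_apply]
      simp only [A, B, sum_mul]
      rw [sum_comm]
      refine sum_congr rfl fun i _ => ?_
      rw [sum_eq_single ⟨s i, hY i⟩ (fun y _ hy => by rw [if_neg fun e => hy (Subtype.ext e.symm), zero_mul]) (by simp only [_root_.Finset.univ_eq_attach, _root_.Finset.mem_attach, _root_.not_true_eq_false, ↓ _root_.reduceIte, _root_.Matrix.coe_units_inv, _root_.mul_eq_zero, _root_.pow_eq_zero_iff', _root_.Units.ne_zero, _root_.ne_eq, _root_.false_and, _root_.or_false, _root_.IsEmpty.forall_iff]),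
        if_pos rfl, Pi.pow_apply, Units.val_pow_eq_pow_val]
      ring
    rw [h5, h4, diagonal_apply]
    by_cases e : m = k
    · rw [e, if_pos rfl, if_pos rfl]
    · rw [if_neg e, if_neg fun e1 => e (hu e1)]
  have h4 := (rank_mul_le_left A B).trans (rank_le_card_width A)
  rwa [h3, rank_of_det_ne_zero (by simp only [prod_ne_zero_iff, _root_.Matrix.det_diagonal, _root_.ne_eq, _root_.Finset.mem_univ, _root_.Units.ne_zero, _root_.not_false_eq_true, _root_.imp_self, _root_.implies_true]), Fintype.card_fin, Fintype.card_coe] at h4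

end mat

theorem inj_pow {α : Type} {l m : ℕ} (hl : l.Prime) {σ : Perm α} (h : σ ^ l ^ m = 1) {i : α} (hi : σ i ≠ i) :
    Function.Injective fun k : Fin l => (σ ^ (k : ℕ)) i := fun a b e => by
  have h1 : Function.IsPeriodicPt σ (l ^ m) i := by
    rw [Function.IsPeriodicPt, Function.IsFixedPt, ← Perm.coe_pow, h, Perm.one_apply]
  obtain ⟨k, -, h2⟩ := (Nat.dvd_prime_pow hl).1 h1.minimalPeriod_dvd
  have h3 : l ≤ Function.minimalPeriod σ i := by
    rcases k with _ | k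
    · exact absurd (Function.minimalPeriod_eq_one_iff_isFixedPt.1 h2) hi
    · exact h2 ▸ Nat.le_self_pow k.succ_ne_zero l
  exact Fin.ext (Function.iterate_injOn_Iio_minimalPeriod (a.2.trans_le h3) (b.2.trans_le h3)
    (by simpa only [Perm.coe_pow] using e))

section val

variable {l d : ℕ} {Q : ℤ}

theorem vz_eq (hl : l.Prime) {z : ℤ} (hz : z ≠ 0) : (vz l z : ℕ∞) = emultiplicity (l : ℤ) z := by
  have : Fact l.Prime := ⟨hl⟩
  rw [vz, Nat.factorization_def _ hl, padicValNat_eq_emultiplicity (Int.natAbs_ne_zero.2 hz), Int.emultiplicity_natAbs]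

theorem vz_mul {y z : ℤ} (hy : y ≠ 0) (hz : z ≠ 0) : vz l (y * z) = vz l y + vz l z := by
  rw [vz, Int.natAbs_mul, Nat.factorization_mul (Int.natAbs_ne_zero.2 hy) (Int.natAbs_ne_zero.2 hz)]
  rfl

theorem pow_ne (hQ : 2 ≤ |Q|) {k : ℕ} (hk : k ≠ 0) : Q ^ k - 1 ≠ 0 := fun h => by
  have h1 : |Q| ^ k = 1 := by rw [← abs_pow, sub_eq_zero.1 h, abs_one]
  exact (one_lt_pow₀ (by omega : 1 < |Q|) hk).ne' h1

theorem dvd_iff (hd : orderOf (Q : ZMod l) = d) (k : ℕ) : (l : ℤ) ∣ Q ^ k - 1 ↔ d ∣ k := by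
  rw [← hd, orderOf_dvd_iff_pow_eq_one, ← ZMod.intCast_zmod_eq_zero_iff_dvd]
  push_cast
  exact sub_eq_zero

theorem vz_pow (hl : l.Prime) (h2 : l ≠ 2) (hQ : 2 ≤ |Q|) (hd : orderOf (Q : ZMod l) = d) (h0 : d ≠ 0) {k : ℕ}
    (hk : k ≠ 0) : vz l (Q ^ (d * k) - 1) = vz l (Q ^ d - 1) + k.factorization l := by
  have : Fact l.Prime := ⟨hl⟩
  have h1 := (dvd_iff hd d).2 dvd_rfl
  have h3 := Int.emultiplicity_pow_sub_pow hl (hl.odd_of_ne_two h2) h1
    (fun h => (Nat.prime_iff_prime_int.1 hl).not_dvd_one (by simpa only [_root_.sub_sub_cancel] using dvd_sub h h1)) k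
  rw [one_pow, ← pow_mul, ← vz_eq hl (pow_ne hQ (mul_ne_zero h0 hk)), ← vz_eq hl (pow_ne hQ h0),
    ← padicValNat_eq_emultiplicity hk, ← Nat.factorization_def _ hl] at h3
  exact_mod_cast h3

theorem PH_ne (hQ : 2 ≤ |Q|) (n : ℕ) : PH Q n ≠ 0 := prod_ne_zero_iff.2 fun i _ => pow_ne hQ i.succ_ne_zero

theorem vz_PH (hl : l.Prime) (h2 : l ≠ 2) (hQ : 2 ≤ |Q|) (hd : orderOf (Q : ZMod l) = d) (h0 : d ≠ 0) :
    ∀ n, vz l (PH Q n) = vz l (Q ^ d - 1) * (n / d) + (n / d).factorial.factorization l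
  | 0 => by simp only [PH, vz, _root_.Finset.range_zero, _root_.Finset.prod_empty, _root_.isUnit_one, _root_.Int.natAbs_of_isUnit, _root_.Nat.factorization_one, _root_.Finsupp.coe_zero, _root_.Pi.zero_apply, _root_.Nat.zero_div, _root_.MulZeroClass.mul_zero, _root_.Nat.factorial_zero, _root_.add_zero]
  | n + 1 => by
    rw [PH, prod_range_succ, ← PH, vz_mul (PH_ne hQ n) (pow_ne hQ n.add_one_ne_zero), vz_PH hl h2 hQ hd h0 n,
      Nat.succ_div]
    split_ifs with h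
    · have h1 : n + 1 = d * (n / d + 1) := by
        have h3 := Nat.succ_div (a := n) (b := d)
        rw [if_pos h] at h3
        rw [← h3, Nat.mul_div_cancel' h]
      rw [Nat.factorial_succ, Nat.factorization_mul (Nat.add_one_ne_zero _) (Nat.factorial_ne_zero _), Finsupp.add_apply,
        h1, vz_pow hl h2 hQ hd h0 (Nat.add_one_ne_zero _)]
      ring
    · rw [show vz l (Q ^ (n + 1) - 1) = 0 from
        Nat.factorization_eq_zero_of_not_dvd fun e => h ((dvd_iff hd _).1 (Int.natCast_dvd.2 e))]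
      rfl

end val

section cyc

variable {C : Type} [CommGroup C] [Finite C] [IsCyclic C]

theorem exists_ord {k : ℕ} (h : k ∣ Nat.card C) : ∃ z : C, orderOf z = k := by
  obtain ⟨ζ, hζ⟩ := IsCyclic.exists_ofOrder_eq_natCard (α := C)
  exact ⟨_, orderOf_pow_orderOf_div (hζ ▸ Nat.card_pos.ne') (hζ ▸ h)⟩

omit [Finite C] in
theorem exists_root {a b : ℤ} (ha : a ≠ 0) (h : b * a ∣ Nat.card C) {x : C} (hx : x ^ a = 1) : ∃ y : C, y ^ b = x := by
  obtain ⟨ζ, hζ⟩ := IsCyclic.exists_generator (α := C)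
  obtain ⟨k, rfl⟩ := hζ x
  rw [← _root_.zpow_mul, ← orderOf_dvd_iff_zpow_eq_one, orderOf_eq_card_of_forall_mem_zpowers hζ] at hx
  obtain ⟨m, rfl⟩ := (mul_dvd_mul_iff_right ha).1 (h.trans hx)
  exact ⟨ζ ^ m, by rw [← _root_.zpow_mul, mul_comm]⟩

end cyc

/-- separating elements of the split torus -/
theorem sep_one {C : Type} [CommGroup C] {l a w : ℕ} (hl : l.Prime) (h2 : l ≠ 2) {y z : C} (hy : orderOf y = l)
    (hyz : y ∈ zpowers z) (hz : orderOf z = l ^ a) (ha : a ≠ 0) (hx : ¬ (l = 3 ∧ w = 3 ∧ a = 1)) {i i' : Fin w}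
    (hi : i ≠ i') : ∃ t : Fin w → C, (∀ k, t k ∈ zpowers z) ∧ ∏ k, t k = 1 ∧ t i ≠ t i' ∧
      ∃ Y : Finset C, #Y < l ∧ ∀ k, t k ∈ Y := by
  classical
  have h3 : 2 < l := hl.two_le.lt_of_ne' h2
  have two : ∀ (I : Finset (Fin w)) (u x : C), i ∈ I → i' ∉ I → u ∈ zpowers z → x ∈ zpowers z → u ≠ 1 →
      u ^ #I * x ^ w = 1 → ∃ t : Fin w → C, (∀ k, t k ∈ zpowers z) ∧ ∏ k, t k = 1 ∧ t i ≠ t i' ∧
      ∃ Y : Finset C, #Y < l ∧ ∀ k, t k ∈ Y := fun I u x h4 h5 h6 h7 h8 h9 =>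
    ⟨fun k => (if k ∈ I then u else 1) * x, fun k => mul_mem (by split_ifs; exacts [h6, one_mem _]) h7,
      by rw [prod_mul_distrib]; simpa only [_root_.Finset.prod_ite_mem, _root_.Finset.univ_inter, _root_.Finset.prod_const, _root_.Finset.card_univ, _root_.Fintype.card_fin] using h9, by simpa [h4, h5] using h8, {u * x, x}, card_le_two.trans_lt h3,
      fun k => by by_cases e : k ∈ I <;> simp [e]⟩
  have h4 : y ≠ 1 := fun e => hl.one_lt.ne (by rw [← hy, e, orderOf_one])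
  by_cases h5 : l = 3
  · subst h5
    by_cases h6 : 3 < w
    · obtain ⟨I, k1, k2, k3⟩ := exists_subsuperset_card_eq (s := {i}) (t := univ.erase i') (n := 3) (by simpa only [_root_.Finset.singleton_subset_iff, _root_.Finset.mem_erase, _root_.ne_eq, _root_.Finset.mem_univ, _root_.and_true] using hi)
        (by simp) (by simp only [_root_.Finset.mem_univ, _root_.Finset.card_erase_of_mem, _root_.Finset.card_univ, _root_.Fintype.card_fin]; omega)
      exact two I y 1 (k1 (mem_singleton_self i)) (fun e => by simpa only [_root_.Finset.mem_erase, _root_.ne_eq, _root_.not_true_eq_false, _root_.Finset.mem_univ, _root_.and_true] using k2 e) hyz (one_mem _) h4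
        (by rw [k3, ← hy, pow_orderOf_eq_one, one_pow, one_mul])
    · refine two {i} (z ^ w)⁻¹ z (mem_singleton_self i) (by simpa using hi.symm) (inv_mem (npow_mem_zpowers z w))
        (mem_zpowers z) (fun e => hx ?_) (by simp)
      have h7 := Nat.le_of_dvd i.pos (hz ▸ orderOf_dvd_of_pow_eq_one (inv_eq_one.1 e))
      have h8 : a < 2 := (Nat.pow_lt_pow_iff_right (by decide : 1 < 3)).1 (by omega)
      obtain rfl : a = 1 := by omega
      omega
  · refine ⟨Pi.mulSingle i y * Pi.mulSingle i' y⁻¹, fun k => ?_, by simp only [prod_mul_distrib, _root_.Pi.mul_apply, _root_.Finset.prod_pi_mulSingle', _root_.Finset.mem_univ, ↓ _root_.reduceIte, _root_.mul_inv_cancel], ?_, {y, y⁻¹, 1},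
      card_le_three.trans_lt (by omega), fun k => ?_⟩
    · simp only [Pi.mul_apply, Pi.mulSingle_apply]
      exact mul_mem (by split_ifs; exacts [hyz, one_mem _]) (by split_ifs; exacts [inv_mem hyz, one_mem _])
    · simp only [Pi.mul_apply, Pi.mulSingle_eq_same, Pi.mulSingle_eq_of_ne hi, Pi.mulSingle_eq_of_ne hi.symm, mul_one,
        one_mul, Ne, eq_inv_iff_mul_eq_one, ← sq]
      exact fun e => (Nat.le_of_dvd two_pos (hy ▸ orderOf_dvd_of_pow_eq_one e)).not_gt h3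
    · by_cases e : k = i
      · simp [e, hi]
      · by_cases e' : k = i' <;> simp [e, e', hi.symm]

section grp

variable {A : Type} [Group A]

theorem not_comm (h : IsQuasisimple A) : ¬ ∀ a b : A, a * b = b * a := fun e => by
  obtain ⟨x, y, h1⟩ := h.2.toNontrivial
  obtain ⟨x, rfl⟩ := QuotientGroup.mk_surjective x
  obtain ⟨y, rfl⟩ := QuotientGroup.mk_surjective y
  exact h1 (QuotientGroup.eq.2 (mem_center_iff.2 fun g => e _ _))

theorem le_center (h : IsQuasisimple A) (N : Subgroup A) [hN : N.Normal] (hc : ∀ a ∈ N, ∀ b ∈ N, a * b = b * a) :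
    N ≤ center A := by
  have := h.2
  rcases (hN.map _ (QuotientGroup.mk'_surjective (center A))).eq_bot_or_eq_top with e | e
  · rwa [Subgroup.map_eq_bot_iff, QuotientGroup.ker_mk'] at e
  · have k : ∀ a : A, ∃ n ∈ N, ∃ z ∈ center A, a = n * z := fun a => by
      obtain ⟨n, h1, h2⟩ := (e ▸ mem_top _ : (a : A ⧸ center A) ∈ N.map (QuotientGroup.mk' (center A)))
      exact ⟨n, h1, _, QuotientGroup.eq.1 h2, (mul_inv_cancel_left n a).symm⟩
    refine absurd (fun a b => ?_) (not_comm h)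
    obtain ⟨n, h1, z, h2, rfl⟩ := k a
    obtain ⟨n', h3, z', h4, rfl⟩ := k b
    rw [mul_assoc, ← mem_center_iff.1 h2, ← mul_assoc, ← mul_assoc, hc n h1 n' h3, mul_assoc n' n, mem_center_iff.1 h4 n]
    simp only [mul_assoc]

variable [Finite A] {l : ℕ} {H G T : Subgroup A}

theorem nd_rel (hl : l.Prime) (h : H ≤ T) (e : (Nat.card T).factorization l ≤ (Nat.card H).factorization l) :
    ¬ l ∣ H.relIndex T := fun h1 => by
  have h2 := (H.subgroupOf T).card_mul_index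
  have h3 : H.relIndex T ≠ 0 := index_ne_zero_of_finite
  rw [Nat.card_congr (subgroupOfEquivOfLe h).toEquiv, ← relIndex] at h2
  rw [← h2, Nat.factorization_mul Nat.card_pos.ne' h3, Finsupp.add_apply] at e
  have := hl.factorization_pos_of_dvd h3 h1
  omega

theorem rel_dvd (hH : H ≤ T) (hG : G ≤ T) [(G.subgroupOf T).Normal] : (H ⊓ G).relIndex G ∣ H.relIndex T := by
  obtain ⟨m, h1⟩ := relIndex_dvd_index_of_normal (G.subgroupOf T) (H.subgroupOf T)
  have h2 := (relIndex_mul_relIndex (H ⊓ G) G T inf_le_right hG).trans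
    (relIndex_mul_relIndex (H ⊓ G) H T inf_le_left hH).symm
  rw [relIndex_subgroupOf hH, ← relIndex] at h1
  rw [h1, inf_relIndex_left, mul_left_comm] at h2
  exact ⟨m, (Nat.eq_of_mul_eq_mul_left (Nat.pos_of_ne_zero index_ne_zero_of_finite) h2).symm⟩

theorem exists_syl [Fact l.Prime] {D : Subgroup A} (hD : IsPGroup l D) (hH : H ≤ G) (hi : ¬ l ∣ H.relIndex G) :
    ∃ P : Subgroup A, P ≤ H ∧ D ⊓ H ≤ P ∧ IsPGroup l P ∧ ¬ l ∣ P.relIndex G := by
  obtain ⟨S, hS⟩ := (hD.comap_subtype (K := H)).exists_le_sylow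
  refine ⟨(S : Subgroup H).map H.subtype, map_subtype_le _, fun x hx => ⟨⟨x, hx.2⟩, hS hx.1, rfl⟩, S.isPGroup'.map _, ?_⟩
  rw [← relIndex_mul_relIndex _ H G (map_subtype_le _) hH, (Fact.out : l.Prime).dvd_mul, relIndex, subgroupOf,
    comap_map_eq_self_of_injective H.subtype_injective]
  exact fun e => e.elim S.not_dvd_index hi

end grp

end Cfsg.Agent.MO.TA.S
end

-- part: MO/TA/BoxS
section
/-!
# MO, types `A` and `²A`, box `S`: the normaliser of a Sylow subgroup (helper67)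

* `norm_of_rel`, `norm_mono`, `rel_of_sep` : the normaliser of `Dt`;
* `tt`, `pp`, `rho` : the torus and the block permutations; `Cd` : few non-trivial or few distinct eigenvalues;
* `boxS_of : BoxF → BoxS`, `boxS : BoxS`.
-/

set_option autoImplicit false

namespace Cfsg.Agent.MO.TA

open Cfsg Subgroup Matrix Equiv Finset
open SemidirectProduct (inl inr)
open scoped MatrixGroups

namespace S

variable (c : D0) {d w r : ℕ} [NeZero d]

theorem mem_Dt {x : c.AA (Ix d w r)} : x ∈ c.Dt d w r ↔ ∃ t, (∀ k, t (.inr k) = 1) ∧ inl (dg t) = x :=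
  exists_congr fun _ => and_congr_left fun _ => ⟨fun h k => h _ ⟨k, rfl⟩, fun h _ ⟨k, e⟩ => e ▸ h k⟩

/-- the same coordinate, or both in the rest -/
def Rl (i j : Ix d w r) : Prop := i = j ∨ (∃ k, i = .inr k) ∧ ∃ k, j = .inr k

theorem norm_of_rel {b : c.AA (Ix d w r)} (h : ∀ i j j', b.left.1 i j ≠ 0 → b.left.1 i j' ≠ 0 → Rl j j')
    (h' : ∀ k j, b.left.1 (.inr k) j ≠ 0 → Rl j (.inr k)) : b ∈ normalizer (c.Dt d w r : Set (c.AA (Ix d w r))) := by
  refine mem_normalizer_fintype fun x hx => ?_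
  obtain ⟨t, h1, rfl⟩ := (mem_Dt c).1 hx
  choose f hf using exists_ne b.left
  have h2 : ∀ i j, Rl i j → t i = t j := by
    rintro _ _ (rfl | ⟨⟨k, rfl⟩, k', rfl⟩)
    · rfl
    · rw [h1, h1]
  refine (mem_Dt c).2 ⟨fun i => c.ue b.right (t (f i)), fun k =>
    (c.ue_eq_one _).2 ((h2 _ _ (h' k _ (hf _))).trans (h1 k)), ?_⟩
  rw [c.conj_inl, c.act_dg, mul_of_eq fun i j e => congrArg (c.ue b.right) (h2 _ _ (h i _ j (hf i) e)),
    mul_inv_cancel_right]

theorem norm_mono {b : c.AA (Ix d w r)} {s : Ix d w r → c.Kˣ} {π : Perm (Ix d w r)} (hb : b.left = dg s * pm π)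
    (hπ : ∀ k, π (.inr k) = .inr k) : b ∈ normalizer (c.Dt d w r : Set (c.AA (Ix d w r))) := by
  have h : ∀ i j, b.left.1 i j ≠ 0 → i = π j := fun i j e => by_contra fun e1 => e (by rw [hb, dg_pm_apply, if_neg e1])
  exact norm_of_rel c (fun i j j' h1 h2 => Or.inl (π.injective ((h i j h1).symm.trans (h i j' h2))))
    fun k j h1 => Or.inl (π.injective ((h _ j h1).symm.trans (hπ k).symm))

omit [NeZero d] in
theorem rel_of_sep {C : Type} {Sp : (Ix d w r → C) → Prop} (h : ∀ u j, .inl u ≠ j → ∃ s, Sp s ∧ s (.inl u) ≠ s j)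
    {i j : Ix d w r} (e : ∀ s, Sp s → s i = s j) : Rl i j := by
  by_contra h1
  rcases i with u | k
  · obtain ⟨s, h2, h3⟩ := h u j fun e => h1 (Or.inl e)
    exact h3 (e s h2)
  · rcases j with u | k'
    · obtain ⟨s, h2, h3⟩ := h u (.inr k) Sum.inl_ne_inr
      exact h3 (e s h2).symm
    · exact h1 (Or.inr ⟨⟨k, rfl⟩, k', rfl⟩)

variable (d r) in
/-- the coordinates of the torus -/
def tt (t : Fin w → c.Kˣ) : Ix d w r → c.Kˣ := Sum.elim (fun x => t x.1 ^ c.Q ^ x.2.val) fun _ => 1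

variable (d r) in
/-- the permutations of the blocks -/
def pp : Perm (Fin w) →* Perm (Ix d w r) :=
  MonoidHom.mk' (fun σ => Equiv.sumCongr (Equiv.prodCongr σ (Equiv.refl _)) (Equiv.refl _)) fun _ _ =>
    Equiv.ext fun x => by rcases x with x | x <;> rfl

variable (d r) in
/-- the wreath product -/
def rho : W.Wr c.Kˣ (Fin w) →* c.AA (Ix d w r) :=
  MonoidHom.mk' (fun x => inl (dg (tt c d r x.left) * pm (pp d r x.right))) fun x y => by
    rw [← map_mul, mul_assoc, ← mul_assoc (pm _), pm_mul_dg, mul_assoc, ← map_mul, ← map_mul, ← mul_assoc, ← map_mul]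
    refine congrArg (fun s => inl (dg s * _)) (funext fun i => ?_)
    rcases i with i | i
    · exact mul_zpow _ _ _
    · exact (mul_one _).symm

theorem rho_inl (t : Fin w → c.Kˣ) : rho c d r (inl t) = inl (dg (tt c d r t)) :=
  congrArg inl ((congrArg _ ((congrArg pm (map_one _)).trans (map_one _))).trans (mul_one _))

theorem rho_inj : Function.Injective (rho c d r : W.Wr c.Kˣ (Fin w) → _) := by
  refine (injective_iff_map_eq_one _).2 fun x h => ?_
  have h1 : ∀ i, _ := fun i => (dg_pm_apply _ _ i i).symm.trans (congrArg (fun a : c.AA (Ix d w r) => a.left.1 i i) h)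
  have h2 : ∀ i, Sum.inl (i, 0) = pp d r x.right (.inl (i, 0)) ∧ x.left i = 1 := fun i => by
    have h3 := h1 (.inl (i, 0))
    split_ifs at h3 with e
    · exact ⟨e, Units.ext (by simpa [tt] using h3)⟩
    · simp at h3
  exact SemidirectProduct.ext (funext fun i => (h2 i).2)
    (Equiv.ext fun i => (congrArg Prod.fst (Sum.inl_injective (h2 i).1)).symm)

omit [NeZero d] in
theorem pow_mod {y : c.Kˣ} (h : y ^ c.Q ^ d = y) (n : ℕ) : y ^ c.Q ^ (n % d) = y ^ c.Q ^ n := by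
  have h1 : ∀ k, y ^ c.Q ^ (d * k) = y := fun k => by
    induction k with
    | zero => simp
    | succ k ih => rw [Nat.mul_succ, pow_add, _root_.zpow_mul, ih, h]
  conv_rhs => rw [← Nat.div_add_mod n d, pow_add, _root_.zpow_mul, h1]

theorem rho_mem {x : W.Wr c.Kˣ (Fin w)} (h : ∀ i, x.left i ^ c.Q ^ d = x.left i) :
    rho c d r x ∈ c.Gt (c.vd d w r) ⊓ c.Cl d w r := by
  have h1 : rho c d r x ∈ c.Gt (c.vd d w r) := by
    refine c.inl_mem_Gt.2 ?_
    rw [map_mul, c.act_dg, c.act_pm, D0.vd, mul_assoc, ← mul_assoc (pm _), pm_mul_dg, mul_assoc, ← map_mul, ← mul_assoc,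
      ← map_mul, mul_assoc, ← mul_assoc (pm _), pm_mul_dg, mul_assoc, ← map_mul, ← mul_assoc, ← map_mul, mul_comm]
    refine congrArg₂ (fun s π => dg s * pm π) (funext fun i => ?_) (Equiv.ext fun i => by rcases i with i | i <;> rfl)
    rcases i with ⟨i, a⟩ | i
    · refine congrArg₂ (fun x y : c.Kˣ => x * y) ?_ rfl
      change c.ue c.F (x.left i ^ c.Q ^ (a + -1).val) = x.left i ^ c.Q ^ a.val
      rw [c.ue_F, ← _root_.zpow_mul, ← pow_succ, ← pow_mod c (h i), ← ZMod.val_natCast]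
      simp
    · exact congrArg₂ (fun x y : c.Kˣ => x * y) (c.ue_one _) rfl
  exact ⟨h1, h1.1, norm_mono c rfl fun _ => rfl⟩

theorem prod_tt (t : Fin w → c.Kˣ) : ∏ i, tt c d r t i = (∏ i, t i) ^ ∑ a ∈ range d, c.Q ^ a := by
  obtain ⟨d, rfl⟩ := Nat.exists_eq_succ_of_ne_zero (NeZero.ne d)
  have h : ∀ (y : c.Kˣ) (n : ℕ), y ^ ∑ a ∈ range n, c.Q ^ a = ∏ a ∈ range n, y ^ c.Q ^ a := fun y n => by
    induction n with
    | zero => simp
    | succ n ih => rw [sum_range_succ, prod_range_succ, _root_.zpow_add, ih]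
  rw [Fintype.prod_sum_type, Fintype.prod_prod_type_right, h, ← Fin.prod_univ_eq_prod_range]
  simp only [tt, Sum.elim_inl, Sum.elim_inr, prod_const_one, mul_one, prod_zpow]
  rfl

variable (d) in
/-- few non-trivial or few distinct eigenvalues -/
def Cd {ι C : Type} [One C] (l : ℕ) (s : ι → C) : Prop :=
  (∃ Y : Finset ι, #Y < 2 * d ∧ ∀ i, s i ≠ 1 → i ∈ Y) ∨ ∃ Y : Finset C, #Y < l ∧ ∀ i, s i ∈ Y

omit [NeZero d] in
theorem Cd.map {ι C : Type} [One C] {l : ℕ} {s : ι → C} (h : Cd d l s) {f : C → C} (hf : f 1 = 1) :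
    Cd d l fun i => f (s i) := by
  classical
  exact h.imp (Exists.imp fun _ h => ⟨h.1, fun i e => h.2 i fun e1 => e ((congrArg f e1).trans hf)⟩)
    fun ⟨Y, h1, h2⟩ => ⟨Y.image f, card_image_le.trans_lt h1, fun i => mem_image_of_mem f (h2 i)⟩

theorem right_eq {l m : ℕ} (hl : l.Prime) (h2 : l ≠ 2) {x : W.Wr c.Kˣ (Fin w)} (hx : x ^ l ^ m = 1)
    {s : Ix d w r → c.Kˣ} (hs : Cd d l s) {g : GL (Ix d w r) c.K} (h : (rho c d r x).left = g * dg s * g⁻¹) :
    x.right = 1 := by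
  refine Equiv.ext fun i => by_contra fun hi => ?_
  have h1 : x.right ^ l ^ m = 1 := by
    rw [← SemidirectProduct.rightHom_eq_right, ← map_pow, hx, map_one]
  rcases hs with ⟨Y, h3, h4⟩ | ⟨Y, h3, h4⟩
  · have h5 := k1 (J := fun a : ZMod d => (.inl (i, a) : Ix d w r)) (fun _ _ e => congrArg Prod.snd (Sum.inl_injective e))
      (fun a b e => hi (congrArg Prod.fst (Sum.inl_injective e))) (fun a b e => ?_) h h4
    · rw [ZMod.card] at h5
      omega
    · have h6 : 2 < l := hl.two_le.lt_of_ne' h2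
      exact absurd (congrArg Fin.val (inj_pow hl h1 hi (a₁ := ⟨2, h6⟩) (a₂ := ⟨0, hl.pos⟩)
        (congrArg Prod.fst (Sum.inl_injective e)))) two_ne_zero
  · exact h3.not_ge (k2 (inj_pow hl (m := m) (by rw [← map_pow, h1, map_one]) (i := .inl (i, 0))
      fun e => hi (congrArg Prod.fst (Sum.inl_injective e))) h h4)

theorem sep {l a : ℕ} (hl : l.Prime) (h2 : l ≠ 2) (hd : orderOf (c.Q : ZMod l) = d) (hr : r < d) {z : c.Kˣ}
    (hz : orderOf z = l ^ a) (ha : a ≠ 0) (hx : ¬ (l = 3 ∧ d = 1 ∧ w = 3 ∧ a = 1)) (u : Fin w × ZMod d) (j : Ix d w r)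
    (hj : .inl u ≠ j) : ∃ s, (∃ t, (∀ k, t k ∈ zpowers z) ∧ tt c d r t = s ∧ ∏ i, s i = 1 ∧ Cd d l s) ∧
      s (.inl u) ≠ s j := by
  have : Fact l.Prime := ⟨hl⟩
  obtain ⟨⟨y, hy⟩, h1⟩ := exists_prime_orderOf_dvd_card' (G := zpowers z) l
    (by rw [Nat.card_zpowers, hz]; exact dvd_pow_self l ha)
  rw [← orderOf_coe] at h1
  replace h1 : orderOf y = l := h1
  obtain ⟨i, b⟩ := u
  rcases (Nat.one_le_iff_ne_zero.2 (NeZero.ne d)).eq_or_lt with rfl | h3
  · obtain rfl : r = 0 := by omega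
    obtain ⟨i', b'⟩ | k := j
    · obtain ⟨t, k1, k2, k3, Y, k4, k5⟩ := sep_one hl h2 h1 hy hz ha (fun e => hx ⟨e.1, rfl, e.2⟩) (i := i) (i' := i')
        fun e => hj (by rw [e, Subsingleton.elim b b'])
      have h4 : ∀ x, tt c 1 0 t (.inl x) = t x.1 := fun x => by simp [tt, Subsingleton.elim x.2 0]
      refine ⟨_, ⟨t, k1, rfl, by rw [prod_tt, k2, _root_.one_zpow], Or.inr ⟨Y, k4, ?_⟩⟩, by rwa [h4, h4]⟩
      rintro (x | x)
      · exact h4 x ▸ k5 _
      · exact x.elim0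
    · exact k.elim0
  · have h4 : ∀ k : ℤ, y ^ k = 1 ↔ (k : ZMod l) = 0 := fun k => by
      rw [← orderOf_dvd_iff_zpow_eq_one, h1, ZMod.intCast_zmod_eq_zero_iff_dvd]
    have h5 : IsOfFinOrder (c.Q : ZMod l) := orderOf_pos_iff.1 (by omega)
    have h6 : y ^ c.Q ^ b.val ≠ 1 := fun e => (h5.isUnit.pow b.val).ne_zero (by exact_mod_cast (h4 _).1 e)
    refine ⟨_, ⟨Pi.mulSingle i y, fun k => ?_, rfl, ?_, Or.inl ⟨univ.image fun a => .inl (i, a), ?_, ?_⟩⟩, ?_⟩
    · rw [Pi.mulSingle_apply]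
      split_ifs
      exacts [hy, one_mem _]
    · rw [prod_tt, Fintype.prod_pi_mulSingle', h4, ZMod.intCast_zmod_eq_zero_iff_dvd]
      exact ((Nat.prime_iff_prime_int.1 hl).dvd_or_dvd (geom_sum_mul c.Q d ▸ (dvd_iff hd d).2 dvd_rfl)).resolve_right
        fun e => (Nat.le_of_dvd one_pos ((dvd_iff hd 1).1 (by rwa [pow_one]))).not_gt h3
    · refine card_image_le.trans_lt ?_
      rw [card_univ, ZMod.card]
      omega
    · rintro (⟨i', a⟩ | k) e
      · obtain rfl : i' = i := by_contra fun e1 => e (by simp [tt, e1])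
        exact mem_image_of_mem _ (mem_univ a)
      · exact absurd rfl e
    · obtain ⟨i', b'⟩ | k := j
      · by_cases e : i' = i
        · subst e
          simp only [tt, Sum.elim_inl, Pi.mulSingle_eq_same]
          intro e
          rw [← mul_inv_eq_one, ← _root_.zpow_sub, h4] at e
          push_cast at e
          rw [sub_eq_zero, h5.pow_inj_mod, hd, Nat.mod_eq_of_lt b.val_lt, Nat.mod_eq_of_lt b'.val_lt] at e
          exact hj (by rw [ZMod.val_injective d e])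
        · simpa only [tt, e, _root_.Sum.elim_inl, _root_.Pi.mulSingle_eq_same, _root_.ne_eq, _root_.not_false_eq_true, _root_.Pi.mulSingle_eq_of_ne, _root_.one_zpow] using h6
      · simpa [tt] using h6

end S

open S in
/-- **box S** -/
theorem boxS_of (hF : BoxF) : BoxS := by
  intro c l d w r _ hl h2 hp hd hr hw hn hx qs
  have : Fact l.Prime := ⟨hl⟩
  have d0 := NeZero.ne d
  have F := hF c _ ((D0.card_Ix d w r).trans_le hn) _ (c.lg_vd hn)
  have hM : c.Q ^ d - 1 ∣ Nat.card c.Kˣ := c.ctx.card ▸ c.ctx.dvd d (Nat.pos_of_ne_zero d0) (by nlinarith only [hw, hn])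
  have hv : ∀ e, (⟨c.vd d w r, e⟩ : c.AA (Ix d w r)) ∈ normalizer (c.Dt d w r : Set (c.AA (Ix d w r))) := fun e =>
    norm_mono c.toD0 rfl fun _ => rfl
  obtain ⟨a, ha⟩ : ∃ a, vz l (c.Q ^ d - 1) = a := ⟨_, rfl⟩
  have a0 : a ≠ 0 := ha ▸ (hl.factorization_pos_of_dvd (Int.natAbs_ne_zero.2 (pow_ne c.ctx.two d0))
    (Int.natCast_dvd.1 ((dvd_iff hd d).2 dvd_rfl))).ne'
  have h3 : ((l ^ a : ℕ) : ℤ) ∣ c.Q ^ d - 1 := Int.natCast_dvd.2 (ha ▸ Nat.ordProj_dvd _ _)
  obtain ⟨z, hz⟩ := exists_ord (C := c.Kˣ) (Int.natCast_dvd_natCast.1 (h3.trans hM))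
  have h4 : ∀ y : c.Kˣ, y ^ (c.Q ^ d - 1) = 1 → y ^ c.Q ^ d = y := fun y h => by
    rwa [_root_.zpow_sub_one, mul_inv_eq_one] at h
  have h5 : ∀ y : zpowers z, y ^ l ^ a = 1 := fun y => by rw [← hz, ← Nat.card_zpowers, pow_card_eq_one']
  have h6 : ∀ y : zpowers z, y.1 ^ c.Q ^ d = y := fun y => h4 _ (orderOf_dvd_iff_zpow_eq_one.1
    ((Int.natCast_dvd_natCast.2 (orderOf_dvd_of_pow_eq_one (congrArg Subtype.val (h5 y)))).trans h3))
  have hs := fun {i j} => rel_of_sep (i := i) (j := j) (sep c.toD0 hl h2 hd hr hz a0 fun e => hx ⟨e.1, e.2.1, e.2.2.1, by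
    rw [← e.2.2.2, ← ha, e.1, e.2.1, pow_one]⟩)
  let ρ := (rho c.toD0 d r).comp (W.mapW (Fin w) (zpowers z).subtype)
  have ρi : Function.Injective ρ := (rho_inj c.toD0).comp fun x y e =>
    SemidirectProduct.ext (funext fun i => Subtype.ext (congrFun (congrArg SemidirectProduct.left e) i))
      (congrArg SemidirectProduct.right e :)
  have ρm : ∀ x, ρ x ∈ c.Gt (c.vd d w r) ⊓ c.Cl d w r := fun x => rho_mem c.toD0 fun i => h6 _
  have ρs : ∀ s, (∃ t, (∀ k, t k ∈ zpowers z) ∧ tt c.toD0 d r t = s ∧ ∏ i, s i = 1 ∧ Cd d l s) →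
      (∀ k, s (.inr k) = 1) ∧ Cd d l s ∧ inl (dg s) ∈ (ρ.comp inl).range ⊓ (ρ.range ⊓ c.G (c.vd d w r)) := by
    rintro _ ⟨t, k1, rfl, k2, k3⟩
    have k4 : ρ (inl fun k => ⟨t k, k1 k⟩) = inl (dg (tt c.toD0 d r t)) := rho_inl c.toD0 t
    exact ⟨fun _ => rfl, k3, ⟨_, k4⟩, ⟨_, k4⟩, c.mem_G'.2 ⟨k4 ▸ (ρm _).1, (det_dg _).trans k2⟩⟩
  refine ⟨inf_le_left, fun b hb => ?_, fun x hx => ?_, ⟨c.tw_mem_Ah _, hv _⟩, fun h => ?_, ?_⟩
  · have k1 : inr b.right ∈ c.Cl d w r :=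
      ⟨c.inr_mem_Ah.2 (c.act_vd d w r _), norm_mono c.toD0 (s := 1) (π := 1) (by simp only [_root_.SemidirectProduct.left_inr, _root_.map_one, _root_.mul_one]) fun _ => rfl⟩
    have k2 : (inr b.right)⁻¹ * b ∈ c.Gt (c.vd d w r) := ⟨(c.Ah _).mul_mem ((c.Ah _).inv_mem k1.1) hb, c.mem_GLs.2 (by simp)⟩
    obtain ⟨y, hy⟩ := exists_root (by simpa using pow_ne c.ctx.two one_ne_zero) (geom_sum_mul c.Q d ▸ hM) (F.det _ k2)
    have k3 := rho_mem c.toD0 (r := r) (x := inl (Pi.mulSingle (⟨0, hw⟩ : Fin w) y)) fun i => h4 _ (by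
      rw [SemidirectProduct.left_inl, Pi.mulSingle_apply]
      split_ifs
      · rw [← geom_sum_mul, _root_.zpow_mul, hy, F.det _ k2]
      · exact _root_.one_zpow _)
    refine ⟨_, mul_mem k1 k3.2, (rho c.toD0 d r _)⁻¹ * ((inr b.right)⁻¹ * b), c.mem_G'.2 ⟨mul_mem (inv_mem k3.1) k2, ?_⟩,
      by group⟩
    change c.dtH _ ((⟨_, k3.1⟩ : c.Gt _)⁻¹ * ⟨_, k2⟩) = 1
    rw [map_mul, map_inv, inv_mul_eq_one]
    refine (congrArg c.dt (rho_inl c.toD0 _)).trans (Eq.trans ?_ hy)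
    rw [c.dt_inl, det_dg, prod_tt, Fintype.prod_pi_mulSingle']
  · obtain ⟨k1, y, k2⟩ := (F.cen x).1 hx
    exact ⟨k1.1, norm_mono c.toD0 (s := fun _ => y) (π := 1) (by rw [k2, map_one pm, mul_one]) fun _ => rfl⟩
  · have : ((c.Dt d w r).subgroupOf (c.G (c.vd d w r))).Normal :=
      ⟨fun n hn g => (mem_normalizer_iff.1 (h g.2).2 n.1).1 hn⟩
    have k1 := le_center qs ((c.Dt d w r).subgroupOf _) fun x hx y hy => Subtype.ext (by
      obtain ⟨s, -, e⟩ := (mem_Dt c.toD0).1 hx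
      obtain ⟨t, -, e'⟩ := (mem_Dt c.toD0).1 hy
      change (c.G _).subtype x * (c.G _).subtype y = (c.G _).subtype y * (c.G _).subtype x
      (simp only [← e]; rewrite [← e']; (conv => enter [@2]; rw [← map_mul]); rewrite [dg_comm, map_mul]; with_reducible rfl))
    have k2 : ∀ g ∈ c.G (c.vd d w r), ∀ i j, g.left.1 i j ≠ 0 → Rl i j := fun g hg i j e => hs fun s k => by
      obtain ⟨k3, -, -, -, k4⟩ := ρs s k
      have k5 := congrArg (fun x : c.G _ => x.1.left)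
        (mem_center_iff.1 (k1 (x := ⟨_, k4⟩) ((mem_Dt c.toD0).2 ⟨s, k3, rfl⟩)) ⟨g, hg⟩)
      simp only [Subgroup.coe_mul, SemidirectProduct.mul_left, c.right_of_Gt hg.1, SemidirectProduct.right_inl,
        SemidirectProduct.left_inl, D0.act_one] at k5
      exact eq_of_mul k5 e
    rcases (Nat.one_le_iff_ne_zero.2 (NeZero.ne d)).eq_or_lt with rfl | k3
    · obtain rfl : r = 0 := by omega
      have k3 : ∀ g : c.G (c.vd 1 w 0), diagonal (_root_.Matrix.diag g.1.left.1) = g.1.left.1 := fun g => IsDiag.diagonal_diag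
        fun i j e => by_contra fun e1 => (k2 _ g.2 i j e1).elim e fun ⟨⟨k, _⟩, _⟩ => k.elim0
      refine not_comm qs fun x y => Subtype.ext (SemidirectProduct.ext (Units.ext ?_) (mul_comm _ _))
      simp only [Subgroup.coe_mul, SemidirectProduct.mul_left, c.right_of_Gt x.2.1, c.right_of_Gt y.2.1, D0.act_one, Units.val_mul]
      rw [← k3 x, ← k3 y]
      exact commute_diagonal _ _
    · have : Fact (1 < d) := ⟨k3⟩
      refine (k2 (inl (c.vd d w r)) (c.inl_mem_G.2 ⟨by rw [c.act_vd], c.det_vd d w r⟩) (.inl (⟨0, hw⟩, 0 + 1))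
        (.inl (⟨0, hw⟩, 0)) ?_).elim (by simp) (by simp only [_root_.zero_add, _root_.reduceCtorEq, _root_.exists_false, _root_.and_self, _root_.imp_self])
      rw [SemidirectProduct.left_inl, D0.vd, dg_pm_apply, if_pos (by rfl)]
      exact Units.ne_zero _
  · have k1 : ρ.range ≤ c.Gt (c.vd d w r) := by
      rintro _ ⟨x, rfl⟩
      exact (ρm x).1
    have : ((c.G (c.vd d w r)).subgroupOf (c.Gt (c.vd d w r))).Normal := c.ker_dtH (c.vd d w r) ▸ inferInstance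
    have k2 := nd_rel hl k1 (by
      rw [F.card l hl hp, D0.card_Ix, vz_PH hl h2 c.ctx.two hd d0, ha, Nat.mul_add_div (Nat.pos_of_ne_zero d0),
        Nat.div_eq_of_lt hr, add_zero, ← Nat.card_congr (MonoidHom.ofInjective ρi).toEquiv, SemidirectProduct.card,
        Nat.card_fun, Nat.card_perm, Nat.card_zpowers, hz, Nat.card_eq_fintype_card, Fintype.card_fin, ← pow_mul,
        Nat.factorization_mul (pow_ne_zero _ hl.ne_zero) w.factorial_ne_zero, Finsupp.add_apply,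
        Nat.factorization_pow_self hl])
    have k3 : IsPGroup l (Fin w → zpowers z) := fun t => ⟨a, funext fun i => h5 _⟩
    obtain ⟨P, k4, k5, k6, k7⟩ := exists_syl (k3.of_surjective _ (ρ.comp inl).rangeRestrict_surjective)
      (inf_le_right : ρ.range ⊓ c.G (c.vd d w r) ≤ _) fun e => k2 (e.trans (rel_dvd k1 (c.G_le_Gt _)))
    refine ⟨P, k4.trans inf_le_right, k6, k7, fun b hb hP => ⟨hb, ?_⟩⟩
    have k8 : ∀ s, (∃ t, (∀ k, t k ∈ zpowers z) ∧ tt c.toD0 d r t = s ∧ ∏ i, s i = 1 ∧ Cd d l s) →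
        (∀ k, s (.inr k) = 1) ∧ ∃ s' : Ix d w r → c.Kˣ, (∀ k, s' (.inr k) = 1) ∧
          ∀ i j, b.left.1 i j ≠ 0 → s' i = c.ue b.right (s j) := fun s k => by
      obtain ⟨j1, j2, j3⟩ := ρs s k
      have j4 := hP _ (k5 j3)
      obtain ⟨x, j5⟩ := (k4 j4).1
      obtain ⟨m, j6⟩ := k6 ⟨_, j4⟩
      have j7 : x ^ l ^ m = 1 := ρi (by rw [map_pow, j5, map_one]; exact congrArg Subtype.val j6)
      rw [c.conj_inl, c.act_dg] at j5
      have j8 := right_eq c.toD0 hl h2 (x := W.mapW (Fin w) (zpowers z).subtype x) (m := m) (by rw [← map_pow, j7, map_one])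
        (j2.map (c.ue_one b.right)) (congrArg SemidirectProduct.left j5)
      have j9 : ρ x = inl (dg (tt c.toD0 d r fun i => x.left i)) := by
        rw [← rho_inl]
        exact congrArg (rho c.toD0 d r) (SemidirectProduct.ext rfl j8)
      exact ⟨j1, _, fun _ => rfl, fun i j =>
        eq_of_mul (mul_inv_eq_iff_eq_mul.1 (SemidirectProduct.inl_injective (j5.symm.trans j9)))⟩
    refine norm_of_rel c.toD0 (fun i j j' e e' => hs fun s k => ?_) fun k' j e => hs fun s k => ?_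
    · obtain ⟨-, s', -, j2⟩ := k8 s k
      exact c.ue_inj _ ((j2 i j e).symm.trans (j2 i j' e'))
    · obtain ⟨j0, s', j1, j2⟩ := k8 s k
      rw [j0, ← c.ue_eq_one b.right, ← j2 _ j e, j1]

theorem boxS : BoxS := boxS_of boxF

end Cfsg.Agent.MO.TA
end

private theorem dce_dbfa90b508c3 : _root_.True := by
  try have : _root_.True := by simp only [_root_.Cfsg.Agent.MO.TA.D0.vd.eq_1]
  try have : _root_.True := by simp only [_root_.Cfsg.Agent.MO.TA.PH.eq_1]
  try have : _root_.True := by simp only [_root_.Cfsg.Agent.MO.TA.yc.eq_1]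
  try have : _root_.True := by simp only [_root_.Cfsg.Agent.MO.TA.D0.Gt.eq_1]
  try have : _root_.True := by simp only [_root_.Cfsg.Agent.MO.TA.ip.eq_1]
  try have : _root_.True := by simp only [_root_.Cfsg.extendByZero.eq_1]
  try have : _root_.True := by simp only [_root_.Cfsg.Agent.MO.TA.D0.Ah.eq_1]
  try have : _root_.True := by simp only [_root_.Cfsg.Agent.MO.TA.vz.eq_1]
  try have : _root_.True := by simp only [_root_.Cfsg.Agent.MO.TA.D0.sig.eq_1]
  try have : _root_.True := by simp only [_root_.Cfsg.Agent.MO.TA.ip.congr_simp]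
  try have : _root_.True := by simp only [_root_.Cfsg.Agent.MO.TA.D0.ue.eq_1]
  try have : _root_.True := by simp only [_root_.Cfsg.Agent.MO.TA.D0.dt.eq_1]
  try have : _root_.True := by simp only [_root_.Cfsg.Agent.MO.TA.D0.Gh.eq_1]
  try have : _root_.True := by simp only [_root_.Cfsg.Agent.MO.TA.res.eq_1]
  try have : _root_.True := by simp only [_root_.Cfsg.Agent.MO.TA.Mp.eqv.congr_simp]
  try have : _root_.True := by simp only [_root_.Cfsg.Agent.MO.TA.S.tt.eq_1]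
  try have : _root_.True := by simp only [_root_.Cfsg.Agent.MO.TA.cje.congr_simp]
  exact _root_.True.intro
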