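import Cfsg.Agent.MQ.TA.BoxS
import Cfsg.Agent.CharactersDeep.ExtGroup
import Cfsg.Agent.Characters.Linear
import Cfsg.Agent.S0886
import Cfsg.Agent.S0887
import Cfsg.Agent.MQ.TA.Tor
import Cfsg.Prelude.Def_LieClassical
import Cfsg.Agent.H941.GU.Tow_m3
import Cfsg.Agent.H120.GLB.Ctx
import Cfsg.Agent.H321.Ker.AlgY
import Cfsg.Agent.MQ.Co.Two
import Cfsg.Agent.S0188
import Cfsg.Agent.H614.Degree
import Cfsg.Agent.MQ.Tri.Main
import Cfsg.Agent.MQ.A.Glob.Main
import Cfsg.Agent.H614.GLn.RSLab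
import Cfsg.Agent.H417.GU.Shift_m3
import Cfsg.Agent.H614.GLn.RSFam
import Cfsg.Agent.H614.GLn.RSForm
import Cfsg.Agent.H474.GU.NF_m3
import Cfsg.Agent.H614.GLn.LabHom
import Cfsg.Agent.H905.PCover
import Cfsg.Agent.H60.CrossA
import Cfsg.Agent.H61.SUCross
import Cfsg.Agent.H61.UThreeCE
import Cfsg.Agent.H259.NatMod
import Cfsg.Agent.LieClassical.SLGen
import Cfsg.Agent.LieClassical.HermPerfect
import Cfsg.Agent.MQ.S3.Main
import Cfsg.Agent.FastGrp
import Cfsg.Agent.Prune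
set_option linter.all false
prune_inst 0x7fbcbdf869a883ffffff7e37aed4ddfc14810fffa4def943ffe061bf8b9f030009c5638509f000fe0e86401410a87803fb7eeeffe86fdc7ffffd5fb41ffbee4fe5f635081194883406200ff683f0470a6f3ffff7fffffffffffffff7ffffffbeffbfe3feffff
open scoped Cfsg.Agent.FastGrp

-- part: MO/TA/Ext
section
/-!
# MO, types `A` and `²A`: Clifford theory and extensions inside an ambient group (helper20)
-/

set_option autoImplicit false

namespace Cfsg.Agent.MO.TA.Gd

open Cfsg Subgroup Cfsg.Agent.Characters.Core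

variable {A : Type} [Group A] {N D : Subgroup A}

theorem nrm (hn : ∀ d ∈ D, ∀ x ∈ N, d * x * d⁻¹ ∈ N) : (N.subgroupOf D).Normal := ⟨fun x hx d => hn d d.2 x hx⟩

theorem res_comp (h : N ≤ D) (η : D → ℂ) : res N η ∘ subgroupOfEquivOfLe h = fun n : N.subgroupOf D => η n :=
  funext fun n => res_apply η _ n.1 rfl

theorem irr_e (h : N ≤ D) {θ : N → ℂ} (hθ : IsIrrCharacter N θ) :
    IsIrrCharacter (N.subgroupOf D) (θ ∘ subgroupOfEquivOfLe h) :=
  isIrr_comp (subgroupOfEquivOfLe h : N.subgroupOf D →* N) (subgroupOfEquivOfLe h).surjective hθ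

theorem res_eq (h : N ≤ D) {η : D → ℂ} {θ : N → ℂ} (h1 : ∀ n : N.subgroupOf D, η n = (θ ∘ subgroupOfEquivOfLe h) n) :
    res N η = θ := funext fun x => (res_of_le h η x).trans (h1 ⟨inclusion h x, x.2⟩)

theorem tr_res (h : N ≤ D) {f : D → ℂ} (hf : IsClassFunction D f) {d : A} (hd : d ∈ D) : Tr N d (res N f) (res N f) :=
  fun x y e => by
    rw [res_of_le h, res_of_le h, ← hf (inclusion h x) ⟨d, hd⟩]
    exact congrArg f (Subtype.ext e)

theorem index_pow {G : Type} [Group G] [Finite G] (H : Subgroup G) [H.Normal] {s : ℕ} (hs : s.Prime)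
    (h : ∀ a : G, ∃ k : ℕ, a ^ s ^ k ∈ H) : ∃ r, H.index = s ^ r := by
  have := Fact.mk hs
  refine IsPGroup.iff_card.1 fun q => ?_
  obtain ⟨a, rfl⟩ := QuotientGroup.mk_surjective q
  obtain ⟨k, hk⟩ := h a
  exact ⟨k, by rwa [← QuotientGroup.mk_pow, QuotientGroup.eq_one_iff]⟩

variable [Finite A]

theorem ip_tr {a : A} (ha : ∀ x, x ∈ N ↔ a * x * a⁻¹ ∈ N) {f f' k k' : N → ℂ} (h1 : Tr N a f f') (h2 : Tr N a k k') :
    ip f' k' = ip f k := by
  rw [← ip_comp (N.normalizerMonoidHom ⟨a, mem_normalizer_iff.2 ha⟩)]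
  congr 1
  exacts [funext fun x => h1 x _ rfl, funext fun x => h2 x _ rfl]

/-- Clifford's theorem -/
theorem clif (h : N ≤ D) (hn : ∀ d ∈ D, ∀ x ∈ N, d * x * d⁻¹ ∈ N) {η : D → ℂ} (hη : IsIrrCharacter D η) {θ θ' : N → ℂ}
    (hθ : IsIrrCharacter N θ) (hθ' : IsIrrCharacter N θ') (h1 : ip (res N η) θ ≠ 0) (h2 : ip (res N η) θ' ≠ 0) :
    ∃ d ∈ D, Tr N d θ θ' := by
  have := nrm hn
  have := Fintype.ofFinite D
  have := Fintype.ofFinite (N.subgroupOf D)
  rw [← ip_comp (subgroupOfEquivOfLe h), res_comp, ip_eq] at h1 h2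
  obtain ⟨d, hd⟩ := Characters.Clifford.exists_conj_of_constituents _ hη (irr_e h hθ') (irr_e h hθ) h2 h1
  exact ⟨d, d.2, fun x y e => ((congrFun hd ⟨inclusion h x, x.2⟩).trans (congrArg θ' (Subtype.ext e.symm))).symm⟩

/-- a multiplicity prime to `s` over an `s`-group gives an extendible constituent -/
theorem ext_mult (h : N ≤ D) {H : Subgroup A} {ψ : N → ℂ} (hψ : IsCharacter N ψ) (hD : D ≤ Stb H N ψ) {s : ℕ}
    (hs : s.Prime) (hp : ∀ a ∈ D, ∃ k : ℕ, a ^ s ^ k ∈ N) {Φ : D → ℂ} (hΦ : IsCharacter D Φ) {m : ℕ} (hm : ¬ s ∣ m)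
    (hΦm : ip (res N Φ) ψ = m) :
    ∃ η : D → ℂ, IsIrrCharacter D η ∧ IsIrrCharacter N (res N η) ∧ ip ψ (res N η) ≠ 0 := by
  classical
  have hn : ∀ d ∈ D, ∀ x ∈ N, d * x * d⁻¹ ∈ N := fun d hd x hx => ((hD hd).2.1 x).1 hx
  obtain ⟨Ψ, h1, h2⟩ := exists_ind_le h hψ
  obtain ⟨η, h3, a, b, h4, h5, -⟩ := exists_irr_of_not_dvd h1 hΦ
    (by rw [h2 _ (isCharacter_isClassFunction hΦ), ip_comm hψ (isChar_res h hΦ), hΦm]) hm
  rw [h2 _ (isIrr_isClassFunction h3)] at h5
  have h6 := isChar_res h (isIrr_isCharacter h3)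
  have h7 : ¬ s ∣ a := fun e => h4 (e.mul_right b)
  obtain ⟨θ, h8, a', b', h9, h10, h11⟩ := exists_irr_of_not_dvd hψ h6 h5 h7
  have h12 : ip (res N η) θ ≠ 0 := by
    rw [ip_comm h6 (isIrr_isCharacter h8), h11, Nat.cast_ne_zero]
    rintro rfl
    exact h9 (dvd_zero _)
  refine ⟨η, h3, ?_, by rw [h5, Nat.cast_ne_zero]; rintro rfl; exact h7 (dvd_zero _)⟩
  have := Fintype.ofFinite N
  have := finite_irr (G := N)
  have := Fintype.ofFinite (IrrCharacter N)
  obtain ⟨c, hc, hc'⟩ := CharDeep.CliffordCorr.exists_nat_coeffs h6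
  have h13 : ∀ ζ : IrrCharacter N, c ζ = 0 ∨ ∃ d ∈ D, Tr N d θ ζ := fun ζ => (eq_or_ne (c ζ) 0).imp_right fun e =>
    clif h hn h3 h8 ζ.2 h12 (by rwa [ip_eq, hc', Nat.cast_ne_zero])
  have h14 : η 1 = (∑ ζ, c ζ : ℕ) * θ 1 := by
    rw [← res_apply η (1 : N) 1 rfl, hc, Finset.sum_apply, Nat.cast_sum, Finset.sum_mul]
    refine Finset.sum_congr rfl fun ζ _ => ?_
    rcases h13 ζ with e | ⟨d, -, hd⟩
    · simp [e]
    · rw [Pi.smul_apply, hd 1 1 (by simp), smul_eq_mul]
  have h15 : a = (∑ ζ, c ζ) * a' := by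
    refine Nat.cast_injective (R := ℂ) ?_
    rw [← h5, ip_comm hψ h6, ip_eq, hc, classInner_sum_left, Nat.cast_mul, Nat.cast_sum, Finset.sum_mul]
    refine Finset.sum_congr rfl fun ζ _ => ?_
    rw [classInner_smul_left]
    rcases h13 ζ with e | ⟨d, hd, hd'⟩
    · simp [e]
    · rw [← ip_eq, ip_tr (hD hd).2.1 hd' (hD hd).2.2, ip_comm (isIrr_isCharacter h8) hψ, h10]
  have := nrm hn
  have := Fintype.ofFinite D
  have := Fintype.ofFinite (N.subgroupOf D)
  obtain ⟨n, hn0, hn1⟩ := isIrr_apply_one h8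
  obtain ⟨r, hr⟩ := index_pow (N.subgroupOf D) hs fun a => hp a a.2
  have h16 := (S0887.result (N.subgroupOf D) η h3 _ (irr_e h h8)
    (by rwa [← res_comp h, ← ip_eq, ip_comp]) ((∑ ζ, c ζ) * n) n (by rw [h14, hn1, Nat.cast_mul])
    (by rw [Function.comp_apply, map_one, hn1])).2
  rw [Nat.mul_div_cancel _ hn0, hr, Nat.dvd_prime_pow hs] at h16
  obtain ⟨i, -, hi⟩ := h16
  obtain rfl : i = 0 := by
    by_contra e
    exact h7 (h15 ▸ (hi ▸ dvd_pow_self s e : s ∣ ∑ ζ, c ζ).mul_right a')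
  rw [pow_zero] at hi
  obtain ⟨ζ, h17, h18⟩ := Finset.exists_ne_zero_of_sum_ne_zero (hi ▸ one_ne_zero : ∑ ζ, c ζ ≠ 0)
  have h19 := (Finset.add_sum_erase _ c h17).trans hi
  rw [hc, Finset.sum_eq_single ζ (fun ζ' h' e => by
    rw [Finset.sum_eq_zero_iff.1 (show ∑ x ∈ Finset.univ.erase ζ, c x = 0 by omega) ζ' (Finset.mem_erase.2 ⟨e, h'⟩),
      Nat.cast_zero, zero_smul]) (fun e => absurd h17 e), show c ζ = 1 by omega, Nat.cast_one, one_smul]
  exact ζ.2

/-- extension over a cyclic quotient -/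
theorem ext_cyc (h : N ≤ D) {Q : Type} [Group Q] (f : D →* Q) (hf : N.subgroupOf D = f.ker) (φ : Q)
    (hφ : ∀ d, f d ∈ zpowers φ) {θ : N → ℂ} (hθ : IsIrrCharacter N θ) (hi : ∀ d ∈ D, Tr N d θ θ) :
    ∃ η : D → ℂ, IsIrrCharacter D η ∧ res N η = θ := by
  have : (N.subgroupOf D).Normal := hf ▸ f.normal_ker
  have h1 : N.subgroupOf D = (f.codRestrict _ hφ).ker := by rwa [MonoidHom.ker_codRestrict]
  obtain ⟨η, h2, h3⟩ := S0886.result (N.subgroupOf D)
    (isCyclic_of_injective _ ((QuotientGroup.injective_lift_iff _ _ h1.le).2 h1)) _ (irr_e h hθ) fun d n => hi d d.2 _ _ rfl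
  exact ⟨η, h2, res_eq h h3⟩

/-- extension from subgroups of coprime index -/
theorem ext_loc (h : N ≤ D) (hn : ∀ d ∈ D, ∀ x ∈ N, d * x * d⁻¹ ∈ N) {θ : N → ℂ} (hθ : IsIrrCharacter N θ)
    (hi : ∀ d ∈ D, Tr N d θ θ) (hl : ∀ p : ℕ, p.Prime → ∃ P : Subgroup A, N ≤ P ∧ P ≤ D ∧ ¬ p ∣ P.relIndex D ∧
      ∃ η : P → ℂ, IsIrrCharacter P η ∧ res N η = θ) : ∃ η : D → ℂ, IsIrrCharacter D η ∧ res N η = θ := by
  have := nrm hn
  obtain ⟨n, -, hn1⟩ := isIrr_apply_one (irr_e h hθ)
  obtain ⟨η, h2, h3⟩ := CharactersDeep.ExtGroup.extends_of_local (N.subgroupOf D) _ (irr_e h hθ)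
    (fun d n => hi d d.2 _ _ rfl) n hn1 fun p hp => by
      obtain ⟨P, h1, h2, h3, η, h4, rfl⟩ := hl p hp
      exact Or.inl ⟨P.subgroupOf D, fun x hx => h1 hx, _, ((Nat.Prime.coprime_iff_not_dvd hp).2 h3).symm, irr_e h2 h4,
        fun x => (res_apply η _ _ rfl).symm⟩
  exact ⟨η, h2, res_eq h h3⟩

/-- the preimage of a Sylow subgroup -/
theorem exists_syl (h : N ≤ D) (hn : ∀ d ∈ D, ∀ x ∈ N, d * x * d⁻¹ ∈ N) {p : ℕ} (hp : p.Prime) :
    ∃ P : Subgroup A, N ≤ P ∧ P ≤ D ∧ ¬ p ∣ P.relIndex D ∧ ∀ a ∈ P, ∃ k : ℕ, a ^ p ^ k ∈ N := by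
  have := nrm hn
  have := Fact.mk hp
  obtain ⟨Q⟩ := (Sylow.nonempty : Nonempty (Sylow p (D ⧸ N.subgroupOf D)))
  refine ⟨(Q.toSubgroup.comap (QuotientGroup.mk' _)).map D.subtype, fun x hx => ⟨⟨x, h hx⟩, ?_, rfl⟩,
    map_subtype_le _, ?_, ?_⟩
  · rw [SetLike.mem_coe, mem_comap, QuotientGroup.mk'_apply, (QuotientGroup.eq_one_iff _).2 (show (⟨x, h hx⟩ : D) ∈ N.subgroupOf D from hx)]
    exact one_mem _
  · rw [relIndex, subgroupOf, comap_map_eq_self_of_injective D.subtype_injective,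
      index_comap_of_surjective _ (QuotientGroup.mk'_surjective _)]
    exact Q.not_dvd_index
  · rintro _ ⟨a, ha, rfl⟩
    obtain ⟨k, hk⟩ := Q.isPGroup' ⟨_, ha⟩
    exact ⟨k, (QuotientGroup.eq_one_iff (a ^ p ^ k)).1 (congrArg Subtype.val hk)⟩

/-- a central element can be moved into the kernel of the extension -/
theorem ker_cen (h : N ≤ D) (hn : ∀ d ∈ D, ∀ x ∈ N, d * x * d⁻¹ ∈ N) (hab : ∀ a ∈ D, ∀ b ∈ D, a⁻¹ * b⁻¹ * a * b ∈ N)
    (F : D) (hF : F ∈ center D) (hk : ∀ k : ℕ, (F : A) ^ k ∈ N → (F : A) ^ k = 1) {η : D → ℂ}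
    (hη : IsIrrCharacter D η) : ∃ η' : D → ℂ, IsCharacter D η' ∧ res N η' = res N η ∧ η' F = η' 1 := by
  have := nrm hn
  let _ : CommGroup (D ⧸ N.subgroupOf D) :=
    { (inferInstance : Group (D ⧸ N.subgroupOf D)) with
      mul_comm := fun a b => by
        obtain ⟨a, rfl⟩ := QuotientGroup.mk_surjective a
        obtain ⟨b, rfl⟩ := QuotientGroup.mk_surjective b
        exact QuotientGroup.eq.2 (by simpa only [mem_subgroupOf, mul_assoc, _root_.mul_inv_rev, _root_.Subgroup.coe_mul, _root_.InvMemClass.coe_inv] using hab b b.2 a a.2) }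
  obtain ⟨c, hc, -⟩ := CharactersDeep.Extraspecial.exists_central_hom hη
  let f : zpowers F →* D ⧸ N.subgroupOf D := (QuotientGroup.mk' _).comp (zpowers F).subtype
  have hf : Function.Injective f := (injective_iff_map_eq_one f).2 fun z hz => by
    obtain ⟨k, hk'⟩ := mem_powers_iff_mem_zpowers.2 z.2
    have h1 : (F : A) ^ k = z := congrArg Subtype.val hk'
    exact Subtype.ext (Subtype.ext (h1.symm.trans (hk k (h1 ▸ (QuotientGroup.eq_one_iff z.1).1 hz))))
  obtain ⟨l, hl⟩ := MonoidHom.domRestrict_surjective ℂ f.range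
    ((c.comp (inclusion (zpowers_le.2 hF))).comp (MonoidHom.ofInjective hf).symm.toMonoidHom)
  have h1 : l F = c ⟨F, hF⟩ := (DFunLike.congr_fun hl (MonoidHom.ofInjective hf ⟨F, mem_zpowers F⟩)).trans
    (congrArg (c.comp (inclusion (zpowers_le.2 hF))) ((MonoidHom.ofInjective hf).symm_apply_apply _))
  refine ⟨_, isCharacter_mul (Characters.Linear.isCharacter_hom (l⁻¹.comp (QuotientGroup.mk' _))) (isIrr_isCharacter hη),
    funext fun x => ?_, ?_⟩
  · rw [res_of_le h, res_of_le h, Pi.mul_apply, MonoidHom.comp_apply, QuotientGroup.mk'_apply,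
      (QuotientGroup.eq_one_iff _).2 (show inclusion h x ∈ N.subgroupOf D from x.2), map_one, Units.val_one, one_mul]
  · have h2 := hc 1 ⟨F, hF⟩
    rw [one_mul] at h2
    rw [Pi.mul_apply, Pi.mul_apply, map_one, h2, MonoidHom.comp_apply, QuotientGroup.mk'_apply, MonoidHom.inv_apply, h1,
      mul_comm (η 1), Units.inv_mul_cancel_left, Units.val_one, one_mul]

end Cfsg.Agent.MO.TA.Gd
end

-- part: MO/TA/B2
section
/-!
# MO, types `A` and `²A`: box B2, good constituents from the local criterion (helper20)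
-/

set_option autoImplicit false

namespace Cfsg.Agent.MO.TA

open Cfsg Subgroup Cfsg.Agent.Characters.Core

namespace Gd

variable {A : Type} [Group A] {N : Subgroup A}

/-- the action of the normaliser of `N` on the functions on `N` -/
@[reducible] def act (N : Subgroup A) : MulAction (normalizer (N : Set A)) (N → ℂ) := arrowAction

attribute [local instance] act

theorem smul_iff (a : normalizer (N : Set A)) (f f' : N → ℂ) : a • f = f' ↔ Tr N a f f' :=
  ⟨fun h x y e => h ▸ congrArg f (Subtype.ext (show (a : A)⁻¹ * y * (a : A)⁻¹⁻¹ = x by rw [e]; group)),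
    fun h => funext fun y => (h (a⁻¹ • y) y (show (y : A) = a * ((a : A)⁻¹ * y * (a : A)⁻¹⁻¹) * (a : A)⁻¹ by group)).symm⟩

theorem irr_smul (a : normalizer (N : Set A)) {θ : N → ℂ} (hθ : IsIrrCharacter N θ) : IsIrrCharacter N (a • θ) :=
  isIrr_comp (N.normalizerMonoidHom a⁻¹ : N →* N) (N.normalizerMonoidHom a⁻¹).surjective hθ

theorem ip_smul [Finite A] (a : normalizer (N : Set A)) {f : N → ℂ} (hf : Tr N a f f) (θ : N → ℂ) :
    ip f (a • θ) = ip f θ := ip_tr (mem_normalizer_iff.1 a.2) hf ((smul_iff _ _ _).1 rfl)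

theorem main {A : Type} [Group A] [Finite A] {B N Nt Nh : Subgroup A} {F : A} (fr : Fr B N Nt Nh F) {χ : Nt → ℂ}
    (hχ : IsIrrCharacter Nt χ) (hm : MulAll N Nh χ) : ∃ θ, Good N Nh F χ θ := by
  have hNt : N ≤ Nt := fr.inf ▸ inf_le_left
  have hNh : N ≤ Nh := fr.inf ▸ inf_le_right
  have hB : B ≤ normalizer (N : Set A) := fun b hb => mem_normalizer_iff.2 fun x =>
    ⟨fr.nN b hb x, fun h => by simpa [mul_assoc] using fr.nN _ (inv_mem hb) _ h⟩
  have hψ := isChar_res hNt (isIrr_isCharacter hχ)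
  have hT : ∀ d ∈ Nt, Tr N d (res N χ) (res N χ) := fun d hd => tr_res hNt (isIrr_isClassFunction hχ) hd
  set! V := Stb Nh N (res N χ)
  have hVh : V ≤ Nh := fun _ h => h.1
  have hVM : V ≤ normalizer (N : Set A) := hVh.trans (fr.hB.trans hB)
  have hNV : N ≤ V := fun x hx => ⟨hNh hx, mem_normalizer_iff.1 (le_normalizer hx), hT x (hNt hx)⟩
  have hn : ∀ d ∈ V, ∀ x ∈ N, d * x * d⁻¹ ∈ N := fun d hd => fr.nN d (fr.hB hd.1)
  -- the quotient `Nh / N`
  have := nrm fun d hd => fr.nN d (fr.hB hd)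
  obtain ⟨φ, hφ, τ, hτ, hττ, hφτ, hgen⟩ := fr.gen
  let π := QuotientGroup.mk' (N.subgroupOf Nh)
  have hπ : ∀ a : Nh, π a = 1 ↔ (a : A) ∈ N := fun a => QuotientGroup.eq_one_iff a
  have hc : Commute (π ⟨φ, hφ⟩) (π ⟨τ, hτ⟩) := by
    rw [← commutatorElement_eq_one_iff_commute, ← map_commutatorElement]
    exact (hπ _).2 hφτ
  have hg : ∀ a : Nh, ∃ i j : ℕ, π a = π ⟨φ, hφ⟩ ^ i * π ⟨τ, hτ⟩ ^ j := fun a => by
    obtain ⟨i, j, y, hy, e⟩ := hgen a a.2
    refine ⟨i, j, ?_⟩
    rw [show a = ⟨φ, hφ⟩ ^ i * ⟨τ, hτ⟩ ^ j * ⟨y, hNh hy⟩ from Subtype.ext e, map_mul, (hπ ⟨y, hNh hy⟩).2 hy,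
      map_mul, map_pow, map_pow, mul_one]
  have hab : ∀ a ∈ V, ∀ b ∈ V, a⁻¹ * b⁻¹ * a * b ∈ N := fun a ha b hb => by
    obtain ⟨i, j, e⟩ := hg ⟨a, ha.1⟩⁻¹
    obtain ⟨i', j', e'⟩ := hg ⟨b, hb.1⟩⁻¹
    have h : Commute (π ⟨a, ha.1⟩⁻¹) (π ⟨b, hb.1⟩⁻¹) := by
      rw [e, e']
      exact (((Commute.refl _).pow_pow _ _).mul_right (hc.pow_pow _ _)).mul_left
        ((hc.symm.pow_pow _ _).mul_right ((Commute.refl _).pow_pow _ _))
    rw [← commutatorElement_eq_one_iff_commute, ← map_commutatorElement, hπ] at h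
    simpa only [commutatorElement_def, _root_.inv_inv, _root_.Subgroup.coe_mul, _root_.InvMemClass.coe_inv] using h
  have hsq : ∀ a : Nh, π a ^ 2 ∈ zpowers (π ⟨φ, hφ⟩) := fun a => by
    obtain ⟨i, j, e⟩ := hg a
    rw [e, (hc.pow_pow i j).mul_pow, ← pow_mul _ j, mul_comm j, pow_mul, sq (π ⟨τ, hτ⟩), ← map_mul,
      (hπ (⟨τ, hτ⟩ * ⟨τ, hτ⟩)).2 hττ, one_pow, mul_one]
    exact pow_mem (pow_mem (mem_zpowers _) _) _
  -- extendible constituents over the Sylow subgroups
  have hS : ∀ p : ℕ, p.Prime → (p = 2 ∨ p ∣ N.relIndex Nt) → ∃ D : Subgroup A, N ≤ D ∧ D ≤ V ∧ ¬ p ∣ D.relIndex V ∧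
      (∀ a ∈ D, ∃ k : ℕ, a ^ p ^ k ∈ N) ∧ ∃ η : D → ℂ, IsIrrCharacter D η ∧ IsIrrCharacter N (res N η) ∧
        ip (res N χ) (res N η) ≠ 0 := fun p hp h => by
    obtain ⟨D, h1, h2, h3, h4⟩ := exists_syl hNV hn hp
    obtain ⟨Φ, h5, m, h6, h7⟩ := hm p hp h D h1 h2 h4
    exact ⟨D, h1, h2, h3, h4, ext_mult h1 hψ h2 hp h4 h5 h6 h7⟩
  obtain ⟨D, hND, hDV, hDi, hD2, η, hη, ht, ht0⟩ := hS 2 Nat.prime_two (Or.inl rfl)
  obtain ⟨g, hgt, hcyc⟩ := fr.cyc
  let g' : normalizer (N : Set A) := ⟨g, hB (fr.tB hgt)⟩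
  have hN0 : ∀ y ∈ N.subgroupOf (normalizer (N : Set A)), y • res N η = res N η := fun y hy =>
    (smul_iff _ _ _).2 (tr_res hND (isIrr_isClassFunction hη) (hND hy))
  have horb : ∀ θ, IsIrrCharacter N θ → ip (res N χ) θ ≠ 0 → ∃ k : ℤ, θ = g' ^ k • res N η := fun θ h1 h2 => by
    obtain ⟨d, hd, h3⟩ := clif hNt (fun d hd => fr.nN d (fr.tB hd)) hχ ht h1 ht0 h2
    obtain ⟨k, y, hy, e⟩ := hcyc d hd
    refine ⟨k, ?_⟩
    rw [← (smul_iff ⟨d, hB (fr.tB hd)⟩ _ _).2 h3,
      show (⟨d, hB (fr.tB hd)⟩ : normalizer (N : Set A)) = g' ^ k * ⟨y, le_normalizer hy⟩ from Subtype.ext e, mul_smul,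
      hN0 _ hy, zpow_natCast]
  have := nrm fun d hd => hn d (hDV hd)
  obtain ⟨r, hr⟩ := index_pow (N.subgroupOf D) Nat.prime_two fun a => hD2 a a.2
  have : (D.subgroupOf V).Normal := ⟨fun x hx d => by
    have h := D.mul_mem (hND (hab _ (inv_mem d.2) _ (inv_mem x.2))) hx
    simpa only [mem_subgroupOf, mul_assoc, _root_.Subgroup.coe_mul, _root_.InvMemClass.coe_inv, _root_.inv_inv, _root_.Subgroup.subtype_apply, _root_.inv_mul_cancel, _root_.mul_one] using h⟩
  obtain ⟨j, hj, hj'⟩ := exists_fix (N.subgroupOf (normalizer (N : Set A))) (inclusion hVM) g' (res N η) hN0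
    (fun x => by
      obtain ⟨k, y, hy, e⟩ := hcyc _ (fr.nT x (fr.hB x.2.1) g hgt)
      refine ⟨k, ?_⟩
      rw [show inclusion hVM x * g' * (inclusion hVM x)⁻¹ = g' ^ k * ⟨y, le_normalizer hy⟩ from Subtype.ext e,
        QuotientGroup.mk_mul_of_mem _ (mem_subgroupOf.2 hy), zpow_natCast, QuotientGroup.mk_pow])
    (fun x => horb _ (irr_smul _ ht) (by rwa [ip_smul _ x.2.2.2])) (D.subgroupOf V)
    (fun y hy => (smul_iff _ _ _).2 (tr_res hND (isIrr_isClassFunction hη) hy))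
    (fun x => ⟨_, Nat.not_even_iff_odd.1 fun h => hDi (even_iff_two_dvd.1 h), pow_index_mem _ x⟩) (r := r)
    ((relIndex_subgroupOf hDV).trans hr) fun p hp h => by
      have := nrm fun d hd => fr.nN d (fr.tB hd)
      obtain ⟨E, h1, h2, h3, -, ζ, h4, h5, h6⟩ := hS p hp (Or.inr (h.trans (MulAction.pow_smul_eq_iff_period_dvd.1
        (hN0 _ (pow_index_mem (N.subgroupOf Nt) ⟨g, hgt⟩)))))
      obtain ⟨k, hk⟩ := horb _ h5 h6
      exact ⟨E.subgroupOf V, h3, k, fun x hx => hk ▸ (smul_iff _ _ _).2 (tr_res h1 (isIrr_isClassFunction h4) hx)⟩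
  have hθ := irr_smul (g' ^ j) ht
  have hi : ∀ d ∈ V, Tr N d (g' ^ j • res N η) (g' ^ j • res N η) := fun d hd => (smul_iff _ _ _).1 (hj ⟨d, hd⟩)
  obtain ⟨ζ, h1, h2⟩ := ext_loc hNV hn hθ hi fun p hp => by
    by_cases hp2 : p = 2
    · have h1 : ∀ y ∈ D, (g ^ j)⁻¹ * y * (g ^ j)⁻¹⁻¹ ∈ D := fun y hy => by
        have h := QuotientGroup.eq.1 (hj' ⟨y⁻¹, hDV (inv_mem hy)⟩ (inv_mem hy))
        simpa only [mul_assoc, g', _root_.inv_inv, _root_.mul_inv_rev, _root_.Subgroup.subtype_apply, _root_.Subgroup.coe_mul, _root_.Subgroup.coe_inclusion, _root_.InvMemClass.coe_inv, _root_.SubgroupClass.coe_zpow, _root_.mul_inv_cancel_left] using D.mul_mem hy (hND h)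
      let κ : D →* D := ((MulAut.conj (g ^ j)⁻¹).toMonoidHom.comp D.subtype).codRestrict D fun y => h1 y y.2
      have h2 : res N (η ∘ κ) = g' ^ j • res N η := funext fun x =>
        (res_of_le hND _ x).trans (res_apply η ((g' ^ j)⁻¹ • x) _ rfl).symm
      exact ⟨D, hND, hDV, hp2 ▸ hDi, _, irr_of_res hND (isCharacter_comp κ (isIrr_isCharacter hη)) (h2 ▸ hθ), h2⟩
    · obtain ⟨E, h1, h2, h3, h4⟩ := exists_syl hNV hn hp
      refine ⟨E, h1, h2, h3, ext_cyc h1 (π.comp (inclusion (h2.trans hVh)))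
        (Subgroup.ext fun a => (hπ (inclusion (h2.trans hVh) a)).symm) (π ⟨φ, hφ⟩) (fun a => ?_) hθ fun d hd => hi d (h2 hd)⟩
      obtain ⟨k, hk⟩ := h4 a a.2
      obtain ⟨l, hl⟩ := (hp.odd_of_ne_two hp2).pow (n := k)
      have h5 : π (inclusion (h2.trans hVh) a) ^ p ^ k = 1 := by
        rw [← map_pow, hπ]
        exact hk
      have h6 := inv_mem (pow_mem (hsq (inclusion (h2.trans hVh) a)) l)
      rwa [← pow_mul, inv_eq_of_mul_eq_one_right (by rw [← pow_succ, ← hl, h5])] at h6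
  refine ⟨_, hθ, by rwa [ip_smul _ (hT _ (zpow_mem hgt j))], ?_⟩
  by_cases hF : F ∈ V
  · obtain ⟨ζ', h3, h4, h5⟩ := ker_cen hNV hn hab ⟨F, hF⟩
      (mem_center_iff.2 fun b => Subtype.ext (fr.Fc b (fr.hB b.2.1)).symm) (fun k hk => fr.Ft k (hNt hk)) h1
    exact ⟨ζ', h3, h4.trans h2, fun y hy => by rw [← h5]; exact congrArg ζ' (Subtype.ext hy)⟩
  · exact ⟨ζ, isIrr_isCharacter h1, h2, fun y hy => absurd (hy ▸ y.2) hF⟩

end Gd

/-- **box B2** -/
theorem b2 : B2 := fun _ _ _ _ _ _ _ _ fr _ hχ hm => Gd.main fr hχ hm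

end Cfsg.Agent.MO.TA
end

-- part: MO/TA/CIso
section
/-!
# MO, types `A` and `²A`: the finite groups of the model (helper99)

* `mem_Ah`, `mem_Gt`, `mem_G` : membership;
* `exists_emb`, `mem_range` : the small field embeds into `c.K`, the image is the fixed field;
* `isoGL`, `isoSL`, `isoGU`, `isoSU` : `c.Gt 1` and `c.G 1` are the classical groups;
* `Trp`, `exists_trp` : change of the index type and of the twisting element.
-/

set_option autoImplicit false

namespace Cfsg.Agent.MO.TA.C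

open Cfsg Subgroup Matrix Cfsg.Agent.H615.GU
open scoped MatrixGroups

section gen

theorem exists_iso {H A : Type*} [Group H] [Group A] (ρ : H →* A) (hρ : Function.Injective ρ) (S : Subgroup A)
    (h : ∀ a, a ∈ S ↔ ∃ g, ρ g = a) : ∃ j : H ≃* S, ∀ g, (j g).1 = ρ g :=
  ⟨(MonoidHom.ofInjective hρ).trans (MulEquiv.subgroupCongr (Subgroup.ext fun a => (h a).symm)), fun _ => rfl⟩

variable {F K : Type} [Field F] [Field K]

/-- the image of a finite field -/
theorem mem_range [Fintype F] (φ : F →+* K) (x : K) : (∃ y, φ y = x) ↔ x ^ Fintype.card F = x := by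
  classical
  refine ⟨fun ⟨y, hy⟩ => by rw [← hy, ← map_pow, FiniteField.pow_card], fun hx => ?_⟩
  have h1 : 1 < Fintype.card F := Fintype.one_lt_card
  have hne := FiniteField.X_pow_card_sub_X_ne_zero K h1
  have hm : ∀ z : K, z ∈ (Polynomial.X ^ Fintype.card F - Polynomial.X : Polynomial K).roots.toFinset ↔
      z ^ Fintype.card F = z := fun z => by
    rw [Multiset.mem_toFinset, Polynomial.mem_roots hne, Polynomial.IsRoot.def, Polynomial.eval_sub,
      Polynomial.eval_pow, Polynomial.eval_X, sub_eq_zero]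
  have h2 : Finset.univ.image φ = (Polynomial.X ^ Fintype.card F - Polynomial.X : Polynomial K).roots.toFinset := by
    refine Finset.eq_of_subset_of_card_le (fun z hz => ?_) ?_
    · obtain ⟨y, -, rfl⟩ := Finset.mem_image.1 hz
      rw [hm, ← map_pow, FiniteField.pow_card]
    · rw [Finset.card_image_of_injective _ φ.injective, Finset.card_univ]
      refine (Multiset.toFinset_card_le _).trans ((Polynomial.card_roots' _).trans ?_)
      rw [FiniteField.X_pow_card_sub_X_natDegree_eq K h1]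
  obtain ⟨y, -, hy⟩ := Finset.mem_image.1 (h2.ge ((hm x).2 hx))
  exact ⟨y, hy⟩

theorem dvd_of_pow_dvd {p a b : ℕ} (hp : 1 < p) (h : p ^ a - 1 ∣ p ^ b - 1) : a ∣ b := by
  have h1 := Nat.gcd_eq_left h
  rw [Nat.pow_sub_one_gcd_pow_sub_one] at h1
  have h2 : 0 < p ^ a.gcd b := pow_pos (by omega) _
  have h3 : 0 < p ^ a := pow_pos (by omega) _
  have h4 : p ^ a.gcd b = p ^ a := by omega
  exact Nat.gcd_eq_left_iff_dvd.1 (Nat.pow_right_injective hp h4)

/-- embeddings of finite fields -/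
theorem emb_of_dvd [Fintype F] [Fintype K] {p : ℕ} [Fact p.Prime] [CharP K p] {a : ℕ} (hF : Fintype.card F = p ^ a)
    (h : Fintype.card F - 1 ∣ Fintype.card K - 1) : Nonempty (F →+* K) := by
  have hp : p.Prime := Fact.out
  have : CharP F p := charP_of_card_eq_prime_pow hF
  let _ : Algebra (ZMod p) F := ZMod.algebra F p
  let _ : Algebra (ZMod p) K := ZMod.algebra K p
  have h1 : Fintype.card F = p ^ Module.finrank (ZMod p) F := by rw [Module.card_eq_pow_finrank (K := ZMod p), ZMod.card]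
  have h2 : Fintype.card K = p ^ Module.finrank (ZMod p) K := by rw [Module.card_eq_pow_finrank (K := ZMod p), ZMod.card]
  rw [h1, h2] at h
  obtain ⟨f⟩ := FiniteField.nonempty_algHom_of_finrank_dvd (dvd_of_pow_dvd hp.one_lt h)
  exact ⟨f⟩

variable {ι : Type} [Fintype ι] [DecidableEq ι]

theorem map_inj (φ : F →+* K) : Function.Injective (GeneralLinearGroup.map (n := ι) φ) := fun _ _ h =>
  Units.ext (Matrix.ext fun i j => φ.injective (congrArg (fun u : GL ι K => u.1 i j) h))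

/-- descent of matrices -/
theorem exists_map (φ : F →+* K) (g : GL ι K) (h : ∀ i j, ∃ y, φ y = g.1 i j) :
    ∃ g₀ : GL ι F, GeneralLinearGroup.map φ g₀ = g := by
  choose A hA using h
  have h1 : (Matrix.of A).map φ = g.1 := Matrix.ext hA
  have h2 : (Matrix.of A).det ≠ 0 := fun h0 => by
    have h3 := φ.map_det (Matrix.of A)
    rw [h0, map_zero, RingHom.mapMatrix_apply, h1] at h3
    exact g.det_ne_zero h3.symm
  exact ⟨GeneralLinearGroup.mkOfDetNeZero _ h2, Units.ext h1⟩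

theorem det_map (φ : F →+* K) (g : GL ι F) :
    GeneralLinearGroup.det (GeneralLinearGroup.map φ g) = Units.map (φ : F →* K) (GeneralLinearGroup.det g) :=
  Units.ext (φ.map_det g.1).symm

theorem herm_iff {n q : ℕ} (σ : F →+* F) (hs : ∀ x, σ x = x ^ q) (A : Matrix (Fin n) (Fin n) F) :
    (∀ u v, hermForm n F q (A *ᵥ u) (A *ᵥ v) = hermForm n F q u v) ↔ Aᵀ * A.map σ = 1 := by
  have key : ∀ u v, hermForm n F q (A *ᵥ u) (A *ᵥ v) = u ⬝ᵥ ((Aᵀ * A.map σ) *ᵥ (σ ∘ v)) := by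
    intro u v
    rw [← mulVec_mulVec, dotProduct_mulVec, vecMul_transpose]
    refine Finset.sum_congr rfl fun i _ => ?_
    rw [← hs, RingHom.map_mulVec]
  refine ⟨fun h => Matrix.ext fun i j => ?_, fun h u v => ?_⟩
  · have h1 := (key _ _).symm.trans (h (Pi.single i 1) (Pi.single j 1))
    have h2 : σ ∘ (Pi.single j 1 : Fin n → F) = Pi.single j 1 := funext fun k => by
      simp [Pi.single_apply, apply_ite σ]
    rw [h2] at h1
    simpa only [hermForm, ← hs, Pi.single_apply, one_apply, apply_ite σ, eq_comm, _root_.Matrix.mulVec_single, _root_.MulOpposite.op_one, _root_.one_smul, _root_.single_dotProduct, _root_.Matrix.col_apply, _root_.one_mul, _root_.map_one, _root_.map_zero, _root_.mul_ite, _root_.mul_one, _root_.MulZeroClass.mul_zero, _root_.Finset.sum_ite_eq, _root_.Finset.mem_univ, ↓ _root_.reduceIte] using h1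
  · rw [key, h, one_mulVec]
    exact Finset.sum_congr rfl fun i _ => by rw [← hs]; rfl

variable {κ : Type} [Fintype κ] [DecidableEq κ]

/-- change of the index type -/
def rx (e : ι ≃ κ) : GL ι K ≃* GL κ K := Units.mapEquiv (Matrix.reindexRingEquiv K e).toMulEquiv

theorem rx_apply (e : ι ≃ κ) (g : GL ι K) (i j : κ) : (rx e g).1 i j = g.1 (e.symm i) (e.symm j) := rfl

theorem det_rx (e : ι ≃ κ) (g : GL ι K) : GeneralLinearGroup.det (rx e g) = GeneralLinearGroup.det g :=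
  Units.ext (det_reindex_self e g.1)

theorem colOf_conj {V W : Type} [AddCommGroup V] [Module K V] [Module.Finite K V] [AddCommGroup W] [Module K W]
    [Module.Finite K W] (e : V ≃ₗ[K] W) (T : V →ₗ[K] V) (T' : W →ₗ[K] W) (h : ∀ v, T' (e v) = e (T v)) :
    colOf T' = colOf T := by
  ext i
  have h1 : ∀ (k : ℕ) v, (T' ^ k) (e v) = e ((T ^ k) v) := fun k => by
    induction k with
    | zero => exact fun _ => rfl
    | succ k ih => exact fun v => by rw [pow_succ, pow_succ, Module.End.mul_apply, Module.End.mul_apply, h, ih]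
  rw [colOf_apply, colOf_apply, ← LinearEquiv.finrank_map_eq e]
  refine congrArg (fun S : Submodule K W => Module.finrank K S) (Submodule.ext fun w => ?_)
  obtain ⟨v, rfl⟩ := e.surjective w
  rw [Submodule.mem_map_equiv, e.symm_apply_apply, Submodule.mem_inf, Submodule.mem_inf, LinearMap.mem_ker,
    LinearMap.mem_ker, h, e.map_eq_zero_iff]
  refine and_congr Iff.rfl ⟨fun ⟨u, hu⟩ => ⟨e.symm u, e.injective ?_⟩, fun ⟨u, hu⟩ => ⟨e u, by rw [h1, hu]⟩⟩
  rw [← h1, e.apply_symm_apply, hu]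

theorem col_rx (e : ι ≃ κ) (g : GL ι K) (x : Kˣ) : col (rx e g) x = col g x := by
  refine colOf_conj (LinearEquiv.funCongrLeft K K e.symm) _ _ fun v => funext fun i => ?_
  have h1 : (rx e g).1 - scalar κ (x : K) = (g.1 - scalar ι (x : K)).submatrix e.symm e.symm := by
    ext a b
    simp [rx_apply, diagonal_apply]
  have h2 : (LinearEquiv.funCongrLeft K K e.symm v) ∘ e.symm.symm = v := funext fun a => by
    simp [LinearMap.funLeft_apply]
  rw [h1, toLin'_apply, submatrix_mulVec_equiv, h2]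
  rfl

theorem col_conj (y g : GL ι K) (x : Kˣ) : col (y * g * y⁻¹) x = col g x := by
  refine colOf_conj (toLin'OfInv y.inv_mul y.mul_inv) _ _ fun v => ?_
  change toLin' _ (y.1 *ᵥ v) = y.1 *ᵥ (toLin' _ v)
  rw [toLin'_apply, toLin'_apply, mulVec_mulVec, mulVec_mulVec, Matrix.sub_mul, Matrix.mul_sub, ← Units.val_mul,
    inv_mul_cancel_right, Units.val_mul, (scalar_commute (x : K) (fun _ => mul_comm _ _) y.1).eq]

end gen

variable (c : D0)

section mem

variable {ι : Type} [Fintype ι] [DecidableEq ι] {c} {v : GL ι c.K} {a : c.AA ι}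

theorem mem_Ah : a ∈ c.Ah v ↔ a.left * c.act ι a.right v = v * c.act ι c.F a.left := by
  rw [D0.Ah, mem_centralizer_singleton_iff]
  exact ⟨fun h => congrArg SemidirectProduct.left h, fun h => SemidirectProduct.ext h (mul_comm _ _)⟩

theorem mem_Gt : a ∈ c.Gt v ↔ a.right = 1 ∧ a.left * v = v * c.act ι c.F a.left := by
  refine ⟨fun h => ?_, fun h => ⟨mem_Ah.2 ?_, h.1⟩⟩
  · have h1 : a.right = 1 := h.2
    have h2 := mem_Ah.1 h.1
    rw [h1, map_one] at h2
    exact ⟨h1, h2⟩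
  · rw [h.1, map_one]
    exact h.2

theorem mem_Gt_one : a ∈ c.Gt (1 : GL ι c.K) ↔ a.right = 1 ∧ c.act ι c.F a.left = a.left := by
  rw [mem_Gt, mul_one, one_mul, eq_comm (a := a.left)]

theorem mem_G : a ∈ c.G v ↔ a ∈ c.Gt v ∧ c.dt a = 1 := ⟨fun h => ⟨h.1, h.2.2⟩, fun h => ⟨h.1, h.1.1, h.2⟩⟩

theorem eq_inl (h : a.right = 1) : SemidirectProduct.inl a.left = a := SemidirectProduct.ext rfl h.symm

end mem

theorem card_K : Fintype.card c.K - 1 = c.M := by
  classical
  rw [← c.ctx.card, Nat.card_eq_fintype_card, Fintype.card_units]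

theorem Q_pos (hs : c.sg c.F = 1) : c.Q = (c.p ^ c.f : ℕ) := by rw [c.hQ, hs]; simp

theorem Q_neg (hs : c.sg c.F = -1) : c.Q = -((c.p ^ c.f : ℕ) : ℤ) := by rw [c.hQ, hs]; simp

theorem pow_dvd_M {k : ℕ} (hk : 0 < k) (hk' : k ≤ c.n + 1) : ((c.p ^ c.f) ^ 2) ^ k - 1 ∣ c.M := by
  have h1 := c.ctx.dvd (2 * k) (by omega) (by omega)
  have h2 : c.Q ^ (2 * k) = ((((c.p ^ c.f) ^ 2) ^ k : ℕ) : ℤ) := by
    rcases Int.units_eq_one_or (c.sg c.F) with h | h
    · rw [Q_pos c h, pow_mul]; push_cast; rfl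
    · rw [Q_neg c h, pow_mul, neg_sq]; push_cast; rfl
  have h3 : 1 ≤ ((c.p ^ c.f) ^ 2) ^ k := Nat.one_le_pow _ _ (pow_pos (pow_pos c.pp.out.pos _) _)
  rw [h2, ← Nat.cast_one, ← Nat.cast_sub h3] at h1
  exact Int.natCast_dvd_natCast.1 h1

variable {F : Type} [Field F] [Fintype F]

/-- the small field embeds -/
theorem exists_emb (hF : Fintype.card F = c.p ^ c.f ∨ Fintype.card F = (c.p ^ c.f) ^ 2) : Nonempty (F →+* c.K) := by
  have h := pow_dvd_M c one_pos (by omega)
  rw [pow_one, ← card_K] at h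
  rcases hF with hF | hF
  · exact emb_of_dvd hF (hF ▸ (Nat.sub_one_dvd_pow_sub_one _ 2).trans h)
  · exact emb_of_dvd (hF.trans (pow_mul _ _ _).symm) (hF ▸ h)

variable {c} {ι : Type} [Fintype ι] [DecidableEq ι]

theorem act_pos (hs : c.sg c.F = 1) (g : GL ι c.K) (i j : ι) : (c.act ι c.F g).1 i j = g.1 i j ^ c.p ^ c.f := by
  rw [D0.act_apply, hs, sm_one, fm_apply, c.hF]
  rfl

theorem act_neg (hs : c.sg c.F = -1) (g : GL ι c.K) (i j : ι) : (c.act ι c.F g).1 i j = (g⁻¹).1 j i ^ c.p ^ c.f := by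
  rw [D0.act_apply, hs, sm_neg, fm_apply, c.hF]
  rfl

theorem act_act (g : GL ι c.K) (i j : ι) : (c.act ι c.F (c.act ι c.F g)).1 i j = g.1 i j ^ (c.p ^ c.f) ^ 2 := by
  rcases Int.units_eq_one_or (c.sg c.F) with h | h
  · rw [act_pos h, act_pos h, ← pow_mul, sq]
  · rw [act_neg h, ← map_inv, act_neg h, inv_inv, ← pow_mul, sq]

theorem fix_pos (hs : c.sg c.F = 1) (hF : Fintype.card F = c.p ^ c.f) (φ : F →+* c.K) (g : GL ι c.K) :
    c.act ι c.F g = g ↔ ∃ g₀ : GL ι F, GeneralLinearGroup.map φ g₀ = g := by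
  refine ⟨fun h => exists_map φ g fun i j => (mem_range φ _).2 ?_, ?_⟩
  · rw [hF, ← act_pos hs, h]
  · rintro ⟨g₀, rfl⟩
    refine Units.ext (Matrix.ext fun i j => ?_)
    rw [act_pos hs, ← hF]
    exact (mem_range φ _).1 ⟨_, rfl⟩

theorem fix_neg (hs : c.sg c.F = -1) (hF : Fintype.card F = (c.p ^ c.f) ^ 2) (φ : F →+* c.K) {n : ℕ}
    (g : GL (Fin n) c.K) : c.act _ c.F g = g ↔ ∃ g₀ ∈ GU n F (c.p ^ c.f), GeneralLinearGroup.map φ g₀ = g := by
  have : CharP F c.p := charP_of_card_eq_prime_pow (hF.trans (pow_mul _ _ _).symm)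
  have key : ∀ g₀ : GL (Fin n) F, c.act _ c.F (GeneralLinearGroup.map φ g₀) = GeneralLinearGroup.map φ g₀ ↔
      g₀ ∈ GU n F (c.p ^ c.f) := fun g₀ => by
    refine Iff.trans ?_ (herm_iff (iterateFrobenius F c.p c.f) (fun _ => rfl) g₀.1).symm
    have h1 : c.act _ c.F (GeneralLinearGroup.map φ g₀) = GeneralLinearGroup.map φ
        (itm F _ (GeneralLinearGroup.map (iterateFrobenius F c.p c.f) g₀)) := by
      refine Units.ext (Matrix.ext fun i j => ?_)
      rw [act_neg hs, ← map_inv]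
      exact (map_pow φ _ _).symm
    rw [h1, (map_inj φ).eq_iff]
    refine ⟨fun h => ?_, fun h => Units.ext ?_⟩
    · have h2 := congrArg (fun u : GL (Fin n) F => u.1ᵀ) h
      simp only [itm_val, transpose_transpose] at h2
      rw [← h2]
      exact Units.inv_mul _
    · rw [itm_val, Units.inv_eq_of_mul_eq_one_left (u := GeneralLinearGroup.map (iterateFrobenius F c.p c.f) g₀) h,
        transpose_transpose]
  refine ⟨fun h => ?_, ?_⟩
  · obtain ⟨g₀, rfl⟩ := exists_map φ g fun i j => (mem_range φ _).2 (by rw [hF, ← act_act, h, h])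
    exact ⟨g₀, (key g₀).1 h, rfl⟩
  · rintro ⟨g₀, h, rfl⟩
    exact (key g₀).2 h

omit [Fintype F] in
theorem det_map_eq_one (φ : F →+* c.K) (g : GL ι F) :
    GeneralLinearGroup.det (GeneralLinearGroup.map φ g) = 1 ↔ g.1.det = 1 := by
  rw [det_map, ← Units.val_inj]
  exact map_eq_one_iff φ φ.injective

/-- `GL_n(q)` -/
theorem isoGL (hs : c.sg c.F = 1) (hF : Fintype.card F = c.p ^ c.f) (φ : F →+* c.K) (ι : Type) [Fintype ι]
    [DecidableEq ι] : ∃ j : GL ι F ≃* c.Gt (1 : GL ι c.K),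
      ∀ g, (j g).1 = SemidirectProduct.inl (GeneralLinearGroup.map φ g) := by
  refine exists_iso (SemidirectProduct.inl.comp (GeneralLinearGroup.map φ))
    (SemidirectProduct.inl_injective.comp (map_inj φ)) _ fun a => ?_
  rw [mem_Gt_one, fix_pos hs hF φ]
  refine ⟨fun ⟨h1, g, h2⟩ => ⟨g, SemidirectProduct.ext h2 h1.symm⟩, ?_⟩
  rintro ⟨g, rfl⟩
  exact ⟨rfl, g, rfl⟩

/-- `SL_n(q)` -/
theorem isoSL (hs : c.sg c.F = 1) (hF : Fintype.card F = c.p ^ c.f) (φ : F →+* c.K) (ι : Type) [Fintype ι]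
    [DecidableEq ι] : ∃ j : _root_.Matrix.SpecialLinearGroup ι F ≃* c.G (1 : GL ι c.K),
      ∀ g, (j g).1 = SemidirectProduct.inl (GeneralLinearGroup.map φ (SpecialLinearGroup.toGL g)) := by
  refine exists_iso (SemidirectProduct.inl.comp ((GeneralLinearGroup.map φ).comp SpecialLinearGroup.toGL))
    (SemidirectProduct.inl_injective.comp ((map_inj φ).comp SpecialLinearGroup.toGL_injective)) _ fun a => ?_
  rw [mem_G, mem_Gt_one, fix_pos hs hF φ]
  refine ⟨fun ⟨⟨h1, g, h2⟩, h3⟩ => ⟨⟨g.1, (det_map_eq_one φ g).1 (h2 ▸ h3)⟩, SemidirectProduct.ext ?_ h1.symm⟩, ?_⟩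
  · have h4 := congrArg Units.val h2
    exact Units.ext h4
  · rintro ⟨g, rfl⟩
    exact ⟨⟨rfl, _, rfl⟩, (det_map_eq_one φ _).2 g.2⟩

/-- `GU_n(q)` -/
theorem isoGU (hs : c.sg c.F = -1) (hF : Fintype.card F = (c.p ^ c.f) ^ 2) (φ : F →+* c.K) (n : ℕ) :
    ∃ j : GU n F (c.p ^ c.f) ≃* c.Gt (1 : GL (Fin n) c.K),
      ∀ g, (j g).1 = SemidirectProduct.inl (GeneralLinearGroup.map φ g.1) := by
  refine exists_iso (SemidirectProduct.inl.comp ((GeneralLinearGroup.map φ).comp (GU n F _).subtype))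
    (SemidirectProduct.inl_injective.comp ((map_inj φ).comp Subtype.val_injective)) _ fun a => ?_
  rw [mem_Gt_one, fix_neg hs hF φ]
  refine ⟨fun ⟨h1, g, hg, h2⟩ => ⟨⟨g, hg⟩, SemidirectProduct.ext h2 h1.symm⟩, ?_⟩
  rintro ⟨g, rfl⟩
  exact ⟨rfl, g.1, g.2, rfl⟩

/-- `SU_n(q)` -/
theorem isoSU (hs : c.sg c.F = -1) (hF : Fintype.card F = (c.p ^ c.f) ^ 2) (φ : F →+* c.K) (n : ℕ) :
    ∃ j : SU n F (c.p ^ c.f) ≃* c.G (1 : GL (Fin n) c.K),
      ∀ g, (j g).1 = SemidirectProduct.inl (GeneralLinearGroup.map φ (SpecialLinearGroup.toGL g.1)) := by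
  refine exists_iso (SemidirectProduct.inl.comp (((GeneralLinearGroup.map φ).comp SpecialLinearGroup.toGL).comp
    (SU n F _).subtype)) (SemidirectProduct.inl_injective.comp
      (((map_inj φ).comp SpecialLinearGroup.toGL_injective).comp Subtype.val_injective)) _ fun a => ?_
  rw [mem_G, mem_Gt_one, fix_neg hs hF φ]
  refine ⟨fun ⟨⟨h1, g, hg, h2⟩, h3⟩ =>
    ⟨⟨⟨g.1, (det_map_eq_one φ g).1 (h2 ▸ h3)⟩, hg⟩, SemidirectProduct.ext ?_ h1.symm⟩, ?_⟩
  · have h4 := congrArg Units.val h2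
    exact Units.ext h4
  · rintro ⟨g, rfl⟩
    exact ⟨⟨rfl, _, g.2, rfl⟩, (det_map_eq_one φ _).2 g.1.2⟩

/-! ### transport -/

section trp

variable {κ : Type} [Fintype κ] [DecidableEq κ]

theorem rx_act (e : ι ≃ κ) (x : c.E) (g : GL ι c.K) : rx e (c.act ι x g) = c.act κ x (rx e g) := by
  rw [D0.act_apply, D0.act_apply]
  rcases Int.units_eq_one_or (c.sg x) with h | h <;> rw [h] <;> rfl

variable (c) in
/-- change of the index type -/
def rxA (e : ι ≃ κ) : c.AA ι ≃* c.AA κ where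
  toFun a := ⟨rx e a.left, a.right⟩
  invFun a := ⟨(rx e).symm a.left, a.right⟩
  left_inv a := SemidirectProduct.ext ((rx e).symm_apply_apply _) rfl
  right_inv a := SemidirectProduct.ext ((rx e).apply_symm_apply _) rfl
  map_mul' a b := SemidirectProduct.ext (by
    change rx e (a.left * c.act ι a.right b.left) = rx e a.left * c.act κ a.right (rx e b.left)
    rw [map_mul, rx_act]) rfl

/-- `Ψ` transports the groups of `u` to the groups of `v` -/
structure Trp (u : GL ι c.K) (v : GL κ c.K) (Ψ : c.AA ι ≃* c.AA κ) : Prop where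
  tw : Ψ (c.tw u) = c.tw v
  right : ∀ a, (Ψ a).right = a.right
  dt : ∀ a, c.dt (Ψ a) = c.dt a
  col : ∀ a, a.right = 1 → ∀ x, col (Ψ a).left x = col a.left x
  dg : ∀ a x, a.right = 1 → ((Ψ a).left = dg (fun _ => x) ↔ a.left = dg fun _ => x)

namespace Trp

variable {u : GL ι c.K} {v : GL κ c.K} {Ψ : c.AA ι ≃* c.AA κ} (h : Trp u v Ψ)

include h

theorem ah (a : c.AA ι) : Ψ a ∈ c.Ah v ↔ a ∈ c.Ah u := by
  rw [D0.Ah, D0.Ah, mem_centralizer_singleton_iff, mem_centralizer_singleton_iff, ← h.tw, ← map_mul, ← map_mul,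
    Ψ.apply_eq_iff_eq]

theorem gt (a : c.AA ι) : Ψ a ∈ c.Gt v ↔ a ∈ c.Gt u :=
  and_congr (h.ah a) (by
    change (Ψ a).right = 1 ↔ a.right = 1
    rw [h.right])

theorem gh (a : c.AA ι) : Ψ a ∈ c.Gh v ↔ a ∈ c.Gh u :=
  and_congr (h.ah a) (by
    change c.dt (Ψ a) = 1 ↔ c.dt a = 1
    rw [h.dt])

theorem g (a : c.AA ι) : Ψ a ∈ c.G v ↔ a ∈ c.G u := and_congr (h.gt a) (h.gh a)

omit h in
theorem iso {S : Subgroup (c.AA ι)} {T : Subgroup (c.AA κ)} (hS : ∀ a, Ψ a ∈ T ↔ a ∈ S) :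
    ∃ j : S ≃* T, ∀ a, (j a).1 = Ψ a :=
  exists_iso (Ψ.toMonoidHom.comp S.subtype) (Ψ.injective.comp Subtype.val_injective) T fun b =>
    ⟨fun hb => ⟨⟨Ψ.symm b, (hS _).1 (by rwa [Ψ.apply_symm_apply])⟩, Ψ.apply_symm_apply b⟩,
      fun ⟨a, ha⟩ => ha ▸ (hS _).2 a.2⟩

end Trp

theorem dg_comm (x : c.Kˣ) (y : GL ι c.K) : y * dg (fun _ => x) = dg (fun _ => x) * y :=
  Units.ext (scalar_commute (x : c.K) (fun _ => mul_comm _ _) y.1).eq.symm

theorem rx_dg (e : ι ≃ κ) (x : c.Kˣ) : rx e (dg fun _ => x) = dg fun _ => x :=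
  Units.ext (Matrix.ext fun i j => by simp [rx_apply, dg_val, diagonal_apply])

/-- **all twisted models are isomorphic** -/
theorem exists_trp (e : ι ≃ κ) {v : GL κ c.K} (hv : c.Lg v) : ∃ Ψ, Trp (1 : GL ι c.K) v Ψ := by
  obtain ⟨y, hy, hv⟩ := hv
  have hl : ∀ a : c.AA ι, ((rxA c e).trans (MulAut.conj (SemidirectProduct.inl y⁻¹)) a).left =
      y⁻¹ * rx e a.left * c.act κ a.right y := fun a => by
    simp only [rxA, _root_.SemidirectProduct.mk_eq_inl_mul_inr, _root_.map_inv, _root_.MulEquiv.trans_apply, _root_.MulEquiv.coe_mk, _root_.Equiv.coe_fn_mk, _root_.MulAut.inv_apply, _root_.MulAut.conj_symm_apply, _root_.SemidirectProduct.mul_left, _root_.SemidirectProduct.inv_left, _root_.SemidirectProduct.right_inl, _root_.inv_one, _root_.map_one, _root_.SemidirectProduct.left_inl, _root_.MulAut.one_apply, _root_.SemidirectProduct.inv_right, _root_.SemidirectProduct.left_inr, _root_.mul_one, _root_.SemidirectProduct.mul_right, _root_.SemidirectProduct.right_inr,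 _root_.one_mul]
  have hr : ∀ a : c.AA ι, ((rxA c e).trans (MulAut.conj (SemidirectProduct.inl y⁻¹)) a).right = a.right := fun a => by
    simp only [rxA, _root_.SemidirectProduct.mk_eq_inl_mul_inr, _root_.map_inv, _root_.MulEquiv.trans_apply, _root_.MulEquiv.coe_mk, _root_.Equiv.coe_fn_mk, _root_.MulAut.inv_apply, _root_.MulAut.conj_symm_apply, _root_.SemidirectProduct.mul_right, _root_.SemidirectProduct.inv_right, _root_.SemidirectProduct.right_inl, _root_.inv_one, _root_.SemidirectProduct.right_inr, _root_.one_mul, _root_.mul_one]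
  refine ⟨(rxA c e).trans (MulAut.conj (SemidirectProduct.inl y⁻¹)), SemidirectProduct.ext ?_ (hr _), hr, fun a => ?_,
    fun a ha x => ?_, fun a x ha => ?_⟩
  · rw [hl]
    change y⁻¹ * rx e 1 * c.act κ c.F y = v
    rw [map_one, mul_one, ← hv, inv_mul_cancel_left]
  · rw [D0.dt, hl, map_mul, map_mul, D0.det_act, map_inv, hy, c.ue_one, det_rx, inv_one, one_mul, mul_one, D0.dt]
  · rw [hl, ha, map_one, MulAut.one_apply, ← col_rx e, ← col_conj y⁻¹ (rx e a.left), inv_inv]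
  · rw [hl, ha, map_one, MulAut.one_apply, mul_assoc, inv_mul_eq_iff_eq_mul, dg_comm, mul_left_inj, ← rx_dg e,
      (rx e).apply_eq_iff_eq]

end trp

end Cfsg.Agent.MO.TA.C
end

-- part: MO/TA/CTab
section
/-!
# MO, types `A` and `²A`: the character tables of the model (helper99)

* `ctx_of` : the context of the small field; `tab_of_typ` : transport of a table; `tab` : `c.Tab v` for all data.
-/

set_option autoImplicit false

namespace Cfsg.Agent.MO.TA.C

open Cfsg Subgroup Matrix Cfsg.Agent.H615.GU Cfsg.Agent.H623.GU Cfsg.Agent.H577.GLB.Std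
open scoped MatrixGroups

variable (c : D0)

theorem ctxQ : CtxQ c.θ c.Q c.M c.n :=
  ⟨c.ctx.finK, c.ctx.inj, c.ctx.card, fun k h1 h2 => c.ctx.dvd k h1 (by omega), c.ctx.unit, c.ctx.two⟩

theorem ctx_of {F : Type} [Field F] [Fintype F] [Algebra F c.K]
    (hF : Fintype.card F = c.p ^ c.f ∨ Fintype.card F = (c.p ^ c.f) ^ 2) : H614.GLn.Ctx F c.θ c.n c.M := by
  have hd : ∀ d, 0 < d → d ≤ c.n → Nat.card F ^ d - 1 ∣ c.M := fun d h1 h2 => by
    have h := pow_dvd_M c h1 (by omega)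
    rw [Nat.card_eq_fintype_card]
    rcases hF with hF | hF <;> rw [hF]
    · refine dvd_trans ?_ h
      rw [← pow_mul _ 2, mul_comm 2, pow_mul _ d]
      exact Nat.sub_one_dvd_pow_sub_one _ _
    · exact h
  have hK : Nat.card c.K = Nat.card F ^ Module.finrank F c.K := Module.natCard_eq_pow_finrank
  refine ⟨inferInstance, inferInstance, c.ctx.inj, fun h _ => H120.GLB.Ctx.splits_of F hK (fun d h1 h2 => ?_) h,
    c.ctx.card, hd⟩
  refine dvd_of_pow_dvd (p := Nat.card F) Finite.one_lt_card ?_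
  rw [← hK, Nat.card_eq_fintype_card (α := c.K), card_K]
  exact hd d h1 h2

variable {c} {ι : Type} [Fintype ι] [DecidableEq ι] {v : GL ι c.K}

theorem irr_iff {G G' : Type} [Group G] [Group G'] (e : G' ≃* G) {f : G → ℂ} :
    IsIrrCharacter G' (f ∘ e) ↔ IsIrrCharacter G f := by
  refine ⟨fun h => ?_, Characters.Core.isIrr_comp e.toMonoidHom e.surjective⟩
  have h1 := Characters.Core.isIrr_comp e.symm.toMonoidHom e.symm.surjective h
  convert h1 using 1
  funext x
  simp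

/-- transport of a table -/
theorem tab_of_typ {H : Type} [Group H] [Finite H] {l : ℕ} (T : TypeData (dOrb c.K c.Q) c.Q H (Fintype.card ι))
    (h : RzHyp c.θ c.M l T) (hb : ∀ m, Fintype.card ι ≤ m → h.rz.Bij m) (j : H ≃* c.Gt v)
    (hj : ∀ g x, T.typ g (Quotient.mk (orbSetoid c.K c.Q) x) = col (j g).1.left x) : c.Tab v := by
  have h1 : ∀ g, ty c.Q (j g).1.left = T.typ g := fun g => Finsupp.ext fun o => by
    rw [← o.out_eq, hj, o.out_eq]
    rfl
  have h2 : ∀ g : c.Gt v, ty c.Q g.1.left = T.typ (j.symm g) := fun g => by rw [← h1, j.apply_symm_apply]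
  have h3 : ∀ {m : ℕ} (t : LabZ c.Q c.M m (Fintype.card ι)) (χ : c.Gt v → ℂ) (hχ : IsIrrCharacter _ χ),
      c.IsL t χ ↔ h.rz.IsLb ⟨χ ∘ j, (irr_iff j).2 hχ⟩ t := fun t χ hχ => by
    refine exists_congr fun s => ⟨fun hs => funext fun g => ?_, fun hs g => ?_⟩
    · rw [h.rz_om_apply, ← h1, hs]
      rfl
    · rw [h2, ← h.rz_om_apply, hs]
      simp
  refine ⟨fun g x => by rw [h2, hj, j.apply_symm_apply], ⟨⟨fun g => T.typ (j.symm g), fun g k => ?_, fun g => T.deg _,
    fun g g' hg => ?_, fun lam hl => ?_⟩, fun g => (h2 g).symm⟩, fun m hm χ hχ => ?_, fun m hm t => ?_⟩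
  · rw [map_mul, map_mul, map_inv, T.conj]
  · simpa only [_root_.isConj_iff, _root_.Subtype.exists, _root_.MulEquiv.toMonoidHom_eq_coe, _root_.MonoidHom.coe_coe, _root_.MulEquiv.apply_symm_apply] using j.toMonoidHom.map_isConj (T.sep _ _ hg)
  · rw [← Nat.card_congr j.toEquiv, ← T.card lam hl]
    congr 2
    exact Nat.card_congr (j.symm.toEquiv.subtypeEquiv fun _ => Iff.rfl)
  · simp only [h3 _ χ hχ]
    exact (hb m hm).1 _
  · obtain ⟨χ, h4, h5⟩ := (hb m hm).2 t
    have h6 : (χ.1 ∘ j.symm) ∘ j = χ.1 := funext fun g => by simp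
    have h7 : IsIrrCharacter _ (χ.1 ∘ j.symm) := (irr_iff j.symm).2 χ.2
    refine ⟨χ.1 ∘ j.symm, ⟨h7, (h3 t _ h7).2 ?_⟩, fun ψ hψ => ?_⟩
    · convert h4 using 1
      exact Subtype.ext h6
    · rw [← h5 _ ((h3 t _ hψ.1).1 hψ.2)]
      funext g
      simp

theorem exists_prime {F : Type} [Field F] [Fintype F] : ∃ l : ℕ, l.Prime ∧ (l : F) ≠ 0 := by
  obtain ⟨l, h1, h2⟩ := Nat.exists_infinite_primes (ringChar F + 1)
  refine ⟨l, h2, fun h => ?_⟩
  have h3 := (Nat.prime_dvd_prime_iff_eq (CharP.char_is_prime F _) h2).1 ((ringChar.spec F l).1 h)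
  omega

/-- **the character tables** -/
theorem tab (hι : Fintype.card ι ≤ c.n) (hv : c.Lg v) : c.Tab v := by
  obtain ⟨Ψ, hΨ⟩ := exists_trp (Fintype.equivFin ι).symm hv
  obtain ⟨j₂, hj₂⟩ := Trp.iso hΨ.gt
  have hc : ∀ a x, col (j₂ a).1.left x = col a.1.left x := fun a x => by rw [hj₂, hΨ.col _ a.2.2]
  have ctx := ctxQ c
  rcases Int.units_eq_one_or (c.sg c.F) with hs | hs
  · let F := GaloisField c.p c.f
    let _ : Fintype F := Fintype.ofFinite F
    have hF : Fintype.card F = c.p ^ c.f := by rw [← Nat.card_eq_fintype_card, GaloisField.card _ _ c.fpos.ne']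
    obtain ⟨φ⟩ := exists_emb c (.inl hF)
    let _ := φ.toAlgebra
    obtain ⟨l, hl, hlF⟩ := exists_prime (F := F)
    obtain ⟨j, hj⟩ := isoGL hs hF φ (Fin (Fintype.card ι))
    have hQ : c.Q = (Fintype.card F : ℤ) := by rw [Q_pos c hs, hF]
    have key : ∃ t : Tow c.θ c.Q c.M c.n l (fun n => GL (Fin n) F), ∀ n hn (A : GL (Fin n) F) (x : c.Kˣ),
        (t.T n hn).typ A (Quotient.mk (orbSetoid c.K c.Q) x) = mcol A.1 (x : c.K) := by
      rw [hQ] at ctx ⊢
      exact H941.GU.towG ctx (ctx_of c (.inl hF)) hl hlF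
    obtain ⟨t, ht⟩ := key
    refine tab_of_typ (t.T _ hι) (t.hyp _ hι) (fun m => t.bij _ m hι) (j.trans j₂) fun g x => ?_
    rw [ht, MulEquiv.trans_apply, hc, hj]
    rfl
  · let F := GaloisField c.p (c.f * 2)
    let _ : Fintype F := Fintype.ofFinite F
    have hF : Fintype.card F = (c.p ^ c.f) ^ 2 := by
      rw [← Nat.card_eq_fintype_card, GaloisField.card _ _ (mul_ne_zero c.fpos.ne' two_ne_zero), pow_mul]
    obtain ⟨φ⟩ := exists_emb c (.inr hF)
    let _ := φ.toAlgebra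
    obtain ⟨l, hl, hlF⟩ := exists_prime (F := F)
    obtain ⟨j, hj⟩ := isoGU hs hF φ (Fintype.card ι)
    have key : ∃ t : Tow c.θ c.Q c.M c.n l (fun n => GU n F (c.p ^ c.f)), ∀ n hn (A : GU n F (c.p ^ c.f)) (x : c.Kˣ),
        (t.T n hn).typ A (Quotient.mk (orbSetoid c.K c.Q) x) = mcol A.1.1 (x : c.K) := by
      rw [Q_neg c hs] at ctx ⊢
      exact H941.GU.towU hF ctx (ctx_of c (.inr hF)) hl hlF
    obtain ⟨t, ht⟩ := key
    refine tab_of_typ (t.T _ hι) (t.hyp _ hι) (fun m => t.bij _ m hι) (j.trans j₂) fun g x => ?_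
    rw [ht, MulEquiv.trans_apply, hc, hj]
    rfl

end Cfsg.Agent.MO.TA.C
end

-- part: MO/TA/BoxC
section
/-!
# MO, types `A` and `²A`: the contexts exist (helper99)

* `lang` : Lang's theorem in a large finite field; `exists_D0` : the data; `boxC`.
-/

set_option autoImplicit false

namespace Cfsg.Agent.MO.TA

open Cfsg Subgroup Matrix Cfsg.Agent.H615.GU Cfsg.Agent.H321.Ker
open scoped MatrixGroups

namespace C

variable {c : D0}

theorem act_dg {ι : Type} [Fintype ι] [DecidableEq ι] (e : c.E) (t : ι → c.Kˣ) :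
    c.act ι e (dg t) = dg fun i => c.ue e (t i) := by
  rw [D0.act_apply]
  have h1 : sm c.K ι (c.sg e) (dg t) = dg fun i => t i ^ (c.sg e : ℤ) := by
    rcases Int.units_eq_one_or (c.sg e) with h | h <;> rw [h]
    · simp [sm_one]
    · refine Units.ext ?_
      rw [sm_neg, itm_val, ← map_inv, dg_val, dg_val, diagonal_transpose]
      simp
  rw [h1]
  refine Units.ext (Matrix.ext fun i j => ?_)
  rw [fm_apply, dg_val, dg_val, diagonal_apply, diagonal_apply, apply_ite (c.σ e), map_zero]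
  rfl

theorem det_dg {ι : Type} [Fintype ι] [DecidableEq ι] (t : ι → c.Kˣ) : GeneralLinearGroup.det (dg t) = ∏ i, t i :=
  Units.ext (by rw [GeneralLinearGroup.val_det_apply, dg_val, det_diagonal, Units.coe_prod])

/-- the determinant can be corrected -/
theorem lg_of {ι : Type} [Fintype ι] [DecidableEq ι] (i : ι) {v y : GL ι c.K} (hv : GeneralLinearGroup.det v = 1)
    (h : y * v = c.act ι c.F y) : c.Lg v := by
  have h1 : c.ue c.F (GeneralLinearGroup.det y) = GeneralLinearGroup.det y := by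
    rw [← D0.det_act, ← h, map_mul, hv, mul_one]
  have h2 : c.act ι c.F (dg (Pi.mulSingle i (GeneralLinearGroup.det y))) =
      dg (Pi.mulSingle i (GeneralLinearGroup.det y)) := by
    rw [act_dg]
    refine congrArg dg (funext fun j => ?_)
    rw [Pi.mulSingle_apply, apply_ite (c.ue c.F), h1, c.ue_one]
  refine ⟨(dg (Pi.mulSingle i (GeneralLinearGroup.det y)))⁻¹ * y, ?_, ?_⟩
  · rw [map_mul, map_inv, det_dg, Finset.prod_pi_mulSingle', if_pos (Finset.mem_univ _), inv_mul_cancel]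
  · rw [map_mul, map_inv, h2, mul_assoc, h]

/-- integral matrices have bounded order -/
theorem pow_eq_one {m D : ℕ} (hm : m ≤ c.n) (hD : ∀ j, 0 < j → j ≤ c.p ^ (c.n * c.n) → j ∣ D) {v : GL (Fin m) c.K}
    (hv : ∀ i j, ∃ z : ℤ, v.1 i j = z) : (v * c.act _ c.F v) ^ D = 1 := by
  let φ : ZMod c.p →+* c.K := ZMod.castHom dvd_rfl c.K
  obtain ⟨v₀, rfl⟩ := exists_map φ v fun i j => (hv i j).elim fun z hz => ⟨z, by rw [hz, map_intCast]⟩
  obtain ⟨w₀, hw⟩ := exists_map φ (c.act _ c.F (GeneralLinearGroup.map φ v₀)) fun i j => by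
    rcases Int.units_eq_one_or (c.sg c.F) with h | h
    · exact ⟨v₀.1 i j ^ c.p ^ c.f, by rw [act_pos h, map_pow]; rfl⟩
    · exact ⟨(v₀⁻¹).1 j i ^ c.p ^ c.f, by rw [act_neg h, map_pow, ← map_inv]; rfl⟩
  rw [← hw, ← map_mul, ← map_pow, orderOf_dvd_iff_pow_eq_one.1, map_one]
  refine hD _ (orderOf_pos _) (orderOf_le_card.trans ?_)
  refine (Nat.card_le_card_of_injective _ Units.val_injective).trans ?_
  change Nat.card (Fin m → Fin m → ZMod c.p) ≤ _
  rw [Nat.card_fun, Nat.card_fun, Nat.card_zmod, Nat.card_eq_fintype_card, Fintype.card_fin, ← pow_mul]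
  exact Nat.pow_le_pow_right c.pp.out.pos (Nat.mul_le_mul hm hm)

theorem lang_fin {m D : ℕ} [NeZero m] (hm : m ≤ c.n) (hK : Fintype.card c.K = c.p ^ ((c.f + c.f) * D))
    (hD : ∀ j, 0 < j → j ≤ c.p ^ (c.n * c.n) → j ∣ D) {v : GL (Fin m) c.K} (hv : ∀ i j, ∃ z : ℤ, v.1 i j = z) :
    ∃ y, y * v = c.act _ c.F y := by
  let k := AlgebraicClosure c.K
  let φ : c.K →+* k := algebraMap _ _
  have key : ∃ Φ : GL (Fin m) k →* GL (Fin m) k, (∀ u, ∃ x, u = x * (Φ x)⁻¹) ∧
      (∀ g, Φ (GeneralLinearGroup.map φ g) = GeneralLinearGroup.map φ (c.act _ c.F g)) ∧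
      ∀ x, Φ (Φ x) = fr c.p (c.f + c.f) x := by
    rcases Int.units_eq_one_or (c.sg c.F) with h | h
    · refine ⟨fr c.p c.f, lang_fr c.fpos, fun g => Units.ext (Matrix.ext fun i j => ?_), fun x => fr_fr _ x⟩
      exact (map_pow φ _ _).symm.trans (congrArg φ (act_pos h g i j).symm)
    · refine ⟨it.comp (fr c.p c.f), lang_it c.fpos, fun g => Units.ext (Matrix.ext fun i j => ?_), fun x => ?_⟩
      · exact (map_pow φ _ _).symm.trans (congrArg φ (act_neg h g i j).symm)
      · change it (fr _ _ (it (fr _ _ x))) = _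
        rw [← it_fr, it_it, fr_fr]
  obtain ⟨Φ, h1, h2, h3⟩ := key
  obtain ⟨x, hx⟩ := h1 (GeneralLinearGroup.map φ v)
  set! u := GeneralLinearGroup.map φ (v * c.act _ c.F v) with hu
  have h4 : Φ x = (GeneralLinearGroup.map φ v)⁻¹ * x := by rw [hx]; group
  have h5 : fr c.p (c.f + c.f) x = u⁻¹ * x := by
    rw [← h3, h4, map_mul, map_inv, h2, h4, hu, map_mul, _root_.mul_inv_rev, mul_assoc]
  have h6 : c.act _ c.F (c.act _ c.F v) = v := Units.ext (Matrix.ext fun i j => by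
    obtain ⟨z, hz⟩ := hv i j
    rw [act_act, hz, ← pow_mul]
    exact map_intCast (iterateFrobenius c.K c.p _) z)
  have h7 : fr c.p (c.f + c.f) u = u := by rw [← h3, hu, h2, h2, map_mul, map_mul, h6]
  have h8 : ∀ j, fr c.p ((c.f + c.f) * j) x = u⁻¹ ^ j * x := fun j => by
    induction j with
    | zero => exact Units.ext (Matrix.ext fun a b => by simp [fr_apply])
    | succ j ih => rw [mul_add_one, ← fr_fr, ih, map_mul, map_pow, map_inv, h7, h5, pow_succ, mul_assoc]
  have h9 : fr c.p ((c.f + c.f) * D) x = x := by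
    rw [h8, inv_pow, hu, ← map_pow, pow_eq_one hm hD hv, map_one, inv_one, one_mul]
  obtain ⟨y, rfl⟩ := exists_map φ x fun i j => (mem_range φ _).2 (by rw [hK, ← fr_apply, h9])
  refine ⟨y⁻¹, map_inj φ ?_⟩
  rw [← h2, map_mul, hx, map_inv, map_inv, inv_mul_cancel_left]

/-- **Lang's theorem** -/
theorem lang {D : ℕ} (hK : Fintype.card c.K = c.p ^ ((c.f + c.f) * D))
    (hD : ∀ j, 0 < j → j ≤ c.p ^ (c.n * c.n) → j ∣ D) (ι : Type) [Fintype ι] [DecidableEq ι]
    (hι : Fintype.card ι ≤ c.n) (v : GL ι c.K) (h1 : GeneralLinearGroup.det v = 1) (hv : ∀ i j, ∃ z : ℤ, v.1 i j = z) :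
    c.Lg v := by
  rcases isEmpty_or_nonempty ι with h | ⟨⟨i⟩⟩
  · exact ⟨1, map_one _, Units.ext (Matrix.ext fun i => isEmptyElim i)⟩
  · have : NeZero (Fintype.card ι) := ⟨(Fintype.card_pos_iff.2 ⟨i⟩).ne'⟩
    obtain ⟨y, hy⟩ := lang_fin hι hK hD (v := rx (Fintype.equivFin ι) v) fun _ _ => hv _ _
    obtain ⟨y, rfl⟩ := (rx (Fintype.equivFin ι)).surjective y
    exact lg_of i h1 ((rx (Fintype.equivFin ι)).injective (by rw [map_mul, hy, rx_act]))

theorem aut_eq (K : Type) [Field K] [Finite K] (p : ℕ) [Fact p.Prime] [CharP K p] (τ : K ≃+* K) :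
    ∃ i : ℕ, τ = frobeniusEquiv K p ^ i := by
  let _ : Algebra (ZMod p) K := ZMod.algebra K p
  obtain ⟨i, hi⟩ := FiniteField.exists_forall_apply_eq_pow (ZMod p) p K (AlgEquiv.ofRingEquiv (f := τ) fun a =>
    RingHom.congr_fun (RingHom.ext_zmod ((τ : K →+* K).comp (algebraMap _ K)) (algebraMap _ K)) a)
  refine ⟨i, RingEquiv.ext fun x => ?_⟩
  rw [← iterateFrobeniusEquiv_eq_pow, iterateFrobeniusEquiv_def]
  exact (hi x).trans (by rw [Nat.card_zmod])

/-- the automorphisms -/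
def EE (K : Type) [Field K] (gr : Prop) : Subgroup ((K ≃+* K) × ℤˣ) where
  carrier := {e | gr ∨ e.2 = 1}
  one_mem' := .inr rfl
  mul_mem' := fun {a b} ha hb => ha.elim .inl fun ha => hb.elim .inl fun hb => .inr (by rw [Prod.snd_mul, ha, hb, one_mul])
  inv_mem' := fun {a} ha => ha.imp id fun ha => by rw [Prod.snd_inv, ha, inv_one]

end C

open _root_.Cfsg.Agent.MO.TA.C in
/-- **box C** -/
theorem boxC : BoxC := by
  intro p f n s gr hp hf hs
  have : Fact p.Prime := ⟨hp⟩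
  let D := (p ^ (n * n) + (2 * n + 2)).factorial
  have hD : D ≠ 0 := Nat.factorial_ne_zero _
  let K := GaloisField p ((f + f) * D)
  let _ : Fintype K := Fintype.ofFinite K
  have hK : Fintype.card K = p ^ ((f + f) * D) := by
    rw [← Nat.card_eq_fintype_card, GaloisField.card _ _ (mul_ne_zero (by omega) hD)]
  have hM : (Nat.card Kˣ : ℤ) = (p : ℤ) ^ ((f + f) * D) - 1 := by
    rw [Nat.card_units, Nat.card_eq_fintype_card, hK, Nat.cast_sub (Nat.one_le_pow _ _ hp.pos)]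
    push_cast
    rfl
  have hQ : ((s : ℤ) * (p : ℤ) ^ f) ^ (2 * D) = (p : ℤ) ^ ((f + f) * D) := by
    rw [mul_pow, pow_mul, sq, Int.units_coe_mul_self s, one_pow, one_mul, ← pow_mul, ← mul_assoc, mul_two]
  obtain ⟨θ, hθ⟩ := H139.Cusp.exists_theta K
  have hc : ∀ a b : K ≃+* K, a * b = b * a := fun a b => by
    obtain ⟨i, rfl⟩ := aut_eq K p a
    obtain ⟨j, rfl⟩ := aut_eq K p b
    exact pow_mul_comm _ _ _
  let cg : CommGroup (EE K gr) :=
    { (inferInstance : Group (EE K gr)) with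
      mul_comm := fun a b => Subtype.ext (Prod.ext (hc _ _) (mul_comm _ _)) }
  have hfin : Finite (K ≃+* K) := Finite.of_injective (fun (a : K ≃+* K) (x : K) => a x) DFunLike.coe_injective
  let c : D0 :=
    { K := K, p := p, f := f, E := EE K gr, cg := cg, finE := inferInstance
      σ := (MonoidHom.fst _ _).comp (EE K gr).subtype
      sg := (MonoidHom.snd _ _).comp (EE K gr).subtype
      F := ⟨(iterateFrobeniusEquiv K p f, s), (Int.units_eq_one_or s).symm.imp hs id⟩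
      θ := θ, Q := s * (p : ℤ) ^ f, M := Nat.card Kˣ, nz := ⟨Nat.card_pos.ne'⟩, n := n, fpos := hf, hQ := rfl
      hF := fun _ => rfl
      inj := fun _ h1 h2 => Subtype.ext (Prod.ext h1 h2)
      gen := by
        by_cases hg : gr
        · refine ⟨⟨(frobeniusEquiv K p, 1), .inr rfl⟩, ⟨(1, -1), .inl hg⟩, Subtype.ext (Prod.ext rfl rfl), fun e => ?_⟩
          obtain ⟨i, hi⟩ := aut_eq K p e.1.1
          rcases Int.units_eq_one_or e.1.2 with h | h
          · exact ⟨i, 0, Subtype.ext (Prod.ext (by simpa using hi) (by simpa only [_root_.pow_zero, _root_.mul_one, _root_.SubmonoidClass.coe_pow, _root_.Prod.pow_mk, _root_.one_pow] using h))⟩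
          · exact ⟨i, 1, Subtype.ext (Prod.ext (by simpa using hi) (by simpa only [_root_.pow_one, _root_.Subgroup.coe_mul, _root_.SubmonoidClass.coe_pow, _root_.Prod.pow_mk, _root_.one_pow, _root_.Prod.mk_mul_mk, _root_.mul_one, _root_.mul_neg] using h))⟩
        · refine ⟨⟨(frobeniusEquiv K p, 1), .inr rfl⟩, 1, mul_one _, fun e => ?_⟩
          obtain ⟨i, hi⟩ := aut_eq K p e.1.1
          exact ⟨i, 0, Subtype.ext (Prod.ext (by simpa using hi) (by simpa using e.2.resolve_left hg))⟩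
      ctx :=
        { finK := inferInstance, inj := hθ, card := rfl
          dvd := fun k h1 h2 => by
            obtain ⟨j, hj⟩ := (Nat.dvd_factorial h1 (h2.trans (Nat.le_add_left _ (p ^ (n * n))))).mul_left 2
            rw [hM, ← hQ, hj, pow_mul]
            simpa only [_root_.one_pow] using sub_dvd_pow_sub_pow (((s : ℤ) * (p : ℤ) ^ f) ^ k) 1 j
          unit := by
            refine IsUnit.of_pow_eq_one (n := 2 * D) ?_ (mul_ne_zero two_ne_zero hD)
            rw [← Int.cast_pow, hQ, ← sub_eq_zero, ← Int.cast_one, ← Int.cast_sub, ← hM, Int.cast_natCast,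
              ZMod.natCast_self]
          two := by
            rw [abs_mul, Int.isUnit_iff_abs_eq.1 s.isUnit, one_mul, abs_pow, Nat.abs_cast]
            exact_mod_cast hp.two_le.trans (Nat.le_self_pow hf.ne' p) } }
  refine ⟨⟨c, lang (c := c) hK fun j h1 h2 => Nat.dvd_factorial h1 (h2.trans (Nat.le_add_right _ _)),
    fun ι _ _ hι v => tab hι⟩, rfl, rfl, rfl, rfl, fun τ => ⟨⟨(τ, 1), .inr rfl⟩, rfl, rfl⟩,
    fun hg => ⟨⟨(1, -1), .inl hg⟩, rfl, rfl⟩, fun hg e => e.2.resolve_left hg⟩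

end Cfsg.Agent.MO.TA
end

-- part: MO/TA/BoxL
section
/-!
# MO, types `A` and `²A`: the characters of the local subgroup (helper56)

`boxL_of : BoxI → BoxH → W.WBij → BoxG → BoxL`.
-/

set_option autoImplicit false

namespace Cfsg.Agent.MO.TA

namespace L

open Cfsg Finset Cfsg.Agent.H577.GLB.Std Cfsg.Agent.H615.GU Cfsg.Agent.H614
open Cfsg.Agent.H614.GLn.RSt (repsZ mem_repsZ canon_mem_repsZ canon_eq_iff canon_eq_of_same canon_canon sameZ_canon
  perZ_of_same perZ_pos pow_mul_eq_iff torZ_iff iter_mul)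

/-! ### tuples -/

section tup

variable {m : ℕ} {β : Fin m → ℕ}

theorem le_of_mono (h : StrictMono β) (i : Fin m) : (i : ℕ) ≤ β i := by
  obtain ⟨k, hk⟩ := i
  induction k with
  | zero => exact Nat.zero_le _
  | succ k ih => exact Nat.succ_le_of_lt ((ih (by omega)).trans_lt (h (by simp [Fin.lt_def])))

theorem sum_bsz (h : StrictMono β) : ∑ i, β i = bsz β + ∑ i : Fin m, (i : ℕ) :=
  (Nat.sub_add_cancel (sum_le_sum fun i _ => le_of_mono h i)).symm

theorem eq_vac (h : StrictMono β) (h0 : bsz β = 0) : β = Fin.val := by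
  have h1 := sum_bsz h
  rw [h0, zero_add] at h1
  exact funext fun i => ((sum_eq_sum_iff_of_le fun i _ => le_of_mono h i).1 h1.symm i (mem_univ i)).symm

theorem bsz_vac : bsz (Fin.val : Fin m → ℕ) = 0 := Nat.sub_self _

/-- the product of the hook lengths -/
def hp (β : Fin m → ℕ) : ℕ := ∏ j, ∏ x ∈ range (β j) \ (Iio j).image β, (β j - x)

theorem hp_ne : hp β ≠ 0 := prod_ne_zero_iff.2 fun _ _ => prod_ne_zero_iff.2 fun _ hx =>
  Nat.sub_ne_zero_of_lt (mem_range.1 (mem_sdiff.1 hx).1)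

theorem fact_hp (l : ℕ) : (hp β).factorization l = hk (fun h => h.factorization l) β := by
  have h : ∀ j, ∀ x ∈ range (β j) \ (Iio j).image β, β j - x ≠ 0 := fun _ _ hx =>
    Nat.sub_ne_zero_of_lt (mem_range.1 (mem_sdiff.1 hx).1)
  rw [hp, hk, Nat.factorization_prod fun j _ => prod_ne_zero_iff.2 (h j), Finsupp.finsetSum_apply]
  exact sum_congr rfl fun j _ => by rw [Nat.factorization_prod (h j), Finsupp.finsetSum_apply]

theorem hook_formula (h : StrictMono β) : FM (Multiset.replicate (bsz β) 1) β * (hp β : ℤ) = (bsz β).factorial := by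
  have h1 := FM_ones_formula (bsz β) β (sum_bsz h)
  have h2 : ∀ j, ((β j).factorial : ℤ) =
      ((∏ x ∈ range (β j) \ (Iio j).image β, (β j - x) : ℕ) : ℤ) * ∏ i ∈ Iio j, ((β j : ℤ) - β i) := fun j => by
    have h3 : (Iio j).image β ⊆ range (β j) := fun x hx => by
      obtain ⟨i, hi, rfl⟩ := mem_image.1 hx
      exact mem_range.2 (h (mem_Iio.1 hi))
    have h4 : (β j).factorial = ∏ x ∈ range (β j), (β j - x) := by
      rw [← prod_range_add_one_eq_factorial, ← prod_range_reflect]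
      exact prod_congr rfl fun x hx => by have := mem_range.1 hx; omega
    rw [h4, ← prod_sdiff h3, prod_image fun a _ b _ e => h.injective e, Nat.cast_mul, Nat.cast_prod _ (Iio j)]
    exact congrArg _ (prod_congr rfl fun i hi => Nat.cast_sub (h (mem_Iio.1 hi)).le)
  have h5 : ∏ j, ∏ i ∈ Iio j, ((β j : ℤ) - β i) = ∏ i : Fin m, ∏ j ∈ Ioi i, ((β j : ℤ) - β i) :=
    prod_comm' fun j i => by simp only [_root_.Finset.mem_univ, _root_.Finset.mem_Iio, _root_.true_and, _root_.Finset.mem_Ioi, _root_.and_true]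
  rw [prod_congr rfl fun j _ => h2 j, prod_mul_distrib, h5, ← mul_assoc, ← Nat.cast_prod] at h1
  refine mul_right_cancel₀ (prod_ne_zero_iff.2 fun i _ => prod_ne_zero_iff.2 fun j hj => ?_) h1
  exact sub_ne_zero.2 (Nat.cast_injective.ne (h (mem_Ioi.1 hj)).ne')

theorem hk_vac (F : ℕ → ℕ) : hk F (Fin.val : Fin m → ℕ) = 0 :=
  sum_eq_zero fun j _ => sum_eq_zero fun x hx => by
    obtain ⟨h1, h2⟩ := mem_sdiff.1 hx
    exact absurd (mem_image.2 ⟨(⟨x, (mem_range.1 h1).trans j.2⟩ : Fin m), mem_Iio.2 (mem_range.1 h1), rfl⟩) h2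

end tup

/-! ### orbits -/

section orb

variable {Q : ℤ} {M : ℕ} [NeZero M]

omit [NeZero M] in
theorem inv_pow {α : Type} {f : ZMod M → α} (h : ∀ c, f ((Q : ZMod M) * c) = f c) (j : ℕ) (c : ZMod M) :
    f ((Q : ZMod M) ^ j * c) = f c := by
  induction j with
  | zero => rw [pow_zero, one_mul]
  | succ j ih => rw [pow_succ', mul_assoc, h, ih]

omit [NeZero M] in
theorem inv_same {α : Type} {f : ZMod M → α} (h : ∀ c, f ((Q : ZMod M) * c) = f c) {c c' : ZMod M}
    (e : SameZ Q M c c') : f c' = f c := by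
  obtain ⟨j, rfl⟩ := e
  exact inv_pow h j c

theorem inv_canon {α : Type} {f : ZMod M → α} (h : ∀ c, f ((Q : ZMod M) * c) = f c) (c : ZMod M) :
    f (canon Q M c) = f c := inv_same h (sameZ_canon c)

theorem perZ_canon (hQ : IsUnit (Q : ZMod M)) (c : ZMod M) : perZ Q M (canon Q M c) = perZ Q M c :=
  (perZ_of_same hQ (sameZ_canon c)).symm

theorem canon_mul (hQ : IsUnit (Q : ZMod M)) (c : ZMod M) : canon Q M ((Q : ZMod M) * c) = canon Q M c :=
  (canon_eq_of_same hQ ⟨1, by rw [pow_one]⟩).symm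

theorem sum_orbit {A : Type} [AddCommMonoid A] (hQ : IsUnit (Q : ZMod M)) (f : ZMod M → A) :
    ∑ c, f c = ∑ x ∈ repsZ Q M, ∑ i ∈ range (perZ Q M x), f ((Q : ZMod M) ^ i * x) := by
  classical
  rw [← sum_fiberwise_of_maps_to (s := univ) (g := canon Q M) fun x _ => canon_mem_repsZ hQ x]
  refine sum_congr rfl fun x hx => (sum_bij (fun i _ => (Q : ZMod M) ^ i * x) (fun i _ => ?_) (fun i hi j hj e => ?_)
    (fun c hc => ?_) fun _ _ => rfl).symm
  · exact mem_filter.2 ⟨mem_univ _, (canon_eq_of_same hQ ⟨i, rfl⟩).symm.trans (mem_repsZ.1 hx)⟩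
  · rw [← iter_mul, ← iter_mul] at e
    exact Function.iterate_injOn_Iio_minimalPeriod (mem_range.1 hi) (mem_range.1 hj) e
  · obtain ⟨j, rfl⟩ := (canon_eq_iff hQ).1 ((mem_repsZ.1 hx).trans (mem_filter.1 hc).2.symm)
    refine ⟨j % perZ Q M x, mem_range.2 (Nat.mod_lt _ (perZ_pos hQ x)), ?_⟩
    rw [← iter_mul, ← iter_mul]
    exact Function.iterate_mod_minimalPeriod_eq

theorem sum_range_per (x : ZMod M) (k : ℕ) : ∑ i ∈ range (perZ Q M x * k), (Q : ZMod M) ^ i * x =
    k • ∑ i ∈ range (perZ Q M x), (Q : ZMod M) ^ i * x := by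
  induction k with
  | zero => simp
  | succ k ih =>
    rw [Nat.mul_succ, sum_range_add, ih, succ_nsmul]
    refine congrArg _ (sum_congr rfl fun i _ => ?_)
    rw [add_comm, pow_add, mul_assoc, (pow_mul_eq_iff _ x).2 (dvd_mul_right _ _)]

theorem totW_eq (hQ : IsUnit (Q : ZMod M)) {d m w : ℕ} (ν : LabW Q M d m w) :
    totW ν = ∑ x ∈ repsZ Q M, ∑ j, bsz (ν.t x j) • ∑ i ∈ range d, (Q : ZMod M) ^ i * x := by
  rw [totW, sum_orbit hQ]
  refine sum_congr rfl fun x _ => ?_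
  rw [← sum_smul]
  by_cases h : ∑ j, bsz (ν.t x j) = 0
  · rw [h, zero_smul]
    exact sum_eq_zero fun i _ => by rw [inv_pow ν.orb, h, zero_mul, zero_smul]
  · obtain ⟨j, -, hj⟩ := exists_ne_zero_of_sum_ne_zero h
    obtain ⟨k, hk⟩ := (torZ_iff d x).1 (ν.supp x j hj).1
    have h2 := sum_range_per (Q := Q) x k
    rw [← hk] at h2
    rw [h2, smul_smul, smul_sum]
    refine sum_congr rfl fun i _ => ?_
    rw [inv_pow ν.orb, ← perZ_of_same hQ ⟨i, rfl⟩]
    congr 2
    rw [hk, Nat.mul_div_cancel_left _ (perZ_pos hQ x)]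

omit [NeZero M] in
theorem fix_of_tor {a : ZMod M} (ha : TorZ Q M 1 a) : (Q : ZMod M) * a = a := by
  rwa [TorZ, pow_one, sub_mul, one_mul, sub_eq_zero] at ha

theorem tor_tot (hQ : IsUnit (Q : ZMod M)) {m n : ℕ} (t : LabZ Q M m n) : TorZ Q M 1 (tot t) := by
  obtain ⟨u, hu⟩ := hQ
  rw [TorZ, pow_one, sub_mul, one_mul, sub_eq_zero, tot, mul_sum, ← Equiv.sum_comp (Units.mulLeft u)
    fun c => bsz (t.t c) • c]
  exact sum_congr rfl fun c _ => by rw [Units.mulLeft_apply, hu, t.orb, mul_smul_comm]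

theorem expo_mul {k : ℕ} {c : ZMod M} (h : TorZ Q M k c) : expoZ Q M k c * M = c.val * (Q ^ k - 1) := by
  refine Int.ediv_mul_cancel ((ZMod.intCast_zmod_eq_zero_iff_dvd _ M).1 ?_)
  push_cast
  rw [ZMod.natCast_zmod_val, mul_comm]
  exact h

theorem zpow_expo {ζ : ℂ} (hζ : ζ ^ (Q - 1) = 1) (h0 : ζ ≠ 0) {a : ZMod M} {n e : ℤ} (h1 : (n : ZMod M) = a)
    (h2 : e * M = n * (Q - 1)) : ζ ^ expoZ Q M 1 a = ζ ^ e := by
  obtain ⟨s, hs⟩ := (ZMod.intCast_eq_intCast_iff_dvd_sub n a.val M).1 (by rw [h1, Int.cast_natCast, ZMod.natCast_zmod_val])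
  have h3 : (a.val : ℤ) * (Q ^ 1 - 1) = (e + (Q - 1) * s) * M := by
    rw [pow_one]
    linear_combination (Q - 1) * hs - h2
  rw [expoZ, h3, Int.mul_ediv_cancel _ (Nat.cast_ne_zero.2 (NeZero.ne M)), zpow_add₀ h0, zpow_mul, hζ, one_zpow, mul_one]

end orb

/-! ### the model -/

section mdl

open Matrix Subgroup
open scoped MatrixGroups

variable (c : D0) {ι : Type} [Fintype ι] [DecidableEq ι]

theorem act_dg (e : c.E) (t : ι → c.Kˣ) : c.act ι e (dg t) = dg fun i => c.ue e (t i) := by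
  have h1 : sm c.K ι (c.sg e) (dg t) = dg fun i => t i ^ (c.sg e : ℤ) := by
    rcases Int.units_eq_one_or (c.sg e) with h | h
    · simp [h, sm_one]
    · rw [h, sm_neg]
      exact Units.ext ((diagonal_transpose _).trans (by simp [dg_val]))
  rw [D0.act_apply, h1]
  refine Units.ext (Matrix.ext fun i j => ?_)
  rw [fm_apply, dg_val, dg_val, diagonal_apply, diagonal_apply]
  split_ifs
  · rfl
  · exact map_zero _

theorem ue_F (y : c.Kˣ) : c.ue c.F y = y ^ c.Q := Units.ext (by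
  rw [c.hQ, _root_.zpow_mul, ← Nat.cast_pow, zpow_natCast, Units.val_pow_eq_pow_val, ← c.hF]
  rfl)

theorem scalar_comm (y : c.Kˣ) (g : GL ι c.K) : dg (fun _ => y) * g = g * dg fun _ => y :=
  Units.ext (Matrix.ext fun i j => by
    rw [Units.val_mul, Units.val_mul, dg_val, diagonal_mul, mul_diagonal, mul_comm])

variable {c}

theorem right_eq {v : GL ι c.K} {g : c.AA ι} (h : g ∈ c.Gt v) : g.right = 1 := h.2

theorem left_mul {v : GL ι c.K} {g : c.AA ι} (h : g ∈ c.Gt v) (g' : c.AA ι) : (g * g').left = g.left * g'.left := by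
  rw [SemidirectProduct.mul_left, right_eq h, map_one, MulAut.one_apply]

theorem ext_gt {v : GL ι c.K} {g g' : c.AA ι} (h : g ∈ c.Gt v) (h' : g' ∈ c.Gt v) (e : g.left = g'.left) : g = g' :=
  SemidirectProduct.ext e ((right_eq h).trans (right_eq h').symm)

theorem scalar_pow [Nonempty ι] {v : GL ι c.K} {g : c.AA ι} (h : g ∈ c.Gt v) {y : c.Kˣ} (e : g.left = dg fun _ => y) :
    y ^ (c.Q - 1) = 1 := by
  have h1 := congrArg SemidirectProduct.left (mem_centralizer_singleton_iff.1 h.1)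
  rw [left_mul h, SemidirectProduct.mul_left, e, scalar_comm] at h1
  have h2 : (dg fun _ => y : GL ι c.K) = c.act ι c.F (dg fun _ => y) := mul_left_cancel h1
  rw [act_dg, ue_F] at h2
  obtain ⟨i⟩ := ‹Nonempty ι›
  have h3 : y = y ^ c.Q := Units.ext (congrFun (diagonal_injective (congrArg Units.val h2)) i)
  rw [_root_.zpow_sub_one, ← h3, mul_inv_cancel]

theorem inr_mem (e : c.E) : (SemidirectProduct.inr e : c.AA ι) ∈ c.Ah 1 :=
  mem_centralizer_singleton_iff.2 (SemidirectProduct.ext (by simp only [D0.tw, _root_.SemidirectProduct.mk_eq_inl_mul_inr, _root_.map_one, _root_.one_mul, _root_.SemidirectProduct.mul_left, _root_.SemidirectProduct.left_inr, _root_.SemidirectProduct.right_inr, _root_.mul_one]) (mul_comm _ _))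

theorem conj_inr (e : c.E) {g g' : c.AA ι} (h : g.right = 1) (h' : g'.right = 1) (h1 : g'.left = c.act ι e g.left) :
    g' = SemidirectProduct.inr e * g * (SemidirectProduct.inr e)⁻¹ :=
  SemidirectProduct.ext (by simp only [h1, _root_.SemidirectProduct.mul_left, _root_.SemidirectProduct.left_inr, _root_.SemidirectProduct.right_inr, _root_.one_mul, _root_.SemidirectProduct.mul_right, _root_.map_mul, _root_.SemidirectProduct.inv_left, _root_.map_inv, _root_.inv_one, _root_.MulAut.inv_apply, _root_.map_one, _root_.MulAut.mul_apply, _root_.mul_one]) (by simp only [h, h', _root_.SemidirectProduct.mul_right, _root_.SemidirectProduct.right_inr, _root_.mul_one, _root_.SemidirectProduct.inv_right, _root_.mul_inv_cancel])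

variable (c) in
theorem lg_one : c.Lg (1 : GL ι c.K) := ⟨1, map_one _, by rw [map_one, one_mul]⟩

theorem lin_ne (a : ZMod c.M) (x : c.Kˣ) : c.lin a x ≠ 0 :=
  zpow_ne_zero _ ((map_ne_zero c.θ).2 x.ne_zero)

variable (c) in
/-- the linear character as a homomorphism -/
noncomputable def linH (a : ZMod c.M) : c.Kˣ →* ℂˣ :=
  (zpowGroupHom (expoZ c.Q c.M 1 a)).comp (Units.map (c.θ : c.K →* ℂ))

theorem linH_apply (a : ZMod c.M) (x : c.Kˣ) : (linH c a x : ℂ) = c.lin a x := by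
  simp [linH, D0.lin]

/-- the determinant on a group of matrices -/
def dtH {v : GL ι c.K} {H : Subgroup (c.AA ι)} (h : H ≤ c.Gt v) : H →* c.Kˣ :=
  MonoidHom.mk' (fun g => c.dt g.1) fun a b => by
    rw [D0.dt, Subgroup.coe_mul, left_mul (h a.2), map_mul]
    rfl

theorem neg_pow (n : ℤ) : c.θ (-1) ^ n = 1 ∨ c.θ (-1) ^ n = -1 := by
  rw [← mul_self_eq_one_iff, ← mul_zpow, ← map_mul, neg_mul_neg, one_mul, map_one, _root_.one_zpow]

end mdl

/-! ### the colours -/

section col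

variable {c : D0} {d w m : ℕ}

variable (c d) in
/-- the labels of the characters of `Hd` -/
def Co : Type :=
  {x : ZMod c.M × Fin d // x.1 ∈ repsZ c.Q c.M ∧ TorZ c.Q c.M d x.1 ∧ (x.2 : ℕ) < d / perZ c.Q c.M x.1}

noncomputable instance fintypeCo : Fintype (Co c d) := @Fintype.ofFinite _ Subtype.finite

noncomputable instance decEqCo : DecidableEq (Co c d) := Classical.decEq _

theorem sum_co {A : Type} [AddCommMonoid A] (g : ZMod c.M → Fin d → A)
    (h : ∀ x j, g x j ≠ 0 → TorZ c.Q c.M d x ∧ (j : ℕ) < d / perZ c.Q c.M x) :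
    ∑ i : Co c d, g i.1.1 i.1.2 = ∑ x ∈ repsZ c.Q c.M, ∑ j, g x j := by
  classical
  rw [← sum_product', ← sum_filter_of_ne (p := fun x : ZMod c.M × Fin d => TorZ c.Q c.M d x.1 ∧
    (x.2 : ℕ) < d / perZ c.Q c.M x.1) fun x _ => h x.1 x.2]
  exact (sum_subtype (F := fintypeCo) _ (fun x => by simp only [_root_.Finset.mem_filter, _root_.Finset.mem_product, _root_.Finset.mem_univ, _root_.and_true]) fun x : ZMod c.M × Fin d => g x.1 x.2).symm

/-- the tuples of the colours -/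
def tw (ν : LabW c.Q c.M d m w) (i : Co c d) : Fin m → ℕ := ν.t i.1.1 i.1.2

theorem lb_tw (ν : LabW c.Q c.M d m w) : W.Lb (Fintype.card (Fin w)) (tw ν) :=
  ⟨fun _ => ν.mono _ _, ((sum_co (fun x j => bsz (ν.t x j)) ν.supp).trans ν.sum).trans (Fintype.card_fin w).symm⟩

theorem tw_inj {ν ν' : LabW c.Q c.M d m w} (h : tw ν = tw ν') : ν = ν' := by
  refine LabW.ext (funext fun x => ?_)
  rw [← inv_canon ν.orb, ← inv_canon ν'.orb]
  refine funext fun j => ?_
  by_cases e : TorZ c.Q c.M d (canon c.Q c.M x) ∧ (j : ℕ) < d / perZ c.Q c.M (canon c.Q c.M x)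
  · exact congrFun h ⟨(_, j), canon_mem_repsZ c.ctx.unit x, e⟩
  · rw [eq_vac (ν.mono _ j) (by_contra fun h => e (ν.supp _ j h)),
      eq_vac (ν'.mono _ j) (by_contra fun h => e (ν'.supp _ j h))]

theorem tw_surj {t : Co c d → Fin m → ℕ} (h : W.Lb (Fintype.card (Fin w)) t) : ∃ ν : LabW c.Q c.M d m w, tw ν = t := by
  classical
  let g : ZMod c.M → Fin d → Fin m → ℕ := fun x j => if e : x ∈ repsZ c.Q c.M ∧ TorZ c.Q c.M d x ∧
    (j : ℕ) < d / perZ c.Q c.M x then t ⟨(x, j), e⟩ else Fin.val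
  have h1 : ∀ i : Co c d, g (canon c.Q c.M i.1.1) i.1.2 = t i := fun i => by
    rw [mem_repsZ.1 i.2.1]
    exact dif_pos i.2
  have h2 : ∀ x j, bsz (g (canon c.Q c.M x) j) ≠ 0 → TorZ c.Q c.M d x ∧ (j : ℕ) < d / perZ c.Q c.M x := fun x j e => by
    by_contra e'
    rw [torZ_iff, ← perZ_canon c.ctx.unit, ← torZ_iff] at e'
    exact e (by rw [show g _ j = _ from dif_neg fun a => e' a.2, bsz_vac])
  refine ⟨⟨fun x => g (canon c.Q c.M x), fun x j => ?_, fun x => congrArg g (canon_mul c.ctx.unit x), h2, ?_⟩, funext h1⟩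
  · by_cases e : canon c.Q c.M x ∈ repsZ c.Q c.M ∧ TorZ c.Q c.M d (canon c.Q c.M x) ∧
        (j : ℕ) < d / perZ c.Q c.M (canon c.Q c.M x)
    · rw [show g _ j = _ from dif_pos e]
      exact h.1 _
    · rw [show g _ j = _ from dif_neg e]
      exact Fin.val_strictMono
  · rw [← sum_co _ h2, sum_congr rfl fun i _ => congrArg bsz (h1 i), h.2, Fintype.card_fin]

theorem same_map {f : ZMod c.M → ZMod c.M} (hf : ∀ x, f ((c.Q : ZMod c.M) * x) = c.Q * f x) (j : ℕ) (x : ZMod c.M) :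
    f ((c.Q : ZMod c.M) ^ j * x) = (c.Q : ZMod c.M) ^ j * f x := by
  induction j with
  | zero => rw [pow_zero, one_mul, one_mul]
  | succ j ih => rw [pow_succ', mul_assoc, hf, ih, mul_assoc]

theorem per_map {f : ZMod c.M ≃ ZMod c.M} (hf : ∀ x, f ((c.Q : ZMod c.M) * x) = c.Q * f x) (x : ZMod c.M) :
    perZ c.Q c.M (f x) = perZ c.Q c.M x := by
  have h : ∀ j, perZ c.Q c.M (f x) ∣ j ↔ perZ c.Q c.M x ∣ j := fun j => by
    rw [← pow_mul_eq_iff, ← pow_mul_eq_iff, ← same_map hf, f.apply_eq_iff_eq]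
  exact Nat.dvd_antisymm ((h _).2 dvd_rfl) ((h _).1 dvd_rfl)

theorem symm_map {f : ZMod c.M ≃ ZMod c.M} (hf : ∀ x, f ((c.Q : ZMod c.M) * x) = c.Q * f x) (x : ZMod c.M) :
    f.symm ((c.Q : ZMod c.M) * x) = c.Q * f.symm x := by
  rw [f.symm_apply_eq, hf, f.apply_symm_apply]

theorem canon_map {f : ZMod c.M → ZMod c.M} (hf : ∀ x, f ((c.Q : ZMod c.M) * x) = c.Q * f x) (x : ZMod c.M) :
    canon c.Q c.M (f (canon c.Q c.M x)) = canon c.Q c.M (f x) :=
  inv_canon (f := fun x => canon c.Q c.M (f x)) (fun x => by rw [hf, canon_mul c.ctx.unit]) x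

/-- a map of the colours -/
noncomputable def mv0 (f : ZMod c.M ≃ ZMod c.M) (hf : ∀ x, f ((c.Q : ZMod c.M) * x) = c.Q * f x) (i : Co c d) : Co c d :=
  ⟨(canon c.Q c.M (f i.1.1), i.1.2), canon_mem_repsZ c.ctx.unit _, by
    rw [torZ_iff, perZ_canon c.ctx.unit, per_map hf, ← torZ_iff]
    exact i.2.2⟩

/-- a permutation of the colours -/
noncomputable def mv (f : ZMod c.M ≃ ZMod c.M) (hf : ∀ x, f ((c.Q : ZMod c.M) * x) = c.Q * f x) : Co c d ≃ Co c d where
  toFun := mv0 f hf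
  invFun := mv0 f.symm (symm_map hf)
  left_inv i := Subtype.ext (Prod.ext ((canon_map (symm_map hf) _).trans (by
    rw [f.symm_apply_apply, mem_repsZ.1 i.2.1])) rfl)
  right_inv i := Subtype.ext (Prod.ext ((canon_map hf _).trans (by rw [f.apply_symm_apply, mem_repsZ.1 i.2.1])) rfl)

theorem mv_fst (f : ZMod c.M ≃ ZMod c.M) (hf : ∀ x, f ((c.Q : ZMod c.M) * x) = c.Q * f x) (i : Co c d) :
    (mv f hf i).1.1 = canon c.Q c.M (f i.1.1) := rfl

theorem mv_snd (f : ZMod c.M ≃ ZMod c.M) (hf : ∀ x, f ((c.Q : ZMod c.M) * x) = c.Q * f x) (i : Co c d) :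
    (mv f hf i).1.2 = i.1.2 := rfl

open Classical in
variable (c d) in
/-- the sign of a colour -/
noncomputable def sn (i : Co c d) : ℤˣ := if Odd d ∧ c.θ (-1) ^ expoZ c.Q c.M d i.1.1 = -1 then -1 else 1

variable [NeZero d] {κ : ZMod c.M → ℕ → c.Hd d → ℂ}

variable (κ) in
/-- the characters of `Hd` -/
def kp (i : Co c d) : c.Hd d → ℂ := κ i.1.1 i.1.2

theorem enum (h : c.Hl κ) : W.Enum (kp κ) where
  irr i := h.irr _ _ i.2.2.1 i.2.2.2
  inj i i' e := by
    obtain ⟨h1, h2⟩ := h.inj _ i.2.1 _ i'.2.1 _ _ i.2.2.1 i.2.2.2 i'.2.2.1 i'.2.2.2 e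
    exact Subtype.ext (Prod.ext h1 (Fin.ext h2))
  surj χ hχ := by
    obtain ⟨x, h1, j, h2, h3, h4⟩ := h.surj χ hχ
    exact ⟨⟨(x, ⟨j, h3.trans_le (Nat.div_le_self _ _)⟩), h1, h2, h3⟩, h4⟩

theorem kp_one (h : c.Hl κ) (i : Co c d) : kp κ i 1 = perZ c.Q c.M i.1.1 := h.deg _ _ i.2.2.1

theorem kp_neg (h : c.Hl κ) {z : c.Hd d} (hz : z.1.left = dg fun _ => -1) (i : Co c d) :
    kp κ i z = c.θ (-1) ^ expoZ c.Q c.M d i.1.1 * kp κ i 1 := by
  have h1 := h.cen z (-1) hz i.1.1 i.1.2 1 i.2.2.1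
  rwa [mul_one] at h1

theorem sn_eq (h : c.Hl κ) {z : c.Hd d} (hz : z.1.left = dg fun _ => -1) {i i' : Co c d} {δ : ℤˣ} {a : ℂ}
    (h1 : kp κ i' 1 = kp κ i 1) (h2 : kp κ i' z = kp κ i z * a) (h3 : Odd d → a = (δ : ℤ)) (h4 : ¬ Odd d → δ = 1) :
    sn c d i' = δ * sn c d i := by
  by_cases o : Odd d
  · rw [kp_neg h hz, kp_neg h hz, h1, mul_right_comm, h3 o] at h2
    have h5 := mul_right_cancel₀ (Characters.Core.isIrr_apply_one_ne_zero ((enum h).irr i)) h2
    have h6 : (1 : ℂ) ≠ -1 := by norm_num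
    rw [sn, sn, h5]
    rcases Int.units_eq_one_or δ with rfl | rfl <;> rcases neg_pow (c := c) (expoZ c.Q c.M d i.1.1) with e | e <;>
      simp only [e, o, h6, _root_.Units.val_one, _root_.Int.cast_one, _root_.mul_one, _root_.and_false, ↓ _root_.reduceIte, _root_.and_self, _root_.mul_neg, _root_.Units.val_neg, _root_.Int.reduceNeg, _root_.Int.cast_neg, _root_.neg_neg]
  · rw [sn, sn, if_neg fun a => o a.1, if_neg fun a => o a.1, h4 o, mul_one]

end col

/-! ### the characters -/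

section main

open Matrix Subgroup Characters.Core Blocks.Basic
open Cfsg.Agent.H112.GLB (shiftL)
open Cfsg.Agent.MO.W (Wr psi)
open scoped MatrixGroups

theorem outer_inj {G H : Type} [Group G] [Group H] [Finite G] {a a' : G → ℂ} {b b' : H → ℂ} (ha : IsIrrCharacter G a)
    (ha' : IsIrrCharacter G a') (hb' : IsIrrCharacter H b') (h : ∀ u g, a u * b g = a' u * b' g) : a = a' ∧ b = b' := by
  have := Fintype.ofFinite G
  have h1 : a = a' := by
    by_contra e
    have h2 : b 1 • a = b' 1 • a' := funext fun u => by simpa [mul_comm] using h u 1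
    have h3 := congrArg (classInner · a') h2
    simp only [classInner_smul_left, classInner_irr_ne ha ha' e, classInner_irr_self ha', mul_zero, mul_one] at h3
    exact isIrr_apply_one_ne_zero hb' h3.symm
  subst h1
  exact ⟨rfl, funext fun g => mul_left_cancel₀ (isIrr_apply_one_ne_zero ha) (h 1 g)⟩

variable {c : D0} {d w r m : ℕ} [NeZero d] {κ : ZMod c.M → ℕ → c.Hd d → ℂ}
  {j : Wr (c.Hd d) (Fin w) × c.Gt (1 : GL (Fin r) c.K) ≃* ↥(c.Gt (c.vd d w r) ⊓ c.Cl d w r)}
  {ch : LabZ c.Q c.M m r → c.Gt (1 : GL (Fin r) c.K) → ℂ}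

variable (κ) in
/-- the characters of the wreath product -/
noncomputable def ps1 (ν : LabW c.Q c.M d m w) : Wr (c.Hd d) (Fin w) → ℂ := psi (kp κ) (sn c d) (tw ν)

variable (κ j ch) in
/-- the characters of the local subgroup -/
noncomputable def ps (ν : LabW c.Q c.M d m w) (t : LabZ c.Q c.M m r) (g : ↥(c.Gt (c.vd d w r) ⊓ c.Cl d w r)) : ℂ :=
  ps1 κ ν (j.symm g).1 * ch t (j.symm g).2

theorem ps_j (ν : LabW c.Q c.M d m w) (t : LabZ c.Q c.M m r) (u : Wr (c.Hd d) (Fin w)) (g : c.Gt (1 : GL (Fin r) c.K)) :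
    ps κ j ch ν t (j (u, g)) = ps1 κ ν u * ch t g := by
  rw [ps, j.symm_apply_apply]

theorem ps_one (ν : LabW c.Q c.M d m w) (t : LabZ c.Q c.M m r) : ps κ j ch ν t 1 = ps1 κ ν 1 * ch t 1 := by
  rw [← map_one j]
  exact ps_j ν t 1 1

theorem enum1 (hW : W.WBij) (h : c.Hl κ) (hm : w ≤ m) : W.Enum fun t : {t : Co c d → Fin m → ℕ //
    W.Lb (Fintype.card (Fin w)) t} => (psi (kp κ) (sn c d) t.1 : Wr (c.Hd d) (Fin w) → ℂ) :=
  hW _ _ _ _ _ _ (enum h) ((Fintype.card_fin w).trans_le hm)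

theorem irr1 (hW : W.WBij) (h : c.Hl κ) (hm : w ≤ m) (ν : LabW c.Q c.M d m w) : IsIrrCharacter _ (ps1 κ ν) :=
  (enum1 hW h hm).irr ⟨_, lb_tw ν⟩

theorem irr2 (hG : c.Glob 1 ch) (t : LabZ c.Q c.M m r) : IsIrrCharacter _ (ch t) := hG.bij.mapsTo (Set.mem_univ t)

theorem irr (hW : W.WBij) (h : c.Hl κ) (hG : c.Glob 1 ch) (hm : w ≤ m) (ν : LabW c.Q c.M d m w) (t : LabZ c.Q c.M m r) :
    IsIrrCharacter _ (ps κ j ch ν t) :=
  isIrr_comp j.symm.toMonoidHom j.symm.surjective (S0188.isIrr_outer (irr1 hW h hm ν) (irr2 hG t))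

theorem bij (hW : W.WBij) (h : c.Hl κ) (hG : c.Glob 1 ch) (hm : w ≤ m) :
    Set.BijOn (fun x : LabW c.Q c.M d m w × LabZ c.Q c.M m r => ps κ j ch x.1 x.2) Set.univ {χ | IsIrrCharacter _ χ} := by
  refine ⟨fun x _ => irr hW h hG hm _ _, fun x _ y _ e => ?_, fun χ hχ => ?_⟩
  · obtain ⟨h1, h2⟩ := outer_inj (irr1 hW h hm x.1) (irr1 hW h hm y.1) (irr2 hG y.2) (b := ch x.2) fun u g => by
      rw [← ps_j (j := j), ← ps_j (j := j)]
      exact congrFun e _
    exact Prod.ext (tw_inj (congrArg Subtype.val ((enum1 hW h hm).inj (a₁ := ⟨_, lb_tw x.1⟩) (a₂ := ⟨_, lb_tw y.1⟩) h1)))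
      (hG.bij.injOn trivial trivial h2)
  · obtain ⟨a, b, ha, hb, e⟩ := (S0188.result _).1 (isIrr_comp j.toMonoidHom j.surjective hχ)
    obtain ⟨⟨t', ht'⟩, rfl⟩ := (enum1 hW h hm).surj a ha
    obtain ⟨ν, rfl⟩ := tw_surj ht'
    obtain ⟨t, -, rfl⟩ := hG.bij.surjOn hb
    refine ⟨(ν, t), trivial, funext fun g => ?_⟩
    obtain ⟨⟨u, g⟩, rfl⟩ := j.surjective g
    exact (ps_j _ _ _ _).trans (congrFun e (u, g)).symm

theorem tr1 (h : c.Hl κ) {e : c.E} {k : (ZMod c.M)ˣ} (hk : c.Ex e k) {ν ν' : LabW c.Q c.M d m w} (hν : MulW ν ν' k)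
    (α : c.Hd d ≃* c.Hd d) (hα : ∀ g, (α g).1.left = c.act _ e g.1.left) (u : Wr (c.Hd d) (Fin w)) :
    ps1 κ ν' (W.mapW _ α.toMonoidHom u) = ps1 κ ν u := by
  have hf : ∀ x, Units.mulLeft k⁻¹ ((c.Q : ZMod c.M) * x) = c.Q * Units.mulLeft k⁻¹ x := fun x => mul_left_comm _ _ _
  have h1 : ∀ {α : Type} {f : ZMod c.M → α}, (∀ x, f ((c.Q : ZMod c.M) * x) = f x) → ∀ i : Co c d,
      f (k * (mv _ hf i).1.1) = f i.1.1 := fun {_ f} hf' i => by
    rw [mv_fst, inv_canon (f := fun x : ZMod c.M => f (k * x)) fun x => by rw [mul_left_comm, hf'], Units.mulLeft_apply,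
      Units.mul_inv_cancel_left]
  have h2 : ∀ i g, kp κ (mv _ hf i) (α g) = kp κ i g := fun i g => by
    rw [kp, h.tr e k hk _ _ g (α g) (mv _ hf i).2.2.1 (hα g), h1 h.orb]
    rfl
  obtain ⟨z, hz⟩ := h.neg
  have h3 : α z.1 = z.1 := Subtype.ext (ext_gt (α z.1).2.1 z.1.2.1 ((hα _).trans (h.fix z e)))
  rw [ps1, W.wMap _ _ _ _ _ (kp κ) (kp κ) _ _ _ α.toMonoidHom (mv _ hf) h2, ps1]
  congr 1
  · exact funext fun i => (sn_eq h hz (δ := 1) (a := 1) (by rw [← h2 i, map_one]) (by rw [← h2 i, h3, mul_one])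
      (fun _ => by simp) fun _ => rfl).trans (one_mul _)
  · exact funext fun i => by rw [tw, hν, h1 ν.orb]; rfl

theorem tr (hW : W.WBij) (hI : c.Iso j) (h : c.Hl κ) (hG : c.Glob 1 ch) (hm : w ≤ m) {a : c.AA (Ix d w r)}
    (ha : a ∈ c.Cl d w r) {k : (ZMod c.M)ˣ} (hk : c.Ex a.right k) {ν ν' : LabW c.Q c.M d m w} (t : LabZ c.Q c.M m r)
    (hν : MulW ν ν' k) : Tr _ a (ps κ j ch ν t) (ps κ j ch ν' (mulL t k)) := by
  intro x y e
  obtain ⟨⟨u, g⟩, rfl⟩ := j.surjective x
  obtain ⟨α, hα⟩ := hI.eH a.right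
  obtain ⟨β, hβ⟩ := hI.eG a.right
  have h1 : a * (SemidirectProduct.inr a.right)⁻¹ ∈ c.Cl d w r := mul_mem ha (inv_mem (hI.inr _))
  have h2 : a * (SemidirectProduct.inr a.right)⁻¹ ∈ c.Gt (c.vd d w r) ⊓ c.Cl d w r :=
    ⟨⟨h1.1, MonoidHom.mem_ker.2 (by simp)⟩, h1⟩
  have h3 := conj_inr a.right (right_eq (j (u, g)).2.1) (right_eq (j (W.mapW _ α.toMonoidHom u, β g)).2.1)
    (hI.act a.right u _ g _ (fun i => hα _) rfl (hβ g))
  have h4 : y = ⟨_, h2⟩ * j (W.mapW _ α.toMonoidHom u, β g) * (⟨_, h2⟩)⁻¹ := Subtype.ext (by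
    rw [e, Subgroup.coe_mul, Subgroup.coe_mul, Subgroup.coe_inv, h3]
    group)
  rw [h4, isIrr_isClassFunction (irr hW h hG hm _ _), ps_j, ps_j, tr1 h hk hν α hα,
    hG.tr _ (inr_mem a.right) k hk t g (β g) (conj_inr _ (right_eq g.2) (right_eq (β g).2) (hβ g))]

theorem dt_neg {z : c.Hd d} (hz : z.1.left = dg fun _ => -1) : c.dt z.1 = (-1) ^ d := Units.ext (by
  rw [D0.dt, hz, GeneralLinearGroup.val_det_apply, dg_val, det_diagonal, prod_const, card_univ, ZMod.card,
    Units.val_pow_eq_pow_val])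

theorem twi (hI : c.Iso j) (h : c.Hl κ) (hG : c.Glob 1 ch) {a : ZMod c.M} (ha : TorZ c.Q c.M 1 a)
    {ν ν' : LabW c.Q c.M d m w} (t : LabZ c.Q c.M m r) (x : ↥(c.Gt (c.vd d w r) ⊓ c.Cl d w r)) (hν : ShiftW ν ν' a) :
    ps κ j ch ν' (shiftL t ha) x = c.lin a (c.dt x.1) * ps κ j ch ν t x := by
  classical
  obtain ⟨⟨u, g⟩, rfl⟩ := j.surjective x
  have hf : ∀ x, Equiv.addRight a ((c.Q : ZMod c.M) * x) = c.Q * Equiv.addRight a x := fun x => by
    rw [Equiv.coe_addRight, mul_add, fix_of_tor ha]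
  let lam : c.Hd d →* ℂˣ := (linH c a).comp (dtH inf_le_left)
  have h1 : ∀ g, (lam g : ℂ) = c.lin a (c.dt g.1) := fun g => linH_apply _ _
  have h2 : ∀ i g, kp κ (mv _ hf i) g = kp κ i g * lam g := fun i g => by
    rw [kp, mv_fst, inv_canon h.orb, h1]
    exact h.tw a ha _ _ g i.2.2.1
  obtain ⟨z, hz⟩ := h.neg
  obtain ⟨δ, h3, h4⟩ : ∃ δ : ℤˣ, (Odd d → c.lin a (-1) = (δ : ℤ)) ∧ (¬ Odd d → δ = 1) := by
    by_cases o : Odd d
    · rcases neg_pow (c := c) (expoZ c.Q c.M 1 a) with e | e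
      · exact ⟨1, fun _ => e.trans (by simp), fun _ => rfl⟩
      · exact ⟨-1, fun _ => e.trans (by simp), fun n => absurd o n⟩
    · exact ⟨1, fun n => absurd n o, fun _ => rfl⟩
  have h5 := W.wTw _ (Fin w) _ (kp κ) (sn c d) (sn c d) m (tw ν') lam δ (mv _ hf) h2 (fun i => sn_eq h hz
    (by rw [h2, map_one, Units.val_one, mul_one]) (h2 i _) (fun o => by rw [h1, dt_neg hz, o.neg_one_pow, h3 o]) h4) u
  have h6 : (fun i => tw ν' (mv _ hf i)) = tw ν := funext fun i => by
    rw [tw, mv_fst, inv_canon ν'.orb, hν, Equiv.coe_addRight, add_sub_cancel_right]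
    rfl
  have h7 : (linH c a (Units.map (Int.castRingHom c.K : ℤ →* c.K) (Equiv.Perm.sign u.right) ^ d) : ℂ) =
      if δ = 1 then 1 else (((W.sgW _ _ u : ℤˣ) : ℤ) : ℂ) := by
    rw [W.sgW_apply]
    rcases Int.units_eq_one_or (Equiv.Perm.sign u.right) with e | e
    · simp only [e, _root_.map_one, _root_.one_pow, _root_.Units.val_one, _root_.Int.cast_one, _root_.ite_self]
    · have e1 : Units.map (Int.castRingHom c.K : ℤ →* c.K) (-1) = -1 := Units.ext (by simp only [_root_.Units.map_neg, _root_.map_one, _root_.Units.val_neg, _root_.Units.val_one])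
      rw [e, e1]
      by_cases o : Odd d
      · rw [o.neg_one_pow, linH_apply, h3 o]
        rcases Int.units_eq_one_or δ with rfl | rfl <;> simp
      · rw [(Nat.not_odd_iff_even.1 o).neg_one_pow, map_one, if_pos (h4 o), Units.val_one]
  rw [ps_j, ps_j, ps1, h5, h6, hG.tw, hI.dt, ← linH_apply, ← linH_apply, map_mul, map_mul, Units.val_mul, Units.val_mul,
    h7, map_prod, W.linW_apply, ps1]
  change _ * ((∏ i, linH c a (c.dt (u.left i).1) : ℂˣ) : ℂ) * _ * _ = _
  ring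

theorem cen (hI : c.Iso j) (h : c.Hl κ) (hG : c.Glob 1 ch) (z : ↥(c.Gt (c.vd d w r) ⊓ c.Cl d w r)) (y : c.Kˣ)
    (hz : z.1.left = dg fun _ => y) (ν : LabW c.Q c.M d m w) (t : LabZ c.Q c.M m r) :
    ps κ j ch ν t z = c.lin (totW ν + tot t) y * ps κ j ch ν t 1 := by
  obtain ⟨u, g, hu, hg, rfl⟩ := hI.sca z y hz
  have h0 : c.θ (y : c.K) ≠ 0 := (map_ne_zero c.θ).2 y.ne_zero
  have h1 : c.θ (y : c.K) ^ (c.Q - 1) = 1 := by
    rw [← map_zpow₀, ← Units.val_zpow_eq_zpow_val, scalar_pow u.2.1 hu, Units.val_one, map_one]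
  have h2 := W.wCen _ (Fin w) _ (kp κ) (sn c d) m (tw ν) u (fun i => c.θ (y : c.K) ^ expoZ c.Q c.M d i.1.1)
    (mem_center_iff.2 fun x => Subtype.ext (ext_gt (x * u).2.1 (u * x).2.1 (by
      rw [Subgroup.coe_mul, Subgroup.coe_mul, left_mul x.2.1, left_mul u.2.1, hu, scalar_comm])))
    (fun i x => h.cen u y hu _ _ x i.2.2.1) 1
  have h3 : c.lin (totW ν + tot t) y =
      c.θ (y : c.K) ^ (∑ i : Co c d, expoZ c.Q c.M d i.1.1 * bsz (tw ν i) + expoZ c.Q c.M 1 (tot t)) := by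
    refine zpow_expo h1 h0 (n := ∑ i : Co c d, bsz (tw ν i) * ((∑ s ∈ range d, c.Q ^ s) * i.1.1.val) + (tot t).val) ?_ ?_
    · rw [totW_eq c.ctx.unit, ← sum_co (fun x j => bsz (ν.t x j) • ∑ s ∈ range d, (c.Q : ZMod c.M) ^ s * x)
        fun x j e => ν.supp x j fun e' => e (by rw [e', zero_smul])]
      push_cast
      simp only [ZMod.natCast_zmod_val, nsmul_eq_mul, sum_mul, tw]
    · rw [add_mul, add_mul, expo_mul (tor_tot c.ctx.unit t), pow_one, sum_mul, sum_mul]
      refine congrArg (· + _) (sum_congr rfl fun i _ => ?_)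
      rw [mul_right_comm, expo_mul i.2.2.1, ← geom_sum_mul]
      ring
  have h4 : c.θ (y : c.K) ^ (∑ i : Co c d, expoZ c.Q c.M d i.1.1 * bsz (tw ν i)) =
      ∏ i : Co c d, (c.θ (y : c.K) ^ expoZ c.Q c.M d i.1.1) ^ bsz (tw ν i) := by
    induction (univ : Finset (Co c d)) using Finset.induction_on with
    | empty => simp
    | insert i s hi ih => rw [sum_insert hi, prod_insert hi, zpow_add₀ h0, ih, _root_.zpow_mul, zpow_natCast]
  rw [mul_one] at h2
  rw [ps_j, ps_one, ps1, h2, hG.cen g y hg, h3, zpow_add₀ h0, h4, D0.lin]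
  ring

theorem deg1 (h : c.Hl κ) (ν : LabW c.Q c.M d m w) :
    ps1 κ ν 1 * (∏ i, hp (tw ν i) : ℕ) = (w.factorial * ∏ i : Co c d, perZ c.Q c.M i.1.1 ^ bsz (tw ν i) : ℕ) := by
  have h1 := W.wDeg _ (Fin w) _ (kp κ) (sn c d) m (tw ν) (lb_tw ν)
  have h2 : ∀ i, ((bsz (tw ν i)).factorial : ℂ) = FM (Multiset.replicate (bsz (tw ν i)) 1) (tw ν i) * (hp (tw ν i) : ℂ) :=
    fun i => by exact_mod_cast (hook_formula (ν.mono _ _)).symm
  have h3 : ∏ i, (FM (Multiset.replicate (bsz (tw ν i)) 1) (tw ν i) : ℂ) ≠ 0 := prod_ne_zero_iff.2 fun i _ =>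
    left_ne_zero_of_mul (h2 i ▸ Nat.cast_ne_zero.2 (Nat.factorial_ne_zero _))
  simp only [h2, kp_one h, prod_mul_distrib, Fintype.card_fin] at h1
  refine mul_right_cancel₀ h3 ?_
  push_cast
  rw [ps1]
  linear_combination h1

theorem deg (hW : W.WBij) (h : c.Hl κ) (hG : c.Glob 1 ch) (hm : w ≤ m) {l : ℕ} (hl : l.Prime) (hlp : l ≠ c.p)
    (hd : orderOf (c.Q : ZMod l) = d) (hr : r < d) (ν : LabW c.Q c.M d m w) (t : LabZ c.Q c.M m r) :
    (charDegree (ps κ j ch ν t)).factorization l + dfW l ν = w.factorial.factorization l := by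
  have := Fact.mk hl
  have h1 : vz l (PH c.Q r) = 0 := by
    refine Nat.factorization_eq_zero_of_not_dvd fun e => ?_
    obtain ⟨i, hi, e'⟩ := ((Nat.prime_iff_prime_int.1 hl).dvd_finsetProd_iff _).1 (Int.natCast_dvd.2 e)
    have h2 : (c.Q : ZMod l) ^ (i + 1) = 1 := by
      have := (ZMod.intCast_zmod_eq_zero_iff_dvd _ l).2 e'
      push_cast at this
      exact sub_eq_zero.1 this
    have h3 := Nat.le_of_dvd i.succ_pos (hd ▸ orderOf_dvd_of_pow_eq_one h2)
    have := mem_range.1 hi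
    omega
  have h2 : d < l := by
    have h3 : (c.Q : ZMod l) ≠ 0 := fun e => NeZero.ne d (by rw [← hd, e, orderOf_zero])
    have h4 := Nat.le_of_dvd (Nat.sub_pos_of_lt hl.one_lt) (hd ▸ ZMod.orderOf_dvd_card_sub_one h3)
    have := hl.pos
    omega
  have h3 := hG.deg l hl hlp t
  have h4 := deg1 h ν
  rw [irr_one_eq_charDegree (irr1 hW h hm ν), ← Nat.cast_mul, Nat.cast_inj] at h4
  have h5 := congrArg (·.factorization l) h4
  have h6 : ¬ l ∣ ∏ i : Co c d, perZ c.Q c.M i.1.1 ^ bsz (tw ν i) := fun e => by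
    obtain ⟨i, -, e'⟩ := (hl.prime.dvd_finsetProd_iff _).1 e
    exact absurd ((Nat.le_of_dvd (perZ_pos c.ctx.unit _) (hl.dvd_of_dvd_pow e')).trans
      (Nat.le_of_dvd (NeZero.pos d) ((torZ_iff _ _).1 i.2.2.1))) (not_le.2 h2)
  have h7 : ∏ i : Co c d, perZ c.Q c.M i.1.1 ^ bsz (tw ν i) ≠ 0 := fun e => h6 (by rw [e]; exact dvd_zero l)
  simp only [Nat.factorization_mul (charDegree_pos (irr1 hW h hm ν)).ne' (prod_ne_zero_iff.2 fun _ _ => hp_ne),
    Nat.factorization_mul (Nat.factorial_ne_zero w) h7, Finsupp.add_apply,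
    Nat.factorization_eq_zero_of_not_dvd h6, Nat.factorization_prod fun _ _ => hp_ne, Finsupp.finsetSum_apply,
    fact_hp] at h5
  rw [charDegree_of_eq (n := charDegree (ps1 κ ν) * charDegree (ch t)) (by
      rw [ps_one, irr_one_eq_charDegree (irr1 hW h hm ν), irr_one_eq_charDegree (irr2 hG t), Nat.cast_mul]),
    Nat.factorization_mul (charDegree_pos (irr1 hW h hm ν)).ne' (charDegree_pos (irr2 hG t)).ne', Finsupp.add_apply, dfW,
    ← sum_co (fun x j => hk (fun h => h.factorization l) (ν.t x j)) fun x j e => ν.supp x j fun e' =>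
      e (by rw [eq_vac (ν.mono x j) e', hk_vac])]
  change _ + ∑ i, hk _ (tw ν i) = _
  omega

end main

end L

/-- **box L** -/
theorem boxL_of (hI : BoxI) (hH : BoxH) (hW : W.WBij) (hG : BoxG) : BoxL := by
  intro c d w r m _ hw hn hm
  have h1 : d ≤ d * w := Nat.le_mul_of_pos_right d hw
  have h2 : w ≤ d * w := Nat.le_mul_of_pos_left w (NeZero.pos d)
  obtain ⟨j, hj⟩ := hI c d w r hw hn
  obtain ⟨κ, hκ⟩ := hH c d (by omega)
  obtain ⟨ch, hch⟩ := hG c (Fin r) (by rw [Fintype.card_fin]; omega) 1 (L.lg_one _) m r (Fintype.card_fin r) (by omega)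
  have h3 : w ≤ m := by omega
  exact ⟨L.ps κ j ch, L.bij hW hκ hch h3, fun _ ha _ hk _ _ t hν => L.tr hW hj hκ hch h3 ha hk t hν,
    fun _ ha _ _ t g hν => L.twi hj hκ hch ha t g hν, L.cen hj hκ hch, fun _ hl hlp hd hr => L.deg hW hκ hch h3 hl hlp hd hr⟩

end Cfsg.Agent.MO.TA
end

-- part: MO/TA/IMono
section
/-!
# MO, types `A` and `²A`: monomial matrices and the normaliser of `Dt` (helper42)

* `mono_of_sep` : a matrix which normalises a separating set of diagonal matrices is monomial;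
* `sb` : the block sum; `sb_of_sep` : the same with a rest;
* `act_dg`, `act_pm`, `act_sb`, `act_sig`, `act_vd`, `mem_Gt`, `mem_Dt`;
* `norm_Dt_of_sep` : such an element of `AA` normalises `Dt`; `sb_of_norm_Dt` : the converse.
-/

set_option autoImplicit false

namespace Cfsg.Agent.MO.TA.I

open Cfsg Subgroup Matrix Equiv
open scoped MatrixGroups

section mat

variable {K : Type} [Field K] {ι α β : Type} [Fintype ι] [DecidableEq ι] [Fintype α] [DecidableEq α] [Fintype β]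
  [DecidableEq β]

theorem dg_apply (t : ι → Kˣ) (i j : ι) : (dg t : GL ι K).1 i j = if i = j then (t i : K) else 0 := rfl

theorem dg_mul_apply (t : ι → Kˣ) (g : GL ι K) (i j : ι) : (dg t * g : GL ι K).1 i j = t i * g.1 i j := by
  rw [Units.val_mul, dg_val, diagonal_mul]

theorem mul_dg_apply (t : ι → Kˣ) (g : GL ι K) (i j : ι) : (g * dg t : GL ι K).1 i j = g.1 i j * t j := by
  rw [Units.val_mul, dg_val, mul_diagonal]

theorem dg_pm_apply (s : ι → Kˣ) (π : Perm ι) (i j : ι) :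
    (dg s * pm π : GL ι K).1 i j = if i = π j then (s i : K) else 0 := by
  rw [dg_mul_apply, pm_apply, mul_ite, mul_one, mul_zero]

theorem dg_inj : Function.Injective (dg : (ι → Kˣ) →* GL ι K) := fun s t h => funext fun i => Units.ext (by
  have h1 := congrArg (fun g : GL ι K => g.1 i i) h
  simpa only [dg_apply, if_true] using h1)

theorem pm_dg (π : Perm ι) (t : ι → Kˣ) : (pm π * dg t : GL ι K) = dg (fun i => t (π⁻¹ i)) * pm π :=
  Units.ext (Matrix.ext fun i j => by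
    rw [mul_dg_apply, dg_pm_apply, pm_apply]
    split_ifs with h
    · simp [h]
    · rw [zero_mul])

theorem mono_inj {s s' : ι → Kˣ} {π π' : Perm ι} (h : (dg s * pm π : GL ι K) = dg s' * pm π') : s = s' ∧ π = π' := by
  have h1 : π = π' := Equiv.ext fun j => by
    have h2 := congrArg (fun g : GL ι K => g.1 (π j) j) h
    simp only [dg_pm_apply, if_true] at h2
    by_contra h3
    rw [if_neg h3] at h2
    exact (s (π j)).ne_zero h2
  subst h1
  exact ⟨dg_inj (mul_right_cancel h), rfl⟩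

theorem mono_mul (s s' : ι → Kˣ) (π π' : Perm ι) :
    (dg s * pm π * (dg s' * pm π') : GL ι K) = dg (s * fun i => s' (π⁻¹ i)) * pm (π * π') := by
  rw [map_mul, map_mul, mul_assoc, ← mul_assoc (pm π), pm_dg]
  simp only [mul_assoc]

theorem mono_conj (s t : ι → Kˣ) (π : Perm ι) :
    (dg s * pm π * dg t : GL ι K) = dg (fun i => t (π⁻¹ i)) * (dg s * pm π) := by
  rw [mul_assoc, pm_dg, ← mul_assoc, ← mul_assoc, ← map_mul, ← map_mul, mul_comm s]

theorem det_dg (t : ι → Kˣ) : GeneralLinearGroup.det (dg t : GL ι K) = ∏ i, t i :=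
  Units.ext (by rw [GeneralLinearGroup.val_det_apply, dg_val, det_diagonal, Units.coe_prod])

theorem det_pm (π : Perm ι) :
    GeneralLinearGroup.det (pm π : GL ι K) = Units.map (Int.castRingHom K : ℤ →* K) (Perm.sign π) :=
  Units.ext (by
    change (π⁻¹.permMatrix K).det = _
    rw [det_permutation, Perm.sign_inv]
    rfl)

theorem exists_row (g : GL ι K) (i : ι) : ∃ j, g.1 i j ≠ 0 := by
  by_contra h
  push Not at h
  exact (GeneralLinearGroup.det g).ne_zero (det_eq_zero_of_row_eq_zero i h)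

theorem exists_col (g : GL ι K) (j : ι) : ∃ i, g.1 i j ≠ 0 := by
  by_contra h
  push Not at h
  exact (GeneralLinearGroup.det g).ne_zero (det_eq_zero_of_column_eq_zero j h)

theorem ent_of_comm {g : GL ι K} {t t' : ι → Kˣ} (h : g * dg t = dg t' * g) {i j : ι} (hij : g.1 i j ≠ 0) :
    t j = t' i := by
  have h1 := congrArg (fun g : GL ι K => g.1 i j) h
  simp only [mul_dg_apply, dg_mul_apply] at h1
  exact Units.ext (mul_left_cancel₀ hij (h1.trans (mul_comm _ _)))

/-- a matrix with at most one non-zero entry in each row is monomial -/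
theorem mono_of_row (g : GL ι K) (h : ∀ i j j', g.1 i j ≠ 0 → g.1 i j' ≠ 0 → j = j') :
    ∃ (s : ι → Kˣ) (π : Perm ι), g = dg s * pm π := by
  choose ρ hρ using exists_row g
  have hs : Function.Surjective ρ := fun j => by
    obtain ⟨i, hi⟩ := exists_col g j
    exact ⟨i, h i _ _ (hρ i) hi⟩
  let e : Perm ι := Equiv.ofBijective ρ (Finite.surjective_iff_bijective.1 hs)
  refine ⟨fun i => Units.mk0 _ (hρ i), e⁻¹, Units.ext (Matrix.ext fun i j => ?_)⟩
  rw [dg_pm_apply]
  split_ifs with h1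
  · rw [Perm.eq_inv_iff_eq] at h1
    rw [← h1]
    rfl
  · by_contra h2
    exact h1 (Perm.eq_inv_iff_eq.2 (h i _ _ (hρ i) h2))

/-- **a matrix which normalises a separating set of diagonal matrices is monomial** -/
theorem mono_of_sep (g : GL ι K) (S : Set (ι → Kˣ)) (sep : ∀ i j, i ≠ j → ∃ t ∈ S, t i ≠ t j)
    (hg : ∀ t ∈ S, ∃ t', g * dg t = dg t' * g) : ∃ (s : ι → Kˣ) (π : Perm ι), g = dg s * pm π :=
  mono_of_row g fun i j j' h h' => by
    by_contra h1
    obtain ⟨t, ht, h2⟩ := sep j j' h1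
    obtain ⟨t', h3⟩ := hg t ht
    exact h2 ((ent_of_comm h3 h).trans (ent_of_comm h3 h').symm)

/-- the block sum -/
def sb : GL α K × GL β K →* GL (α ⊕ β) K :=
  MonoidHom.toHomUnits
    { toFun := fun x => fromBlocks x.1.1 0 0 x.2.1
      map_one' := fromBlocks_one
      map_mul' := fun x y => by simp [fromBlocks_multiply] }

theorem sb_val (A : GL α K) (D : GL β K) : (sb (A, D)).1 = fromBlocks A.1 0 0 D.1 := rfl

theorem sb_mul (A A' : GL α K) (D D' : GL β K) : sb (A, D) * sb (A', D') = sb (A * A', D * D') :=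
  (map_mul sb _ _).symm

theorem sb_inj {A A' : GL α K} {D D' : GL β K} (h : sb (A, D) = sb (A', D')) : A = A' ∧ D = D' := by
  have h1 := fromBlocks_inj.1 (congrArg Units.val h)
  exact ⟨Units.ext h1.1, Units.ext h1.2.2.2⟩

theorem det_sb (A : GL α K) (D : GL β K) :
    GeneralLinearGroup.det (sb (A, D)) = GeneralLinearGroup.det A * GeneralLinearGroup.det D :=
  Units.ext (det_fromBlocks_zero₂₁ _ _ _)

theorem dg_sum (t : α ⊕ β → Kˣ) : (dg t : GL (α ⊕ β) K) = sb (dg fun i => t (.inl i), dg fun k => t (.inr k)) :=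
  Units.ext (by
    rw [sb_val, dg_val, dg_val, dg_val, fromBlocks_diagonal]
    congr 1
    funext i
    rcases i with i | i <;> rfl)

theorem pm_sum (π : Perm α) (ρ : Perm β) : (pm (Equiv.sumCongr π ρ) : GL (α ⊕ β) K) = sb (pm π, pm ρ) :=
  Units.ext (Matrix.ext fun i j => by
    rcases i with i | i <;> rcases j with j | j <;> simp [sb_val, pm_apply])

theorem sb_of_zero (g : GL (α ⊕ β) K) (h : ∀ i k, g.1 (.inl i) (.inr k) = 0) (h' : ∀ k i, g.1 (.inr k) (.inl i) = 0) :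
    ∃ A D, g = sb (A, D) := by
  have h1 : g.1 = fromBlocks g.1.toBlocks₁₁ 0 0 g.1.toBlocks₂₂ := Matrix.ext fun i j => by
    rcases i with i | i <;> rcases j with j | j
    · rfl
    · exact h i j
    · exact h' i j
    · rfl
  have h2 : g.1.det ≠ 0 := (GeneralLinearGroup.det g).ne_zero
  rw [h1, det_fromBlocks_zero₂₁] at h2
  exact ⟨GeneralLinearGroup.mkOfDetNeZero _ (left_ne_zero_of_mul h2),
    GeneralLinearGroup.mkOfDetNeZero _ (right_ne_zero_of_mul h2), Units.ext h1⟩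

/-- **the same with a rest** -/
theorem sb_of_sep (g : GL (α ⊕ β) K) (S : Set (α ⊕ β → Kˣ)) (sep : ∀ i j, j ≠ .inl i → ∃ t ∈ S, t (.inl i) ≠ t j)
    (hg : ∀ t ∈ S, ∃ t', g * dg t = dg t' * g ∧ ∀ k, t' (.inr k) = t (.inr k)) :
    ∃ (s : α → Kˣ) (π : Perm α) (D : GL β K), g = sb (dg s * pm π, D) := by
  have h1 : ∀ k i, g.1 (.inr k) (.inl i) = 0 := fun k i => by
    by_contra h
    obtain ⟨t, ht, h2⟩ := sep i (.inr k) Sum.inr_ne_inl
    obtain ⟨t', h3, h4⟩ := hg t ht
    exact h2 ((ent_of_comm h3 h).trans (h4 k))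
  have h2 : ∀ i k, g.1 (.inl i) (.inr k) = 0 := fun i k => by
    by_contra h
    have h3 : g.1 = fromBlocks g.1.toBlocks₁₁ g.1.toBlocks₁₂ 0 g.1.toBlocks₂₂ := Matrix.ext fun i j => by
      rcases i with i | i <;> rcases j with j | j
      · rfl
      · rfl
      · exact h1 i j
      · rfl
    have h4 : g.1.det ≠ 0 := (GeneralLinearGroup.det g).ne_zero
    rw [h3, det_fromBlocks_zero₂₁] at h4
    obtain ⟨j, hj⟩ := exists_row (GeneralLinearGroup.mkOfDetNeZero _ (left_ne_zero_of_mul h4)) i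
    obtain ⟨t, ht, h5⟩ := sep j (.inr k) Sum.inr_ne_inl
    obtain ⟨t', h6, -⟩ := hg t ht
    exact h5 ((ent_of_comm h6 (i := .inl i) hj).trans (ent_of_comm h6 h).symm)
  obtain ⟨A, D, rfl⟩ := sb_of_zero g h2 h1
  obtain ⟨s, π, rfl⟩ := mono_of_sep A ((fun t i => t (.inl i)) '' S)
    (fun i j hij => by
      obtain ⟨t, ht, h3⟩ := sep i (.inl j) fun h => hij (Sum.inl_injective h).symm
      exact ⟨_, ⟨t, ht, rfl⟩, h3⟩)
    (by
      rintro _ ⟨t, ht, rfl⟩
      obtain ⟨t', h3, -⟩ := hg t ht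
      rw [dg_sum t, dg_sum t', sb_mul, sb_mul] at h3
      exact ⟨_, (sb_inj h3).1⟩)
  exact ⟨s, π, D, rfl⟩

end mat

section act

variable (c : D0) {ι α β : Type} [Fintype ι] [DecidableEq ι] [Fintype α] [DecidableEq α] [Fintype β] [DecidableEq β]

theorem exists_ne_one : ∃ y : c.Kˣ, y ≠ 1 := by
  by_contra h
  push Not at h
  have h1 : Nat.card c.Kˣ = 1 := Nat.card_eq_one_iff_exists.2 ⟨1, h⟩
  have h2 := c.ctx.dvd 2 two_pos (by omega)
  rw [← c.ctx.card, h1, Nat.cast_one] at h2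
  have h3 := Int.le_of_dvd one_pos h2
  have h4 := c.ctx.two
  nlinarith only [h3, h4, sq_abs c.Q]

variable {c}

theorem act_pos {e : c.E} (he : c.sg e = 1) (g : GL ι c.K) (i j : ι) : (c.act ι e g).1 i j = c.σ e (g.1 i j) := by
  rw [D0.act_apply, he, sm_one]
  rfl

theorem act_neg {e : c.E} (he : c.sg e = -1) (g : GL ι c.K) (i j : ι) :
    (c.act ι e g).1 i j = c.σ e ((g⁻¹).1 j i) := by
  rw [D0.act_apply, he, sm_neg]
  rfl

theorem ue_mul (e : c.E) (x y : c.Kˣ) : c.ue e (x * y) = c.ue e x * c.ue e y := by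
  rw [D0.ue, D0.ue, D0.ue, mul_zpow, map_mul]

theorem ue_neg_one (e : c.E) : c.ue e (-1) = -1 := by
  rcases Int.units_eq_one_or (c.sg e) with h | h <;> apply Units.ext <;> simp only [D0.ue, h, _root_.Units.val_one, _root_.zpow_ofNat, _root_.pow_one, _root_.Units.map_neg, _root_.map_one, _root_.Units.val_neg, _root_.Int.reduceNeg, _root_.zpow_neg, _root_.inv_neg, _root_.inv_one]

theorem ue_sign (e : c.E) (k : ℕ) : c.ue e ((-1) ^ k) = (-1) ^ k := by
  rcases neg_one_pow_eq_or c.Kˣ k with h | h <;> rw [h]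
  · exact c.ue_one e
  · exact ue_neg_one e

theorem act_dg (e : c.E) (t : ι → c.Kˣ) : c.act ι e (dg t) = dg fun i => c.ue e (t i) :=
  Units.ext (Matrix.ext fun i j => by
    rcases Int.units_eq_one_or (c.sg e) with h | h
    · rw [act_pos h, dg_apply, dg_apply]
      split_ifs
      · simp [D0.ue, h]
      · exact map_zero _
    · rw [act_neg h, ← map_inv, dg_apply, dg_apply]
      by_cases hij : i = j
      · subst hij
        simp [D0.ue, h]
      · rw [if_neg hij, if_neg (Ne.symm hij), map_zero])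

theorem act_pm (e : c.E) (π : Perm ι) : c.act ι e (pm π) = pm π :=
  Units.ext (Matrix.ext fun i j => by
    rcases Int.units_eq_one_or (c.sg e) with h | h
    · rw [act_pos h, pm_apply]
      split_ifs
      · exact map_one _
      · exact map_zero _
    · rw [act_neg h, ← map_inv, pm_apply, pm_apply]
      by_cases hij : i = π j
      · rw [if_pos hij, if_pos (Perm.eq_inv_iff_eq.2 hij.symm), map_one]
      · rw [if_neg hij, if_neg fun h1 => hij (Perm.eq_inv_iff_eq.1 h1).symm, map_zero])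

theorem act_sb (e : c.E) (A : GL α c.K) (D : GL β c.K) :
    c.act (α ⊕ β) e (sb (A, D)) = sb (c.act α e A, c.act β e D) :=
  Units.ext (Matrix.ext fun i j => by
    rcases Int.units_eq_one_or (c.sg e) with h | h
    · rw [act_pos h]
      rcases i with i | i <;> rcases j with j | j
      · exact (act_pos h A i j).symm
      · exact map_zero _
      · exact map_zero _
      · exact (act_pos h D i j).symm
    · rw [act_neg h, ← map_inv]
      rcases i with i | i <;> rcases j with j | j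
      · exact (act_neg h A i j).symm
      · exact map_zero _
      · exact map_zero _
      · exact (act_neg h D i j).symm)

theorem act_act (e e' : c.E) (g : GL ι c.K) : c.act ι e (c.act ι e' g) = c.act ι e' (c.act ι e g) := by
  rw [← MulAut.mul_apply, ← map_mul, mul_comm, map_mul, MulAut.mul_apply]

theorem mem_Ah {v : GL ι c.K} {a : c.AA ι} : a ∈ c.Ah v ↔ a.left * c.act ι a.right v = v * c.act ι c.F a.left := by
  rw [D0.Ah, mem_centralizer_singleton_iff]
  exact ⟨fun h => congrArg SemidirectProduct.left h, fun h => SemidirectProduct.ext h (mul_comm a.right c.F)⟩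

theorem mem_Gt {v : GL ι c.K} {a : c.AA ι} : a ∈ c.Gt v ↔ a.right = 1 ∧ a.left * v = v * c.act ι c.F a.left := by
  rw [D0.Gt, mem_inf, mem_Ah]
  change _ ∧ a.right = 1 ↔ _
  refine ⟨fun h => ⟨h.2, ?_⟩, fun h => ⟨?_, h.1⟩⟩
  · simpa only [h.2, map_one, MulAut.one_apply] using h.1
  · simpa only [h.1, map_one, MulAut.one_apply] using h.2

theorem inl_mem_Gt {v g : GL ι c.K} : (SemidirectProduct.inl g : c.AA ι) ∈ c.Gt v ↔ g * v = v * c.act ι c.F g :=
  mem_Gt.trans ⟨fun h => h.2, fun h => ⟨rfl, h⟩⟩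

theorem eq_inl {a : c.AA ι} (h : a.right = 1) : a = SemidirectProduct.inl a.left := SemidirectProduct.ext rfl h

theorem conj_inl (a : c.AA ι) (g : GL ι c.K) :
    a * SemidirectProduct.inl g * a⁻¹ = SemidirectProduct.inl (a.left * c.act ι a.right g * a.left⁻¹) :=
  SemidirectProduct.ext (by simp only [_root_.SemidirectProduct.mul_left, _root_.SemidirectProduct.left_inl, _root_.SemidirectProduct.mul_right, _root_.SemidirectProduct.right_inl, _root_.mul_one, _root_.SemidirectProduct.inv_left, _root_.map_inv, _root_.MulAut.inv_apply, _root_.MulEquiv.apply_symm_apply, _root_.map_mul, _root_.map_one, _root_.MulAut.one_apply, _root_.inv_one]) (by simp only [_root_.SemidirectProduct.mul_right, _root_.SemidirectProduct.right_inl, _root_.mul_one, _root_.SemidirectProduct.inv_right, _root_.mul_inv_cancel, _root_.map_mul, _root_.map_inv, _root_.inv_one])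

theorem act_mem_Gt {v g : GL ι c.K} (e : c.E) (hv : c.act ι e v = v) (h : (SemidirectProduct.inl g : c.AA ι) ∈ c.Gt v) :
    (SemidirectProduct.inl (c.act ι e g) : c.AA ι) ∈ c.Gt v := by
  rw [inl_mem_Gt] at h ⊢
  have h1 := congrArg (c.act ι e) h
  rwa [map_mul, map_mul, hv, act_act] at h1

variable {d w r : ℕ} [NeZero d]

theorem act_sig (e : c.E) : c.act _ e (c.sig d) = c.sig d := by
  rw [D0.sig, map_mul, act_dg, act_pm]
  congr 2
  funext i
  split_ifs
  · exact ue_sign e _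
  · exact c.ue_one e

theorem vd_eq : c.vd d w r = sb (dg (fun x : Fin w × ZMod d => if x.2 = 0 then (-1) ^ (d - 1) else 1) *
    pm (Equiv.prodCongr (Equiv.refl _) (Equiv.addRight 1)), 1) := by
  rw [D0.vd, dg_sum, pm_sum, sb_mul]
  congr 2
  exact (congrArg₂ _ (map_one dg) (map_one pm)).trans (mul_one 1)

theorem act_vd (e : c.E) : c.act _ e (c.vd d w r) = c.vd d w r := by
  rw [vd_eq, act_sb, map_mul, act_dg, act_pm, map_one]
  congr 4
  funext i
  split_ifs
  · exact ue_sign e _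
  · exact c.ue_one e

theorem mem_Dt {a : c.AA (Ix d w r)} :
    a ∈ c.Dt d w r ↔ ∃ t : Ix d w r → c.Kˣ, (∀ k, t (.inr k) = 1) ∧ a = SemidirectProduct.inl (dg t) := by
  rw [D0.Dt, mem_map]
  refine exists_congr fun t => and_congr ?_ eq_comm
  simp only [mem_pi, _root_.Set.mem_range, _root_.Subgroup.mem_bot, _root_.forall_exists_index, _root_.forall_apply_eq_imp_iff]

/-- a monomial matrix plus a rest normalises `Dt` -/
theorem norm_Dt_of_sb {a : c.AA (Ix d w r)} {s : Fin w × ZMod d → c.Kˣ} {π : Perm (Fin w × ZMod d)}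
    {D : GL (Fin r) c.K} (h : a.left = sb (dg s * pm π, D)) : a ∈ normalizer (c.Dt d w r : Set (c.AA (Ix d w r))) := by
  refine mem_normalizer_fintype fun n hn => ?_
  obtain ⟨t, ht, rfl⟩ := mem_Dt.1 hn
  refine mem_Dt.2 ⟨Sum.elim (fun i => c.ue a.right (t (.inl (π⁻¹ i)))) fun _ => 1, fun _ => rfl, ?_⟩
  rw [conj_inl, act_dg, h, dg_sum, dg_sum (Sum.elim _ _)]
  congr 1
  rw [mul_inv_eq_iff_eq_mul, sb_mul, sb_mul, mono_conj]
  congr 2
  have h1 : (dg fun k : Fin r => c.ue a.right (t (.inr k))) = 1 := by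
    simp only [ht, c.ue_one]
    exact map_one dg
  rw [h1, mul_one]
  exact ((congrArg (· * D) (map_one dg)).trans (one_mul D)).symm

/-- **an element whose matrix normalises a separating set of diagonal matrices normalises `Dt`** -/
theorem norm_Dt_of_sep (a : c.AA (Ix d w r)) (S : Set (Ix d w r → c.Kˣ))
    (sep : ∀ i j, j ≠ .inl i → ∃ t ∈ S, t (.inl i) ≠ t j)
    (hg : ∀ t ∈ S, ∃ t', a.left * dg t = dg t' * a.left ∧ ∀ k, t' (.inr k) = t (.inr k)) :
    a ∈ normalizer (c.Dt d w r : Set (c.AA (Ix d w r))) := by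
  obtain ⟨s, π, D, h⟩ := sb_of_sep a.left S sep hg
  exact norm_Dt_of_sb h

theorem inr_norm_Dt (e : c.E) :
    (SemidirectProduct.inr e : c.AA (Ix d w r)) ∈ normalizer (c.Dt d w r : Set (c.AA (Ix d w r))) :=
  norm_Dt_of_sb (s := 1) (π := 1) (D := 1) (by rw [map_one, map_one, mul_one]; exact (map_one sb).symm)

theorem inr_mem_Cl (e : c.E) : (SemidirectProduct.inr e : c.AA (Ix d w r)) ∈ c.Cl d w r :=
  ⟨mem_Ah.2 (by simp only [act_vd, _root_.SemidirectProduct.left_inr, _root_.SemidirectProduct.right_inr, _root_.one_mul, _root_.map_one, _root_.mul_one]), inr_norm_Dt e⟩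

/-- **the normaliser of `Dt`** -/
theorem sb_of_norm_Dt {a : c.AA (Ix d w r)} (h : a ∈ normalizer (c.Dt d w r : Set (c.AA (Ix d w r)))) :
    ∃ (s : Fin w × ZMod d → c.Kˣ) (π : Perm (Fin w × ZMod d)) (D : GL (Fin r) c.K), a.left = sb (dg s * pm π, D) := by
  have h1 := mul_mem h (inv_mem (inr_norm_Dt a.right))
  have h2 : a * (SemidirectProduct.inr a.right)⁻¹ = SemidirectProduct.inl a.left :=
    mul_inv_eq_of_eq_mul (SemidirectProduct.inl_left_mul_inr_right a).symm
  rw [h2] at h1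
  obtain ⟨y, hy⟩ := exists_ne_one c
  refine sb_of_sep a.left {t | ∀ k, t (.inr k) = 1} (fun i j hj => ⟨Pi.mulSingle (.inl i) y, fun k => ?_, ?_⟩)
    fun t ht => ?_
  · exact Pi.mulSingle_eq_of_ne Sum.inr_ne_inl _
  · rwa [Pi.mulSingle_eq_same, Pi.mulSingle_eq_of_ne hj]
  · obtain ⟨t', ht', h3⟩ := mem_Dt.1 ((mem_normalizer_iff.1 h1 _).1 (mem_Dt.2 ⟨t, ht, rfl⟩))
    rw [← map_inv, ← map_mul, ← map_mul] at h3
    exact ⟨t', mul_inv_eq_iff_eq_mul.1 (SemidirectProduct.inl_injective h3), fun k => (ht' k).trans (ht k).symm⟩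

end act

end Cfsg.Agent.MO.TA.I
end

-- part: MO/TA/IBox
section
/-!
# MO, types `A` and `²A`: the structure of the local subgroup, box `BoxI` (helper42)

* `bw` : the block monomial matrices `GL κ K ≀ Perm ι →* GL (ι × κ) K`;
* `jj` : the map `(Hd ≀ S_w) × GL_r(Q) →* AA`;
* `boxI`.
-/

set_option autoImplicit false

namespace Cfsg.Agent.MO.TA.I

open Cfsg Subgroup Matrix Equiv
open Cfsg.Agent.MO.W (Wr)
open scoped MatrixGroups

section mat

variable {K : Type} [Field K] {ι κ : Type} [Fintype ι] [DecidableEq ι] [Fintype κ] [DecidableEq κ]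

/-- the block monomial matrices -/
def bw : Wr (GL κ K) ι →* GL (ι × κ) K :=
  MonoidHom.toHomUnits
    { toFun := fun x => Matrix.of fun p q => if p.1 = x.right q.1 then (x.left p.1).1 p.2 q.2 else 0
      map_one' := Matrix.ext fun p q => by
        rcases p with ⟨i, a⟩
        rcases q with ⟨j, b⟩
        by_cases h : i = j <;> simp [h, Matrix.one_apply]
      map_mul' := fun x y => Matrix.ext fun p q => by
        rw [Matrix.mul_apply, Fintype.sum_prod_type, Finset.sum_eq_single (y.right q.1)]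
        · simp only [of_apply, if_true, SemidirectProduct.mul_right, Perm.mul_apply, W.mul_left]
          by_cases h : p.1 = x.right (y.right q.1)
          · simp only [h, Matrix.mul_apply, ↓ _root_.reduceIte, _root_.Equiv.Perm.coe_inv, _root_.Equiv.symm_apply_apply, _root_.Units.val_mul]
          · simp [h]
        · intro j _ hj
          simp only [hj, _root_.Matrix.of_apply, ↓ _root_.reduceIte, _root_.MulZeroClass.mul_zero, _root_.Finset.sum_const_zero]
        · simp only [_root_.Finset.mem_univ, _root_.not_true_eq_false, _root_.Matrix.of_apply, ↓ _root_.reduceIte, _root_.ite_mul, _root_.MulZeroClass.zero_mul, _root_.Finset.sum_ite_irrel, _root_.Finset.sum_const_zero, _root_.ite_eq_right_iff, _root_.IsEmpty.forall_iff] }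

theorem bw_apply (x : Wr (GL κ K) ι) (i j : ι) (a b : κ) :
    (bw x).1 (i, a) (j, b) = if i = x.right j then (x.left i).1 a b else 0 := rfl

theorem bw_inj [Nonempty κ] : Function.Injective (bw : Wr (GL κ K) ι →* GL (ι × κ) K) := by
  rw [injective_iff_map_eq_one]
  intro x hx
  have h0 : ∀ i j a b, (if i = x.right j then (x.left i).1 a b else 0) = (1 : Matrix (ι × κ) (ι × κ) K) (i, a) (j, b) :=
    fun i j a b => by rw [← bw_apply, hx, Units.val_one]
  have h1 : x.right = 1 := Equiv.ext fun j => by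
    obtain ⟨a⟩ := ‹Nonempty κ›
    obtain ⟨b, hb⟩ := exists_row (x.left (x.right j)) a
    by_contra h
    have h2 := h0 (x.right j) j a b
    rw [if_pos rfl, Matrix.one_apply_ne fun h3 => h (congrArg Prod.fst h3)] at h2
    exact hb h2
  refine SemidirectProduct.ext (funext fun i => Units.ext (Matrix.ext fun a b => ?_)) h1
  have h2 := h0 i i a b
  rw [h1] at h2
  simpa [Matrix.one_apply] using h2

theorem bw_mono (s : ι → κ → Kˣ) (ρ : ι → Perm κ) (π : Perm ι) (τ : Perm (ι × κ))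
    (h : ∀ j b, τ (j, b) = (π j, ρ (π j) b)) :
    bw (⟨fun i => dg (s i) * pm (ρ i), π⟩ : Wr (GL κ K) ι) = dg (fun p => s p.1 p.2) * pm τ :=
  Units.ext (Matrix.ext fun p q => by
    rcases p with ⟨i, a⟩
    rcases q with ⟨j, b⟩
    rw [bw_apply, dg_pm_apply, dg_pm_apply, h]
    by_cases h1 : i = π j
    · subst h1
      simp
    · simp [h1])

theorem bw_dg (t : ι × κ → Kˣ) : (dg t : GL (ι × κ) K) = bw (SemidirectProduct.inl fun i => dg fun a => t (i, a)) :=
  Units.ext (Matrix.ext fun p q => by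
    rcases p with ⟨i, a⟩
    rcases q with ⟨j, b⟩
    rw [bw_apply, dg_apply]
    by_cases h1 : i = j
    · subst h1
      simp [dg_apply]
    · simp [h1])

theorem det_bw (x : Wr (GL κ K) ι) : GeneralLinearGroup.det (bw x) = (∏ i, GeneralLinearGroup.det (x.left i)) *
    Units.map (Int.castRingHom K : ℤ →* K) (Perm.sign x.right) ^ Fintype.card κ := by
  conv_lhs => rw [← SemidirectProduct.inl_left_mul_inr_right x, map_mul, map_mul]
  congr 1
  · apply Units.ext
    rw [Units.coe_prod]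
    simp only [GeneralLinearGroup.val_det_apply]
    rw [← det_blockDiagonal, ← det_submatrix_equiv_self (Equiv.prodComm κ ι)]
    rfl
  · have h1 := bw_mono (K := K) (fun _ _ => 1) (fun _ => (1 : Perm κ)) x.right (Equiv.prodCongrLeft fun _ => x.right)
      fun _ _ => rfl
    have h2 : (SemidirectProduct.inr x.right : Wr (GL κ K) ι) = ⟨fun _ => dg (fun _ => 1) * pm 1, x.right⟩ :=
      SemidirectProduct.ext (funext fun _ => ((congrArg₂ _ (map_one dg) (map_one pm)).trans (mul_one 1)).symm) rfl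
    rw [h2, h1, map_mul, det_dg, det_pm, Finset.prod_const_one, one_mul, Perm.sign_prodCongrLeft, Finset.prod_const,
      map_pow, Finset.card_univ]

end mat

/-- a permutation which commutes with the cycles permutes the blocks -/
theorem blocks {ι : Type} [Finite ι] {d : ℕ} [NeZero d] (τ : Perm (ι × ZMod d))
    (h : ∀ j b, τ (j, b + 1) = ((τ (j, b)).1, (τ (j, b)).2 + 1)) :
    ∃ (π : Perm ι) (ρ : ι → Perm (ZMod d)), ∀ j b, τ (j, b) = (π j, ρ (π j) b) := by
  have h1 : ∀ j (n : ℕ), τ (j, n) = ((τ (j, 0)).1, (τ (j, 0)).2 + n) := fun j n => by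
    induction n with
    | zero => simp
    | succ n ih => rw [Nat.cast_succ, h, ih, add_assoc]
  have h2 : ∀ j b, τ (j, b) = ((τ (j, 0)).1, (τ (j, 0)).2 + b) := fun j b => by
    simpa only [ZMod.natCast_zmod_val] using h1 j b.val
  have hs : Function.Surjective fun j => (τ (j, 0)).1 := fun i => by
    obtain ⟨⟨j, b⟩, hj⟩ := τ.surjective (i, 0)
    exact ⟨j, congrArg Prod.fst ((h2 j b).symm.trans hj)⟩
  let π : Perm ι := Equiv.ofBijective _ (Finite.surjective_iff_bijective.1 hs)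
  refine ⟨π, fun i => Equiv.addLeft (τ (π.symm i, 0)).2, fun j b => ?_⟩
  beta_reduce
  rw [h2, Equiv.symm_apply_apply]
  rfl

section act

variable {c : D0} {ι κ : Type} [Fintype ι] [DecidableEq ι] [Fintype κ] [DecidableEq κ]

theorem act_bw (e : c.E) (x : Wr (GL κ c.K) ι) :
    c.act (ι × κ) e (bw x) = bw ⟨fun i => c.act κ e (x.left i), x.right⟩ :=
  Units.ext (Matrix.ext fun p q => by
    rcases p with ⟨i, a⟩
    rcases q with ⟨j, b⟩
    rcases Int.units_eq_one_or (c.sg e) with h | h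
    · rw [act_pos h, bw_apply, bw_apply, act_pos h]
      split_ifs
      · rfl
      · exact map_zero _
    · rw [act_neg h, ← map_inv, bw_apply, bw_apply, act_neg h, W.inv_left]
      by_cases h1 : i = x.right j
      · subst h1
        simp
      · have h2 : ¬ j = x⁻¹.right i := fun h2 => h1 (Perm.eq_inv_iff_eq.1 h2).symm
        simp only [if_neg h1, if_neg h2, map_zero])

/-- the matrix of an element of a subgroup of the matrices -/
def lf (H : Subgroup (c.AA ι)) (hH : ∀ a ∈ H, a.right = 1) : H →* GL ι c.K where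
  toFun h := h.1.left
  map_one' := rfl
  map_mul' g h := by
    change g.1.left * c.act ι g.1.right h.1.left = _
    rw [hH _ g.2, map_one, MulAut.one_apply]

theorem lf_inj (H : Subgroup (c.AA ι)) (hH : ∀ a ∈ H, a.right = 1) : Function.Injective (lf H hH) := fun g h e =>
  Subtype.ext (SemidirectProduct.ext e ((hH _ g.2).trans (hH _ h.2).symm))

theorem exists_aut (H : Subgroup (c.AA ι)) (hH : ∀ a ∈ H, a.right = 1) (e : c.E)
    (h : ∀ a ∈ H, (SemidirectProduct.inl (c.act ι e a.left) : c.AA ι) ∈ H) :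
    ∃ α : H ≃* H, ∀ a, (α a).1.left = c.act ι e a.1.left := by
  let f : H →* H := ((SemidirectProduct.inl.comp (c.act ι e).toMonoidHom).comp (lf H hH)).codRestrict H
    fun a => h a.1 a.2
  have hf : Function.Injective f := fun a b hab =>
    lf_inj H hH ((c.act ι e).injective (SemidirectProduct.inl_injective (congrArg Subtype.val hab)))
  exact ⟨MulEquiv.ofBijective f (Finite.injective_iff_bijective.1 hf), fun _ => rfl⟩

theorem right_Gt {v : GL ι c.K} (a : c.AA ι) (h : a ∈ c.Gt v) : a.right = 1 := (mem_Gt.1 h).1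

/-- the normaliser of the diagonal matrices -/
theorem mem_norm_dg {a : c.AA ι} :
    a ∈ normalizer (((SemidirectProduct.inl.comp dg : (ι → c.Kˣ) →* c.AA ι).range : Subgroup _) : Set _) ↔
      ∃ (s : ι → c.Kˣ) (π : Perm ι), a.left = dg s * pm π := by
  have key : ∀ (a : c.AA ι) (s : ι → c.Kˣ) (π : Perm ι), a.left = dg s * pm π →
      a ∈ normalizer (((SemidirectProduct.inl.comp dg : (ι → c.Kˣ) →* c.AA ι).range : Subgroup _) : Set _) := by
    intro a s π h
    refine mem_normalizer_fintype ?_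
    rintro _ ⟨t, rfl⟩
    refine ⟨fun i => c.ue a.right (t (π⁻¹ i)), ?_⟩
    rw [MonoidHom.comp_apply, MonoidHom.comp_apply, conj_inl, act_dg, h, mono_conj, mul_inv_cancel_right]
  refine ⟨fun h => ?_, fun ⟨s, π, h⟩ => key a s π h⟩
  have h1 := mul_mem h (inv_mem (key (SemidirectProduct.inr a.right) 1 1 (by simp)))
  rw [mul_inv_eq_of_eq_mul (SemidirectProduct.inl_left_mul_inr_right a).symm] at h1
  obtain ⟨y, hy⟩ := exists_ne_one c
  refine mono_of_sep a.left Set.univ (fun i j hij => ⟨Pi.mulSingle i y, trivial, ?_⟩) fun t _ => ?_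
  · rwa [Pi.mulSingle_eq_same, Pi.mulSingle_eq_of_ne hij.symm]
  · obtain ⟨t', h3⟩ := (mem_normalizer_iff.1 h1 _).1 ⟨t, rfl⟩
    rw [MonoidHom.comp_apply, MonoidHom.comp_apply, ← map_inv, ← map_mul, ← map_mul] at h3
    exact ⟨t', mul_inv_eq_iff_eq_mul.1 (SemidirectProduct.inl_injective h3).symm⟩

variable {d w r : ℕ} [NeZero d]

theorem mem_Hd {a : c.AA (ZMod d)} : a ∈ c.Hd d ↔ a.right = 1 ∧ a.left * c.sig d = c.sig d * c.act _ c.F a.left ∧
    ∃ (s : ZMod d → c.Kˣ) (π : Perm (ZMod d)), a.left = dg s * pm π := by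
  rw [D0.Hd, mem_inf, mem_Gt, mem_norm_dg, and_assoc]

theorem right_Hd (a : c.AA (ZMod d)) (h : a ∈ c.Hd d) : a.right = 1 := (mem_Hd.1 h).1

theorem act_mem_Hd (e : c.E) (a : c.AA (ZMod d)) (h : a ∈ c.Hd d) :
    (SemidirectProduct.inl (c.act _ e a.left) : c.AA (ZMod d)) ∈ c.Hd d := by
  refine ⟨act_mem_Gt e (act_sig e) (eq_inl (right_Hd a h) ▸ h.1), mem_norm_dg.2 ?_⟩
  obtain ⟨s, π, h1⟩ := (mem_Hd.1 h).2.2
  exact ⟨_, π, by rw [SemidirectProduct.left_inl, h1, map_mul, act_dg, act_pm]⟩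

theorem vd_bw : c.vd d w r = sb (bw (W.dz (Fin w) (c.sig d)), 1) := by
  rw [vd_eq]
  congr 2
  exact (bw_mono (fun _ (a : ZMod d) => if a = 0 then (-1) ^ (d - 1) else 1) (fun _ => Equiv.addRight 1) 1 _
    fun _ _ => rfl).symm

theorem sb_mem_Gt {x : Wr (GL (ZMod d) c.K) (Fin w)} {D : GL (Fin r) c.K} :
    (SemidirectProduct.inl (sb (bw x, D)) : c.AA (Ix d w r)) ∈ c.Gt (c.vd d w r) ↔
      (∀ i, x.left i * c.sig d = c.sig d * c.act _ c.F (x.left i)) ∧ D * 1 = 1 * c.act _ c.F D := by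
  rw [inl_mem_Gt, vd_bw, act_sb, act_bw, sb_mul, sb_mul, ← map_mul, ← map_mul]
  refine ⟨fun h => ⟨fun i => ?_, (sb_inj h).2⟩, fun h => ?_⟩
  · exact congrFun (congrArg SemidirectProduct.left (bw_inj (sb_inj h).1)) i
  · rw [h.2]
    congr 3
    exact SemidirectProduct.ext (funext h.1) ((mul_one _).trans (one_mul _).symm)

variable (c d w r) in
/-- the matrix of a pair -/
def jm : Wr (c.Hd d) (Fin w) × c.Gt (1 : GL (Fin r) c.K) →* GL (Ix d w r) c.K :=
  sb.comp ((bw.comp (W.mapW _ (lf _ right_Hd))).prodMap (lf _ right_Gt))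

theorem jm_apply (x : Wr (c.Hd d) (Fin w)) (g : c.Gt (1 : GL (Fin r) c.K)) :
    jm c d w r (x, g) = sb (bw ⟨fun i => (x.left i).1.left, x.right⟩, g.1.left) := rfl

theorem jm_inj : Function.Injective (jm c d w r) := by
  rintro ⟨x, g⟩ ⟨x', g'⟩ h
  obtain ⟨h1, h2⟩ := sb_inj h
  have h3 := bw_inj h1
  refine Prod.ext (SemidirectProduct.ext (funext fun i => lf_inj _ right_Hd ?_) (congrArg SemidirectProduct.right h3 :))
    (lf_inj _ right_Gt h2)
  exact congrFun (congrArg SemidirectProduct.left h3) i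

theorem jm_mem (y : Wr (c.Hd d) (Fin w) × c.Gt (1 : GL (Fin r) c.K)) :
    (SemidirectProduct.inl (jm c d w r y) : c.AA (Ix d w r)) ∈ c.Gt (c.vd d w r) ⊓ c.Cl d w r := by
  rcases y with ⟨x, g⟩
  have h1 : (SemidirectProduct.inl (jm c d w r (x, g)) : c.AA (Ix d w r)) ∈ c.Gt (c.vd d w r) :=
    sb_mem_Gt.2 ⟨fun i => (mem_Hd.1 (x.left i).2).2.1, (mem_Gt.1 g.2).2⟩
  refine ⟨h1, h1.1, ?_⟩
  choose s ρ h using fun i => (mem_Hd.1 (x.left i).2).2.2
  refine norm_Dt_of_sb (s := fun p => s p.1 p.2) (D := g.1.left)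
    (π := (Equiv.prodCongrLeft fun _ => x.right).trans (Equiv.prodCongrRight ρ)) ?_
  rw [SemidirectProduct.left_inl, jm_apply, ← bw_mono s ρ x.right _ fun _ _ => rfl, funext h]

theorem jm_surj (a : c.AA (Ix d w r)) (ha : a ∈ c.Gt (c.vd d w r) ⊓ c.Cl d w r) :
    ∃ y, SemidirectProduct.inl (jm c d w r y) = a := by
  obtain ⟨s, τ, D, h⟩ := sb_of_norm_Dt ha.2.2
  obtain ⟨h1, h2⟩ := mem_Gt.1 ha.1
  have h3 := h2
  rw [h, vd_eq, act_sb, map_mul, act_dg, act_pm, sb_mul, sb_mul, mono_mul, mono_mul] at h3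
  obtain ⟨π, ρ, h4⟩ := blocks τ fun j b => DFunLike.congr_fun (mono_inj (sb_inj h3).1).2 (j, b)
  have h5 : a = SemidirectProduct.inl (sb (bw ⟨fun i => dg (fun b => s (i, b)) * pm (ρ i), π⟩, D)) := by
    rw [bw_mono _ ρ π τ h4, ← h]
    exact eq_inl h1
  obtain ⟨h6, h7⟩ := sb_mem_Gt.1 (h5 ▸ ha.1)
  exact ⟨(⟨fun i => ⟨SemidirectProduct.inl (dg (fun b => s (i, b)) * pm (ρ i)), mem_Hd.2 ⟨rfl, h6 i, _, _, rfl⟩⟩, π⟩,
    ⟨SemidirectProduct.inl D, inl_mem_Gt.2 h7⟩), h5.symm⟩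

variable (c d w r) in
/-- the isomorphism -/
noncomputable def jj : Wr (c.Hd d) (Fin w) × c.Gt (1 : GL (Fin r) c.K) ≃* ↥(c.Gt (c.vd d w r) ⊓ c.Cl d w r) :=
  MulEquiv.ofBijective ((SemidirectProduct.inl.comp (jm c d w r)).codRestrict _ jm_mem)
    ⟨fun _ _ h => jm_inj (SemidirectProduct.inl_injective (congrArg Subtype.val h)), fun a => by
      obtain ⟨y, hy⟩ := jm_surj a.1 a.2
      exact ⟨y, Subtype.ext hy⟩⟩

theorem jj_left (y : Wr (c.Hd d) (Fin w) × c.Gt (1 : GL (Fin r) c.K)) : (jj c d w r y).1.left = jm c d w r y := rfl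

theorem iso_jj (hw : 0 < w) : c.Iso (jj c d w r) where
  ll _ _ _ _ _ _ := rfl
  lr _ _ _ _ := rfl
  rl _ _ _ _ := rfl
  rr _ _ _ _ := rfl
  dt x g := by
    rw [D0.dt, jj_left, jm_apply, det_sb, det_bw, ZMod.card]
    rfl
  eH e := exists_aut _ right_Hd e (act_mem_Hd e)
  eG e := exists_aut _ right_Gt e fun a ha => act_mem_Gt e (map_one _) (eq_inl (right_Gt a ha) ▸ ha)
  act e x x' g g' h1 h2 h3 := by
    rw [jj_left, jj_left, jm_apply, jm_apply, act_sb, act_bw, funext h1, h2, h3]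
  inr := inr_mem_Cl
  sca z y hz := by
    obtain ⟨⟨x, g⟩, rfl⟩ := (jj c d w r).surjective z
    rw [jj_left, jm_apply, dg_sum, bw_dg] at hz
    obtain ⟨h1, h2⟩ := sb_inj hz
    have h3 := bw_inj h1
    have h4 : ∀ i, (x.left i).1.left = dg fun _ => y := congrFun (congrArg SemidirectProduct.left h3)
    refine ⟨x.left ⟨0, hw⟩, g, h4 _, h2, congrArg (fun u => jj c d w r (u, g)) ?_⟩
    exact SemidirectProduct.ext (funext fun i => lf_inj _ right_Hd ((h4 i).trans (h4 _).symm))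
      (congrArg SemidirectProduct.right h3 :)

end act

end Cfsg.Agent.MO.TA.I

namespace Cfsg.Agent.MO.TA

/-- **box I** -/
theorem boxI : BoxI := fun c d w r _ hw _ => ⟨I.jj c.toD0 d w r, I.iso_jj hw⟩

end Cfsg.Agent.MO.TA
end

-- part: MO/TA/M
section
/-!
# MO, types `A` and `²A`: the local criterion for the local subgroup (helper68)

* `M.mul_of_hom` : the criterion from a character of an abstract supplement;
* `M.emb` : the embedding of `V × Ah 1`; `M.mul_of_prim` : the criterion from a subgroup `V` of the wreath product;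
* `boxM_of` : the box `BoxM`.
-/

set_option autoImplicit false

namespace Cfsg.Agent.MO.TA

open Cfsg Subgroup Matrix Cfsg.Agent.Characters.Core Cfsg.Agent.H577.GLB.Std Cfsg.Agent.H615.GU
open Cfsg.Agent.MO.W (Wr Prim)
open SemidirectProduct (inl inr)
open scoped MatrixGroups

namespace M

/-- the criterion from an abstract supplement -/
theorem mul_of_hom {A B B0 : Type} [Group A] [Finite A] [Group B] [Group B0] [Finite B0] {N Nt D : Subgroup A}
    (hNt : N ≤ Nt) (hN : N ≤ D) (hn : ∀ d ∈ D, ∀ x ∈ N, d * x * d⁻¹ ∈ N) (φ : B →* A) (hφ : Function.Injective φ)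
    (i : B0 →* B) (hi : Function.Injective i) (hD : ∀ b, φ b ∈ D) (hr : ∀ b, φ b ∈ N ↔ b ∈ i.range)
    (hsup : ∀ d ∈ D, ∃ x ∈ N, ∃ b, d = x * φ b) {β : B → ℂ} (hβ : IsCharacter B β) {χ : Nt → ℂ}
    (hχ : IsClassFunction Nt χ) {f : B0 → ℂ} (hf : ∀ b (y : Nt), (y : A) = φ (i b) → χ y = f b) :
    ∃ Φ : D → ℂ, IsCharacter D Φ ∧ ip (res N Φ) (res N χ) = ip (β ∘ i) f := by
  have hβ' : IsCharacter φ.range (β ∘ (MonoidHom.ofInjective hφ).symm) :=
    isCharacter_comp ((MonoidHom.ofInjective hφ).symm : φ.range →* B) hβ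
  obtain ⟨Φ, h1, h2⟩ := mul_of_ind (Bh := φ.range) hNt hN (by rintro _ ⟨b, rfl⟩; exact hD b) hn (fun d hd => by
    obtain ⟨x, hx, b, h⟩ := hsup d hd
    exact ⟨x, hx, _, ⟨b, rfl⟩, h⟩) hβ' hχ
  let e : B0 ≃* ↥(φ.range ⊓ N) := MulEquiv.ofBijective
    ((φ.comp i).codRestrict (φ.range ⊓ N) fun b => mem_inf.2 ⟨⟨_, rfl⟩, (hr _).2 ⟨b, rfl⟩⟩)
    ⟨fun a b h => hi (hφ (congrArg Subtype.val h)), by
      rintro ⟨_, ⟨b, rfl⟩, hb⟩
      obtain ⟨b0, rfl⟩ := (hr b).1 hb
      exact ⟨b0, rfl⟩⟩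
  refine ⟨Φ, h1, ?_⟩
  rw [h2, ← ip_comp e]
  congr 1
  · funext b
    rw [Function.comp_apply, res_apply _ (e b) (MonoidHom.ofInjective hφ (i b)) rfl, Function.comp_apply,
      MulEquiv.symm_apply_apply, Function.comp_apply]
  · funext b
    rw [Function.comp_apply, res_apply χ (e b) ⟨_, hNt (e b).2.2⟩ rfl]
    exact hf b _ rfl

theorem ip_outer {G H : Type} [Group G] [Finite G] [Group H] [Finite H] (a a' : G → ℂ) (b b' : H → ℂ) :
    ip (fun x : G × H => a x.1 * b x.2) (fun x => a' x.1 * b' x.2) = ip a a' * ip b b' := by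
  have := Fintype.ofFinite G
  have := Fintype.ofFinite H
  rw [ip_eq, ip_eq, ip_eq, S0188.classInner_outer, ← classInner_smul_left]
  congr 1
  funext h
  rw [show (fun g => a g * b h) = b h • a from funext fun g => mul_comm _ _, classInner_smul_left, Pi.smul_apply,
    smul_eq_mul, mul_comm]

variable {c : D0} {d w r : ℕ} [NeZero d]

theorem inr_mem (ι : Type) [Fintype ι] [DecidableEq ι] (e : c.E) : (inr e : c.AA ι) ∈ c.Ah 1 :=
  mem_centralizer_singleton_iff.2 (by
    change inr e * inr c.F = inr c.F * inr e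
    rw [← map_mul, ← map_mul, mul_comm])

/-- the matrix part -/
def lf (a : c.Ah (1 : GL (Fin r) c.K)) : c.Gt (1 : GL (Fin r) c.K) :=
  ⟨inl a.1.left, by
    rw [eq_mul_inv_of_mul_eq (SemidirectProduct.inl_left_mul_inr_right a.1)]
    exact (c.Ah 1).mul_mem a.2 ((c.Ah 1).inv_mem (inr_mem _ _)), rfl⟩

theorem right_eq {ι : Type} [Fintype ι] [DecidableEq ι] {v : GL ι c.K} {a : c.AA ι} (h : a ∈ c.Gt v) : a.right = 1 := h.2

theorem ext_Gt {ι : Type} [Fintype ι] [DecidableEq ι] {v : GL ι c.K} {a b : c.Gt v} (h : a.1.left = b.1.left) : a = b :=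
  Subtype.ext (SemidirectProduct.ext h ((right_eq a.2).trans (right_eq b.2).symm))

theorem mul_left {ι : Type} [Fintype ι] [DecidableEq ι] {v : GL ι c.K} {a : c.AA ι} (h : a ∈ c.Gt v) (b : c.AA ι) :
    (a * b).left = a.left * b.left := by
  rw [SemidirectProduct.mul_left, right_eq h, map_one, MulAut.one_apply]

theorem mem_G {ι : Type} [Fintype ι] [DecidableEq ι] {v : GL ι c.K} {a : c.AA ι} :
    a ∈ c.G v ↔ a ∈ c.Ah v ∧ a.right = 1 ∧ c.dt a = 1 :=
  ⟨fun h => ⟨h.1.1, h.1.2, h.2.2⟩, fun h => ⟨⟨h.1, h.2.1⟩, h.1, h.2.2⟩⟩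

section emb

variable {j : Wr (c.Hd d) (Fin w) × c.Gt (1 : GL (Fin r) c.K) ≃* ↥(c.Gt (c.vd d w r) ⊓ c.Cl d w r)} (hj : c.Iso j)
  {V : Type} [Group V] (ρ : V →* Wr (c.Hd d) (Fin w))
  (hρ : ∀ x i e, c.act _ e ((ρ x).left i).1.left = ((ρ x).left i).1.left)

/-- the embedding -/
noncomputable def emb : V × c.Ah (1 : GL (Fin r) c.K) →* c.AA (Ix d w r) :=
  MonoidHom.mk' (fun x => ⟨(j (ρ x.1, lf x.2)).1.left, x.2.1.right⟩) fun x y => by
    obtain ⟨β, hβ⟩ := hj.eG x.2.1.right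
    refine SemidirectProduct.ext ?_ rfl
    have h1 : (ρ (x * y).1, lf (x * y).2) = (ρ x.1, lf x.2) * (ρ y.1, β (lf y.2)) :=
      Prod.ext (map_mul ρ _ _) (ext_Gt (by
        change (x.2.1 * y.2.1).left = ((lf x.2).1 * (β (lf y.2)).1).left
        rw [mul_left (lf x.2).2, hβ]
        rfl))
    change (j _).1.left = (j _).1.left * c.act _ x.2.1.right (j _).1.left
    simp only [h1, map_mul, coe_mul, mul_left (j _).2.1, hj.act x.2.1.right (ρ y.1) (ρ y.1) (lf y.2) (β (lf y.2))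
      (fun i => (hρ _ i _).symm) rfl (hβ _)]

theorem emb_eq (x : V × c.Ah (1 : GL (Fin r) c.K)) : emb hj ρ hρ x = (j (ρ x.1, lf x.2)).1 * inr x.2.1.right :=
  SemidirectProduct.ext (by rw [mul_left (j _).2.1, SemidirectProduct.left_inr, mul_one]; rfl)
    (by rw [SemidirectProduct.mul_right, right_eq (j _).2.1, one_mul]; rfl)

theorem emb_inj (h : Function.Injective ρ) : Function.Injective (emb hj ρ hρ) := fun x y e => by
  have h1 : x.2.1.right = y.2.1.right := (congrArg SemidirectProduct.right e :)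
  rw [emb_eq, emb_eq, h1, mul_left_inj] at e
  have h2 := j.injective (Subtype.ext e)
  exact Prod.ext (h (congrArg Prod.fst h2))
    (Subtype.ext (SemidirectProduct.ext (congrArg (fun z => z.2.1.left) h2) h1))

include hj hρ in
/-- the criterion from a subgroup of the wreath product which is centralised by `E` -/
theorem mul_of_prim [Finite V] (hi : Function.Injective ρ) (hd : ∀ x, c.dt (j (ρ x, 1)).1 = 1)
    {ψ : ↥(c.Gt (c.vd d w r) ⊓ c.Cl d w r) → ℂ} (hψ : IsIrrCharacter _ ψ) {ψ₁ : Wr (c.Hd d) (Fin w) → ℂ}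
    {ψ₂ : c.Gt (1 : GL (Fin r) c.K) → ℂ} (h : ∀ x, ψ (j x) = ψ₁ x.1 * ψ₂ x.2) {s : ℕ} (hs : s.Prime)
    (h₁ : Prim s V fun x => ψ₁ (ρ x)) (h₂ : Mul (c.G 1) (c.Gh 1) ψ₂ s) :
    Mul (c.G (c.vd d w r) ⊓ c.Cl d w r) (c.Gh (c.vd d w r) ⊓ c.Cl d w r) ψ s := by
  intro D hN hD hp
  have hNt : c.G (c.vd d w r) ⊓ c.Cl d w r ≤ c.Gt (c.vd d w r) ⊓ c.Cl d w r := inf_le_inf_right _ inf_le_left
  have h0 : ψ₁ 1 ≠ 0 := fun e => isIrr_apply_one_ne_zero hψ (by rw [← map_one j, h, Prod.fst_one, e, zero_mul])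
  have hdt : ∀ x g, c.dt (j (ρ x, g)).1 = c.dt g.1 := fun x g => by
    have h3 := hd x
    rw [hj.dt] at h3 ⊢
    rw [show c.dt (1 : c.Gt (1 : GL (Fin r) c.K)).1 = 1 from map_one _, mul_one] at h3
    rw [h3, one_mul]
  have hjN : ∀ x (g : c.Gt (1 : GL (Fin r) c.K)), c.dt g.1 = 1 →
      (j (ρ x, g)).1 ∈ c.G (c.vd d w r) ⊓ c.Cl d w r := fun x g hg =>
    ⟨mem_G.2 ⟨(j _).2.1.1, (j _).2.1.2, (hdt x g).trans hg⟩, (j _).2.2⟩
  let Dr : Subgroup (c.AA (Fin r)) :=
    c.Gh 1 ⊓ (D.comap inr).comap (SemidirectProduct.rightHom : c.AA (Fin r) →* c.E)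
  have hDr : ∀ a, a ∈ Dr ↔ a ∈ c.Gh 1 ∧ (inr a.right : c.AA (Ix d w r)) ∈ D := fun _ => Iff.rfl
  have hle : Dr ≤ c.Ah 1 := fun _ ha => ha.1.1
  have hG : c.G 1 ≤ Dr := fun a ha => (hDr a).2 ⟨ha.2, by rw [right_eq ha.1, map_one]; exact one_mem _⟩
  let φ : V × Dr →* c.AA (Ix d w r) := (emb hj ρ hρ).comp ((MonoidHom.id V).prodMap (inclusion hle))
  have hφ : ∀ x, φ x = (j (ρ x.1, lf (inclusion hle x.2))).1 * inr x.2.1.right := fun x => emb_eq hj ρ hρ _
  have hφD : ∀ x, φ x ∈ D := fun x => by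
    rw [hφ]
    exact mul_mem (hN (hjN _ _ x.2.2.1.2)) x.2.2.2
  let i : V × c.G (1 : GL (Fin r) c.K) →* V × Dr := (MonoidHom.id V).prodMap (inclusion hG)
  have hval : ∀ b (y : ↥(c.Gt (c.vd d w r) ⊓ c.Cl d w r)), (y : c.AA (Ix d w r)) = φ (i b) →
      ψ y = ψ₁ (ρ b.1) * res (c.G 1) ψ₂ b.2 := fun b y hy => by
    rw [hφ, show (i b).2.1.right = 1 from right_eq b.2.2.1, map_one, mul_one] at hy
    rw [Subtype.ext hy, h, res_of_le (H := c.G 1) (K := c.Gt 1) inf_le_left]
    exact congrArg (fun z => _ * ψ₂ z) (ext_Gt rfl)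
  have hr : ∀ b, φ b ∈ c.G (c.vd d w r) ⊓ c.Cl d w r ↔ b ∈ i.range := fun b =>
    ⟨fun hb => ⟨(b.1, ⟨b.2, mem_G.2 ⟨b.2.2.1.1, (right_eq hb.1.1 :), b.2.2.1.2⟩⟩), rfl⟩, by
      rintro ⟨b, rfl⟩
      rw [hφ, show (i b).2.1.right = 1 from right_eq b.2.2.1, map_one, mul_one]
      exact hjN _ _ b.2.2.2.2⟩
  have hnm : ∀ a ∈ c.Gh (1 : GL (Fin r) c.K), ∀ x ∈ c.G (1 : GL (Fin r) c.K), a * x * a⁻¹ ∈ c.G 1 := fun a ha x hx =>
    have h3 := mul_mem (mul_mem ha hx.2) (inv_mem ha)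
    ⟨⟨h3.1, (MonoidHom.normal_ker _).conj_mem x hx.1.2 a⟩, h3⟩
  obtain ⟨Φ₂, h3, m, h4, h5⟩ := h₂ Dr hG (fun a ha => ⟨ha.1, fun x => ⟨hnm a ha.1 x, fun hx => by
      simpa only [mul_assoc, _root_.inv_mul_cancel_left, _root_.inv_inv, _root_.inv_mul_cancel, _root_.mul_one] using hnm _ (inv_mem ha.1) _ hx⟩, fun x y hy => by
      have h6 := (hD (hφD (1, ⟨a, ha⟩))).2.2 ⟨_, (hr _).2 ⟨(1, x), rfl⟩⟩ ⟨_, (hr _).2 ⟨(1, y), rfl⟩⟩ (by
        change φ _ = φ _ * φ _ * (φ _)⁻¹
        rw [← map_inv, ← map_mul, ← map_mul]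
        exact congrArg φ (Prod.ext (by simp only [i, _root_.MonoidHom.coe_prodMap, _root_.MonoidHom.coe_id, _root_.Prod.map_apply, _root_.id_eq, _root_.Prod.mk_mul_mk, _root_.mul_one, _root_.Prod.inv_mk, _root_.inv_one]) (Subtype.ext hy)))
      rw [res_of_le hNt, res_of_le hNt, hval (1, y) _ rfl, hval (1, x) _ rfl, map_one] at h6
      exact mul_left_cancel₀ h0 h6⟩) fun a ha => by
      obtain ⟨k, hk⟩ := hp _ ha.2
      have h6 := pow_mem ha.1 (s ^ k)
      refine ⟨k, mem_G.2 ⟨h6.1, ?_, h6.2⟩⟩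
      have h7 : (inr a.right ^ s ^ k : c.AA (Ix d w r)).right = 1 := right_eq hk.1.1
      rw [← map_pow, SemidirectProduct.right_inr] at h7
      exact (map_pow (SemidirectProduct.rightHom : c.AA (Fin r) →* c.E) a _).trans h7
  have := Fintype.ofFinite V
  obtain ⟨β, n, h6, h7, h8⟩ := h₁
  obtain ⟨Φ, h9, h10⟩ := mul_of_hom hNt hN (fun a ha x hx => ((hD ha).2.1 x).1 hx) φ
    ((emb_inj hj ρ hρ hi).comp (Function.Injective.prodMap Function.injective_id (inclusion_injective hle))) i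
    (Function.Injective.prodMap Function.injective_id (inclusion_injective hG)) hφD hr (fun a ha => by
      have h9 : a * (inr a.right)⁻¹ ∈ c.G (c.vd d w r) ⊓ c.Cl d w r := by
        have h10 := (c.Cl d w r).mul_mem (hD ha).1.2 (inv_mem (hj.inr a.right))
        refine ⟨mem_G.2 ⟨h10.1, by simp, ?_⟩, h10⟩
        rw [← eq_mul_inv_of_mul_eq (SemidirectProduct.inl_left_mul_inr_right a)]
        exact (hD ha).1.1.2
      have h10 : (inr a.right : c.AA (Ix d w r)) ∈ D := by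
        simpa using mul_mem (inv_mem (hN h9)) ha
      refine ⟨_, h9, (1, ⟨inr a.right, (hDr _).2 ⟨⟨inr_mem _ _, map_one _⟩, h10⟩⟩), ?_⟩
      rw [hφ, map_one, show lf (inclusion hle ⟨inr a.right, _⟩) = 1 from ext_Gt rfl, ← Prod.one_eq_mk, map_one]
      simp only [_root_.OneMemClass.coe_one, _root_.SemidirectProduct.right_inr, _root_.one_mul, _root_.inv_mul_cancel_right])
    (S0188.isCharacter_outer (isIrr_isCharacter h6) h3) (isIrr_isClassFunction hψ) hval
  refine ⟨Φ, h9, n * m, fun e => (hs.dvd_mul.1 e).elim h8 h4, ?_⟩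
  rw [h10, show (fun x : V × Dr => β x.1 * Φ₂ x.2) ∘ i = fun x => β x.1 * res (c.G 1) Φ₂ x.2 from
    funext fun x => by rw [res_of_le hG]; rfl, ip_outer β fun x => ψ₁ (ρ x), h5, ip_eq, ← classInner_conj_symm, h7,
    map_natCast, Nat.cast_mul]

end emb

/-- `W.WPrim` for an enumeration -/
def PE : Prop :=
  ∀ (K K' ι I : Type) [Group K] [Finite K] [Group K'] [Fintype K'] [Fintype ι] [Fintype I] [DecidableEq I]
    (κ : I → K → ℂ) (ε : I → ℤˣ) (m : ℕ) (t : I → Fin m → ℕ) (r : K' →* K) (s : ℕ), s.Prime →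
    W.Enum κ → W.Lb (Fintype.card ι) t →
    (∀ c, ∃ β, IsIrrCharacter K' β ∧ classInner (fun g => κ c (r g)) β = 1) →
    Prim s (Wr K' ι) fun x => W.psi κ ε t (W.mapW ι r x)

/-- `W.WPrim2` for an enumeration -/
def PE2 : Prop :=
  ∀ (K K' ι I : Type) [Group K] [Finite K] [Group K'] [Fintype K'] [Fintype ι] [DecidableEq ι] [Fintype I]
    [DecidableEq I] (κ : I → K → ℂ) (ε : I → ℤˣ) (m : ℕ) (t : I → Fin m → ℕ) (r : K' →* K) (s : ℕ) (δ : K' →* ℤˣ)
    (z : K'), s.Prime → W.Enum κ → W.Lb (Fintype.card ι) t →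
    (∀ c, ∃ β, IsIrrCharacter K' β ∧ classInner (fun g => κ c (r g)) β = 1) →
    z ∈ Subgroup.center K' → δ z = -1 → (∀ c, κ c (r z) = κ c 1 ∨ κ c (r z) = - κ c 1) → z * z = 1 →
    Prim s (W.linW ι δ * W.sgW K' ι).ker fun x => W.psi κ ε t (W.mapW ι r (x : Wr K' ι))

end M

/-- **box M** -/
theorem boxM_of (hI : BoxI) (hH : BoxH) (hB : W.WBij) (hP : M.PE) (hP2 : M.PE2) (hU : BoxU) (hT : BoxT) :
    BoxM := by
  classical
  intro c d w r _ hw hn ψ hψ s hs hs'
  obtain ⟨j, hj⟩ := hI c d w r hw hn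
  obtain ⟨κ, hκ⟩ := hH c d ((Nat.le_mul_of_pos_right d hw).trans (le_of_add_le_left hn))
  obtain ⟨ψ₁, ψ₂, h1, h2, h3⟩ := (S0188.result _).1 (isIrr_comp j.toMonoidHom j.surjective hψ)
  have hr : Fintype.card (Fin r) ≤ c.n := (Fintype.card_fin r).trans_le (le_of_add_le_right hn)
  have hL : c.Lg (1 : GL (Fin r) c.K) := ⟨1, map_one _, by rw [map_one, mul_one]⟩
  have h4 : Mul (c.G 1) (c.Gh 1) ψ₂ s := by
    by_cases e : (s : ℤ) ∣ c.Q - 1
    · exact hU c _ hr 1 hL ψ₂ h2 s hs e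
    obtain rfl := hs'.resolve_right e
    refine hT c _ hr 1 hL (c.pp.out.eq_two_or_odd'.resolve_right fun h => e ?_) ψ₂ h2
    rw [c.hQ]
    refine (Odd.sub_odd (Odd.mul ?_ ((Int.odd_coe_nat _).2 h).pow) odd_one).two_dvd
    rcases Int.units_eq_one_or (c.sg c.F) with h' | h' <;> rw [h'] <;> decide
  have := finite_irr (G := c.Hd d)
  have := Fintype.ofFinite (IrrCharacter (c.Hd d))
  have := Fintype.ofFinite (c.A0 d)
  let κ' : IrrCharacter (c.Hd d) → c.Hd d → ℂ := Subtype.val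
  have hE : W.Enum κ' := ⟨fun x => x.2, Subtype.val_injective, fun χ h => ⟨⟨χ, h⟩, rfl⟩⟩
  obtain ⟨t, ht⟩ := (hB (c.Hd d) (Fin w) _ κ' 1 _ hE le_rfl).surj ψ₁ h1
  have h5 : ∀ x, ∃ β, IsIrrCharacter (c.A0 d) β ∧ classInner (fun g => κ' x ((c.A0 d).subtype g)) β = 1 := fun x => by
    obtain ⟨y, -, i, h5, h6, h7⟩ := hκ.surj x.1 x.2
    obtain ⟨β, h8, h9⟩ := hκ.one y i h5 h6
    exact ⟨β, h8, by rw [← h9, ip_eq, h7]; rfl⟩
  obtain ⟨δ, h6, h7⟩ := hκ.sgn
  have h8 : Function.Injective (W.mapW (Fin w) (c.A0 d).subtype) := fun x y e =>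
    SemidirectProduct.ext (funext fun i => Subtype.ext (congrFun (congrArg SemidirectProduct.left e) i))
      (congrArg SemidirectProduct.right e :)
  have h9 : ∀ x : Wr (c.A0 d) (Fin w), c.dt (j (W.mapW (Fin w) (c.A0 d).subtype x, 1)).1 =
      Units.map (Int.castRingHom c.K : ℤ →* c.K) (W.linW _ δ x * W.sgW _ _ x ^ d) := fun x => by
    simp only [hj.dt, show c.dt (1 : c.Gt (1 : GL (Fin r) c.K)).1 = 1 from map_one _, mul_one, map_mul, map_pow, W.linW_apply,
      map_prod]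
    exact congrArg₂ _ (Finset.prod_congr rfl fun i _ => h6 _) rfl
  by_cases e : Even d ∨ c.p = 2
  · refine M.mul_of_prim hj (W.mapW (Fin w) (c.A0 d).subtype) (fun x i e => hκ.fix _ e) h8 (fun x => ?_) hψ
      (congrFun h3) hs (ht ▸ hP _ _ _ _ κ' 1 _ t.1 _ s hs hE t.2 h5) h4
    rw [h9]
    rcases e with e | e
    · simp only [h7 e, Int.units_pow_eq_pow_mod_two, Nat.even_iff.1 e, pow_zero, mul_one, W.linW_apply]
      simp only [_root_.MonoidHom.one_apply, _root_.Finset.prod_const_one, _root_.map_one]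
    · have : CharP c.K 2 := e ▸ c.chp
      rcases Int.units_eq_one_or (W.linW _ δ x * W.sgW _ _ x ^ d) with h | h <;> rw [h]
      · exact map_one _
      · exact Units.ext (by simp only [CharTwo.neg_eq, _root_.Units.map_neg, _root_.map_one, _root_.Units.val_neg, _root_.Units.val_one])
  · obtain ⟨z, hz⟩ := hκ.neg
    obtain ⟨e1, e2⟩ := not_or.1 e
    have hc : ∀ g : c.Hd d, g * z.1 = z.1 * g := fun g => Subtype.ext (SemidirectProduct.ext (by
      rw [coe_mul, coe_mul, M.mul_left g.2.1, M.mul_left z.1.2.1, hz]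
      exact Units.ext (by rw [Units.val_mul, Units.val_mul, dg_val, ← scalar_apply, (scalar_commute _ (fun _ => Commute.all _ _) _).eq]))
      (by rw [coe_mul, coe_mul, SemidirectProduct.mul_right, SemidirectProduct.mul_right, mul_comm]))
    have hz2 : z * z = 1 := Subtype.ext (Subtype.ext (SemidirectProduct.ext (by
      rw [coe_mul, coe_mul, M.mul_left z.1.2.1, hz, ← map_mul]
      exact (congrArg dg (funext fun _ => by simp)).trans (map_one _))
      (by rw [coe_mul, coe_mul, SemidirectProduct.mul_right, M.right_eq z.1.2.1, one_mul]; rfl)))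
    have hδ : δ z = -1 := (Int.units_eq_one_or _).resolve_left fun h => by
      have h10 := congrArg Units.val (h6 z)
      rw [h, map_one, D0.dt, hz, GeneralLinearGroup.val_det_apply, dg_val, det_diagonal, Finset.prod_const, Finset.card_univ,
        ZMod.card, Units.val_neg, Units.val_one, (Nat.not_even_iff_odd.1 e1).neg_one_pow] at h10
      refine e2 ((Nat.prime_dvd_prime_iff_eq c.pp.out Nat.prime_two).1 ((CharP.cast_eq_zero_iff c.K c.p 2).1 ?_))
      rw [Nat.cast_two]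
      linear_combination -h10
    refine M.mul_of_prim hj ((W.mapW (Fin w) (c.A0 d).subtype).comp (W.linW _ δ * W.sgW _ _).ker.subtype)
      (fun x i e => hκ.fix _ e) (h8.comp Subtype.val_injective) (fun x => ?_) hψ (congrFun h3) hs
      (ht ▸ hP2 _ _ _ _ κ' 1 _ t.1 _ s δ z hs hE t.2 h5
        (mem_center_iff.2 fun g => Subtype.ext (hc g.1)) hδ (fun x => ?_) hz2) h4
    · refine (h9 x.1).trans ?_
      simp only [Int.units_pow_eq_pow_mod_two, Nat.odd_iff.1 (Nat.not_even_iff_odd.1 e1), pow_one,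
        show W.linW _ δ x.1 * W.sgW _ _ x.1 = 1 from x.2, map_one]
    · obtain ⟨y, -, i, h10, -, h12⟩ := hκ.surj x.1 x.2
      have h13 := hκ.cen z.1 (-1) hz y i 1 h10
      have h14 : (c.θ ((-1 : c.Kˣ) : c.K) ^ expoZ c.Q c.M d y) ^ 2 = 1 := by
        rw [sq, ← mul_zpow, ← map_mul, Units.val_neg, Units.val_one, neg_mul_neg, one_mul, map_one, _root_.one_zpow]
      rw [h12, mul_one] at h13
      refine (sq_eq_one_iff.1 h14).imp (fun h => ?_) fun h => ?_ <;> rw [h] at h13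
      · exact h13.trans (one_mul _)
      · exact h13.trans (neg_one_mul _)

end Cfsg.Agent.MO.TA
end

-- part: MO/TA/M2
section
/-!
# MO, types `A` and `²A`: the box `BoxM` without the boxes of the wreath products (helper68)
-/

set_option autoImplicit false

namespace Cfsg.Agent.MO.TA

theorem boxM_of' (hI : BoxI) (hH : BoxH) (hU : BoxU) (hT : BoxT) : BoxM :=
  boxM_of hI hH W.wBij W.wPrimE W.wPrim2E hU hT

end Cfsg.Agent.MO.TA
end

-- part: MO/CQ/Ab
section
/-!
# MO-CQ: cores and quotients of `β`-tuples (helper46)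

* `im β` : the set of beads; `tup m X` : the increasing tuple of a set; `pad`, `unpad` : shifts;
* `cr e β` : the `e`-core, `qt e β j` : the `j`-th `e`-quotient, both as tuples of the same length; `jn e γ ν` : the inverse;
* `bsz_eq`, `wq_eq`, `hk_eq` : sizes, weights, hooks; `ext_cq`, `cr_jn`, `qt_jn`, `bsz_jn`;
* `fm_val` : the hook formula for the valuation of the degree of a character of a symmetric group.
-/

set_option autoImplicit false

namespace Cfsg.Agent.MO.CQ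

open Finset Cfsg.Agent.H614 Cfsg.Agent.MO.A.Glob
open Cfsg.Agent.H577.GLB.Std (bsz)
open Cfsg.Agent.MO.TA (hk vz)

variable {m e : ℕ}

/-- the beads -/
def im (β : Fin m → ℕ) : Finset ℕ := univ.image β

/-- the increasing tuple of a set with `m` elements -/
noncomputable def tup (m : ℕ) (X : Finset ℕ) : Fin m → ℕ := if h : #X = m then X.orderEmbOfFin h else fun i => i

/-- add `k` beads at the bottom -/
def pad (k : ℕ) (X : Finset ℕ) : Finset ℕ := range k ∪ X.image (· + k)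

/-- remove the places below `k` -/
def unpad (k : ℕ) (X : Finset ℕ) : Finset ℕ := {x ∈ X | k ≤ x}.image (· - k)

/-- the `e`-core -/
noncomputable def cr (e : ℕ) (β : Fin m → ℕ) : Fin m → ℕ := tup m (A.Glob.core e (im β))

/-- the `j`-th `e`-quotient -/
noncomputable def qt (e : ℕ) (β : Fin m → ℕ) (j : ℕ) : Fin m → ℕ :=
  tup m (pad (m - #(run e j (im β))) (run e j (im β)))

/-- the tuple with the core `γ` and the quotients `ν j` -/
noncomputable def jn (e : ℕ) (γ : Fin m → ℕ) (ν : ℕ → Fin m → ℕ) : Fin m → ℕ :=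
  tup m (join e fun j => unpad (m - #(run e j (im γ))) (im (ν j)))

/-- the `e`-weight -/
def wq (e : ℕ) (β : Fin m → ℕ) : ℕ := wt e (im β)

/-- the sum over the hooks of a set of beads -/
def hs (F : ℕ → ℕ) (X : Finset ℕ) : ℕ := ∑ x ∈ X, ∑ y ∈ range x with y ∉ X, F (x - y)

/-! ### tuples and sets -/

theorem tup_mono (X : Finset ℕ) : StrictMono (tup m X) := by
  unfold tup
  split_ifs with h
  · exact (X.orderEmbOfFin h).strictMono
  · exact fun _ _ h => h

theorem im_tup {X : Finset ℕ} (h : #X = m) : im (tup m X) = X := by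
  rw [tup, dif_pos h, im]
  exact coe_injective (by rw [coe_image, coe_univ, Set.image_univ, range_orderEmbOfFin])

variable {β γ : Fin m → ℕ}

theorem card_im' (h : StrictMono β) : #(im β) = m := card_im h.injective

theorem tup_im (h : StrictMono β) : tup m (im β) = β := by
  rw [tup, dif_pos (card_im' h)]
  exact (orderEmbOfFin_unique (card_im' h) (fun x => mem_image_of_mem _ (mem_univ x)) h).symm

theorem eq_of_im (h : StrictMono β) (h' : StrictMono γ) (e : im β = im γ) : β = γ := by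
  rw [← tup_im h, e, tup_im h']

theorem sz_im' (h : StrictMono β) : sz (im β) = bsz β := (sz_im h.injective).1 (GLn.RSt.sum_eq_bsz h)

theorem bsz_tup {X : Finset ℕ} (h : #X = m) : bsz (tup m X) = sz X := by
  rw [← sz_im' (tup_mono X), im_tup h]

theorem hk_im (h : StrictMono β) (F : ℕ → ℕ) : hk F β = hs F (im β) := by
  rw [hk, hs, im, ← sum_im h.injective fun x => ∑ y ∈ range x with y ∉ univ.image β, F (x - y)]
  refine sum_congr rfl fun j _ => sum_congr ?_ fun _ _ => rfl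
  ext y
  simp only [mem_sdiff, mem_range, mem_image, mem_Iio, mem_filter, mem_univ, true_and]
  exact and_congr_right fun hy => not_congr
    ⟨fun ⟨i, _, e⟩ => ⟨i, e⟩, fun ⟨i, e⟩ => ⟨i, h.lt_iff_lt.1 (e ▸ hy), e⟩⟩

theorem bsz_id : bsz (fun i : Fin m => (i : ℕ)) = 0 := Nat.sub_self _

theorem id_mono : StrictMono fun i : Fin m => (i : ℕ) := fun _ _ h => h

/-- the tuple of the empty partition -/
theorem eq_id (h : StrictMono β) (h0 : bsz β = 0) : β = fun i : Fin m => (i : ℕ) := by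
  refine eq_of_im h id_mono ?_
  rw [eq_range ((sz_im' h).trans h0), eq_range ((sz_im' id_mono).trans bsz_id), card_im' h, card_im' id_mono]

/-! ### shifts -/

theorem mem_pad {k x : ℕ} {X : Finset ℕ} : x ∈ pad k X ↔ x < k ∨ k ≤ x ∧ x - k ∈ X := by
  rw [pad, mem_union, mem_range, mem_image]
  refine or_congr_right ⟨?_, fun h => ⟨_, h.2, Nat.sub_add_cancel h.1⟩⟩
  rintro ⟨y, hy, rfl⟩
  exact ⟨Nat.le_add_left _ _, by rwa [Nat.add_sub_cancel]⟩

theorem mem_unpad {k x : ℕ} {X : Finset ℕ} : x ∈ unpad k X ↔ x + k ∈ X := by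
  rw [unpad, mem_image]
  refine ⟨?_, fun h => ⟨_, mem_filter.2 ⟨h, Nat.le_add_left _ _⟩, Nat.add_sub_cancel _ _⟩⟩
  rintro ⟨y, hy, rfl⟩
  rw [Nat.sub_add_cancel (mem_filter.1 hy).2]
  exact (mem_filter.1 hy).1

theorem unpad_pad (k : ℕ) (X : Finset ℕ) : unpad k (pad k X) = X := by
  ext x
  rw [mem_unpad, mem_pad, Nat.add_sub_cancel]
  exact ⟨fun h => (h.resolve_left (by omega)).2, fun h => Or.inr ⟨Nat.le_add_left _ _, h⟩⟩

theorem pad_unpad {k : ℕ} {X : Finset ℕ} (h : ∀ y < k, y ∈ X) : pad k (unpad k X) = X := by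
  ext x
  rw [mem_pad, mem_unpad]
  rcases lt_or_ge x k with h1 | h1
  · exact ⟨fun _ => h x h1, fun _ => Or.inl h1⟩
  · rw [Nat.sub_add_cancel h1]
    exact ⟨fun h2 => (h2.resolve_left (by omega)).2, fun h2 => Or.inr ⟨h1, h2⟩⟩

theorem sum_pad (k : ℕ) (X : Finset ℕ) (g : ℕ → ℕ) : ∑ x ∈ pad k X, g x = ∑ x ∈ range k, g x + ∑ x ∈ X, g (x + k) := by
  rw [pad, sum_union, sum_image fun _ _ _ _ h => Nat.add_right_cancel h]
  refine disjoint_left.2 fun x hx h => ?_
  obtain ⟨y, -, rfl⟩ := mem_image.1 h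
  have := mem_range.1 hx
  omega

theorem card_pad (k : ℕ) (X : Finset ℕ) : #(pad k X) = k + #X := by
  rw [card_eq_sum_ones, sum_pad, ← card_eq_sum_ones, ← card_eq_sum_ones, card_range]

theorem hs_pad (F : ℕ → ℕ) (k : ℕ) (X : Finset ℕ) : hs F (pad k X) = hs F X := by
  rw [hs, sum_pad, sum_eq_zero, zero_add, hs]
  · refine sum_congr rfl fun x _ => ?_
    refine sum_bij' (fun y _ => y - k) (fun y _ => y + k) (fun y hy => ?_) (fun y hy => ?_) (fun y hy => ?_)
      (fun y _ => Nat.add_sub_cancel _ _) fun y hy => ?_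
    · rw [mem_filter, mem_range, mem_pad] at hy
      exact mem_filter.2 ⟨mem_range.2 (by omega), fun h => hy.2 (Or.inr ⟨by omega, h⟩)⟩
    · rw [mem_filter, mem_range] at hy
      rw [mem_filter, mem_range, mem_pad, Nat.add_sub_cancel]
      exact ⟨by omega, fun h => hy.2 (h.resolve_left (by omega)).2⟩
    · rw [mem_filter, mem_range, mem_pad] at hy
      omega
    · rw [mem_filter, mem_range, mem_pad] at hy
      congr 1
      omega
  · refine fun x hx => sum_eq_zero fun y hy => ?_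
    rw [mem_filter, mem_range, mem_pad] at hy
    have := mem_range.1 hx
    omega

theorem hs_one (X : Finset ℕ) : hs (fun _ => 1) X = sz X := sum_congr rfl fun _ _ => (card_eq_sum_ones _).symm

theorem sz_pad (k : ℕ) (X : Finset ℕ) : sz (pad k X) = sz X := by rw [← hs_one, hs_pad, hs_one]

/-- **the hooks of length divisible by `e`** -/
theorem hs_run (he : 0 < e) {F : ℕ → ℕ} (hF : ∀ h, ¬ e ∣ h → F h = 0) (X : Finset ℕ) :
    hs F X = ∑ j ∈ range e, hs (fun h => F (e * h)) (run e j X) := by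
  have h1 := sum_run he X fun u i => ∑ y ∈ range u with y ∉ run e i X, F (e * (u - y))
  refine Eq.trans (sum_congr rfl fun x _ => ?_) h1
  have hm := Nat.mod_lt x he
  have hx := Nat.div_add_mod x e
  rw [← sum_filter_of_ne (p := fun y => y % e = x % e) fun y hy h => by
    by_contra h2
    refine h (hF _ fun h3 => h2 ?_)
    exact (Nat.modEq_iff_dvd' (mem_range.1 (mem_filter.1 hy).1).le).2 h3]
  refine sum_bij' (fun y _ => y / e) (fun u _ => e * u + x % e) (fun y hy => ?_) (fun u hu => ?_) (fun y hy => ?_)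
    (fun u _ => by rw [Nat.mul_add_div he, Nat.div_eq_of_lt hm, add_zero]) fun y hy => ?_
  · rw [mem_filter, mem_filter, mem_range] at hy
    have h2 := Nat.div_add_mod y e
    rw [mem_filter, mem_range, mem_run hm, ← hy.2, h2]
    exact ⟨Nat.lt_of_mul_lt_mul_left (a := e) (by omega), hy.1.2⟩
  · rw [mem_filter, mem_range, mem_run hm] at hu
    rw [mem_filter, mem_filter, mem_range, Nat.mul_add_mod, Nat.mod_mod]
    have := Nat.mul_lt_mul_of_pos_left hu.1 he
    exact ⟨⟨by omega, hu.2⟩, rfl⟩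
  · rw [← (mem_filter.1 hy).2, Nat.div_add_mod]
  · have h2 := Nat.div_add_mod y e
    rw [(mem_filter.1 hy).2] at h2
    rw [Nat.mul_sub]
    congr 1
    omega

theorem card_run_le (e j : ℕ) (X : Finset ℕ) : #(run e j X) ≤ #X := by
  rw [card_run]
  exact card_filter_le _ _

theorem card_eq_sum (he : 0 < e) (X : Finset ℕ) : #X = ∑ j ∈ range e, #(run e j X) := by
  rw [card_eq_sum_ones, sum_mod he X fun _ => 1]
  simp only [mul_one]

/-! ### cores and quotients -/

theorem cr_mono (e : ℕ) (β : Fin m → ℕ) : StrictMono (cr e β) := tup_mono _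

theorem qt_mono (e : ℕ) (β : Fin m → ℕ) (j : ℕ) : StrictMono (qt e β j) := tup_mono _

theorem jn_mono (e : ℕ) (γ : Fin m → ℕ) (ν : ℕ → Fin m → ℕ) : StrictMono (jn e γ ν) := tup_mono _

theorem im_cr (he : 0 < e) (h : StrictMono β) : im (cr e β) = A.Glob.core e (im β) :=
  im_tup (((col_core _).card he).trans (card_im' h))

theorem im_qt (h : StrictMono β) (e j : ℕ) : im (qt e β j) = pad (m - #(run e j (im β))) (run e j (im β)) :=
  im_tup (by
    have := card_run_le e j (im β)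
    rw [card_im' h] at this
    rw [card_pad]
    omega)

theorem bsz_qt (h : StrictMono β) (e j : ℕ) : bsz (qt e β j) = sz (run e j (im β)) := by
  rw [← sz_im' (qt_mono e β j), im_qt h, sz_pad]

theorem wt_im (h : StrictMono β) (e : ℕ) : wt e (im β) = ∑ j ∈ range e, bsz (qt e β j) :=
  sum_congr rfl fun j _ => (bsz_qt h e j).symm

/-- **the hooks of length divisible by `e` are `e` times the hooks of the quotients** -/
theorem hk_eq (he : 0 < e) (h : StrictMono β) {F : ℕ → ℕ} (hF : ∀ k, ¬ e ∣ k → F k = 0) :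
    hk F β = ∑ j ∈ range e, hk (fun k => F (e * k)) (qt e β j) := by
  rw [hk_im h, hs_run he hF]
  exact sum_congr rfl fun j _ => by rw [hk_im (qt_mono e β j), im_qt h, hs_pad]

/-- **the weight** -/
theorem wq_eq (h : StrictMono β) (e : ℕ) : wq e β = ∑ j ∈ range e, bsz (qt e β j) := wt_im h e

/-- **the size** -/
theorem bsz_eq (he : 0 < e) (h : StrictMono β) : bsz β = bsz (cr e β) + e * wq e β := by
  rw [← sz_im' h, sz_eq he, ← sz_im' (cr_mono e β), im_cr he h, wq, add_comm]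

theorem wq_cr (he : 0 < e) (h : StrictMono β) : wq e (cr e β) = 0 := by
  rw [wq, im_cr he h, wt_core]

theorem wq_of_lt (h : StrictMono β) (hlt : bsz β < e) : wq e β = 0 := wt_zero ((sz_im' h).symm ▸ hlt)

theorem cr_of_core (he : 0 < e) (h : StrictMono β) (h0 : wq e β = 0) : cr e β = β :=
  eq_of_im (cr_mono e β) h ((im_cr he h).trans ((core_eq_iff he h0).2 fun _ _ => rfl))

theorem qt_of_core (h : StrictMono β) (h0 : wq e β = 0) {j : ℕ} (hj : j < e) :
    qt e β j = fun i : Fin m => (i : ℕ) :=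
  eq_id (qt_mono e β j) (sum_eq_zero_iff.1 ((wq_eq h e).symm.trans h0) j (mem_range.2 hj))

theorem qt_of_le (he : 0 < e) (h : StrictMono β) {j : ℕ} (hj : e ≤ j) : qt e β j = fun i : Fin m => (i : ℕ) := by
  refine eq_id (qt_mono e β j) ?_
  rw [bsz_qt h, run, filter_false_of_mem fun x _ => (Nat.mod_lt x he).trans_le hj |>.ne, image_empty]
  rfl

theorem run_one (X : Finset ℕ) : run 1 0 X = X := by
  ext y
  rw [mem_run one_pos, one_mul, add_zero]

theorem qt_one (h : StrictMono β) : qt 1 β 0 = β := by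
  refine eq_of_im (qt_mono 1 β 0) h ?_
  rw [im_qt h, run_one, card_im' h, Nat.sub_self]
  ext x
  simp [mem_pad]

theorem wq_one (h : StrictMono β) : wq 1 β = bsz β := by rw [wq_eq h, sum_range_one, qt_one h]

theorem cr_one (h : StrictMono β) : cr 1 β = fun i : Fin m => (i : ℕ) := by
  have h1 := bsz_eq one_pos h
  rw [wq_one h] at h1
  exact eq_id (cr_mono 1 β) (by omega)

/-- **the core and the quotients determine the tuple** -/
theorem ext_cq (he : 0 < e) (h : StrictMono β) (h' : StrictMono γ) (h1 : cr e β = cr e γ)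
    (h2 : ∀ j < e, qt e β j = qt e γ j) : β = γ := by
  refine eq_of_im h h' (run_ext he fun j hj => ?_)
  have h3 : #(run e j (im β)) = #(run e j (im γ)) := by
    rw [← col_core _ j hj, ← im_cr he h, h1, im_cr he h', col_core _ j hj]
  have h4 := congrArg im (h2 j hj)
  rw [im_qt h, im_qt h', h3] at h4
  rw [← unpad_pad _ (run e j (im β)), h4, unpad_pad]

section jn

variable {ν : ℕ → Fin m → ℕ}

theorem pad_jn (h : StrictMono γ) (hν : ∀ j < e, StrictMono (ν j))
    (hle : bsz γ + e * ∑ j ∈ range e, bsz (ν j) ≤ m) {j : ℕ} (hj : j < e) :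
    pad (m - #(run e j (im γ))) (unpad (m - #(run e j (im γ))) (im (ν j))) = im (ν j) := by
  have h1 : bsz (ν j) ≤ ∑ j ∈ range e, bsz (ν j) :=
    single_le_sum (f := fun j => bsz (ν j)) (fun _ _ => Nat.zero_le _) (mem_range.2 hj)
  have h2 : ∑ j ∈ range e, bsz (ν j) ≤ #(run e j (im γ)) :=
    le_card_run hj (by rw [sz_im' h, card_im' h, mul_comm]; omega)
  refine pad_unpad fun y hy => mem_of_lt ?_
  rw [sz_im' (hν j hj), card_im' (hν j hj)]
  omega

theorem card_jn (h : StrictMono γ) (hν : ∀ j < e, StrictMono (ν j))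
    (hle : bsz γ + e * ∑ j ∈ range e, bsz (ν j) ≤ m) {j : ℕ} (hj : j < e) :
    #(unpad (m - #(run e j (im γ))) (im (ν j))) = #(run e j (im γ)) := by
  have h1 := congrArg card (pad_jn h hν hle hj)
  have h2 := card_run_le e j (im γ)
  rw [card_pad, card_im' (hν j hj)] at h1
  rw [card_im' h] at h2
  omega

theorem run_jn (he : 0 < e) (h : StrictMono γ) (hν : ∀ j < e, StrictMono (ν j))
    (hle : bsz γ + e * ∑ j ∈ range e, bsz (ν j) ≤ m) {j : ℕ} (hj : j < e) :
    run e j (im (jn e γ ν)) = unpad (m - #(run e j (im γ))) (im (ν j)) := by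
  rw [jn, im_tup, run_join hj]
  refine (card_eq_sum he _).trans (Eq.trans ?_ ((card_eq_sum he (im γ)).symm.trans (card_im' h)))
  exact sum_congr rfl fun i hi => by rw [run_join (mem_range.1 hi), card_jn h hν hle (mem_range.1 hi)]

theorem qt_jn (he : 0 < e) (h : StrictMono γ) (hν : ∀ j < e, StrictMono (ν j))
    (hle : bsz γ + e * ∑ j ∈ range e, bsz (ν j) ≤ m) {j : ℕ} (hj : j < e) : qt e (jn e γ ν) j = ν j := by
  refine eq_of_im (qt_mono _ _ _) (hν j hj) ?_
  rw [im_qt (jn_mono e γ ν), run_jn he h hν hle hj, card_jn h hν hle hj, pad_jn h hν hle hj]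

theorem cr_jn (he : 0 < e) (h : StrictMono γ) (h0 : wq e γ = 0) (hν : ∀ j < e, StrictMono (ν j))
    (hle : bsz γ + e * ∑ j ∈ range e, bsz (ν j) ≤ m) : cr e (jn e γ ν) = γ := by
  refine eq_of_im (cr_mono _ _) h ?_
  rw [im_cr he (jn_mono e γ ν), core_eq_iff he h0]
  exact fun j hj => by rw [run_jn he h hν hle hj, card_jn h hν hle hj]

theorem wq_jn (he : 0 < e) (h : StrictMono γ) (hν : ∀ j < e, StrictMono (ν j))
    (hle : bsz γ + e * ∑ j ∈ range e, bsz (ν j) ≤ m) : wq e (jn e γ ν) = ∑ j ∈ range e, bsz (ν j) := by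
  rw [wq_eq (jn_mono e γ ν)]
  exact sum_congr rfl fun j hj => by rw [qt_jn he h hν hle (mem_range.1 hj)]

theorem bsz_jn (he : 0 < e) (h : StrictMono γ) (h0 : wq e γ = 0) (hν : ∀ j < e, StrictMono (ν j))
    (hle : bsz γ + e * ∑ j ∈ range e, bsz (ν j) ≤ m) : bsz (jn e γ ν) = bsz γ + e * ∑ j ∈ range e, bsz (ν j) := by
  rw [bsz_eq he (jn_mono e γ ν), cr_jn he h h0 hν hle, wq_jn he h hν hle]

end jn

/-! ### the hook formula -/

theorem hk_congr {F G : ℕ → ℕ} (h : ∀ k, 0 < k → F k = G k) (β : Fin m → ℕ) : hk F β = hk G β :=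
  sum_congr rfl fun _ _ => sum_congr rfl fun _ hx => h _ (Nat.sub_pos_of_lt (mem_range.1 (mem_sdiff.1 hx).1))

theorem hk_one (h : StrictMono β) : hk (fun _ => 1) β = bsz β := by rw [hk_im h, hs_one, sz_im' h]

theorem hk_add (h : StrictMono β) (a : ℕ) (F : ℕ → ℕ) : hk (fun k => a + F k) β = a * bsz β + hk F β := by
  rw [← hk_one h]
  simp only [hk, mul_sum, ← sum_add_distrib, mul_one]

theorem hk_zero (h : StrictMono β) (h0 : bsz β = 0) (F : ℕ → ℕ) : hk F β = 0 := by
  rw [← hk_one h, hk] at h0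
  refine sum_eq_zero fun j hj => sum_eq_zero fun x hx => ?_
  exact absurd (sum_eq_zero_iff.1 (sum_eq_zero_iff.1 h0 j hj) x hx) one_ne_zero

theorem hk_split (h : StrictMono β) (F : ℕ → ℕ) :
    ∑ j, ∑ x ∈ range (β j), F (x + 1) = hk F β + ∑ j, ∑ i ∈ Iio j, F (β j - β i) := by
  rw [hk, ← sum_add_distrib]
  refine sum_congr rfl fun j _ => ?_
  have h1 : (Iio j).image β ⊆ range (β j) := by
    intro x hx
    obtain ⟨i, hi, rfl⟩ := mem_image.1 hx
    exact mem_range.2 (h (mem_Iio.1 hi))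
  rw [← sum_image (s := Iio j) (g := β) (f := fun x => F (β j - x)) fun a _ b _ e => h.injective e, sum_sdiff h1,
    ← sum_range_reflect]
  refine sum_congr rfl fun x hx => ?_
  have := mem_range.1 hx
  congr 1
  omega

theorem vz_mul {l : ℕ} {a b : ℤ} (ha : a ≠ 0) (hb : b ≠ 0) : vz l (a * b) = vz l a + vz l b := H421.HT.fac_mul ha hb

theorem vz_nat (l n : ℕ) : vz l (n : ℤ) = n.factorization l := by rw [vz, Int.natAbs_natCast]

theorem vz_prod {ι : Type} (l : ℕ) (S : Finset ι) (f : ι → ℤ) (hf : ∀ i ∈ S, f i ≠ 0) :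
    vz l (∏ i ∈ S, f i) = ∑ i ∈ S, vz l (f i) := by
  classical
  induction S using Finset.induction_on with
  | empty => simp [vz]
  | insert a S ha ih =>
    rw [prod_insert ha, sum_insert ha, vz_mul (hf a (mem_insert_self a S))
      (prod_ne_zero_iff.2 fun i hi => hf i (mem_insert_of_mem hi)), ih fun i hi => hf i (mem_insert_of_mem hi)]

theorem vz_fact (l n : ℕ) : vz l (n.factorial : ℤ) = ∑ x ∈ range n, (x + 1).factorization l := by
  rw [← prod_range_add_one_eq_factorial, Nat.cast_prod, vz_prod _ _ _ fun x _ => Nat.cast_ne_zero.2 x.succ_ne_zero]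
  exact sum_congr rfl fun x _ => vz_nat l _

/-- **the valuation of the degree of a character of a symmetric group** -/
theorem fm_val (h : StrictMono β) (l : ℕ) :
    vz l (FM (Multiset.replicate (bsz β) 1) β) + hk (fun k => k.factorization l) β = (bsz β).factorial.factorization l := by
  have hp : ∀ {j : Fin m}, ∀ i ∈ Iio j, 0 < β j - β i := fun i hi => Nat.sub_pos_of_lt (h (mem_Iio.1 hi))
  have h3 := hk_split h fun k => k.factorization l
  have hs := GLn.RSt.sum_eq_bsz h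
  have h5 : ∏ i : Fin m, ∏ j ∈ Ioi i, ((β j : ℤ) - β i) = ∏ j : Fin m, ∏ i ∈ Iio j, ((β j - β i : ℕ) : ℤ) := by
    rw [prod_comm' (t' := univ) (s' := fun j => Iio j) fun i j => by simp only [_root_.Finset.mem_univ, _root_.Finset.mem_Ioi, _root_.true_and, _root_.Finset.mem_Iio, _root_.and_true]]
    exact prod_congr rfl fun j _ => prod_congr rfl fun i hi => (Nat.cast_sub (h (mem_Iio.1 hi)).le).symm
  have h6 : ∀ j : Fin m, ∀ i ∈ Iio j, ((β j - β i : ℕ) : ℤ) ≠ 0 := fun j i hi => Nat.cast_ne_zero.2 (hp i hi).ne'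
  have h7 : ∀ n : ℕ, (n.factorial : ℤ) ≠ 0 := fun n => Nat.cast_ne_zero.2 n.factorial_ne_zero
  have h4 := congrArg (vz l) (FM_ones_formula _ β hs)
  rw [h5, vz_mul (FM_ones_pos _ h hs).ne' (prod_ne_zero_iff.2 fun _ _ => h7 _),
    vz_mul (h7 _) (prod_ne_zero_iff.2 fun j _ => prod_ne_zero_iff.2 (h6 j)), vz_nat, vz_prod _ _ _ fun _ _ => h7 _,
    vz_prod _ _ _ fun j _ => prod_ne_zero_iff.2 (h6 j), sum_congr rfl fun j _ => vz_fact l (β j),
    sum_congr rfl fun j _ => (vz_prod _ _ _ (h6 j)).trans (sum_congr rfl fun i _ => vz_nat l _)] at h4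
  omega

theorem hk_le (h : StrictMono β) (l : ℕ) : hk (fun k => k.factorization l) β ≤ (bsz β).factorial.factorization l :=
  (Nat.le_add_left _ _).trans_eq (fm_val h l)

end Cfsg.Agent.MO.CQ
end

-- part: MO/CQ/Lab
section
/-!
# MO-CQ: cores and quotients of the labels of `GL_n(Q)` (helper46)

* `dc Q M d c = d / gcd d (per c)`; `Full d r t` : the total weight is maximal;
* `toR`, `toW` : the label of the cores, the label of the quotients; `toRW_inj`, `toRW_surj` : the bijection;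
* `Full.mul`, `Full.shift`, `tot_eq` : symmetries and the central character;
* `d1`, `d2`, `two_of_def` : the valuations of the degrees.
-/

set_option autoImplicit false

namespace Cfsg.Agent.MO.CQ

open Finset Cfsg.Agent.H577.GLB.Std Cfsg.Agent.H614.GLn.RSt Cfsg.Agent.MO.TA
open Cfsg.Agent.H112.GLB (shiftL)

variable {Q : ℤ} {M : ℕ} [NeZero M] {d m n w r : ℕ}

variable (Q M d) in
/-- the length of the hooks which matter for the label `c` -/
noncomputable def dc (c : ZMod M) : ℕ := d / d.gcd (perZ Q M c)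

variable (Q M d) in
/-- the least common multiple of `d` and the period, divided by `d` -/
noncomputable def mc (c : ZMod M) : ℕ := perZ Q M c / d.gcd (perZ Q M c)

variable (d) in
/-- the weight at the label `c` -/
noncomputable def wc (t : LabZ Q M m n) (c : ZMod M) : ℕ := wq (dc Q M d c) (t.t c)

variable (d r) in
/-- the total weight is maximal -/
def Full (t : LabZ Q M m n) : Prop :=
  (∀ c, wc d t c ≠ 0 → perZ Q M c ∣ d) ∧ ∑ c, bsz (cr (dc Q M d c) (t.t c)) = r

omit [NeZero M] in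
theorem dc_pos (hd : 0 < d) (c : ZMod M) : 0 < dc Q M d c :=
  Nat.div_pos (Nat.le_of_dvd hd (Nat.gcd_dvd_left _ _)) (Nat.gcd_pos_of_pos_left _ hd)

omit [NeZero M] in
theorem dc_le (c : ZMod M) : dc Q M d c ≤ d := Nat.div_le_self _ _

omit [NeZero M] in
theorem dc_of_dvd {c : ZMod M} (h : perZ Q M c ∣ d) : dc Q M d c = d / perZ Q M c := by rw [dc, Nat.gcd_eq_right h]

omit [NeZero M] in
theorem per_mul_dc (c : ZMod M) : perZ Q M c * dc Q M d c = d * mc Q M d c := by
  rw [dc, mc, ← Nat.mul_div_assoc _ (Nat.gcd_dvd_left _ _), ← Nat.mul_div_assoc _ (Nat.gcd_dvd_right _ _), mul_comm]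

theorem mc_pos (hQ : IsUnit (Q : ZMod M)) (c : ZMod M) : 0 < mc Q M d c :=
  Nat.div_pos (Nat.le_of_dvd (perZ_pos hQ c) (Nat.gcd_dvd_right _ _)) (Nat.gcd_pos_of_pos_right _ (perZ_pos hQ c))

theorem mc_eq_one (hQ : IsUnit (Q : ZMod M)) {c : ZMod M} : mc Q M d c = 1 ↔ perZ Q M c ∣ d := by
  refine ⟨fun h => ?_, fun h => by rw [mc, Nat.gcd_eq_right h, Nat.div_self (perZ_pos hQ c)]⟩
  have h1 := Nat.div_mul_cancel (Nat.gcd_dvd_right d (perZ Q M c))
  rw [show perZ Q M c / d.gcd (perZ Q M c) = 1 from h, one_mul] at h1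
  exact h1 ▸ Nat.gcd_dvd_left _ _

omit [NeZero M] in
theorem dvd_mul_iff (hd : 0 < d) (c : ZMod M) (h : ℕ) : d ∣ perZ Q M c * h ↔ dc Q M d c ∣ h := by
  have hg := Nat.gcd_pos_of_pos_left (perZ Q M c) hd
  have h1 : d.gcd (perZ Q M c) * dc Q M d c = d := Nat.mul_div_cancel' (Nat.gcd_dvd_left _ _)
  have h2 : d.gcd (perZ Q M c) * mc Q M d c = perZ Q M c := Nat.mul_div_cancel' (Nat.gcd_dvd_right _ _)
  have h3 : (dc Q M d c).Coprime (mc Q M d c) := Nat.coprime_div_gcd_div_gcd hg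
  have h4 := Nat.mul_dvd_mul_iff_left (b := dc Q M d c) (c := mc Q M d c * h) hg
  rw [← mul_assoc, h1, h2] at h4
  exact h4.trans ⟨h3.dvd_of_dvd_mul_left, fun h4 => h4.mul_left _⟩

omit [NeZero M] in
theorem per_congr {c c' : ZMod M} (h : ∀ j : ℕ, (Q : ZMod M) ^ j * c = c ↔ (Q : ZMod M) ^ j * c' = c') [NeZero M] :
    perZ Q M c = perZ Q M c' :=
  Nat.dvd_antisymm ((pow_mul_eq_iff _ _).1 ((h _).2 ((pow_mul_eq_iff _ _).2 dvd_rfl)))
    ((pow_mul_eq_iff _ _).1 ((h _).1 ((pow_mul_eq_iff _ _).2 dvd_rfl)))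

theorem per_unit (k : (ZMod M)ˣ) (c : ZMod M) : perZ Q M (k * c) = perZ Q M c :=
  per_congr fun j => by rw [mul_left_comm, Units.mul_right_inj]

omit [NeZero M] in
theorem pow_mul_fix {a : ZMod M} (ha : TorZ Q M 1 a) (j : ℕ) : (Q : ZMod M) ^ j * a = a := by
  have h1 : (Q : ZMod M) * a = a := by
    unfold TorZ at ha
    rwa [pow_one, sub_mul, one_mul, sub_eq_zero] at ha
  induction j with
  | zero => rw [pow_zero, one_mul]
  | succ j ih => rw [pow_succ, mul_assoc, h1, ih]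

theorem per_sub {a : ZMod M} (ha : TorZ Q M 1 a) (c : ZMod M) : perZ Q M (c - a) = perZ Q M c :=
  per_congr fun j => by rw [mul_sub, pow_mul_fix ha, sub_left_inj]

theorem per_orb (hQ : IsUnit (Q : ZMod M)) (c : ZMod M) : perZ Q M ((Q : ZMod M) * c) = perZ Q M c :=
  (perZ_of_same hQ ⟨1, by rw [pow_one]⟩).symm

omit [NeZero M] in
theorem dc_congr {c c' : ZMod M} (h : perZ Q M c = perZ Q M c') : dc Q M d c = dc Q M d c' := by rw [dc, h, dc]

theorem sum_reps (hQ : IsUnit (Q : ZMod M)) (f : ZMod M → ℕ) (hf : ∀ c, f ((Q : ZMod M) * c) = f c) :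
    ∑ c ∈ repsZ Q M, perZ Q M c * f c = ∑ c, f c := by
  have h := nuP_deg hQ (fun c (_ : Fin 1) => f c) fun c => funext fun _ => hf c
  simpa [bsz] using h

theorem wc_orb (hQ : IsUnit (Q : ZMod M)) (t : LabZ Q M m n) (c : ZMod M) : wc d t ((Q : ZMod M) * c) = wc d t c := by
  rw [wc, dc_congr (per_orb hQ c), t.orb, wc]

/-- the sizes -/
theorem size_eq (hQ : IsUnit (Q : ZMod M)) (hd : 0 < d) (t : LabZ Q M m n) :
    ∑ c, bsz (cr (dc Q M d c) (t.t c)) + d * ∑ c ∈ repsZ Q M, mc Q M d c * wc d t c = n := by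
  refine Eq.trans ?_ t.sum
  rw [sum_congr rfl fun c _ => bsz_eq (dc_pos (Q := Q) hd c) (t.mono c), sum_add_distrib, mul_sum,
    ← sum_reps hQ (fun c => dc Q M d c * wq (dc Q M d c) (t.t c)) fun c => by rw [dc_congr (per_orb hQ c), t.orb]]
  congr 1
  exact sum_congr rfl fun c _ => by rw [← mul_assoc, ← mul_assoc, per_mul_dc, wc]

theorem sum_mc_le (hQ : IsUnit (Q : ZMod M)) (hr : r < d) (t : LabZ Q M m (d * w + r)) :
    ∑ c ∈ repsZ Q M, mc Q M d c * wc d t c ≤ w := by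
  have h := size_eq hQ (by omega : 0 < d) t
  refine Nat.le_of_lt_succ (Nat.lt_of_mul_lt_mul_left (a := d) ?_)
  rw [Nat.mul_succ]
  omega

theorem Full.sum_eq (hQ : IsUnit (Q : ZMod M)) (hd : 0 < d) {t : LabZ Q M m (d * w + r)} (h : Full d r t) :
    ∑ c ∈ repsZ Q M, wc d t c = w := by
  have h1 := size_eq hQ hd t
  rw [h.2, add_comm, Nat.add_right_cancel_iff, Nat.mul_right_inj hd.ne'] at h1
  refine Eq.trans (sum_congr rfl fun c _ => ?_) h1
  by_cases h2 : wc d t c = 0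
  · rw [h2, mul_zero]
  · rw [(mc_eq_one hQ).2 (h.1 c h2), one_mul]

theorem sum_lt (hQ : IsUnit (Q : ZMod M)) (hr : r < d) {t : LabZ Q M m (d * w + r)} (h : ¬ Full d r t) :
    ∑ c ∈ repsZ Q M, wc d t c < w := by
  by_contra h1
  have h2 := sum_mc_le hQ hr t
  have h3 : ∀ c ∈ repsZ Q M, wc d t c ≤ mc Q M d c * wc d t c := fun c _ => Nat.le_mul_of_pos_left _ (mc_pos hQ c)
  have h4 := sum_le_sum h3
  have h5 := size_eq hQ (by omega : 0 < d) t
  refine h ⟨fun c hc => ?_, ?_⟩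
  · have h6 := (sum_eq_sum_iff_of_le h3).1 (by omega) _ (canon_mem_repsZ hQ c)
    have h7 := perZ_of_same hQ (sameZ_canon (Q := Q) c)
    have h8 : wc d t (canon Q M c) = wc d t c := by rw [wc, ← dc_congr h7, t_canon t.t t.orb, wc]
    rw [h8] at h6
    rw [h7, ← mc_eq_one hQ]
    exact Nat.eq_of_mul_eq_mul_right (Nat.pos_of_ne_zero hc) (h6.symm.trans (one_mul _).symm)
  · rw [show ∑ c ∈ repsZ Q M, mc Q M d c * wc d t c = w by omega] at h5
    omega

omit [NeZero M] in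
theorem sum_fin (hd : 0 < d) {β : Fin m → ℕ} (h : StrictMono β) (c : ZMod M) (g : (Fin m → ℕ) → ℕ)
    (hg : g (fun i => i) = 0) : ∑ j : Fin d, g (qt (dc Q M d c) β j) = ∑ j ∈ range (dc Q M d c), g (qt (dc Q M d c) β j) := by
  rw [Fin.sum_univ_eq_sum_range (fun j => g (qt (dc Q M d c) β j)) d]
  refine (sum_subset (range_subset_range.2 (dc_le c)) fun j _ hj => ?_).symm
  rw [qt_of_le (dc_pos hd c) h (not_lt.1 fun h1 => hj (mem_range.2 h1)), hg]

theorem sum_qt (hd : 0 < d) (t : LabZ Q M m n) (c : ZMod M) :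
    ∑ j : Fin d, bsz (qt (dc Q M d c) (t.t c) j) = wc d t c := by
  rw [sum_fin hd (t.mono c) c bsz bsz_id, wc, wq_eq (t.mono c)]

/-- the label of the cores -/
noncomputable def toR (hQ : IsUnit (Q : ZMod M)) (t : LabZ Q M m n) (h : Full d r t) : LabZ Q M m r where
  t c := cr (dc Q M d c) (t.t c)
  mono _ := cr_mono _ _
  orb c := by rw [dc_congr (per_orb hQ c), t.orb]
  sum := h.2

/-- the label of the quotients -/
noncomputable def toW (hQ : IsUnit (Q : ZMod M)) (hd : 0 < d) (t : LabZ Q M m (d * w + r)) (h : Full d r t) :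
    LabW Q M d m w where
  t c j := qt (dc Q M d c) (t.t c) j
  mono _ _ := qt_mono _ _ _
  orb c := by rw [dc_congr (per_orb hQ c), t.orb]
  supp c j hj := by
    have h1 : bsz (qt (dc Q M d c) (t.t c) j) ≤ wc d t c := by
      rw [← sum_qt hd]
      exact single_le_sum (f := fun j : Fin d => bsz (qt (dc Q M d c) (t.t c) j)) (fun _ _ => Nat.zero_le _) (mem_univ j)
    have h2 := h.1 c (by omega)
    refine ⟨(torZ_iff _ _).2 h2, dc_of_dvd h2 ▸ not_le.1 fun h3 => hj ?_⟩
    rw [qt_of_le (dc_pos hd c) (t.mono c) h3, bsz_id]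
  sum := (sum_congr rfl fun c _ => sum_qt hd t c).trans (h.sum_eq hQ hd)

section bij

variable (hQ : IsUnit (Q : ZMod M)) (hd : 0 < d)

seal _root_.Finset.card _root_.Finset.range _root_.Finset.image _root_.Finset.filter in
theorem toRW_inj {t t' : LabZ Q M m (d * w + r)} (h : Full d r t) (h' : Full d r t') (h1 : toW hQ hd t h = toW hQ hd t' h')
    (h2 : toR hQ t h = toR hQ t' h') : t = t' :=
  LabZ.ext (funext fun c => ext_cq (dc_pos hd c) (t.mono c) (t'.mono c) (congrFun (congrArg LabZ.t h2) c)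
    fun j hj => congrFun (congrFun (congrArg LabW.t h1) c) ⟨j, hj.trans_le (dc_le c)⟩)

seal _root_.Finset.card _root_.Finset.range _root_.Finset.image _root_.Finset.filter in
theorem toRW_surj (hr : r < d) (hm : d * w + r ≤ m) (ν : LabW Q M d m w) (ρ : LabZ Q M m r) :
    ∃ (t : LabZ Q M m (d * w + r)) (h : Full d r t), toW hQ hd t h = ν ∧ toR hQ t h = ρ := by
  let ν' : ZMod M → ℕ → Fin m → ℕ := fun c j => if h : j < d then ν.t c ⟨j, h⟩ else fun i => i
  have h1 : ∀ c j, StrictMono (ν' c j) := fun c j => by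
    by_cases h : j < d
    · simp only [ν', dif_pos h]
      exact ν.mono _ _
    · simp only [ν', dif_neg h]
      exact id_mono
  have h2 : ∀ c (j : Fin d), ν' c j = ν.t c j := fun c j => dif_pos j.2
  have h3 : ∀ c (j : Fin d), dc Q M d c ≤ j → bsz (ν.t c j) = 0 := fun c j hj => by_contra fun h => by
    have h4 := ν.supp c j h
    rw [← dc_of_dvd ((torZ_iff _ _).1 h4.1)] at h4
    omega
  have h4 : ∀ c, ∑ j ∈ range (dc Q M d c), bsz (ν' c j) = ∑ j, bsz (ν.t c j) := fun c => by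
    rw [← sum_congr rfl fun j _ => congrArg bsz (h2 c j), Fin.sum_univ_eq_sum_range (fun j => bsz (ν' c j)) d]
    refine sum_subset (range_subset_range.2 (dc_le c)) fun j hj hj' => ?_
    exact (congrArg bsz (h2 c ⟨j, mem_range.1 hj⟩)).trans (h3 c _ (not_lt.1 fun h => hj' (mem_range.2 h)))
  have h5 : ∀ c, ∑ j, bsz (ν.t c j) ≤ w := fun c => by
    rw [← show ν.t (canon Q M c) = ν.t c from funext fun j => t_canon (fun c => ν.t c j)
      (fun c => congrFun (ν.orb c) j) c]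
    exact (single_le_sum (f := fun c => ∑ j, bsz (ν.t c j)) (fun _ _ => Nat.zero_le _) (canon_mem_repsZ hQ c)).trans_eq
      ν.sum
  have h6 : ∀ c, perZ Q M c * bsz (ρ.t c) ≤ r := fun c => by
    rw [perZ_of_same hQ (sameZ_canon (Q := Q) c), ← t_canon ρ.t ρ.orb]
    exact (single_le_sum (f := fun c => perZ Q M c * bsz (ρ.t c)) (fun _ _ => Nat.zero_le _)
      (canon_mem_repsZ hQ c)).trans_eq ((nuP_deg hQ ρ.t ρ.orb).trans ρ.sum)
  have h7 : ∀ c, wq (dc Q M d c) (ρ.t c) = 0 := fun c => by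
    refine wq_of_lt (ρ.mono c) (Nat.lt_of_mul_lt_mul_left (a := perZ Q M c) ?_)
    have := Nat.le_mul_of_pos_right d (mc_pos (d := d) hQ c)
    have := h6 c
    rw [per_mul_dc]
    omega
  have h8 : ∀ c, bsz (ρ.t c) + dc Q M d c * ∑ j ∈ range (dc Q M d c), bsz (ν' c j) ≤ m := fun c => by
    have h9 := Nat.mul_le_mul (dc_le (Q := Q) (d := d) c) (h5 c)
    have h10 := (Nat.le_mul_of_pos_left _ (perZ_pos hQ c)).trans (h6 c)
    rw [h4]
    omega
  have h9 : ∀ c, ∑ j, bsz (ν.t c j) ≠ 0 → perZ Q M c ∣ d := fun c h => by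
    obtain ⟨j, -, hj⟩ := exists_ne_zero_of_sum_ne_zero h
    exact (torZ_iff _ _).1 (ν.supp c j hj).1
  let t : LabZ Q M m (d * w + r) :=
    { t := fun c => jn (dc Q M d c) (ρ.t c) (ν' c)
      mono := fun c => jn_mono _ _ _
      orb := fun c => by simp only [ν', dc_congr (per_orb hQ c), ρ.orb, ν.orb]
      sum := by
        rw [sum_congr rfl fun c _ => bsz_jn (dc_pos hd c) (ρ.mono c) (h7 c) (fun j _ => h1 c j) (h8 c), sum_add_distrib,
          ρ.sum, add_comm, ← ν.sum, mul_sum, sum_congr rfl fun c _ => congrArg (dc Q M d c * ·) (h4 c),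
          ← sum_reps hQ (fun c => dc Q M d c * ∑ j, bsz (ν.t c j)) fun c => by rw [dc_congr (per_orb hQ c), ν.orb]]
        congr 1
        refine sum_congr rfl fun c _ => ?_
        by_cases h : ∑ j, bsz (ν.t c j) = 0
        · rw [h, mul_zero, mul_zero, mul_zero]
        · rw [← mul_assoc, per_mul_dc, (mc_eq_one hQ).2 (h9 c h), mul_one] }
  have hc : ∀ c, cr (dc Q M d c) (t.t c) = ρ.t c := fun c =>
    cr_jn (dc_pos hd c) (ρ.mono c) (h7 c) (fun j _ => h1 c j) (h8 c)
  refine ⟨t, ⟨fun c h => h9 c ?_, (sum_congr rfl fun c _ => congrArg bsz (hc c)).trans ρ.sum⟩,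
    LabW.ext (funext fun c => funext fun j => ?_), LabZ.ext (funext hc)⟩
  · rwa [← h4, ← wq_jn (dc_pos hd c) (ρ.mono c) (fun j _ => h1 c j) (h8 c)]
  · rcases lt_or_ge (j : ℕ) (dc Q M d c) with h | h
    · exact (qt_jn (dc_pos hd c) (ρ.mono c) (fun j _ => h1 c j) (h8 c) h).trans (h2 c j)
    · exact (qt_of_le (dc_pos hd c) (t.mono c) h).trans (eq_id (ν.mono c j) (h3 c j h)).symm

theorem Full.mul {t : LabZ Q M m n} (h : Full d r t) (k : (ZMod M)ˣ) : Full d r (mulL t k) := by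
  refine ⟨fun c hc => per_unit (Q := Q) k c ▸ h.1 (k * c) ?_, Eq.trans ?_ h.2⟩
  · rwa [wc, dc_congr (per_unit k c)]
  · rw [← Equiv.sum_comp (Units.mulLeft k) fun c => bsz (cr (dc Q M d c) (t.t c))]
    exact sum_congr rfl fun c _ => by rw [← dc_congr (per_unit k c)]; rfl

theorem Full.shift {t : LabZ Q M m n} (h : Full d r t) {a : ZMod M} (ha : TorZ Q M 1 a) : Full d r (shiftL t ha) := by
  refine ⟨fun c hc => per_sub ha c ▸ h.1 (c - a) ?_, Eq.trans ?_ h.2⟩
  · rwa [wc, dc_congr (per_sub ha c)]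
  · rw [← Equiv.sum_comp (Equiv.subRight a) fun c => bsz (cr (dc Q M d c) (t.t c))]
    exact sum_congr rfl fun c _ => by rw [← dc_congr (per_sub ha c)]; rfl

theorem toR_mul {t : LabZ Q M m n} (h : Full d r t) (k : (ZMod M)ˣ) : toR hQ (mulL t k) (h.mul k) = mulL (toR hQ t h) k :=
  LabZ.ext ((funext fun c => congrArg (cr · (t.t (k * c))) (dc_congr (per_unit k c)).symm :))

theorem toR_shift {t : LabZ Q M m n} (h : Full d r t) {a : ZMod M} (ha : TorZ Q M 1 a) :
    toR hQ (shiftL t ha) (h.shift ha) = shiftL (toR hQ t h) ha :=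
  LabZ.ext ((funext fun c => congrArg (cr · (t.t (c - a))) (dc_congr (per_sub ha c)).symm :))

seal _root_.Finset.card _root_.Finset.range _root_.Finset.image _root_.Finset.filter in
theorem toW_mul {t : LabZ Q M m (d * w + r)} (h : Full d r t) (k : (ZMod M)ˣ) :
    MulW (toW hQ hd t h) (toW hQ hd (mulL t k) (h.mul k)) k :=
  fun c => funext fun j => (congrArg (qt · (t.t (k * c)) j) (dc_congr (per_unit k c)).symm :)

seal _root_.Finset.card _root_.Finset.range _root_.Finset.image _root_.Finset.filter in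
theorem toW_shift {t : LabZ Q M m (d * w + r)} (h : Full d r t) {a : ZMod M} (ha : TorZ Q M 1 a) :
    ShiftW (toW hQ hd t h) (toW hQ hd (shiftL t ha) (h.shift ha)) a :=
  fun c => funext fun j => (congrArg (qt · (t.t (c - a)) j) (dc_congr (per_sub ha c)).symm :)

seal _root_.Finset.card _root_.Finset.range _root_.Finset.image _root_.Finset.filter in
theorem tot_eq {t : LabZ Q M m (d * w + r)} (h : Full d r t) : TA.totW (toW hQ hd t h) + tot (toR hQ t h) = tot t := by
  rw [TA.totW, tot, tot, ← sum_add_distrib]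
  refine sum_congr rfl fun c _ => ?_
  rw [← add_smul, bsz_eq (dc_pos (Q := Q) hd c) (t.mono c), add_comm]
  congr 2
  change (∑ j : Fin d, bsz (qt (dc Q M d c) (t.t c) j)) * _ = dc Q M d c * wc d t c
  rw [sum_qt hd, mul_comm]
  by_cases h1 : wc d t c = 0
  · rw [h1, mul_zero, mul_zero]
  · rw [dc_of_dvd (h.1 c h1)]

end bij

/-! ### valuations -/

section val

variable {l : ℕ}

theorem fac_sum_le {ι : Type} (l : ℕ) (S : Finset ι) (f : ι → ℕ) :
    ∑ i ∈ S, (f i).factorial.factorization l ≤ (∑ i ∈ S, f i).factorial.factorization l := by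
  have h := (Nat.factorization_le_iff_dvd (prod_ne_zero_iff.2 fun i _ => (f i).factorial_ne_zero)
    (Nat.factorial_ne_zero _)).2 (Nat.prod_factorial_dvd_factorial_sum S f) l
  rwa [Nat.factorization_prod fun i _ => (f i).factorial_ne_zero, Finsupp.finsetSum_apply] at h

theorem fac_mono (l : ℕ) {a b : ℕ} (h : a ≤ b) : a.factorial.factorization l ≤ b.factorial.factorization l :=
  (Nat.factorization_le_iff_dvd a.factorial_ne_zero b.factorial_ne_zero).2 (Nat.factorial_dvd_factorial h) l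

theorem fac_mul_le (l : ℕ) {k : ℕ} (hk : 0 < k) (W : ℕ) :
    k.factorization l * W + W.factorial.factorization l ≤ (k * W).factorial.factorization l := by
  induction W with
  | zero => simp
  | succ W ih =>
    have h1 : k * (W + 1) = k * W + (k - 1) + 1 := by rw [mul_add]; omega
    have h2 := fac_mono l (Nat.le_add_right (k * W) (k - 1))
    have h3 : (k * (W + 1)).factorial = k * (W + 1) * (k * W + (k - 1)).factorial := by
      rw [h1, Nat.factorial_succ]
    rw [h3, Nat.factorial_succ, Nat.factorization_mul (by positivity) (Nat.factorial_ne_zero _),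
      Nat.factorization_mul (by omega) (Nat.factorial_ne_zero _), Nat.factorization_mul (by omega) (by omega)]
    simp only [Finsupp.add_apply, mul_add, mul_one] at *
    omega

theorem vz_PH (hl : l.Prime) (h2 : l ≠ 2) (hQ2 : 2 ≤ |Q|) (ho : orderOf (Q : ZMod l) = d) (hr : r < d) :
    vz l (PH Q (d * w + r)) = w * vz l (Q ^ d - 1) + w.factorial.factorization l := by
  have h := H421.HT.fac_prod hl (hl.odd_of_ne_two h2) hQ2 (d * w + r)
  rwa [ho, Nat.mul_add_div (by omega), Nat.div_eq_of_lt hr, add_zero] at h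

theorem dfG_eq (hl : l.Prime) (h2 : l ≠ 2) (hQ2 : 2 ≤ |Q|) (ho : orderOf (Q : ZMod l) = d) (hQ : IsUnit (Q : ZMod M))
    (hd : 0 < d) (t : LabZ Q M m n) : dfG l t = ∑ c ∈ repsZ Q M,
      ((vz l (Q ^ d - 1) + (mc Q M d c).factorization l) * wc d t c +
        ∑ j : Fin d, hk (fun h => h.factorization l) (qt (dc Q M d c) (t.t c) j)) := by
  refine sum_congr rfl fun c _ => ?_
  have h1 := fun k (hk : 0 < k) => H421.HT.fac_factor hl (hl.odd_of_ne_two h2) hQ2 (Nat.mul_pos (perZ_pos hQ c) hk)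
  rw [ho] at h1
  rw [hk_eq (dc_pos (Q := Q) hd c) (t.mono c) fun k hk => ?_, sum_fin hd (t.mono c) c _ (hk_zero id_mono bsz_id _), wc,
    wq_eq (t.mono c), mul_sum, ← sum_add_distrib]
  · refine sum_congr rfl fun j _ => ?_
    rw [← hk_add (qt_mono _ _ _)]
    refine hk_congr (fun k hk => ?_) _
    rw [← pow_mul, vz, h1 _ (Nat.mul_pos (dc_pos hd c) hk), if_pos ((dvd_mul_iff hd c _).2 (dvd_mul_right _ _)),
      ← mul_assoc, per_mul_dc, mul_assoc, Nat.mul_div_cancel_left _ hd, Nat.factorization_mul (mc_pos hQ c).ne' hk.ne',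
      Finsupp.add_apply, add_assoc, vz]
  · rw [← pow_mul, vz, h1 _ (Nat.pos_of_ne_zero fun h => hk (by rw [h]; exact dvd_zero _)), if_neg fun h => hk ((dvd_mul_iff hd c _).1 h)]

/-- **the degrees of the full labels** -/
theorem d1 (hl : l.Prime) (h2 : l ≠ 2) (hQ2 : 2 ≤ |Q|) (ho : orderOf (Q : ZMod l) = d) (hQ : IsUnit (Q : ZMod M))
    (hd : 0 < d) (hr : r < d) {t : LabZ Q M m (d * w + r)} (h : Full d r t) :
    dfG l t + w.factorial.factorization l = vz l (PH Q (d * w + r)) + dfW l (toW hQ hd t h) := by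
  rw [dfG_eq hl h2 hQ2 ho hQ hd, vz_PH hl h2 hQ2 ho hr, sum_add_distrib, add_right_comm]
  congr 2
  rw [mul_comm w]
  conv_rhs => rw [← h.sum_eq hQ hd, mul_sum]
  refine sum_congr rfl fun c _ => ?_
  by_cases h1 : wc d t c = 0
  · rw [h1, mul_zero, mul_zero]
  · rw [(mc_eq_one hQ).2 (h.1 c h1), Nat.factorization_one, Finsupp.zero_apply, add_zero]

/-- **the degrees of all labels** -/
theorem d2 (hl : l.Prime) (h2 : l ≠ 2) (hQ2 : 2 ≤ |Q|) (ho : orderOf (Q : ZMod l) = d) (hQ : IsUnit (Q : ZMod M))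
    (hr : r < d) (t : LabZ Q M m (d * w + r)) :
    dfG l t + w * vz l (Q ^ d - 1) ≤ vz l (PH Q (d * w + r)) + (∑ c ∈ repsZ Q M, wc d t c) * vz l (Q ^ d - 1) := by
  have hd : 0 < d := by omega
  have h1 : ∀ c ∈ repsZ Q M, (vz l (Q ^ d - 1) + (mc Q M d c).factorization l) * wc d t c +
      ∑ j : Fin d, hk (fun h => h.factorization l) (qt (dc Q M d c) (t.t c) j) ≤
      wc d t c * vz l (Q ^ d - 1) + (mc Q M d c * wc d t c).factorial.factorization l := fun c _ => by
    have h3 := (sum_le_sum fun (j : Fin d) (_ : j ∈ univ) => hk_le (qt_mono (dc Q M d c) (t.t c) j) l).trans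
      (fac_sum_le l univ fun j : Fin d => bsz (qt (dc Q M d c) (t.t c) j))
    have h4 := fac_mul_le l (mc_pos (d := d) hQ c) (wc d t c)
    rw [sum_qt hd] at h3
    rw [add_mul, mul_comm]
    omega
  have h3 := sum_le_sum h1
  have h4 := (fac_sum_le l (repsZ Q M) fun c => mc Q M d c * wc d t c).trans (fac_mono l (sum_mc_le hQ hr t))
  rw [← dfG_eq hl h2 hQ2 ho hQ hd, sum_add_distrib, ← sum_mul] at h3
  rw [vz_PH hl h2 hQ2 ho hr]
  omega

end val

/-- **deficiency one** : a translation which fixes the label has order at most two -/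
theorem two_of_def (hQ : IsUnit (Q : ZMod M)) {t : LabZ Q M m n} (h : ∑ c ∈ repsZ Q M, wc 1 t c + 1 = n) {a : ZMod M}
    (ha : TorZ Q M 1 a) (hs : shiftL t ha = t) : a + a = 0 := by
  have h1 : ∀ c, wc 1 t c = bsz (t.t c) := fun c => by rw [wc, dc, Nat.gcd_one_left, Nat.div_one, wq_one (t.mono c)]
  have h2 : ∑ c ∈ repsZ Q M, (perZ Q M c - 1) * bsz (t.t c) = 1 := by
    have h3 := (nuP_deg hQ t.t t.orb).trans t.sum
    rw [sum_congr rfl fun c _ => show perZ Q M c * bsz (t.t c) = (perZ Q M c - 1) * bsz (t.t c) + wc 1 t c by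
      rw [h1, ← Nat.succ_mul, Nat.succ_eq_add_one, Nat.sub_add_cancel (perZ_pos hQ c)], sum_add_distrib] at h3
    omega
  obtain ⟨c, hc, h3⟩ := exists_ne_zero_of_sum_ne_zero (h2.trans_ne one_ne_zero)
  have h4 : ∀ c' ∈ repsZ Q M, (perZ Q M c' - 1) * bsz (t.t c') ≠ 0 → c' = c := fun c' hc' h4 => by_contra fun h5 => by
    have h6 := add_le_sum (f := fun c => (perZ Q M c - 1) * bsz (t.t c)) (fun _ _ => Nat.zero_le _) hc' hc h5
    omega
  have h5 : perZ Q M c = 2 := by
    have h6 := single_le_sum (f := fun c => (perZ Q M c - 1) * bsz (t.t c)) (fun _ _ => Nat.zero_le _) hc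
    have h7 := Nat.eq_one_of_mul_eq_one_right (show (perZ Q M c - 1) * bsz (t.t c) = 1 by omega)
    omega
  have h6 : canon Q M (c - a) = c := h4 _ (canon_mem_repsZ hQ _) (by
    rwa [← perZ_of_same hQ (sameZ_canon _), t_canon t.t t.orb, per_sub ha,
      show t.t (c - a) = t.t c from congrFun (congrArg LabZ.t hs) c])
  obtain ⟨j, hj⟩ := SameZ.symm' hQ (sameZ_canon (Q := Q) (c - a))
  rw [h6] at hj
  have h7 : (Q : ZMod M) ^ j * (c - a) = c := by
    rw [hj, ← mul_assoc, ← pow_add, pow_mul_eq_iff, h5, ← two_mul]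
    exact dvd_mul_right _ _
  rw [mul_sub, pow_mul_fix ha, ← hj] at h7
  linear_combination -h7

end Cfsg.Agent.MO.CQ
end

-- part: MO/TA/O
section
/-!
# MO, types `A` and `²A`: the bijection (helper46)

`boxO : BoxO`.
-/

set_option autoImplicit false

namespace Cfsg.Agent.MO.TA

open Cfsg Subgroup Finset Cfsg.Agent.H577.GLB.Std Cfsg.Agent.H614.GLn.RSt Cfsg.Agent.MO.CQ
open Cfsg.Agent.H112.GLB (shiftL)

namespace O

theorem tr_unique {A : Type} [Group A] {H : Subgroup A} {a : A} (h : ∀ x ∈ H, a⁻¹ * x * a⁻¹⁻¹ ∈ H) {f f' f'' : H → ℂ}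
    (h1 : Tr H a f f') (h2 : Tr H a f f'') : f' = f'' := funext fun y =>
  (h1 ⟨_, h y y.2⟩ y (by simp only [mul_assoc, _root_.inv_inv, _root_.mul_inv_cancel_left, _root_.mul_inv_cancel, _root_.mul_one])).trans (h2 ⟨_, h y y.2⟩ y (by simp only [mul_assoc, _root_.inv_inv, _root_.mul_inv_cancel_left, _root_.mul_inv_cancel, _root_.mul_one])).symm

theorem fac_le {l y : ℕ} {z : ℤ} (hz : z ≠ 0) (h : (y : ℤ) ∣ z) : y.factorization l ≤ vz l z := by
  obtain ⟨k, rfl⟩ := h
  rw [vz_mul (left_ne_zero_of_mul hz) (right_ne_zero_of_mul hz), vz_nat]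
  exact Nat.le_add_right _ _

end O

/-- **box O** -/
theorem boxO : BoxO := by
  intro c l d w r m _ hl h2 hp ho hr hm fr ch gl ψ lo Z₀
  classical
  have hQ := c.ctx.unit
  have hQ2 := c.ctx.two
  have hd : 0 < d := NeZero.pos d
  have hinj : ∀ {t t'}, ch t = ch t' → t = t' := fun h => gl.bij.injOn (Set.mem_univ _) (Set.mem_univ _) h
  let Ω : (c.Gt (c.vd d w r) → ℂ) → ↥(c.Gt (c.vd d w r) ⊓ c.Cl d w r) → ℂ := fun χ =>
    if h : ∃ t, Full d r t ∧ ch t = χ then ψ (toW hQ hd h.choose h.choose_spec.1) (toR hQ h.choose h.choose_spec.1) else 0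
  have hΩ : ∀ t (h : Full d r t), Ω (ch t) = ψ (toW hQ hd t h) (toR hQ t h) := fun t h => by
    have h1 : ∃ t', Full d r t' ∧ ch t' = ch t := ⟨t, h, rfl⟩
    have h3 : ∀ t' (h' : Full d r t'), t' = t → ψ (toW hQ hd t' h') (toR hQ t' h') = ψ (toW hQ hd t h) (toR hQ t h) := by
      rintro _ _ rfl
      rfl
    exact (dif_pos h1).trans (h3 _ _ (hinj h1.choose_spec.2))
  refine ⟨{χ | ∃ t, Full d r t ∧ ch t = χ}, Ω, ?_, fun _ h => h, ⟨?_, ?_, fun η hη => ?_⟩, ?_, ?_, ?_, ?_,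
    fun χ hχ hS _ => ?_, fun _ h h' => absurd h h'⟩
  · rintro _ ⟨t, -, rfl⟩
    exact gl.bij.mapsTo (Set.mem_univ t)
  · rintro _ ⟨t, h, rfl⟩
    rw [hΩ t h]
    exact (lo.bij.mapsTo (Set.mem_univ (_, _)) :)
  · rintro _ ⟨t, h, rfl⟩ _ ⟨t', h', rfl⟩ e
    rw [hΩ t h, hΩ t' h'] at e
    have h1 := lo.bij.injOn (Set.mem_univ (_, _)) (Set.mem_univ (_, _)) e
    rw [toRW_inj hQ hd h h' ((congrArg Prod.fst h1 :)) (congrArg Prod.snd h1)]
  · obtain ⟨⟨ν, ρ⟩, -, rfl⟩ := lo.bij.surjOn hη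
    obtain ⟨t, h, rfl, rfl⟩ := toRW_surj hQ hd hr hm ν ρ
    exact ⟨_, ⟨t, h, rfl⟩, hΩ t h⟩
  · rintro a ha _ ⟨t, h, rfl⟩ χ' hχ'
    obtain ⟨k, hk⟩ := gl.ex a.right
    obtain rfl : χ' = ch (mulL t k) := O.tr_unique (fr.fr.nT _ (inv_mem ha.1)) hχ' (gl.tr a ha.1 k hk t)
    refine ⟨⟨_, h.mul k, rfl⟩, ?_⟩
    rw [hΩ t h, hΩ _ (h.mul k), toR_mul hQ h]
    exact lo.tr a ha k hk _ _ _ (toW_mul hQ hd h k)
  · rintro μ hμ _ ⟨t, h, rfl⟩
    obtain ⟨a, ha, h1⟩ := gl.lin μ hμ
    have h3 : (fun x => (μ x : ℂ) * ch t x) = ch (shiftL t ha) := funext fun x => by rw [h1, gl.tw]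
    rw [h3]
    refine ⟨⟨_, h.shift ha, rfl⟩, funext fun y => ?_⟩
    rw [hΩ t h, hΩ _ (h.shift ha), toR_shift hQ h, lo.tw a ha _ _ _ _ (toW_shift hQ hd h ha), h1]
    rfl
  · rintro _ ⟨t, h, rfl⟩ z hz
    obtain ⟨-, x, hx⟩ := (fr.cen _).1 hz
    rw [hΩ t h, lo.cen z x hx, gl.cen (inclusion inf_le_left z) x hx, tot_eq hQ hd h]
    ring
  · rintro _ ⟨t, h, rfl⟩
    have h1 := gl.deg l hl hp t
    have h3 := lo.deg l hl hp ho hr (toW hQ hd t h) (toR hQ t h)
    have h4 := d1 hl h2 hQ2 ho hQ hd hr h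
    rw [hΩ t h]
    omega
  · obtain ⟨t, -, rfl⟩ := gl.bij.surjOn hχ
    have h : ¬ Full d r t := fun h => hS ⟨t, h, rfl⟩
    have h1 := gl.deg l hl hp t
    have h3 := d2 hl h2 hQ2 ho hQ hr t
    have h4 := sum_lt hQ hr h
    have h5 : 0 < vz l (c.Q ^ d - 1) := hl.factorization_pos_of_dvd (Int.natAbs_ne_zero.2 (H421.HT.pow_sub_one_ne hQ2 hd))
      (Int.natCast_dvd.1 ((H421.HT.dvd_iff d).2 (ho ▸ dvd_rfl)))
    have h6 := H421.HT.pow_sub_one_ne hQ2 one_pos
    have h7 := O.fac_le (l := l) h6 (by rw [pow_one]; exact gl.ycd t)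
    obtain ⟨e, he⟩ := Nat.exists_eq_add_of_lt h4
    have h8 : w * vz l (c.Q ^ d - 1) = (∑ c ∈ repsZ c.Q c.M, wc d t c) * vz l (c.Q ^ d - 1) +
        e * vz l (c.Q ^ d - 1) + vz l (c.Q ^ d - 1) := by
      conv_lhs => rw [he]
      ring
    by_cases h9 : d = 1
    · subst h9
      rcases Nat.eq_zero_or_pos e with rfl | h10
      · obtain ⟨k, hk⟩ := gl.yc2 t fun a ha hs => two_of_def hQ (by omega) ha hs
        rw [hk, Nat.factorization_eq_zero_of_not_dvd fun h11 =>
          h2 ((Nat.prime_dvd_prime_iff_eq hl Nat.prime_two).1 (hl.dvd_of_dvd_pow h11))]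
        omega
      · have := Nat.le_mul_of_pos_left (vz l (c.Q ^ 1 - 1)) h10
        omega
    · have h10 : vz l (c.Q ^ 1 - 1) = 0 := Nat.factorization_eq_zero_of_not_dvd fun h11 =>
        h9 (Nat.dvd_one.1 (ho ▸ (H421.HT.dvd_iff 1).1 (Int.natCast_dvd.2 h11)))
      omega

end Cfsg.Agent.MO.TA
end

-- part: MO/TA/U1a
section
/-!
# MO, types `A` and `²A`, box `U1`: symmetric functions (helper19)

* `hh_uniq`, `hh_sum`, `hh_dil`, `hh_mem` : the complete symmetric functions of dilated power sums are integral;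
* `hR`, `JR`, `JR_ne` : Schur polynomials over any ring are not zero;
* `ct`, `cl`, `cnt` : the columns of an exponent vector, the structure constants at `t = 1`.
-/

set_option autoImplicit false
set_option linter.unusedSectionVars false

namespace Cfsg.Agent.MO.TA.U1

open Finset Cfsg.Agent.H614 Cfsg.Agent.H614.GLn Cfsg.Agent.H615.GU

section hh

variable {A : Type} [CommRing A] [Algebra ℂ A]

theorem hh_uniq {P g : ℕ → A} (h0 : g 0 = 1) (h : ∀ k : ℕ, 0 < k → (k : ℂ) • g k = ∑ r ∈ Icc 1 k, P r * g (k - r)) (k : ℕ) :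
    hh P k = g k := by
  induction k using Nat.strong_induction_on with
  | _ k ih =>
    rcases Nat.eq_zero_or_pos k with rfl | hk
    · rw [hh_zero, h0]
    · refine smul_right_injective A (show (k : ℂ) ≠ 0 by exact_mod_cast hk.ne') ?_
      show (k : ℂ) • hh P k = (k : ℂ) • g k
      rw [hh_rec, h k hk]
      exact sum_congr rfl fun r hr => by rw [ih _ (by have := mem_Icc.1 hr; omega)]

theorem hh_congr {P P' : ℕ → A} (h : ∀ r, 0 < r → P r = P' r) (k : ℕ) : hh P k = hh P' k :=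
  hh_uniq (hh_zero _) (fun k _ => (hh_rec P' k).trans (sum_congr rfl fun r hr => by rw [h r (mem_Icc.1 hr).1])) k

theorem hh_map {B : Type} [CommRing B] [Algebra ℂ B] (φ : A →ₐ[ℂ] B) (P : ℕ → A) (k : ℕ) :
    hh (fun r => φ (P r)) k = φ (hh P k) :=
  hh_uniq (g := fun k => φ (hh P k)) (by rw [hh_zero, map_one]) (fun k _ => by
    rw [← map_smul, hh_rec, map_sum]
    simp only [map_mul]) k

theorem hh_pow (x : A) (k : ℕ) : hh (fun r => x ^ r) k = x ^ k :=
  hh_uniq (g := fun k => x ^ k) (pow_zero _) (fun k _ => by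
    rw [sum_congr rfl fun r hr => by rw [← pow_add, Nat.add_sub_cancel' (mem_Icc.1 hr).2], sum_const, Nat.card_Icc,
      Nat.add_sub_cancel, Nat.cast_smul_eq_nsmul]) k

theorem hh_scal (ζ : ℂ) (P : ℕ → A) (k : ℕ) : hh (fun r => ζ ^ r • P r) k = ζ ^ k • hh P k :=
  hh_uniq (g := fun k => ζ ^ k • hh P k) (by rw [pow_zero, one_smul, hh_zero]) (fun k _ => by
    rw [smul_comm, hh_rec, smul_sum]
    exact sum_congr rfl fun r hr => by
      rw [smul_mul_smul_comm, ← pow_add, Nat.add_sub_cancel' (mem_Icc.1 hr).2]) k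

theorem hh_dil {e : ℕ} (he : 0 < e) (P : ℕ → A) (k : ℕ) :
    hh (fun r => if e ∣ r then (e : ℂ) • P r else 0) (k * e) = hh (fun j => P (j * e)) k := by
  rw [hh_uniq (g := fun n => if e ∣ n then hh (fun j => P (j * e)) (n / e) else 0) (by simp [hh_zero]),
    if_pos (dvd_mul_left _ _), Nat.mul_div_cancel _ he]
  intro n _
  split_ifs with h
  · obtain ⟨n, rfl⟩ := h
    rw [Nat.mul_div_cancel_left _ he, Nat.cast_mul, mul_smul, hh_rec, smul_sum]
    refine sum_of_injOn (fun j => j * e) (fun a _ b _ h => Nat.eq_of_mul_eq_mul_right he h) (fun j hj => ?_)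
      (fun r hr h => ?_) fun j hj => ?_
    · rw [mem_coe, mem_Icc] at hj ⊢
      exact ⟨Nat.mul_pos hj.1 he, by rw [mul_comm e]; exact Nat.mul_le_mul_right _ hj.2⟩
    · rw [if_neg, zero_mul]
      rintro ⟨j, rfl⟩
      rw [mem_Icc] at hr
      exact h ⟨j, mem_coe.2 (mem_Icc.2 ⟨Nat.pos_of_mul_pos_left hr.1, Nat.le_of_mul_le_mul_left hr.2 he⟩), mul_comm _ _⟩
    · rw [if_pos (dvd_mul_left _ _), mul_comm e n, ← Nat.sub_mul, if_pos (dvd_mul_left _ _), Nat.mul_div_cancel _ he,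
        smul_mul_assoc]
  · rw [smul_zero]
    refine (sum_eq_zero fun r hr => ?_).symm
    split_ifs with h1 h2
    · exact absurd (by rw [← Nat.sub_add_cancel (mem_Icc.1 hr).2]; exact dvd_add h2 h1) h
    · rw [mul_zero]
    · rw [zero_mul]
    · rw [zero_mul]

open PowerSeries hiding mk

local notation "mk" => PowerSeries.mk

theorem sol_iff (P : ℕ → A) (H : A⟦X⟧) (k : ℕ) : coeff k (X * d⁄dX A H) = coeff k (mk (fun r => if r = 0 then 0 else P r) * H) ↔
    (k : ℂ) • coeff k H = ∑ r ∈ Icc 1 k, P r * coeff (k - r) H := by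
  have h1 : coeff k (X * d⁄dX A H) = (k : ℂ) • coeff k H := by
    rcases k with _ | k
    · simp
    · rw [coeff_succ_X_mul, coeff_derivative, Nat.cast_smul_eq_nsmul, nsmul_eq_mul, mul_comm]
      push_cast
      rfl
  rw [h1, coeff_mul, Nat.sum_antidiagonal_eq_sum_range_succ_mk, range_eq_Ico, sum_eq_sum_Ico_succ_bot k.succ_pos, coeff_mk,
    if_pos rfl, zero_mul, zero_add, show Ico (0 + 1) k.succ = Icc 1 k from rfl,
    sum_congr rfl fun r hr => by rw [coeff_mk, if_neg (by have := mem_Icc.1 hr; omega)]]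

theorem sol (P : ℕ → A) : X * d⁄dX A (mk (hh P)) = mk (fun r => if r = 0 then 0 else P r) * mk (hh P) :=
  PowerSeries.ext fun k => (sol_iff P _ k).2 (by simp only [coeff_mk]; exact hh_rec P k)

theorem hh_add (P P' : ℕ → A) : mk (hh (P + P')) = mk (hh P) * mk (hh P') := by
  have h : X * d⁄dX A (mk (hh P) * mk (hh P')) = mk (fun r => if r = 0 then 0 else (P + P') r) * (mk (hh P) * mk (hh P')) := by
    have h1 : (mk (fun r => if r = 0 then 0 else (P + P') r) : A⟦X⟧) =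
        mk (fun r => if r = 0 then 0 else P r) + mk (fun r => if r = 0 then 0 else P' r) := by
      ext r
      by_cases h : r = 0 <;> simp only [h, _root_.Pi.add_apply, _root_.PowerSeries.coeff_mk, ↓ _root_.reduceIte, _root_.PowerSeries.coeff_zero_eq_constantCoeff, _root_.map_add, _root_.PowerSeries.constantCoeff_mk, _root_.add_zero]
    rw [h1, Derivation.leibniz, smul_eq_mul, smul_eq_mul]
    linear_combination mk (hh P') * sol P + mk (hh P) * sol P'
  ext1 k
  rw [coeff_mk]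
  exact hh_uniq (g := fun k => coeff k (mk (hh P) * mk (hh P'))) (by simp [hh_zero])
    (fun k _ => (sol_iff _ _ k).1 (by rw [h])) k

theorem hh_sum {ι : Type} (s : Finset ι) (P : ι → ℕ → A) : mk (hh (∑ i ∈ s, P i)) = ∏ i ∈ s, mk (hh (P i)) := by
  classical
  induction s using Finset.induction_on with
  | empty =>
    ext1 k
    rw [sum_empty, prod_empty, coeff_mk]
    exact hh_uniq (g := fun k => coeff k (1 : A⟦X⟧)) (by simp) (fun k hk => by simp only [coeff_one, hk.ne', ↓ _root_.reduceIte, _root_.smul_zero, _root_.Pi.zero_apply, _root_.mul_ite, _root_.mul_one, _root_.MulZeroClass.mul_zero, _root_.ite_self, _root_.Finset.sum_const_zero]) k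
  | insert a s ha ih => rw [sum_insert ha, prod_insert ha, hh_add, ih]

/-- the dilation is integral -/
theorem hh_mem (B : Subring A) (hB : ∀ z : ℂ, IsIntegral ℤ z → algebraMap ℂ A z ∈ B) {P : ℕ → A} (hP : ∀ k, hh P k ∈ B)
    {e : ℕ} (he : 0 < e) (k : ℕ) : hh (fun j => P (j * e)) k ∈ B := by
  have hω := Complex.isPrimitiveRoot_exp e he.ne'
  generalize Complex.exp _ = ω at hω
  have h1 : (fun r => if e ∣ r then (e : ℂ) • P r else 0) = ∑ i ∈ range e, fun r => (ω ^ i) ^ r • P r := by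
    funext r
    rw [Finset.sum_apply, ← sum_smul]
    simp only [pow_right_comm ω _ r]
    split_ifs with h
    · rw [(hω.pow_eq_one_iff_dvd r).2 h]
      simp
    · rw [geom_sum_eq fun h2 => h ((hω.pow_eq_one_iff_dvd r).1 h2), pow_right_comm, hω.pow_eq_one]
      simp
  have h2 := congrArg (coeff (k * e)) (hh_sum (range e) fun i r => (ω ^ i) ^ r • P r)
  rw [coeff_mk] at h2
  rw [← hh_dil he, h1, h2, coeff_prod]
  refine sum_mem fun l _ => prod_mem fun i _ => ?_
  rw [coeff_mk, hh_scal, Algebra.smul_def]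
  exact mul_mem (hB _ (((hω.isIntegral he).pow _).pow _)) (hP _)

end hh

section JR

open MvPolynomial

variable (R : Type) [CommRing R] {m : ℕ}

/-- the complete symmetric polynomial -/
noncomputable def hR (m k : ℕ) : MvPolynomial (Fin m) R := ∑ γ ∈ finsuppAntidiag univ k, monomial γ 1

/-- the Schur polynomial -/
noncomputable def JR (β : Fin m → ℕ) : MvPolynomial (Fin m) R :=
  (Matrix.of fun i j : Fin m => if (j : ℕ) ≤ β i then hR R m (β i - j) else 0).det

theorem prod_X (γ : Fin m →₀ ℕ) : ∏ i, (X i : MvPolynomial (Fin m) R) ^ γ i = monomial γ 1 := by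
  rw [monomial_eq, C_1, one_mul, Finsupp.prod_fintype _ _ fun _ => pow_zero _]

theorem mk_hR : PowerSeries.mk (hR R m) = ∏ i, PowerSeries.mk fun a => (X i : MvPolynomial (Fin m) R) ^ a := by
  ext1 k
  rw [PowerSeries.coeff_mk, PowerSeries.coeff_prod]
  simp only [PowerSeries.coeff_mk, prod_X, hR]

theorem coeff_hR (k : ℕ) (γ : Fin m →₀ ℕ) : coeff γ (hR R m k) = if ∑ i, γ i = k then 1 else 0 := by
  rw [hR, coeff_sum]
  simp only [coeff_monomial, sum_ite_eq', mem_finsuppAntidiag, subset_univ, and_true]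

theorem map_JR {S : Type} [CommRing S] (f : R →+* S) (β : Fin m → ℕ) : _root_.MvPolynomial.map f (JR R β) = JR S β := by
  rw [JR, RingHom.map_det, JR]
  congr 1
  ext1 i j
  rw [RingHom.mapMatrix_apply, Matrix.map_apply, Matrix.of_apply, Matrix.of_apply]
  split_ifs
  · simp only [hR, map_sum, map_monomial, map_one]
  · exact map_zero _

theorem geo {A : Type} [CommRing A] (x : A) :
    (1 - PowerSeries.C x * PowerSeries.X) * PowerSeries.mk (fun a => x ^ a) = 1 := by
  ext k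
  rw [sub_mul, one_mul, map_sub, mul_assoc, PowerSeries.coeff_C_mul, PowerSeries.coeff_mk]
  rcases k with _ | k
  · simp
  · rw [PowerSeries.coeff_succ_X_mul, PowerSeries.coeff_mk, PowerSeries.coeff_one, if_neg k.succ_ne_zero, pow_succ', sub_self]

theorem coeff_lin {A ι : Type} [CommRing A] (x : ι → A) (s : Finset ι) :
    ∀ j, #s < j → PowerSeries.coeff j (∏ i ∈ s, (1 - PowerSeries.C (x i) * PowerSeries.X)) = 0 := by
  classical
  induction s using Finset.induction_on with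
  | empty => exact fun j hj => by rw [prod_empty, PowerSeries.coeff_one, if_neg (by simpa using hj.ne')]
  | insert a s ha ih =>
    intro j hj
    rw [card_insert_of_notMem ha] at hj
    obtain ⟨j, rfl⟩ : ∃ i, j = i + 1 := ⟨j - 1, by omega⟩
    rw [prod_insert ha, sub_mul, one_mul, map_sub, mul_assoc, PowerSeries.coeff_C_mul, PowerSeries.coeff_succ_X_mul,
      ih _ (by omega), ih _ (by omega), mul_zero, sub_zero]

theorem exists_mat : ∃ c : Matrix (Fin m) (Fin m) (MvPolynomial (Fin m) R), ∀ a k,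
    X k ^ a = ∑ j : Fin m, (if (j : ℕ) ≤ a then hR R m (a - j) else 0) * c j k := by
  refine ⟨fun j k => PowerSeries.coeff j (∏ i ∈ univ.erase k, (1 - PowerSeries.C (X i) * PowerSeries.X)), fun a k => ?_⟩
  have h1 : (∏ i ∈ univ.erase k, (1 - PowerSeries.C (X i) * PowerSeries.X)) * PowerSeries.mk (hR R m) =
      PowerSeries.mk fun a => (X k : MvPolynomial (Fin m) R) ^ a := by
    rw [mk_hR, ← prod_erase_mul _ _ (mem_univ k), ← mul_assoc, ← prod_mul_distrib, prod_congr rfl fun i _ => geo _,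
      prod_const_one, one_mul]
  have h2 := congrArg (PowerSeries.coeff a) h1
  beta_reduce
  have h3 := coeff_lin (fun i => (X i : MvPolynomial (Fin m) R)) (univ.erase k)
  rw [card_erase_of_mem (mem_univ k), card_univ, Fintype.card_fin] at h3
  generalize (∏ i ∈ univ.erase k, (1 - PowerSeries.C (X i : MvPolynomial (Fin m) R) * PowerSeries.X)) = c at h2 h3
  rw [PowerSeries.coeff_mk, PowerSeries.coeff_mul, Nat.sum_antidiagonal_eq_sum_range_succ_mk] at h2
  rw [← h2, Fin.sum_univ_eq_sum_range (fun j => (if j ≤ a then hR R m (a - j) else 0) * PowerSeries.coeff j c)]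
  have hm := k.pos
  rw [← sum_subset (inter_subset_left (s₁ := range a.succ) (s₂ := range m)),
    ← sum_subset (inter_subset_right (s₁ := range a.succ) (s₂ := range m))]
  · exact sum_congr rfl fun j hj => by
      rw [if_pos (Nat.lt_succ_iff.1 (mem_range.1 (mem_inter.1 hj).1)), PowerSeries.coeff_mk, mul_comm]
  · intro j h4 h5
    rw [if_neg fun h => h5 (mem_inter.2 ⟨mem_range.2 (Nat.lt_succ_iff.2 h), h4⟩), zero_mul]
  · intro j h4 h5
    rw [h3 j (by by_contra h; exact h5 (mem_inter.2 ⟨h4, mem_range.2 (by omega)⟩)), zero_mul]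

theorem JR_ne [Nontrivial R] {β : Fin m → ℕ} (hβ : Function.Injective β) : JR R β ≠ 0 := by
  obtain ⟨c, hc⟩ := exists_mat R (m := m)
  intro h
  have h1 : (Matrix.of fun i k : Fin m => (X k : MvPolynomial (Fin m) R) ^ β i).det = 0 := by
    rw [show (Matrix.of fun i k : Fin m => (X k : MvPolynomial (Fin m) R) ^ β i) =
      (Matrix.of fun i j : Fin m => if (j : ℕ) ≤ β i then hR R m (β i - j) else 0) * c from
      Matrix.ext fun i k => hc (β i) k, Matrix.det_mul]
    exact mul_eq_zero_of_left h _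
  have h2 := congrArg (coeff (Finsupp.equivFunOnFinite.symm β)) h1
  rw [Matrix.det_apply, coeff_sum, sum_eq_single 1, coeff_zero] at h2
  · rw [Equiv.Perm.sign_one, one_smul, show ∏ i, Matrix.of (fun i k : Fin m => (X k : MvPolynomial (Fin m) R) ^ β i)
      ((1 : Equiv.Perm (Fin m)) i) i = _ from prod_X R (Finsupp.equivFunOnFinite.symm β), coeff_monomial, if_pos rfl] at h2
    exact one_ne_zero h2
  · intro σ _ hσ
    rw [show ∏ i, Matrix.of (fun i k : Fin m => (X k : MvPolynomial (Fin m) R) ^ β i) (σ i) i = _ from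
      prod_X R (Finsupp.equivFunOnFinite.symm fun i => β (σ i)), Units.smul_def, coeff_smul, coeff_monomial, if_neg, smul_zero]
    exact fun h => hσ (Equiv.ext fun i => hβ (congrFun (Finsupp.equivFunOnFinite.symm.injective h) i))
  · exact fun h => absurd (mem_univ _) h

theorem hh_hR (k : ℕ) : hh (fun r => ∑ i, (X i : MvPolynomial (Fin m) ℂ) ^ r) k = hR ℂ m k := by
  have h := hh_sum univ fun (i : Fin m) r => (X i : MvPolynomial (Fin m) ℂ) ^ r
  rw [prod_congr rfl fun i _ => congrArg PowerSeries.mk (_root_.funext (hh_pow _)), ← mk_hR] at h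
  have h1 := congrArg (PowerSeries.coeff k) h
  rw [PowerSeries.coeff_mk, PowerSeries.coeff_mk] at h1
  rw [← h1]
  congr 1
  funext r
  rw [Finset.sum_apply]

end JR

section cnt

variable {σ : Type} [Fintype σ] [DecidableEq σ]

/-- the columns of an exponent vector -/
def ct (α : σ → ℕ) (i : ℕ) : ℕ := #{r | i < α r}

theorem ct_pred (α : σ → ℕ) (i : ℕ) : ct (fun r => α r - 1) i = ct α (i + 1) :=
  congrArg card (filter_congr fun r _ => by beta_reduce; omega)

open Classical in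
theorem cnt (b : ℕ) : ∀ (α : σ → ℕ) (k : ℕ → ℕ), (∀ r, α r ≤ b) → Antitone k → k b = 0 →
    #{β ∈ Iic α | ct β = k} = ∏ i ∈ range b, (ct α i - k (i + 1)).choose (k i - k (i + 1)) := by
  induction b with
  | zero =>
    intro α k hα hk h0
    obtain rfl : α = 0 := funext fun r => Nat.le_zero.1 (hα r)
    rw [prod_range_zero, card_eq_one]
    refine ⟨0, Finset.ext fun β => ?_⟩
    rw [mem_filter, mem_Iic, mem_singleton]
    refine ⟨fun h => le_antisymm h.1 bot_le, ?_⟩
    rintro rfl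
    exact ⟨le_rfl, funext fun i => by rw [Nat.le_zero.1 ((hk i.zero_le).trans h0.le)]; simp [ct]⟩
  | succ b ih =>
    intro α k hα hk h0
    rw [prod_range_succ']
    have h1 := ih (fun r => α r - 1) (fun i => k (i + 1)) (fun r => by have := hα r; omega)
      (fun i j h => hk (Nat.succ_le_succ h)) h0
    simp only [ct_pred] at h1
    rw [← h1, card_eq_sum_card_fiberwise (f := fun (β : σ → ℕ) r => β r - 1)
      (t := {β ∈ Iic fun r => α r - 1 | ct β = fun i => k (i + 1)}), ← smul_eq_mul, ← sum_const]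
    · refine sum_congr rfl fun β' hβ' => ?_
      rw [mem_filter, mem_Iic] at hβ'
      have h2 : #{r | 0 < β' r} = k (0 + 1) := congrFun hβ'.2 0
      have h3 : ∀ r, β' r ≤ α r - 1 := hβ'.1
      rw [← h2, ct, ← card_filter_powersetCard_subset _ _ _ (fun r hr => by
        have := h3 r
        simp only [mem_filter, mem_univ, true_and] at hr ⊢
        omega) (h2.le.trans (hk zero_le_one))]
      refine card_nbij' (fun β => univ.filter fun r => 0 < β r) (fun A r => β' r + if r ∈ A then 1 else 0) (fun β h => ?_) (fun A h => ?_)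
        (fun β h => ?_) fun A h => ?_
      · simp only [coe_filter, mem_filter, mem_Iic, Set.mem_ofPred_eq, mem_powersetCard] at h ⊢
        obtain ⟨⟨h4, h5⟩, rfl⟩ := h
        refine ⟨⟨fun r hr => ?_, congrFun h5 0⟩, fun r hr => ?_⟩
        · simp only [mem_filter, mem_univ, true_and] at hr ⊢
          exact hr.trans_le (h4 r)
        · simp only [mem_filter, mem_univ, true_and] at hr ⊢
          omega
      · simp only [coe_filter, mem_filter, mem_Iic, Set.mem_ofPred_eq, mem_powersetCard] at h ⊢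
        obtain ⟨⟨h4, h5⟩, h6⟩ := h
        have h7 : ∀ r, r ∈ A → 0 < α r := fun r hr => (mem_filter.1 (h4 hr)).2
        have h8 : ∀ r, 0 < β' r → r ∈ A := fun r hr => h6 (mem_filter.2 ⟨mem_univ _, hr⟩)
        have h9 : (fun r => (β' r + if r ∈ A then 1 else 0) - 1) = β' := funext fun r => by
          have := h8 r
          split_ifs with h
          · rfl
          · by_contra
            exact h (h8 r (by omega))
        refine ⟨⟨fun r => ?_, funext fun i => ?_⟩, h9⟩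
        · have := h3 r
          have := h7 r
          show (β' r + if r ∈ A then 1 else 0) ≤ α r
          split_ifs with h
          · have := h7 r h
            omega
          · omega
        · rcases i with _ | i
          · rw [← h5]
            refine congrArg card (Finset.ext fun r => ?_)
            rw [mem_filter]
            beta_reduce
            split_ifs with h
            · simp only [h, _root_.Finset.mem_univ, _root_.lt_add_iff_pos_left, _root_.Order.lt_add_one_iff, _root_.zero_le, _root_.and_self]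
            · exact ⟨fun h10 => absurd (h8 r (by simpa only [_root_.Finset.mem_univ, _root_.add_zero, _root_.true_and] using h10)) h, fun h10 => absurd h10 h⟩
          · rw [← ct_pred, h9, hβ'.2]
      · simp only [coe_filter, mem_filter, mem_Iic, Set.mem_ofPred_eq] at h
        funext r
        have := congrFun h.2 r
        simp only [mem_filter, mem_univ, true_and] at this ⊢
        split_ifs <;> omega
      · simp only [coe_filter, Set.mem_ofPred_eq, mem_powersetCard] at h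
        ext r
        have h8 : 0 < β' r → r ∈ A := fun hr => h.2 (mem_filter.2 ⟨mem_univ _, hr⟩)
        simp only [mem_filter, mem_univ, true_and]
        split_ifs with h9
        · simp [h9]
        · exact ⟨fun h10 => absurd (h8 h10) h9, fun h10 => absurd h10 h9⟩
    · intro β h
      simp only [coe_filter, mem_Iic, Set.mem_ofPred_eq] at h ⊢
      exact ⟨fun r => Nat.sub_le_sub_right (h.1 r) 1, funext fun i => by rw [ct_pred, h.2]⟩

theorem ct_anti (α : σ → ℕ) : Antitone (ct α) := fun _ _ h => card_le_card fun r hr => by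
  simp only [mem_filter, mem_univ, true_and] at hr ⊢
  omega

theorem le_sum (α : σ → ℕ) (r : σ) : α r ≤ ∑ r, α r := single_le_sum (fun _ _ => Nat.zero_le _) (mem_univ r)

/-- the partition of an exponent vector -/
noncomputable def cl (α : σ → ℕ) : Col := ⟨Finsupp.onFinset (range (∑ r, α r)) (ct α) fun i hi => by
  obtain ⟨r, hr⟩ := card_ne_zero.1 hi
  exact mem_range.2 ((mem_filter.1 hr).2.trans_le (le_sum α r)), ct_anti α⟩

theorem cl_apply (α : σ → ℕ) (i : ℕ) : cl α i = ct α i := rfl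

theorem cl_size (α : σ → ℕ) : (cl α).size = ∑ r, α r := by
  rw [Col.size, cl, Finsupp.onFinset_sum _ fun _ => rfl]
  simp only [ct, card_filter]
  rw [sum_comm]
  refine sum_congr rfl fun r _ => ?_
  rw [← card_filter, show filter (fun i => i < α r) (range (∑ r, α r)) = range (α r) from Finset.ext fun i => by
    have := le_sum α r
    simp only [mem_filter, mem_range]
    omega, card_range]

theorem cl_mono {α β : σ → ℕ} (h : β ≤ α) : cl β ≤ cl α := fun i => card_le_card fun r hr => by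
  simp only [mem_filter, mem_univ, true_and] at hr ⊢
  exact hr.trans_le (h r)

theorem gb_one : ∀ n k, (gb n k).eval 1 = n.choose k
  | n, 0 => by simp
  | 0, k + 1 => by simp
  | n + 1, k + 1 => by
    rw [gb_succ, Polynomial.eval_add, Polynomial.eval_mul, gb_one, gb_one, Nat.choose_succ_succ']
    simp [add_comm]

open Classical in
theorem Np_one (α : σ → ℕ) {k : Col} (h : k ≤ cl α) : (Np (cl α) k).eval 1 = #{β ∈ Iic α | cl β = k} := by
  have h1 : k.size ≤ ∑ r, α r := (Col.size_mono h).trans (cl_size α).le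
  rw [filter_congr (q := fun β => ct β = k) fun β _ => ⟨fun h => h ▸ rfl, fun h => Col.ext (congrFun h)⟩,
    cnt _ α k (le_sum α) k.anti (Col.apply_of_size_le h1), Np, Polynomial.eval_prod, Nat.cast_prod]
  simp only [Polynomial.eval_mul, Polynomial.eval_pow, Polynomial.eval_X, one_pow, one_mul, gb_one, cl_apply]
  refine prod_subset (fun i hi => mem_range.2 (not_le.1 fun h2 => Finsupp.mem_support_iff.1 hi
    (Col.apply_of_size_le (h1.trans h2)))) fun i _ hi => ?_
  rw [Finsupp.notMem_support_iff.1 hi, Nat.zero_sub, Nat.choose_zero_right, Nat.cast_one]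

end cnt

end Cfsg.Agent.MO.TA.U1
end

-- part: MO/TA/U1
section
/-!
# MO, types `A` and `²A`, box `U1` (helper19)

The values at the unipotent types are congruent modulo `Q - 1` to the coefficients of a product of dilated Schur
polynomials.  `boxU1 : BoxU1`.
-/

set_option autoImplicit false
set_option linter.unusedSectionVars false

namespace Cfsg.Agent.MO.TA.U1

open Finset MvPolynomial Cfsg.Agent.H614 Cfsg.Agent.H614.GLn Cfsg.Agent.H614.GLn.RSt Cfsg.Agent.H615.GU
  Cfsg.Agent.H577.GLB.Std Cfsg.Agent.H531.GU Cfsg.Agent.H794.EM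

/-- the multiples of `s` -/
def Dv (s : ℕ) : AddSubgroup ℂ where
  carrier := {x | ∃ z : ℂ, IsIntegral ℤ z ∧ x = s * z}
  zero_mem' := ⟨0, isIntegral_zero, (mul_zero _).symm⟩
  add_mem' := fun ⟨a, ha, e⟩ ⟨b, hb, e'⟩ => ⟨a + b, ha.add hb, by rw [e, e', mul_add]⟩
  neg_mem' := fun ⟨a, ha, e⟩ => ⟨-a, ha.neg, by rw [e, mul_neg]⟩

theorem Dv.mul {s : ℕ} {a x : ℂ} (ha : IsIntegral ℤ a) : x ∈ Dv s → a * x ∈ Dv s :=
  fun ⟨b, hb, e⟩ => ⟨a * b, ha.mul hb, by rw [e, mul_left_comm]⟩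

theorem Dv.dvd {s : ℕ} (hs : s ≠ 0) {a : ℤ} : (a : ℂ) ∈ Dv s → (s : ℤ) ∣ a := fun ⟨b, hb, e⟩ => by
  have h1 : algebraMap ℚ ℂ (a / s) = b := by
    rw [map_div₀, map_intCast, map_natCast, e, mul_div_cancel_left₀ _ (by exact_mod_cast hs)]
  obtain ⟨y, hy⟩ := IsIntegrallyClosed.isIntegral_iff.1
    ((isIntegral_algHom_iff (IsScalarTower.toAlgHom ℤ ℚ ℂ) (algebraMap ℚ ℂ).injective).1 (h1 ▸ hb : IsIntegral ℤ _))
  refine ⟨y, ?_⟩
  rw [← h1, ← hy, eq_intCast, map_intCast] at e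
  exact_mod_cast e

theorem ev_int (Q : ℤ) (P : Polynomial ℤ) : ev (Q : ℂ) P = (P.eval Q : ℤ) :=
  Polynomial.aeval_algebraMap_apply_eq_algebraMap_eval Q P

variable {K : Type} [Field K] [Finite K] (θ : K →*₀ ℂ) (Q : ℤ) (M m : ℕ)

/-- the values at the unipotent types -/
noncomputable def EE : RS M →ₗ[ℂ] Col → ℂ :=
  (LinearMap.funLeft ℂ ℂ fun l => Finsupp.single (o1 K Q) l).comp (evR θ Q M)

theorem EE_apply (x : RS M) (l : Col) : EE θ Q M x l = evR θ Q M x (Finsupp.single (o1 K Q) l) := rfl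

/-- the power sums -/
noncomputable def ph : RS M →ₐ[ℂ] MvPolynomial (Fin m) ℂ := aeval fun v : Var M => ∑ i, X i ^ v.1

variable {θ Q M m} (hQ : IsCoprime Q (Nat.card Kˣ : ℤ))

include hQ in
theorem EE_X (v : Var M) (x : RS M) : EE θ Q M (X v * x) = pp Q v.1 (EE θ Q M x) := by
  classical
  funext l
  rw [EE_apply, evR_X_mul θ Q M H521.GU.i2s, Pop_eq, LinearMap.sum_apply, Finset.sum_apply, sum_eq_single (o1 K Q)]
  · rcases Nat.eq_zero_or_pos v.1 with h | hk
    · rw [if_neg fun h1 => h1.1.ne' h, h, pp, nwt_zero]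
      rfl
    · rw [dOrb_o1 Q hQ, if_pos ⟨hk, one_dvd _⟩, thO_o1 θ Q M hQ, one_smul, lft_apply, pow_one, Nat.div_one,
        Finsupp.single_eq_same]
      refine congrFun (congrArg _ (_root_.funext fun c => congrArg _ (Finsupp.ext fun j => ?_))) l
      by_cases hj : j = o1 K Q
      · subst hj
        simp
      · simp [Function.update_of_ne hj, Finsupp.single_eq_of_ne hj]
  · intro o _ ho
    split_ifs with h
    · rw [LinearMap.smul_apply, Pi.smul_apply, lft_apply, Finsupp.single_eq_of_ne ho, pp_at_zero, smul_zero]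
    · rfl
  · exact fun h => absurd (mem_univ _) h

include hQ in
theorem EE_hh (c : ZMod M) (j : ℕ) : ∀ x : RS M, EE θ Q M (hh (fun r => X (r, c)) j * x) = uu Q j (EE θ Q M x) := by
  induction j using Nat.strong_induction_on with
  | _ j ih =>
    intro x
    have h0 : uu (Q : ℂ) 0 = 1 := H521.GU.Ul_zero _
    rcases Nat.eq_zero_or_pos j with rfl | hj
    · rw [hh_zero, one_mul, h0]
      rfl
    · refine smul_right_injective _ (show (j : ℂ) ≠ 0 by exact_mod_cast hj.ne') ?_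
      show (j : ℂ) • _ = (j : ℂ) • _
      rw [← map_smul, ← smul_mul_assoc, hh_rec, sum_mul, map_sum, ← LinearMap.smul_apply, Nat.cast_smul_eq_nsmul, nwt_sum h0,
        range_eq_Ico, sum_eq_sum_Ico_succ_bot j.succ_pos, nwt_zero, zero_mul, zero_add, LinearMap.sum_apply]
      exact sum_congr rfl fun r hr => by
        rw [mul_assoc, EE_X hQ, ih _ (by have := mem_Ico.1 hr; omega)]
        rfl

theorem ph_hh (c : ZMod M) (e j : ℕ) : ph M m (hh (fun r => X (r * e, c)) j) = _root_.MvPolynomial.expand e (hR ℂ m j) := by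
  rw [← hh_map, ← hh_hR, ← hh_map]
  refine hh_congr (fun r _ => ?_) j
  simp only [ph, aeval_X, map_sum, map_pow, expand_X, ← pow_mul, mul_comm]

open Classical in
theorem coeff_hR_mul (j : ℕ) (F : MvPolynomial (Fin m) ℂ) (α : Fin m →₀ ℕ) : coeff α (hR ℂ m j * F) =
    ∑ β ∈ (Iic (α : Fin m → ℕ)).filter (fun β => (cl β).size + j = (cl α).size),
      coeff (Finsupp.equivFunOnFinite.symm β) F := by
  rw [coeff_mul]
  simp only [coeff_hR, ite_mul, one_mul, zero_mul, ← sum_filter, cl_size]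
  refine sum_nbij' (fun x => x.2) (fun β => (α - Finsupp.equivFunOnFinite.symm β, Finsupp.equivFunOnFinite.symm β))
    (fun x hx => ?_) (fun β h => ?_) (fun x hx => ?_) (fun β _ => rfl) fun x _ => by simp
  · simp only [mem_filter, HasAntidiagonal.mem_antidiagonal, mem_Iic] at hx ⊢
    obtain ⟨rfl, rfl⟩ := hx
    exact ⟨fun i => Nat.le_add_left _ _, by simp only [sum_add_distrib, add_comm, _root_.Finsupp.coe_add, _root_.Pi.add_apply, _root_.Nat.add_left_cancel_iff]⟩
  · simp only [mem_filter, HasAntidiagonal.mem_antidiagonal, mem_Iic] at h ⊢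
    refine ⟨Finsupp.ext fun i => Nat.sub_add_cancel (h.1 i), ?_⟩
    have h1 : ∑ i, (α i - β i) + ∑ i, β i = ∑ i, α i := by
      rw [← sum_add_distrib]
      exact sum_congr rfl fun i _ => Nat.sub_add_cancel (h.1 i)
    have h2 := h.2
    show ∑ i, (α i - β i) = j
    omega
  · simp only [mem_filter, HasAntidiagonal.mem_antidiagonal] at hx
    rw [← hx.1]
    simp only [_root_.Finsupp.equivFunOnFinite_symm_coe, _root_.add_tsub_cancel_right, _root_.Prod.mk.eta]

variable (θ Q m) in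
/-- the congruence -/
def Rl (s : ℕ) (x : RS M) : Prop :=
  (∀ l, IsIntegral ℤ (EE θ Q M x l)) ∧ ∀ α : Fin m →₀ ℕ, EE θ Q M x (cl α) - coeff α (ph M m x) ∈ Dv s

variable (θ Q m) in
/-- the elements which keep the congruence -/
def BB (s : ℕ) : Subring (RS M) where
  carrier := {f | ∀ x, Rl θ Q m s x → Rl θ Q m s (f * x)}
  mul_mem' hf hg x hx := by
    rw [mul_assoc]
    exact hf _ (hg x hx)
  one_mem' x hx := by rwa [one_mul]
  add_mem' hf hg x hx := by
    refine ⟨fun l => ?_, fun α => ?_⟩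
    · rw [add_mul, map_add]
      exact ((hf x hx).1 l).add ((hg x hx).1 l)
    · rw [add_mul, map_add, map_add, coeff_add, Pi.add_apply, add_sub_add_comm]
      exact add_mem ((hf x hx).2 α) ((hg x hx).2 α)
  zero_mem' x _ := by
    refine ⟨fun l => ?_, fun α => ?_⟩
    · rw [zero_mul, map_zero]
      exact isIntegral_zero
    · rw [zero_mul, map_zero, map_zero, coeff_zero, Pi.zero_apply, sub_zero]
      exact zero_mem _
  neg_mem' hf x hx := by
    refine ⟨fun l => ?_, fun α => ?_⟩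
    · rw [neg_mul, map_neg]
      exact ((hf x hx).1 l).neg
    · rw [neg_mul, map_neg, map_neg, coeff_neg, Pi.neg_apply, neg_sub_neg, ← neg_sub]
      exact neg_mem ((hf x hx).2 α)

variable {s : ℕ}

theorem int_mem (z : ℂ) (hz : IsIntegral ℤ z) : algebraMap ℂ (RS M) z ∈ BB θ Q m s := fun x hx => by
  rw [← Algebra.smul_def]
  refine ⟨fun l => ?_, fun α => ?_⟩
  · rw [map_smul]
    exact hz.mul (hx.1 l)
  · rw [map_smul, map_smul, coeff_smul, Pi.smul_apply, smul_eq_mul, smul_eq_mul, ← mul_sub]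
    exact Dv.mul hz (hx.2 α)

theorem rl_one : Rl θ Q m s (1 : RS M) := by
  classical
  have h : ∀ l, EE θ Q M 1 l = if l = 0 then 1 else 0 := fun l => by
    rw [EE_apply, evR_one, H615.GU.vac]
    simp only [Finsupp.single_eq_zero]
  refine ⟨fun l => ?_, fun α => ?_⟩
  · rw [h]
    split_ifs
    exacts [isIntegral_one, isIntegral_zero]
  · rw [h, map_one, coeff_one, if_congr (show cl α = 0 ↔ 0 = α from ⟨fun h1 => Finsupp.ext fun r => ?_, fun h1 => ?_⟩) rfl rfl,
      sub_self]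
    · exact zero_mem _
    · have h2 := le_sum α r
      rw [← cl_size, h1] at h2
      exact (Nat.le_zero.1 h2).symm
    · exact Col.ext fun i => by simp [← h1, cl_apply, ct]

include hQ in
theorem hh_mem_BB (hs : (s : ℤ) ∣ Q - 1) (c : ZMod M) (j : ℕ) : hh (fun r => X (r, c)) j ∈ BB θ Q m s := fun x hx => by
  classical
  refine ⟨fun l => ?_, fun α => ?_⟩
  · rw [EE_hh hQ, uu_apply]
    exact IsIntegral.sum _ fun k _ => by
      rw [ev_int]
      exact (isIntegral_algebraMap (R := ℤ)).mul (hx.1 k)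
  · have h1 := ph_hh (m := m) c 1 j
    simp only [mul_one, expand_one_apply] at h1
    rw [EE_hh hQ, uu_apply, map_mul, h1, coeff_hR_mul, ← sum_fiberwise_of_maps_to (g := cl)
      (t := (Col.below (cl α)).filter fun c => c.size + j = (cl α).size) fun β h => mem_filter.2
        ⟨Col.mem_below.2 (cl_mono (mem_Iic.1 (mem_filter.1 h).1)), (mem_filter.1 h).2⟩, ← sum_sub_distrib]
    refine sum_mem fun k hk => ?_
    rw [mem_filter, Col.mem_below] at hk
    obtain ⟨a, ha⟩ := hs.trans (Polynomial.sub_dvd_eval_sub Q 1 (Np (cl α) k))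
    rw [filter_filter, filter_congr (q := fun β => cl β = k) fun β _ => ⟨fun h => h.2, fun h => ⟨h ▸ hk.2, h⟩⟩, ev_int,
      eq_add_of_sub_eq ha, Np_one _ hk.1]
    push_cast
    rw [add_mul, add_sub_assoc, ← nsmul_eq_mul (#_), ← sum_const, ← sum_sub_distrib]
    refine add_mem ⟨a * EE θ Q M x k, (isIntegral_algebraMap (R := ℤ)).mul (hx.1 k), mul_assoc _ _ _⟩ (sum_mem fun β hβ => ?_)
    rw [← (mem_filter.1 hβ).2]
    exact hx.2 (Finsupp.equivFunOnFinite.symm β)

variable [NeZero M] (hU : IsUnit (Q : ZMod M)) {c : ZMod M} (hc : c ∈ repsZ Q M) {β : Fin m → ℕ} (hβ : StrictMono β)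

include hU hc hβ

theorem Sch_det : Sch Q M c β = (Matrix.of fun i j : Fin m =>
    if (j : ℕ) ≤ β i then hh (fun r => (X (r * perZ Q M c, c) : RS M)) (β i - j) else 0).det := by
  rw [(Sch_eq_SS c β).trans (SS_eq_JT _ _ (sum_eq_bsz hβ)), JT, ← Matrix.det_transpose, Matrix.det_apply]
  refine sum_congr rfl fun σ _ => congrArg _ (prod_congr rfl fun i _ => ?_)
  rw [jt, hh_congr fun r hr => Pw_eq hU hc hr]
  rfl

theorem ph_Sch : ph M m (Sch Q M c β) = _root_.MvPolynomial.map (Int.castRingHom ℂ) (_root_.MvPolynomial.expand (perZ Q M c) (JR ℤ β)) := by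
  rw [map_expand, map_JR, Sch_det hU hc hβ, JR, AlgHom.map_det, AlgHom.map_det]
  (with_reducible congr 1)
  ext1 i j
  simp only [AlgHom.mapMatrix_apply, Matrix.map_apply, Matrix.of_apply]
  split_ifs
  · exact ph_hh _ _ _
  · rw [map_zero, map_zero]

include hQ in
theorem Sch_mem (hs : (s : ℤ) ∣ Q - 1) : Sch Q M c β ∈ BB θ Q m s := by
  rw [Sch_det hU hc hβ, Matrix.det_apply]
  refine sum_mem fun σ _ => zsmul_mem (prod_mem fun i _ => ?_) _
  rw [Matrix.of_apply]
  split_ifs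
  · exact hh_mem _ int_mem (hh_mem_BB hQ hs c) (perZ_pos hU c) _
  · exact zero_mem _

end Cfsg.Agent.MO.TA.U1

namespace Cfsg.Agent.MO.TA

open Finset MvPolynomial Cfsg.Agent.H614.GLn.RSt Cfsg.Agent.H615.GU Cfsg.Agent.H577.GLB.Std Cfsg.Agent.H531.GU
  Cfsg.Agent.H794.EM U1

/-- **box U1** -/
theorem boxU1 : BoxU1 := by
  intro c m n t s _ hs hd
  have := Fact.mk hs
  have hU := c.ctx.unit
  have hQ : IsCoprime c.Q (Nat.card c.Kˣ : ℤ) := by
    rw [c.ctx.card]
    exact ((ZMod.coe_int_isUnit_iff_isCoprime _ _).1 hU).symm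
  have h1 : Rl c.θ c.Q m s (SchP c.Q c.M t.t * 1) :=
    prod_mem (S := BB c.θ c.Q m s) (fun x hx => Sch_mem hQ hU hx (t.mono x) hd) _ rl_one
  have h2 : U1.ph c.M m (SchP c.Q c.M t.t) =
      _root_.MvPolynomial.map (Int.castRingHom ℂ) (∏ x ∈ repsZ c.Q c.M, expand (perZ c.Q c.M x) (JR ℤ (t.t x))) := by
    rw [SchP, map_prod, map_prod]
    exact prod_congr rfl fun x hx => ph_Sch hU hx (t.mono x)
  have h3 : _root_.MvPolynomial.map (Int.castRingHom (ZMod s)) (∏ x ∈ repsZ c.Q c.M, expand (perZ c.Q c.M x) (JR ℤ (t.t x))) ≠ 0 := by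
    rw [map_prod]
    exact prod_ne_zero_iff.2 fun x _ => by
      rw [map_expand, map_JR]
      exact (expand_ne_zero (perZ_pos hU x)).2 (JR_ne _ (t.mono x).injective)
  obtain ⟨α, h4⟩ := ne_zero_iff.1 h3
  have h5 := h1.2 α
  rw [mul_one, h2, coeff_map] at h5
  rw [coeff_map] at h4
  have h6 : EE c.θ c.Q c.M (SchP c.Q c.M t.t) (cl α) ∉ U1.Dv s := fun h => h4 ((ZMod.intCast_zmod_eq_zero_iff_dvd _ _).2
    (U1.Dv.dvd hs.ne_zero (by simpa using sub_mem h h5)))
  refine ⟨cl α, by_contra fun h => h6 ?_, h6⟩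
  rw [EE_apply, evR_supp c.θ c.Q c.M H521.GU.i2s (SchP_mem_Hom hU t).2]
  · exact zero_mem _
  · rwa [tdeg, Finsupp.sum_single_index (by simp), dOrb_o1 c.Q hQ, one_mul]

end Cfsg.Agent.MO.TA
end

-- part: MO/TA/U2
section
/-!
# MO, types `A` and `²A`: the boxes `U2` and `U` (helper55)

* `exists_mat` : for every partition a unipotent matrix `u` of this type and `x` with `u x uᵀ = x`, integral entries and
  determinants one;
* `boxU2 : BoxU2`, `boxU_of : BoxU1 → BoxU`.
-/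

set_option autoImplicit false

namespace Cfsg.Agent.MO.TA

open Cfsg Subgroup Matrix Module Cfsg.Agent.H577.GLB.Std Cfsg.Agent.H615.GU
open Cfsg.Agent.H474.GUN (size_colOf colOf_congr)
open scoped MatrixGroups

namespace U2

section blk

variable (R : Type) [CommRing R]

/-- the shift by `n` -/
def sh (n m : ℕ) : Matrix (Fin m) (Fin m) R := of fun i j => if (j : ℕ) = i + n then 1 else 0

/-- the invariant form -/
def gm (m : ℕ) : Matrix (Fin m) (Fin m) R := of fun i j => (-1) ^ (m - 1 - i) * ((m - 1 - i).choose j : R)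

variable {R}

theorem sum_ite {m : ℕ} (a : ℕ) (φ : ℕ → R) :
    ∑ k : Fin m, (if (k : ℕ) = a then 1 else 0) * φ k = if a < m then φ a else 0 := by
  split_ifs with h
  · rw [Finset.sum_eq_single ⟨a, h⟩ (fun k _ hk => by rw [if_neg fun e => hk (Fin.ext e), zero_mul])
      fun e => absurd (Finset.mem_univ _) e, if_pos rfl, one_mul]
  · exact Finset.sum_eq_zero fun k _ => by rw [if_neg fun e : (k : ℕ) = a => h (e ▸ k.2), zero_mul]

theorem sh_mul {m : ℕ} (g : ℕ → ℕ → R) (i j : Fin m) :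
    (sh R 1 m * of fun a b : Fin m => g a b) i j = if (i : ℕ) + 1 < m then g (i + 1) j else 0 :=
  sum_ite (i + 1) fun k => g k j

theorem mul_sh {m : ℕ} (g : ℕ → ℕ → R) (i j : Fin m) :
    ((of fun a b : Fin m => g a b) * (sh R 1 m)ᵀ) i j = if (j : ℕ) + 1 < m then g i (j + 1) else 0 :=
  (Finset.sum_congr rfl fun _ _ => mul_comm _ _).trans (sum_ite (j + 1) fun k => g i k)

theorem sh_pow (m n : ℕ) : sh R 1 m ^ n = sh R n m := by
  induction n with
  | zero => ext i j; simp [sh, one_apply, Fin.ext_iff, eq_comm]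
  | succ n ih =>
    ext i j
    rw [pow_succ', ih]
    refine (sh_mul (fun a b => if b = a + n then 1 else 0) i j).trans ?_
    have := j.2
    simp only [sh, of_apply]
    split_ifs <;> first | rfl | omega

theorem gm_inv (m : ℕ) : (1 + sh R 1 m) * gm R m * (1 + sh R 1 m)ᵀ = gm R m := by
  let g : ℕ → ℕ → R := fun a b => (-1) ^ (m - 1 - a) * ((m - 1 - a).choose b : R)
  let g' : ℕ → ℕ → R := fun a b => g a b + if a + 1 < m then g (a + 1) b else 0
  have h1 : (1 + sh R 1 m) * gm R m = of fun a b : Fin m => g' a b := by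
    ext i j
    rw [add_mul, one_mul, Matrix.add_apply]
    exact congrArg _ (sh_mul g i j)
  ext i j
  rw [transpose_add, transpose_one, mul_add, mul_one, Matrix.add_apply, h1, mul_sh g', of_apply, add_assoc, gm, of_apply,
    add_eq_left]
  simp only [g', g]
  have hi := i.2
  have hj := j.2
  by_cases h2 : (i : ℕ) + 1 < m
  · obtain ⟨a, ha⟩ : ∃ a, m - 1 - i = a + 1 := ⟨m - 1 - (i + 1), by omega⟩
    have hb : m - 1 - (i + 1) = a := by omega
    simp only [if_pos h2, ha, hb]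
    split_ifs with h3
    · rw [Nat.choose_succ_succ', Nat.cast_add]
      ring
    · rw [Nat.choose_eq_zero_of_lt (by omega : a < j)]
      simp only [_root_.Nat.cast_zero, _root_.MulZeroClass.mul_zero, _root_.add_zero]
  · simp only [if_neg h2, show m - 1 - i = 0 by omega, _root_.pow_zero, _root_.Nat.choose_zero_succ, _root_.Nat.cast_zero, _root_.MulZeroClass.mul_zero, _root_.add_zero, _root_.ite_self]

theorem det_gm (m : ℕ) : (gm R m).det = 1 := by
  induction m with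
  | zero => exact det_isEmpty
  | succ m ih =>
    rw [det_succ_column _ (Fin.last m), Finset.sum_eq_single 0 (fun i _ hi => by
      have h1 : (i : ℕ) ≠ 0 := fun e => hi (Fin.ext e)
      have := i.2
      rw [gm, of_apply, Fin.val_last, Nat.choose_eq_zero_of_lt (by omega : m + 1 - 1 - i < m)]
      simp only [_root_.Nat.succ_eq_add_one, _root_.add_tsub_cancel_right, _root_.Nat.cast_zero, _root_.MulZeroClass.mul_zero, _root_.Fin.succAbove_last, _root_.MulZeroClass.zero_mul]) fun e => absurd (Finset.mem_univ _) e]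
    have h2 : (gm R (m + 1)).submatrix (Fin.succAbove 0) (Fin.last m).succAbove = gm R m := by
      ext i j
      simp only [gm, submatrix_apply, of_apply, Fin.succAbove_zero, Fin.succAbove_last, Fin.val_succ, Fin.val_castSucc]
      rw [show m + 1 - 1 - (i + 1) = m - 1 - i by omega]
    rw [h2, ih]
    simp only [gm, ← mul_pow, _root_.Nat.succ_eq_add_one, _root_.Fin.coe_ofNat_eq_mod, _root_.Nat.zero_mod, _root_.Fin.val_last, _root_.zero_add, _root_.add_tsub_cancel_right, _root_.Matrix.of_apply, _root_.tsub_zero, _root_.Nat.choose_self, _root_.Nat.cast_one, _root_.mul_one, _root_.mul_neg, _root_.neg_neg, _root_.one_pow]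

theorem det_sh (m : ℕ) : (1 + sh R 1 m).det = 1 := by
  rw [det_of_isUpperTriangular]
  · simp only [sh, _root_.Matrix.add_apply, _root_.Matrix.one_apply_eq, _root_.Matrix.of_apply, _root_.Nat.left_eq_add, _root_.one_ne_zero, ↓ _root_.reduceIte, _root_.add_zero, _root_.Finset.prod_const_one]
  · intro i j h
    have h1 : (j : ℕ) < i := h
    rw [Matrix.add_apply, one_apply_ne fun e => h1.ne' (congrArg _ e), sh, of_apply, if_neg (by omega), add_zero]

theorem det_bd {o : Type} [Fintype o] [LinearOrder o] {m : o → Type} [∀ k, Fintype (m k)] [∀ k, DecidableEq (m k)]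
    (M : ∀ k, Matrix (m k) (m k) R) : (blockDiagonal' M).det = ∏ k, (M k).det := by
  rw [(blockTriangular_blockDiagonal' M).det_fintype]
  refine Finset.prod_congr rfl fun k _ => ?_
  rw [← det_reindex_self (Equiv.sigmaSubtype k)]
  congr 1
  ext i j
  exact blockDiagonal'_apply_eq M k i j

end blk

section typ

variable {K : Type} [Field K] {ι : Type} [Fintype ι]

theorem colOf_eq (T : (ι → K) →ₗ[K] ι → K) (h : ι → ℕ) (hT : ∀ n f, (T ^ n) f = 0 ↔ ∀ p, n ≤ h p → f p = 0) (i : ℕ) :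
    colOf T i = Fintype.card {p // h p = i} := by
  classical
  have h1 : ∀ n, Fintype.card {p // n ≤ h p} + finrank K (LinearMap.ker (T ^ n)) = Fintype.card ι := fun n => by
    have h2 := LinearMap.finrank_range_add_finrank_ker (LinearMap.funLeft K K (Subtype.val : {p // n ≤ h p} → ι))
    rw [LinearMap.range_eq_top.2 (LinearMap.funLeft_surjective_of_injective K K _ Subtype.val_injective), finrank_top,
      finrank_fintype_fun_eq_card, finrank_fintype_fun_eq_card] at h2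
    rwa [show LinearMap.ker _ = LinearMap.ker (T ^ n) from Submodule.ext fun f => by
      rw [LinearMap.mem_ker, LinearMap.mem_ker, hT, funext_iff, Subtype.forall]
      rfl] at h2
  have h3 : Fintype.card {p // i ≤ h p} = Fintype.card {p // h p = i} + Fintype.card {p // i + 1 ≤ h p} := by
    simp only [Fintype.card_subtype]
    rw [← Finset.card_union_of_disjoint (Finset.disjoint_filter.2 fun p _ e => by omega), ← Finset.filter_or]
    exact congrArg _ (Finset.filter_congr fun p _ => by omega)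
  have h4 := h1 i
  have h5 := h1 (i + 1)
  have h6 := colOf_add T i
  omega

/-- the lengths of the rows -/
noncomputable def rw (l : Col) (k : ℕ) : ℕ := Nat.find (⟨l.size, l.apply_size.le.trans (Nat.zero_le k)⟩ : ∃ i, l i ≤ k)

theorem lt_rw {l : Col} {k a : ℕ} : a < rw l k ↔ k < l a := by
  rw [rw, Nat.lt_find_iff]
  exact ⟨fun h => not_le.1 (h a le_rfl), fun h m hm => not_le.2 (h.trans_le (l.anti hm))⟩

/-- the boxes -/
abbrev Bx (l : Col) : Type := Σ k : Fin (l 0), Fin (rw l k)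

variable (K) in
/-- the nilpotent matrix -/
noncomputable def nl (l : Col) : Matrix (Bx l) (Bx l) K := blockDiagonal' fun k => sh K 1 (rw l k)

theorem nl_ker (l : Col) (n : ℕ) (f : Bx l → K) : (toLin' (nl K l) ^ n) f = 0 ↔ ∀ p, n ≤ (p.2 : ℕ) → f p = 0 := by
  have h1 : ∀ k a, (toLin' (nl K l) ^ n) f ⟨k, a⟩ = ∑ b : Fin (rw l k), (if (b : ℕ) = a + n then 1 else 0) * f ⟨k, b⟩ := by
    intro k a
    rw [← toLin'_pow, nl, ← blockDiagonal'_pow, toLin'_apply, mulVec, dotProduct, Fintype.sum_sigma,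
      Finset.sum_eq_single k (fun k' _ hk => Finset.sum_eq_zero fun b _ => by
        rw [blockDiagonal'_apply_ne _ _ _ hk.symm, zero_mul]) fun e => absurd (Finset.mem_univ _) e]
    exact Finset.sum_congr rfl fun b _ => by rw [blockDiagonal'_apply_eq, Pi.pow_apply, sh_pow, sh, of_apply]
  refine ⟨fun h ⟨k, b⟩ hp => ?_, fun h => funext fun ⟨k, a⟩ => ?_⟩
  · have h2 := h1 k ⟨b - n, (Nat.sub_le _ _).trans_lt b.2⟩
    rw [h, Finset.sum_eq_single b (fun c _ hc => by
      rw [if_neg fun e => hc (Fin.ext (e.trans (Nat.sub_add_cancel hp))), zero_mul])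
      (fun e => absurd (Finset.mem_univ _) e), if_pos (Nat.sub_add_cancel hp).symm, one_mul] at h2
    exact h2.symm
  · rw [h1]
    refine Finset.sum_eq_zero fun b _ => ?_
    split_ifs with e
    · rw [h ⟨k, b⟩ (e ▸ Nat.le_add_left _ _), mul_zero]
    · exact zero_mul _

theorem colOf_nl (l : Col) : colOf (toLin' (nl K l)) = l := by
  ext i
  rw [colOf_eq _ (fun p : Bx l => p.2) (nl_ker l), ← Fintype.card_fin (l i)]
  exact Fintype.card_congr
    { toFun := fun p => ⟨p.1.1, lt_rw.1 (p.2.symm.trans_lt p.1.2.2)⟩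
      invFun := fun k => ⟨⟨⟨k, k.2.trans_le (l.anti (Nat.zero_le i))⟩, ⟨i, lt_rw.2 k.2⟩⟩, rfl⟩
      left_inv := fun ⟨⟨_, _, _⟩, h⟩ => by cases h; rfl
      right_inv := fun _ => rfl }

theorem nil_nl (l : Col) : IsNilpotent (toLin' (nl K l)) :=
  ⟨l.size, LinearMap.ext fun f => (nl_ker l _ f).2 fun p hp =>
    absurd (lt_rw.1 p.2.2) (by rw [Col.apply_of_size_le hp]; exact Nat.not_lt_zero _)⟩

/-- integral entries -/
def It {α : Type} (x : Matrix α α K) : Prop := ∀ i j, ∃ z : ℤ, x i j = z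

omit [Fintype ι] in
theorem it_bd {m : ι → Type} [DecidableEq ι] {M : ∀ k, Matrix (m k) (m k) K} (h : ∀ k, It (M k)) :
    It (blockDiagonal' M) := fun ⟨k, a⟩ ⟨k', b⟩ => by
  by_cases e : k = k'
  · subst e
    rw [blockDiagonal'_apply_eq]
    exact h k a b
  · exact ⟨0, by rw [blockDiagonal'_apply_ne _ _ _ e, Int.cast_zero]⟩

variable [DecidableEq ι]

variable (K) in
/-- **the matrices** -/
theorem exists_mat (l : Col) (h : l.size = Fintype.card ι) : ∃ u x : Matrix ι ι K, u.det = 1 ∧ x.det = 1 ∧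
    u * x * uᵀ = x ∧ It u ∧ It x ∧ IsNilpotent (u - 1) ∧ colOf (toLin' (u - 1)) = l := by
  have h1 := size_colOf (nil_nl (K := K) l)
  rw [colOf_nl, finrank_fintype_fun_eq_card, h] at h1
  let e := Fintype.equivOfCardEq h1
  let U : Matrix (Bx l) (Bx l) K := blockDiagonal' fun k => 1 + sh K 1 (rw l k)
  let X : Matrix (Bx l) (Bx l) K := blockDiagonal' fun k => gm K (rw l k)
  have h2 : U.submatrix e e - 1 = (nl K l).submatrix e e := by
    have h3 : U = 1 + nl K l := by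
      rw [nl, ← blockDiagonal'_one, ← blockDiagonal'_add]
      rfl
    ext i j
    simp [h3, one_apply]
  have h4 : ∀ v, LinearEquiv.funCongrLeft K K e (toLin' (nl K l) v) =
      toLin' ((nl K l).submatrix e e) (LinearEquiv.funCongrLeft K K e v) := fun v => by
    rw [toLin'_apply, toLin'_apply, submatrix_mulVec_equiv]
    change _ = (nl K l *ᵥ (v ∘ e) ∘ e.symm) ∘ e
    rw [Function.comp_assoc, e.self_comp_symm]
    rfl
  refine ⟨U.submatrix e e, X.submatrix e e, ?_, ?_, ?_, fun i j => (it_bd fun k a b => ?_ : It U) (e i) (e j),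
    fun i j => (it_bd fun k a b => ?_ : It X) (e i) (e j), ?_, ?_⟩
  · rw [det_submatrix_equiv_self, det_bd]
    exact Finset.prod_eq_one fun k _ => det_sh _
  · rw [det_submatrix_equiv_self, det_bd]
    exact Finset.prod_eq_one fun k _ => det_gm _
  · rw [transpose_submatrix, submatrix_mul_equiv, submatrix_mul_equiv, blockDiagonal'_transpose, ← blockDiagonal'_mul,
      ← blockDiagonal'_mul]
    simp only [gm_inv]
    rfl
  · exact ⟨(if a = b then 1 else 0) + if (b : ℕ) = a + 1 then 1 else 0, by simp [sh, one_apply]⟩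
  · exact ⟨(-1) ^ (rw l k - 1 - a) * (rw l k - 1 - a).choose b, by simp only [gm, _root_.Matrix.of_apply, _root_.Int.reduceNeg, _root_.Int.cast_mul, _root_.Int.cast_pow, _root_.Int.cast_neg, _root_.Int.cast_one, _root_.Int.cast_natCast]⟩
  · rw [h2]
    exact ((isNilpotent_toLin'_iff _).1 (nil_nl l)).map (reindexAlgEquiv K K e.symm)
  · rw [h2, ← colOf_congr _ h4, colOf_nl]

theorem col_conj (y u : GL ι K) (z : Kˣ) : col (y * u * y⁻¹) z = col u z :=
  (colOf_congr (toLin'OfInv y.inv_mul y.mul_inv) fun v => by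
    change y.1 *ᵥ (u.1 - scalar ι (z : K)) *ᵥ v = ((y * u * y⁻¹).1 - scalar ι (z : K)) *ᵥ y.1 *ᵥ v
    rw [mulVec_mulVec, mulVec_mulVec, sub_mul, ← Units.val_mul, inv_mul_cancel_right, mul_sub,
      (scalar_commute (z : K) (fun _ => Commute.all _ _) y.1).eq, Units.val_mul]).symm

theorem col_ne {u : GL ι K} (hu : IsNilpotent (u.1 - 1)) {z : Kˣ} (hz : z ≠ 1) : col u z = 0 := by
  have h1 : IsUnit (scalar ι (1 - (z : K)) + (u.1 - 1)) := hu.isUnit_add_left_of_commute
    ((sub_ne_zero.2 fun e => hz (Units.ext e.symm)).isUnit.map _) (scalar_commute _ (fun _ => Commute.all _ _) _).symm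
  rw [map_sub, map_one, add_comm, sub_add_sub_cancel] at h1
  ext i
  rw [col, colOf_apply, show LinearMap.ker (toLin' _) = ⊥ from
    (LinearMap.isUnit_iff_ker_eq_bot _).1 (h1.map toLinAlgEquiv'), bot_inf_eq, finrank_bot]
  rfl

theorem fm_it (σ : K ≃+* K) {g : GL ι K} (h : It g.1) : fm K ι σ g = g := Units.ext (Matrix.ext fun i j => by
  obtain ⟨z, hz⟩ := h i j
  rw [fm_apply, hz, map_intCast])

end typ

variable (c : D0) {ι : Type} [Fintype ι] [DecidableEq ι]

theorem ty_eq {u : GL ι c.K} (hu : IsNilpotent (u.1 - 1)) (y : GL ι c.K) :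
    ty c.Q (y * u * y⁻¹) = Finsupp.single (Quotient.mk (orbSetoid c.K c.Q) 1) (colOf (toLin' (u.1 - 1))) := by
  ext1 o
  change col _ o.out = _
  rw [col_conj]
  by_cases h : o.out = 1
  · rw [← o.out_eq, Quotient.out_eq, h, ← h, o.out_eq, Finsupp.single_eq_same, h, col, Units.val_one, map_one]
  · rw [col_ne hu h, Finsupp.single_eq_of_ne fun e => h ?_]
    obtain ⟨i, j, h1⟩ := Quotient.exact (o.out_eq.trans e)
    obtain ⟨a, b, h2⟩ := ((ZMod.coe_int_isUnit_iff_isCoprime _ _).1 c.ctx.unit).pow_right (n := i)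
    rw [← zpow_one o.out, ← h2, _root_.zpow_add, mul_comm a, mul_comm b, _root_.zpow_mul, _root_.zpow_mul, h1,
      zpow_natCast, ← c.ctx.card, pow_card_eq_one']
    simp

theorem act_it (e : c.E) {g : GL ι c.K} (h : It g.1) : c.act ι e g = sm c.K ι (c.sg e) g := by
  rw [c.act_apply, ← MulAut.mul_apply, (fm_sm _ _).eq, MulAut.mul_apply, fm_it _ h]

/-- an abelian supplement from commuting lifts -/
theorem exists_P {v : GL ι c.K} {u : c.AA ι} {s : c.E → c.AA ι} (hu : u ∈ c.GLs ι ⊓ c.SE ι) (hs : ∀ e, s e ∈ c.SE ι)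
    (hr : ∀ e, (s e).right = e) (hF : s c.F = c.tw v) (h1 : ∀ e, u * s e = s e * u) (h2 : ∀ e e', s e * s e' = s e' * s e) :
    ∃ P : Subgroup (c.AA ι), P ≤ c.Gh v ∧ (∀ a ∈ P, ∀ b ∈ P, a * b = b * a) ∧
      (∀ a ∈ c.Gh v, ∃ g ∈ c.G v, ∃ y ∈ P, a = g * y) ∧ u ∈ P ⊓ c.G v := by
  have h3 : u ∈ c.Ah v := mem_centralizer_singleton_iff.2 (hF ▸ h1 _)
  have h4 : ∀ e, s e ∈ c.Gh v := fun e => ⟨mem_centralizer_singleton_iff.2 (hF ▸ h2 _ _), hs e⟩
  refine ⟨_root_.Subgroup.closure (insert u (Set.range s)), (closure_le _).2 ?_, fun a ha b hb => ?_, fun a ha => ?_,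
    _root_.Subgroup.subset_closure (.inl rfl), ⟨h3, hu.1⟩, h3, hu.2⟩
  · rintro _ (rfl | ⟨e, rfl⟩)
    exacts [⟨h3, hu.2⟩, h4 e]
  · have h5 : closure (insert u (Set.range s)) ≤ centralizer (closure (insert u (Set.range s)) : Subgroup _) := by
      rw [centralizer_closure, closure_le]
      rintro _ (rfl | ⟨e, rfl⟩) _ (rfl | ⟨e', rfl⟩)
      exacts [rfl, (h1 _).symm, h1 _, h2 _ _]
    exact h5 hb a ha
  · have h5 := mul_mem ha (inv_mem (h4 a.right))
    refine ⟨_, ⟨⟨h5.1, ?_⟩, h5⟩, _, _root_.Subgroup.subset_closure (.inr ⟨a.right, rfl⟩), (inv_mul_cancel_right _ _).symm⟩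
    change a.right * ((s a.right).right)⁻¹ = 1
    rw [hr, mul_inv_cancel]

end U2

open U2 SemidirectProduct in
/-- **box U2** -/
theorem boxU2 : BoxU2 := by
  intro c ι _ _ hn v ⟨y', hy', hv⟩ l hl
  obtain ⟨u, x, h1, h2, h3, h4, h5, h6, h7⟩ := exists_mat c.K l hl
  lift u to GL ι c.K using (isUnit_iff_isUnit_det _).2 (h1 ▸ isUnit_one)
  lift x to GL ι c.K using (isUnit_iff_isUnit_det _).2 (h2 ▸ isUnit_one)
  let a : c.E → GL ι c.K := fun e => if c.sg e = 1 then 1 else x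
  have ha : ∀ e, It (a e).1 ∧ GeneralLinearGroup.det (a e) = 1 := fun e => by
    simp only [a]
    split_ifs
    · exact ⟨fun i j => ⟨if i = j then 1 else 0, by simp [one_apply]⟩, map_one _⟩
    · exact ⟨h5, Units.ext h2⟩
  obtain ⟨y, hy, hv0⟩ := c.lang ι hn (a c.F) (ha _).2 (ha _).1
  let g : c.AA ι := inl (y'⁻¹ * y)
  have hg : g ∈ c.SE ι := by
    change GeneralLinearGroup.det (y'⁻¹ * y) = 1
    rw [map_mul, map_inv, hy, hy', inv_one, one_mul]
  have k : ∀ {p q : c.AA ι}, p * q = q * p → g * p * g⁻¹ * (g * q * g⁻¹) = g * q * g⁻¹ * (g * p * g⁻¹) := fun h => by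
    rw [conj_mul, conj_mul, h]
  obtain ⟨P, p1, p2, p3, p4⟩ := exists_P c.toD0 (v := v) (u := g * inl u * g⁻¹) (s := fun e => g * ⟨a e, e⟩ * g⁻¹)
    ⟨by simp [g, D0.GLs], (c.SE ι).mul_mem (mul_mem hg (Units.ext h1)) (inv_mem hg)⟩
    (fun e => mul_mem (mul_mem hg (ha e).2) (inv_mem hg)) (fun e => by simp only [g, _root_.map_mul, _root_.map_inv, _root_.SemidirectProduct.mk_eq_inl_mul_inr, _root_.mul_inv_rev, _root_.inv_inv, _root_.SemidirectProduct.mul_right, _root_.SemidirectProduct.inv_right, _root_.SemidirectProduct.right_inl, _root_.inv_one, _root_.mul_one, _root_.SemidirectProduct.right_inr, _root_.one_mul]) (by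
      refine SemidirectProduct.ext ?_ (by simp only [g, D0.tw, _root_.map_mul, _root_.map_inv, _root_.SemidirectProduct.mk_eq_inl_mul_inr, _root_.mul_inv_rev, _root_.inv_inv, _root_.SemidirectProduct.mul_right, _root_.SemidirectProduct.inv_right, _root_.SemidirectProduct.right_inl, _root_.inv_one, _root_.mul_one, _root_.SemidirectProduct.right_inr, _root_.one_mul])
      simp only [g, D0.tw, ← map_inv, mul_left, left_inl, right_inl, map_one, MulAut.one_apply, mul_right, one_mul]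
      rw [mul_assoc y'⁻¹, hv0, map_inv, map_mul, map_inv, ← hv]
      group)
    (fun e => k (SemidirectProduct.ext (by
      simp only [mul_left, left_inl, right_inl, map_one, MulAut.one_apply, act_it _ e h4, a]
      rcases Int.units_eq_one_or (c.sg e) with h | h
      · simp [h]
      · rw [h, if_neg (by decide), sm_neg]
        refine Units.ext ?_
        rw [Units.val_mul, Units.val_mul, itm_val]
        conv_rhs => rw [← h3, mul_assoc, ← transpose_mul, Units.inv_mul, transpose_one, mul_one]) (by simp)))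
    fun e e' => k (SemidirectProduct.ext (by
      simp only [mul_left, act_it _ _ (ha _).1]
      rcases Int.units_eq_one_or (c.sg e) with h | h <;> rcases Int.units_eq_one_or (c.sg e') with h' | h' <;>
        simp only [a, h, h', ↓ _root_.reduceIte, _root_.map_one, _root_.MulAut.one_apply, _root_.mul_one, _root_.neg_units_ne_self, _root_.one_mul]) (mul_comm _ _))
  refine ⟨P, p1, p2, p3, _, p4, ?_⟩
  rw [← map_inv, ← map_mul, ← map_mul, left_inl, ty_eq _ h6, h7]

/-- **box U** -/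
theorem boxU_of (h : BoxU1) : BoxU := by
  intro c ι _ _ hn v hv χ hχ s hs hQ
  obtain ⟨t, ⟨ε, ht⟩, -⟩ := (c.tab ι hn v hv).lab _ le_rfl χ hχ
  obtain ⟨l, hl, h1⟩ := h c.toD0 _ _ t s hn hs hQ
  obtain ⟨P, -, p2, p3, u, ⟨p4, p5⟩, p6⟩ := boxU2 c ι hn v hv l hl
  refine Mul.of_elt inf_le_left p2 p3 (Characters.Core.isIrr_isCharacter hχ) (u := ⟨u, p5.1⟩) p4 p5 fun ⟨z, h2, h3⟩ =>
    h1 ⟨_, (isIntegral_intCast (ε : ℤ)).mul h2, ?_⟩
  rw [← p6, ht ⟨u, p5.1⟩, h3, mul_left_comm]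

end Cfsg.Agent.MO.TA
end

-- part: MO/TA/V
section
/-!
# MO, types `A` and `²A`: box `V`, the covers with a centre of order prime to the characteristic (helper11)

* `V.cover` : a perfect group `G` without perfect central extensions of prime order `≠ r` maps onto every quasisimple
  `X` with `X / Z(X) ≃ G / Z(G)` and `r ∤ |Z(X)|`;
* `V.cover_sl`, `V.cover_su` : the groups `SL_n(q)`, `SU_n(q)`; `boxV`.
-/

set_option autoImplicit false

namespace Cfsg.Agent.MO.TA

open Cfsg Subgroup Matrix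

namespace V

/-- the general form: the kernel is central and the map is compatible with the isomorphism of the central quotients -/
theorem cover {G T X : Type} [Group G] [Finite G] [Group T] [Group X] [Finite X] {r : ℕ} (hr : r.Prime)
    (hG : commutator G = ⊤) (hN : ∀ s : ℕ, s.Prime → s ≠ r → H67.NoPCov s G) (σ : G →* T)
    (hσ : Function.Surjective σ) (hk : σ.ker ≤ center G) (hX : IsQuasisimple X) (hZ : ¬ r ∣ Nat.card (center X))
    (e : X ⧸ center X ≃* T) :
    ∃ π : G →* X, Function.Surjective π ∧ π.ker ≤ σ.ker ∧ ∀ g, e (QuotientGroup.mk (π g)) = σ g := by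
  have h3 : (e.toMonoidHom.comp (QuotientGroup.mk' (center X))).ker = center X := by
    ext x
    simp
  obtain ⟨π, h1, h2⟩ := H905.PCover.exists_hom_of_noPCov hG hN hσ hk hX.1.commutator_eq_top
    (f := e.toMonoidHom.comp (QuotientGroup.mk' (center X))) (e.surjective.comp (QuotientGroup.mk'_surjective _)) h3.le hr
    (by rw [h3]; exact ((Nat.Prime.coprime_iff_not_dvd hr).2 hZ).symm)
  refine ⟨π, h1, fun x hx => ?_, fun g => DFunLike.congr_fun h2 g⟩
  rw [MonoidHom.mem_ker] at hx ⊢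
  rw [← h2, MonoidHom.comp_apply, hx, map_one]

variable {F : Type} [Field F] [Fintype F] {n q r : ℕ}

theorem sl_perf (hn : 2 ≤ n) (h2 : n = 2 → 4 ≤ Fintype.card F) : commutator (_root_.Matrix.SpecialLinearGroup (Fin n) F) = ⊤ := by
  by_cases h : n = 2
  · subst h
    exact H259.NatMod.commutator_eq_top (h2 rfl)
  · exact LieClassical.SLGen.commutator_eq_top (by rw [Fintype.card_fin]; omega)

theorem sl_no [CharP F r] (hn : 1 ≤ n) (s : ℕ) (hs : s.Prime) (h : s ≠ r) :
    H67.NoPCov s (_root_.Matrix.SpecialLinearGroup (Fin n) F) := by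
  obtain ⟨m, rfl⟩ : ∃ m, n = m + 1 := ⟨n - 1, by omega⟩
  exact H60.CrossA.noPCov_SL_cross m r hs h

theorem su_no [CharP F r] (hr : r.Prime) (hF : Fintype.card F = q ^ 2) (hn : 3 ≤ n) (s : ℕ) (hs : s.Prime) (h : s ≠ r) :
    H67.NoPCov s (SU n F q) :=
  H61.SUCross.noPCov_SU hF hn hr hs h fun _ => H61.UThreeCE.noCE_SU3 hF hr hs h

variable {X : Type} [Group X] [Finite X]

/-- the covers of `PSL_n(q)` -/
theorem cover_sl [CharP F r] (hr : r.Prime) (hn : 2 ≤ n) (h2 : n = 2 → 4 ≤ Fintype.card F) (hX : IsQuasisimple X)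
    (hZ : ¬ r ∣ Nat.card (center X)) (e : X ⧸ center X ≃* ProjectiveSpecialLinearGroup (Fin n) F) :
    ∃ π : _root_.Matrix.SpecialLinearGroup (Fin n) F →* X, Function.Surjective π ∧ π.ker ≤ center _ ∧
      ∀ g, e (QuotientGroup.mk (π g)) = QuotientGroup.mk g := by
  obtain ⟨π, h3, h4, h5⟩ := cover hr (sl_perf hn h2) (sl_no (by omega)) (QuotientGroup.mk' (center _))
    (QuotientGroup.mk'_surjective _) (by rw [QuotientGroup.ker_mk']) hX hZ e
  exact ⟨π, h3, by rwa [QuotientGroup.ker_mk'] at h4, h5⟩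

/-- the covers of `PSU_n(q)` -/
theorem cover_su [CharP F r] (hr : r.Prime) (hF : Fintype.card F = q ^ 2) (hn : 3 ≤ n) (h2 : ¬ (n = 3 ∧ q = 2))
    (hX : IsQuasisimple X) (hZ : ¬ r ∣ Nat.card (center X)) (e : X ⧸ center X ≃* PSU n F q) :
    ∃ π : SU n F q →* X, Function.Surjective π ∧ π.ker ≤ center _ ∧
      ∀ g, e (QuotientGroup.mk (π g)) = QuotientGroup.mk g := by
  obtain ⟨π, h3, h4, h5⟩ := cover hr (LieClassical.HermPerfect.commutator_SU_eq_top hF hn h2) (su_no hr hF hn)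
    (QuotientGroup.mk' (center _)) (QuotientGroup.mk'_surjective _) (by rw [QuotientGroup.ker_mk']) hX hZ e
  exact ⟨π, h3, by rwa [QuotientGroup.ker_mk'] at h4, h5⟩

end V

/-- **box V** -/
theorem boxV : BoxV := by
  intro r X _ _ hr hX hZ
  constructor
  · rintro ⟨F, _, _, hc, n, hn, h2, ⟨e⟩⟩
    obtain ⟨π, h, -⟩ := V.cover_sl hr hn h2 hX hZ e
    exact ⟨F, inferInstance, inferInstance, n, hc, hn, π, h⟩
  · rintro ⟨F, _, _, hc, n, q, hF, hn, h2, ⟨e⟩⟩
    obtain ⟨π, h, -⟩ := V.cover_su hr hF hn h2 hX hZ e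
    exact ⟨F, inferInstance, inferInstance, n, q, hc, hF, hn, π, h⟩

end Cfsg.Agent.MO.TA
end

-- part: MO/TA/Main0
section
/-!
# MO, types `A` and `²A`: the rows from the last boxes (helper15)

* `RowA l` : the rows `A`, `²A` of `X.Gen`; `rowA_of`.
-/

set_option autoImplicit false

namespace Cfsg.Agent.MO.TA

open Cfsg Subgroup

/-- the rows `A`, `²A` of `X.Gen` -/
def RowA (l : ℕ) : Prop :=
  ∀ (X : Type) [Group X] [Finite X] (r : ℕ), r.Prime → r ≠ l → IsPSLChar r (X ⧸ center X) ∨ IsPSUChar r (X ⧸ center X) →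
    ¬ r ∣ Nat.card (center X) → ∀ Γ : Subgroup (MulAut X), Sit l X Γ → Gd l X Γ

theorem boxes_of (h1 : B1) (hG : BoxG) (hT : BoxT) (hH : BoxH) (hS : BoxS) (hX : BoxXL) (hR : BoxR) : Boxes :=
  ⟨h1, b2, boxF, hG, boxU_of boxU1, hT, boxL_of boxI hH W.wBij hG, boxM_of' boxI hH (boxU_of boxU1) hT, hS, boxO,
    boxX_of boxF hX (boxXG_of boxF hG), hR⟩

theorem rowA_of (b : Boxes) {l : ℕ} [Fact l.Prime] (h2 : l ≠ 2) : RowA l := fun X _ _ r hr hl h hz Γ s =>
  b.gen boxV h2 X r hr hl h hz Γ s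

theorem RowA.one {l : ℕ} [Fact l.Prime] (h : RowA l) (X : Type) [Group X] [Finite X] (r : ℕ) (hr : r.Prime) (hl : r ≠ l)
    (hX : IsPSLChar r (X ⧸ center X) ∨ IsPSUChar r (X ⧸ center X)) (hz : ¬ r ∣ Nat.card (center X))
    (Γ : Subgroup (MulAut X)) (s : Sit l X Γ) : One l X Γ := one_of_gd s (h X r hr hl hX hz Γ s)

end Cfsg.Agent.MO.TA
end


private theorem rlz_d1dbdfc97337 : type_of% @_root_.Cfsg.Agent.MO.TA.D0.AA.congr_simp := @_root_.Cfsg.Agent.MO.TA.D0.AA.congr_simp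

private theorem dce_967639a896c4 : _root_.True := by
  try have : _root_.True := by simp only [_root_.Cfsg.Agent.MO.TA.dfW.eq_1]
  try have : _root_.True := by simp only [_root_.Cfsg.Agent.MO.TA.totW.eq_1]
  try have : _root_.True := by simp only [_root_.Cfsg.Agent.MO.CQ.pad.eq_1]
  try have : _root_.True := by simp only [_root_.Cfsg.Agent.MO.TA.L.hp.eq_1]
  try have : _root_.True := by simp only [_root_.Cfsg.Agent.MO.TA.D0.AA.congr_simp]
  try have : _root_.True := by simp only [_root_.Cfsg.Agent.MO.CQ.tup.eq_1]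
  try have : _root_.True := by simp only [_root_.Cfsg.Agent.MO.TA.col.eq_1]
  try have : _root_.True := by simp only [_root_.Cfsg.Agent.MO.CQ.im.eq_1]
  try have : _root_.True := by simp only [_root_.Cfsg.Agent.MO.CQ.wq.eq_1]
  try have : _root_.True := by simp only [_root_.Cfsg.Agent.H623.GU.RzHyp.rz.congr_simp]
  try have : _root_.True := by simp only [_root_.Cfsg.Agent.MO.TA.U1.hR.eq_1]
  try have : _root_.True := by simp only [_root_.Cfsg.Agent.MO.TA.D0.tw.eq_1]
  try have : _root_.True := by simp only [_root_.Cfsg.Agent.MO.TA.U1.ph.eq_1]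
  try have : _root_.True := by simp only [_root_.Cfsg.Agent.MO.TA.L.sn.eq_1]
  try have : _root_.True := by simp only [_root_.Cfsg.Agent.MO.TA.U1.cl.congr_simp]
  try have : _root_.True := by simp only [_root_.Cfsg.Agent.MO.CQ.jn.eq_1]
  try have : _root_.True := by simp only [_root_.Cfsg.Agent.MO.TA.U2.nl.eq_1]
  try have : _root_.True := by simp only [_root_.Cfsg.Agent.MO.CQ.hs.eq_1]
  try have : _root_.True := by simp only [_root_.Cfsg.Agent.MO.TA.U1.JR.eq_1]
  try have : _root_.True := by simp only [_root_.Cfsg.Agent.MO.TA.C.rxA.eq_1]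
  try have : _root_.True := by simp only [_root_.Cfsg.Agent.MO.TA.L.ps.eq_1]
  try have : _root_.True := by simp only [_root_.Cfsg.Agent.MO.TA.L.tw.eq_1]
  try have : _root_.True := by simp only [_root_.Cfsg.Agent.MO.TA.U1.ct.eq_1]
  try have : _root_.True := by simp only [_root_.Cfsg.Agent.MO.CQ.mc.eq_1]
  try have : _root_.True := by simp only [_root_.Cfsg.Agent.MO.TA.D0.Dt.eq_1]
  try have : _root_.True := by simp only [_root_.Cfsg.Agent.MO.TA.D0.Hd.eq_1]
  try have : _root_.True := by simp only [_root_.Cfsg.Agent.MO.TA.D0.GLs.eq_1]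
  try have : _root_.True := by simp only [_root_.Cfsg.Agent.MO.TA.U2.rw.eq_1]
  try have : _root_.True := by simp only [_root_.Cfsg.Agent.MO.CQ.wc.eq_1]
  try have : _root_.True := by simp only [_root_.Cfsg.Agent.MO.TA.L.linH.eq_1]
  try have : _root_.True := by simp only [_root_.Cfsg.Agent.MO.CQ.unpad.eq_1]
  try have : _root_.True := by simp only [_root_.Cfsg.Agent.MO.TA.U2.gm.eq_1]
  try have : _root_.True := by simp only [_root_.Cfsg.Agent.H615.GU.Col.size.eq_1]
  try have : _root_.True := by simp only [_root_.Cfsg.Agent.MO.TA.U2.sh.eq_1]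
  try have : _root_.True := by simp only [_root_.Cfsg.Agent.MO.TA.L.ps1.eq_1]
  try have : _root_.True := by simp only [_root_.Cfsg.Agent.MO.CQ.dc.eq_1]
  try have : _root_.True := by simp only [_root_.Cfsg.Agent.MO.TA.U1.cl.eq_1]
  try have : _root_.True := by simp only [_root_.Cfsg.Agent.MO.TA.L.kp.eq_1]
  exact _root_.True.intro
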