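import Cfsg.Agent.MQ.TA.BoxS
import Cfsg.Agent.H941.GU.Tow_m3
import Cfsg.Agent.H417.GU.Shift_m3
import Cfsg.Agent.LV.A.Tow
import Cfsg.Agent.OddOrderCharacters.IndRes
import Cfsg.Agent.Characters.CCBasic
import Cfsg.Agent.H672.Over
import Cfsg.Agent.H614.GLn.RSForm
import Cfsg.Agent.SignalizersComponents.Components
import Cfsg.Agent.S2690
import Cfsg.Agent.ClassicalGeometry.PSUAutMain
import Cfsg.Agent.S0144
import Cfsg.Agent.S0242
import Cfsg.Agent.S0282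
import Cfsg.Agent.S0283
import Cfsg.Agent.LieClassical.HermPerfect
import Cfsg.Agent.SignalizersComponents.SLQuasisimple
import Cfsg.Agent.S0145
import Cfsg.Agent.H192.Lang
import Cfsg.Agent.MQ.TA.Main0
import Cfsg.Agent.FastGrp
import Cfsg.Agent.Prune
set_option linter.all false
prune_inst 0x7fb0bcf80ba881dfffff7e2ff6d1cdfc10800fffa4dff943ffe861bf0bdf030209c5638509e010fe1e46401410a87803fb7eeeffe86bdc7ffffd57b41ffbee1fe5f63508519488340e202ff703f0770a6f3fffffffffffffffffffffffffffbeffbfebfeffff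
open scoped Cfsg.Agent.FastGrp

-- part: MO/TA/B1a
section
/-!
# MO/TA, box `B1`: general lemmas (helper12)

* `glue` : two extensions to `U` (normal, invariant) and `V` glue to `H = U V`;
* `exists_equi` : an equivariant bijection from a relation between orbits with the same stabilisers;
* `Fr.loc` : the local frame; `over_iff`, `stb_res_iff`, `Fr.stb_iff`, `cc_tr`;
* `ot` : outer products on subgroups of `A × A`.
-/

set_option autoImplicit false

namespace Cfsg.Agent.MO.TA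

open Cfsg Subgroup Cfsg.Agent.Characters.Core
open scoped ComplexConjugate

namespace Cr

/-- **the orbit lemma** -/
theorem exists_equi {C α β : Type} [Group C] [MulAction C α] [MulAction C β] [Nonempty α] [Nonempty β]
    {s : Set α} {t : Set β} {P : α → β → Prop} (hs : ∀ (c : C), ∀ a ∈ s, c • a ∈ s) (ht : ∀ (c : C), ∀ b ∈ t, c • b ∈ t)
    (hm : ∀ a b, P a b → (a ∈ s ↔ b ∈ t)) (hst : ∀ a b, P a b → ∀ c : C, c • a = a ↔ c • b = b)
    (ho : ∀ a b a' b', P a b → P a' b' → ((∃ c : C, c • a = a') ↔ ∃ c : C, c • b = b'))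
    (h1 : ∀ a ∈ s, ∃ (c : C) (a₀ : α) (b₀ : β), P a₀ b₀ ∧ c • a₀ = a)
    (h2 : ∀ b ∈ t, ∃ (c : C) (a₀ : α) (b₀ : β), P a₀ b₀ ∧ c • b₀ = b) :
    ∃ Ω : α → β, Set.BijOn Ω s t ∧ (∀ a ∈ s, ∀ c : C, Ω (c • a) = c • Ω a) ∧
      ∀ a ∈ s, ∃ (c : C) (a₀ : α) (b₀ : β), P a₀ b₀ ∧ c • a₀ = a ∧ c • b₀ = Ω a := by
  let q : α → MulAction.orbitRel.Quotient C α := Quotient.mk''
  have hq : ∀ a a', q a = q a' ↔ ∃ c : C, c • a' = a := fun a a' => Quotient.eq''
  have hq' : ∀ (c : C) a, q (c • a) = q a := fun c a => (hq _ _).2 ⟨c, rfl⟩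
  have h3 : ∀ x, (∃ a ∈ s, q a = x) → ∃ a₀ b₀, P a₀ b₀ ∧ q a₀ = x := by
    rintro _ ⟨a, ha, rfl⟩
    obtain ⟨c, a₀, b₀, h4, rfl⟩ := h1 a ha
    exact ⟨a₀, b₀, h4, (hq' c a₀).symm⟩
  choose! ra rb h4 h5 using h3
  have h6 : ∀ a ∈ s, P (ra (q a)) (rb (q a)) := fun a ha => h4 _ ⟨a, ha, rfl⟩
  have h7 : ∀ a ∈ s, ∃ c : C, c • ra (q a) = a := fun a ha => (hq _ _).1 (h5 _ ⟨a, ha, rfl⟩).symm
  choose! k hk using h7
  have key : ∀ a ∈ s, ∀ c : C, c • ra (q a) = a → k a • rb (q a) = c • rb (q a) := fun a ha c hc => by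
    rw [← inv_smul_eq_iff, ← mul_smul, ← hst _ _ (h6 a ha), mul_smul, hk a ha, inv_smul_eq_iff, hc]
  have eqv : ∀ a ∈ s, ∀ c : C, k (c • a) • rb (q (c • a)) = c • k a • rb (q a) := fun a ha c => by
    rw [key _ (hs c a ha) (c * k a) (by rw [hq', mul_smul, hk a ha]), hq', mul_smul]
  have h8 : ∀ a ∈ s, ra (q a) ∈ s := fun a ha => by
    rw [← inv_smul_eq_iff.2 (hk a ha).symm]
    exact hs _ a ha
  refine ⟨fun a => k a • rb (q a), ⟨fun a ha => ht _ _ ((hm _ _ (h6 a ha)).1 (h8 a ha)), fun a ha a' ha' e => ?_,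
    fun b hb => ?_⟩, eqv, fun a ha => ⟨k a, _, _, h6 a ha, hk a ha, rfl⟩⟩
  · have e' : ((k a')⁻¹ * k a) • rb (q a) = rb (q a') := by rw [mul_smul, inv_smul_eq_iff]; exact e
    obtain ⟨c, hc⟩ := (ho _ _ _ _ (h6 a ha) (h6 a' ha')).2 ⟨_, e'⟩
    have h9 : q a' = q a := by rw [← h5 _ ⟨a', ha', rfl⟩, ← hc, hq', h5 _ ⟨a, ha, rfl⟩]
    rw [h9, ← hst _ _ (h6 a ha), mul_smul, inv_smul_eq_iff, hk a ha, ← h9, hk a' ha'] at e'
    exact e'
  · obtain ⟨c, a₁, b₁, h9, rfl⟩ := h2 b hb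
    have h10 : a₁ ∈ s := (hm _ _ h9).2 (by simpa using ht c⁻¹ _ hb)
    obtain ⟨d, hd⟩ := (ho _ _ _ _ (h6 a₁ h10) h9).1 ⟨_, hk a₁ h10⟩
    refine ⟨(c * d * (k a₁)⁻¹) • a₁, hs _ _ h10, ?_⟩
    change k _ • _ = _
    rw [eqv _ h10, mul_smul, inv_smul_smul, mul_smul, hd]

end Cr

variable {A : Type} [Group A] {H K M N T U V B Nt Nh C : Subgroup A} {a b c F : A}

/-! ### supplements -/

namespace Nq

/-- the map of a supplement onto the quotient -/
def qm (h : Nq N H) (hV : V ≤ H) : haveI := h.normal; V →* H ⧸ N.subgroupOf H :=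
  haveI := h.normal
  (QuotientGroup.mk' _).comp (inclusion hV)

theorem qm_eq_one (h : Nq N H) (hV : V ≤ H) (x : V) : haveI := h.normal; h.qm hV x = 1 ↔ (x : A) ∈ N :=
  haveI := h.normal
  QuotientGroup.eq_one_iff (N := N.subgroupOf H) _

theorem qm_surj (h : Nq N H) (hV : V ≤ H) (hs : ∀ x ∈ H, ∃ u ∈ N, ∃ v ∈ V, x = u * v) :
    Function.Surjective (h.qm hV) := by
  have := h.normal
  intro q
  obtain ⟨x, rfl⟩ := QuotientGroup.mk_surjective q
  obtain ⟨u, hu, v, hv, e⟩ := hs x x.2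
  refine ⟨⟨v, hv⟩, ?_⟩
  rw [show x = ⟨u, h.le hu⟩ * ⟨v, hV hv⟩ from Subtype.ext e, QuotientGroup.mk_mul,
    (QuotientGroup.eq_one_iff (⟨u, h.le hu⟩ : H)).2 hu, one_mul]
  rfl

theorem relIndex_eq (h : Nq N H) (hV : V ≤ H) (hs : ∀ x ∈ H, ∃ u ∈ N, ∃ v ∈ V, x = u * v) :
    N.relIndex V = N.relIndex H := by
  have := h.normal
  have h1 := index_ker (h.qm hV)
  rw [MonoidHom.range_eq_top.2 (h.qm_surj hV hs), card_top,
    show (h.qm hV).ker = N.subgroupOf V from Subgroup.ext fun x => h.qm_eq_one hV x] at h1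
  exact h1

/-- linear characters extend from a supplement -/
theorem exists_lin (h : Nq N H) (hV : V ≤ H) (hs : ∀ x ∈ H, ∃ u ∈ N, ∃ v ∈ V, x = u * v) {ν : V →* ℂˣ} (hν : Lin N ν) :
    ∃ μ : H →* ℂˣ, Lin N μ ∧ μ.comp (inclusion hV) = ν := by
  have := h.normal
  let φ := (h.qm hV).liftOfSurjective (h.qm_surj hV hs) ⟨ν, fun x hx => hν x ((h.qm_eq_one hV x).1 hx)⟩
  refine ⟨φ.comp (QuotientGroup.mk' _), fun x hx => ?_, MonoidHom.ext fun x => ?_⟩
  · rw [MonoidHom.comp_apply, QuotientGroup.mk'_apply, (QuotientGroup.eq_one_iff x).2 hx, map_one]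
  · exact MonoidHom.liftOfRightInverse_comp_apply _ _ (Function.rightInverse_surjInv (h.qm_surj hV hs)) _ x

theorem lin_inj (h : Nq N H) (hV : V ≤ H) (hs : ∀ x ∈ H, ∃ u ∈ N, ∃ v ∈ V, x = u * v) {μ μ' : H →* ℂˣ} (hμ : Lin N μ)
    (hμ' : Lin N μ') (e : μ.comp (inclusion hV) = μ'.comp (inclusion hV)) : μ = μ' := by
  refine MonoidHom.ext fun x => ?_
  obtain ⟨u, hu, v, hv, e'⟩ := hs x x.2
  rw [show x = ⟨u, h.le hu⟩ * inclusion hV ⟨v, hv⟩ from Subtype.ext e', map_mul, map_mul, hμ _ hu, hμ' _ hu]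
  exact congrArg _ (DFunLike.congr_fun e ⟨v, hv⟩)

end Nq

theorem card_relIndex (h : N ≤ H) : Nat.card N * N.relIndex H = Nat.card H := by
  rw [← Nat.card_congr (subgroupOfEquivOfLe h).toEquiv]
  exact card_mul_index _

namespace Cr

/-- **gluing** -/
theorem glue [Finite A] (hU : Nq U H) (hV : V ≤ H) (hM : U ⊓ V = M) (hs : ∀ x ∈ H, ∃ u ∈ U, ∃ v ∈ V, x = u * v)
    {σ : U → ℂ} {ρ : V → ℂ} {ϑ : M → ℂ} (hσ : IsCharacter U σ) (hρ : IsCharacter V ρ) (hϑ : IsIrrCharacter M ϑ)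
    (h1 : res M σ = ϑ) (h2 : res M ρ = ϑ) (hi : ∀ b ∈ H, Tr U b σ σ) :
    ∃ Ξ : H → ℂ, IsCharacter H Ξ ∧ res U Ξ = σ ∧ res V Ξ = ρ := by
  have hMU : M ≤ U := hM ▸ inf_le_left
  have hMV : M ≤ V := hM ▸ inf_le_right
  obtain ⟨Φ, h3, -, h4⟩ := exists_ind' hV hρ
  have h5 : IsClassFunction H (res H σ) := fun g x => by
    by_cases hg : (g : A) ∈ U
    · rw [res_apply σ g ⟨g, hg⟩ rfl, res_apply σ (x * g * x⁻¹) (cje (hU.nr x.2) ⟨g, hg⟩) rfl]
      exact hi x x.2 _ _ rfl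
    · rw [res_notMem σ hg, res_notMem σ fun e => hg ((hU.nr x.2 g).2 e)]
  have h6 : res V σ = res V ϑ := funext fun x => by
    by_cases hx : (x : A) ∈ U
    · have hx' : (x : A) ∈ M := hM ▸ ⟨hx, x.2⟩
      rw [res_apply σ x ⟨x, hx⟩ rfl, res_apply ϑ x ⟨x, hx'⟩ rfl, ← h1, res_apply σ (⟨x, hx'⟩ : M) ⟨x, hx⟩ rfl]
    · rw [res_notMem σ hx, res_notMem ϑ fun e => hx (hMU e)]
  have h7 := card_ip_res hU.le Φ σ
  have h8 := card_ip_res hMV ρ ϑ
  rw [h4 _ h5, res_res hV, h6, ← card_relIndex hU.le, ← hU.relIndex_eq hV hs, Nat.cast_mul, mul_assoc] at h7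
  rw [h2, ip_self hϑ, ← card_relIndex hMV, show M.relIndex V = U.relIndex V by rw [← hM, inf_relIndex_right],
    Nat.cast_mul, mul_assoc] at h8
  have h9 := (mul_left_cancel₀ card_ne_zero_complex h7).trans (mul_left_cancel₀ card_ne_zero_complex h8).symm
  obtain ⟨s, h10, h11, h12, -⟩ := hU.one h3 (irr_of_res hMU hσ (h1 ▸ hϑ)) h9 hi
  refine ⟨s, isIrr_isCharacter h10, h12, (eq_of_ip (irr_of_res hMV hρ (h2 ▸ hϑ))
    (irr_of_res hMV (res_char hV (isIrr_isCharacter h10)) ?_) ?_).symm⟩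
  · rw [res_res hMV, ← res_res hMU, h12, h1]
    exact hϑ
  · rwa [h4 _ (isIrr_isClassFunction h10)] at h11

/-- the action by conjugation -/
@[reducible] def cact (h : ∀ c ∈ C, Nr H c) : MulAction C (H → ℂ) where
  smul c f := f ∘ cje (h c c.2).inv
  one_smul f := funext fun x => congrArg f (Subtype.ext (by simp [cje_coe]))
  mul_smul c d f := funext fun x => congrArg f (Subtype.ext (by simp only [cje_coe, mul_assoc, _root_.Subgroup.coe_mul, _root_.mul_inv_rev, _root_.inv_inv]))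

theorem cact_iff (h : ∀ c ∈ C, Nr H c) (c : C) (f f' : H → ℂ) : (letI := cact h; c • f = f') ↔ Tr H c f f' :=
  ⟨fun e => by simpa using ((tr_iff (h c c.2).inv).2 e.symm).symm, fun t => ((tr_iff (h c c.2).inv).1 t.symm).symm⟩

end Cr

theorem stb_conj {θ θ' : N → ℂ} (hH : Nr H c) (hN : Nr N c) (t : Tr N c θ θ') {x : A} (hx : x ∈ Stb H N θ) :
    c * x * c⁻¹ ∈ Stb H N θ' :=
  ⟨(hH x).1 hx.1, (hN.mul hx.2.1).mul hN.inv, by
    have h1 := (t.symm.trans hN.inv hx.2.2).trans (Nr.mul hx.2.1 hN.inv) t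
    rwa [← mul_assoc] at h1⟩

theorem nr_stb {θ : N → ℂ} (hH : Nr H c) (hN : Nr N c) (t : Tr N c θ θ) : Nr (Stb H N θ) c := fun x =>
  ⟨stb_conj hH hN t, fun hx => by simpa [mul_assoc] using stb_conj hH.inv hN.inv t.symm hx⟩

theorem Cn.conj {z : A} (hz : Cn H z) (hH : Nr H c) : Cn H (c * z * c⁻¹) :=
  ⟨(hH z).1 hz.1, fun g hg => by
    have h1 := hz.2 _ ((hH.inv g).1 hg)
    calc c * z * c⁻¹ * g = c * (z * (c⁻¹ * g * c⁻¹⁻¹)) * c⁻¹ := by group
      _ = g * (c * z * c⁻¹) := by rw [h1]; group⟩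

/-! ### frames -/

namespace Fr

theorem le_t (h : Fr B N Nt Nh F) : N ≤ Nt := h.inf ▸ inf_le_left

theorem le_h (h : Fr B N Nt Nh F) : N ≤ Nh := h.inf ▸ inf_le_right

theorem nq (h : Fr B N Nt Nh F) : Nq N B := ⟨h.le_t.trans h.tB, h.nN⟩

theorem nrN (h : Fr B N Nt Nh F) (hb : b ∈ B) : Nr N b := nr_of_all h.nN hb

theorem nrT (h : Fr B N Nt Nh F) (hb : b ∈ B) : Nr Nt b := nr_of_all h.nT hb

/-- **the local frame** -/
theorem loc (h : Fr B N Nt Nh F) (hC : C ≤ B) (hs : ∀ b ∈ B, ∃ c ∈ C, ∃ g ∈ N, b = c * g) (hF : F ∈ C) :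
    Fr C (N ⊓ C) (Nt ⊓ C) (Nh ⊓ C) F := by
  have := h.nq.normal
  let q : B →* B ⧸ N.subgroupOf B := QuotientGroup.mk' _
  have hq : ∀ x y : B, q x = q y ↔ (x : A)⁻¹ * y ∈ N := fun x y => QuotientGroup.eq
  have hq1 : ∀ x : B, q x = 1 ↔ (x : A) ∈ N := fun x => QuotientGroup.eq_one_iff x
  have key : ∀ {W : Subgroup A}, N ≤ W → ∀ x : B, (x : A) ∈ W → ∃ y : B, (y : A) ∈ W ⊓ C ∧ q y = q x := by
    intro W hW x hx
    obtain ⟨c, hc, g, hg, e⟩ := hs x x.2
    refine ⟨⟨c, hC hc⟩, ⟨?_, hc⟩, (hq _ _).2 (by rw [e]; simpa using hg)⟩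
    rw [e] at hx
    exact (mul_mem_cancel_right (hW hg)).1 hx
  refine ⟨inf_le_right, inf_le_right, by rw [← h.inf, ← inf_inf_distrib_right], fun b hb => ?_,
    fun b hb x hx => ⟨h.nN b (hC hb) x hx.1, C.mul_mem (C.mul_mem hb hx.2) (C.inv_mem hb)⟩,
    fun b hb x hx => ⟨h.nT b (hC hb) x hx.1, C.mul_mem (C.mul_mem hb hx.2) (C.inv_mem hb)⟩, ?_, ?_, ⟨h.Fh, hF⟩,
    fun b hb => h.Fc b (hC hb), fun k hk => h.Ft k hk.1⟩
  · obtain ⟨t, ht, x, hx, e⟩ := h.sup b (hC hb)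
    obtain ⟨y, hy, e'⟩ := key h.le_h ⟨x, h.hB hx⟩ hx
    refine ⟨b * (y : A)⁻¹, ⟨?_, C.mul_mem hb (C.inv_mem hy.2)⟩, y, hy, by group⟩
    have h1 := h.nN y y.2 _ ((hq _ _).1 e')
    rw [e, mul_assoc]
    exact mul_mem ht (h.le_t (by simpa using h1))
  · obtain ⟨g, hg, h1⟩ := h.cyc
    obtain ⟨y, hy, e⟩ := key h.le_t ⟨g, h.tB hg⟩ hg
    refine ⟨y, hy, fun x hx => ?_⟩
    obtain ⟨k, z, hz, e'⟩ := h1 x hx.1
    refine ⟨k, ((y : A) ^ k)⁻¹ * x, ⟨(hq (y ^ k) ⟨x, hC hx.2⟩).1 ?_, C.mul_mem (C.inv_mem (C.pow_mem hy.2 k)) hx.2⟩, by group⟩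
    rw [map_pow, e, ← map_pow]
    exact (hq _ _).2 (by simpa [e'] using hz)
  · obtain ⟨φ, hφ, τ, hτ, h1, h2, h3⟩ := h.gen
    obtain ⟨y, hy, e⟩ := key h.le_h ⟨φ, h.hB hφ⟩ hφ
    obtain ⟨y', hy', e'⟩ := key h.le_h ⟨τ, h.hB hτ⟩ hτ
    refine ⟨y, hy, y', hy', ⟨(hq1 (y' * y')).1 ?_, mul_mem hy'.2 hy'.2⟩, ⟨(hq1 (y * y' * y⁻¹ * y'⁻¹)).1 ?_,
      C.mul_mem (C.mul_mem (C.mul_mem hy.2 hy'.2) (C.inv_mem hy.2)) (C.inv_mem hy'.2)⟩, fun x hx => ?_⟩
    · rw [map_mul, e', ← map_mul]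
      exact (hq1 _).2 h1
    · rw [map_mul, map_mul, map_mul, map_inv, map_inv, e, e', ← map_inv, ← map_inv, ← map_mul, ← map_mul, ← map_mul]
      exact (hq1 _).2 h2
    · obtain ⟨i, j, z, hz, e''⟩ := h3 x hx.1
      refine ⟨i, j, ((y : A) ^ i * (y' : A) ^ j)⁻¹ * x, ⟨(hq (y ^ i * y' ^ j) ⟨x, hC hx.2⟩).1 ?_,
        C.mul_mem (C.inv_mem (C.mul_mem (C.pow_mem hy.2 i) (C.pow_mem hy'.2 j))) hx.2⟩, by group⟩
      rw [map_mul, map_pow, map_pow, e, e', ← map_pow, ← map_pow, ← map_mul]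
      exact (hq _ _).2 (by simpa [e'', mul_assoc] using hz)

end Fr

section ovr

variable [Finite A] {χ χ' : H → ℂ} {θ θ' : N → ℂ}

theorem Aq.over_iff (h : Aq N H) (hχ : IsIrrCharacter H χ) (hχ' : IsIrrCharacter H χ') (hθ : IsIrrCharacter N θ)
    (hθ' : IsIrrCharacter N θ') (e : ip (res N χ) θ ≠ 0) (e' : ip (res N χ') θ' ≠ 0) (hH : Nr H c) (hN : Nr N c) :
    (∃ t ∈ H, Tr N (t * c) θ θ') ↔ ∃ μ : H →* ℂˣ, Lin N μ ∧ Tr H c χ fun x => (μ x : ℂ) * χ' x := by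
  constructor
  · rintro ⟨t, ht, h1⟩
    obtain ⟨χ₁, h2⟩ := exists_tr hH χ
    have h3 := h2.irr hH hχ
    have h4 := ((h2.trans hH (tr_of_mem ht (isIrr_isClassFunction h3))).res h.le).ip ((h.nr ht).mul hN) h1
    obtain ⟨μ, h5, rfl⟩ := h.twist' hχ' h3 hθ' e' (h4 ▸ e)
    exact ⟨μ, h5, h2⟩
  · rintro ⟨μ, h1, h2⟩
    obtain ⟨θ₁, h3⟩ := exists_tr hN θ
    have h4 := (h2.res h.le).ip hN h3
    rw [res_lin h.le h1] at h4
    obtain ⟨t, ht, h5⟩ := h.cnj hχ' (h3.irr hN hθ) hθ' (h4 ▸ e) e'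
    exact ⟨t, ht, h3.trans hN h5⟩

theorem Cq.stb_res_iff (h : Cq N H) (hχ : IsIrrCharacter H χ) (hH : Nr H c) (hN : Nr N c) :
    Tr N c (res N χ) (res N χ) ↔ ∃ μ : H →* ℂˣ, Lin N μ ∧ Tr H c χ fun x => (μ x : ℂ) * χ x := by
  constructor
  · intro h1
    obtain ⟨χ₁, h2⟩ := exists_tr hH χ
    obtain ⟨μ, h5, rfl⟩ := h.aq.twist hχ (h2.irr hH hχ) (by
      rw [(h2.res h.le).uniq hN h1, h.aq.ip_self hχ]
      exact Nat.cast_ne_zero.2 (h.yc_ne_zero hχ))
    exact ⟨μ, h5, h2⟩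
  · rintro ⟨μ, h1, h2⟩
    have h3 := h2.res h.le
    rwa [res_lin h.le h1] at h3

/-- the Clifford correspondent is multiplied by the same linear character -/
theorem cc_tr (h1 : N ≤ T) (h2 : T ≤ H) {s : T → ℂ} (hs : IsIrrCharacter T s) (hθ : IsIrrCharacter N θ)
    (e : ip (res T χ) s ≠ 0) (hr : res N s = θ)
    (hu : ∀ s', IsIrrCharacter T s' → ip (res T χ) s' ≠ 0 → ip (res N s') θ ≠ 0 → s' = s) (hT : Nr T c) (hN : Nr N c)
    (t : Tr N c θ θ) {μ : H →* ℂˣ} (hμ : Lin N μ) (t' : Tr H c χ fun x => (μ x : ℂ) * χ x) :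
    Tr T c s fun x => (μ (inclusion h2 x) : ℂ) * s x := by
  obtain ⟨s', h3⟩ := exists_tr hT s
  have h4 := (t'.res h2).ip hT h3
  have h5 := h3.res h1
  rw [hr] at h5
  have h6 : Lin N (μ.comp (inclusion h2))⁻¹ := fun x hx => by
    rw [MonoidHom.inv_apply, MonoidHom.comp_apply, hμ _ hx, inv_one]
  have h7 : ∀ (f : T → ℂ), (fun x => ((μ.comp (inclusion h2)) x : ℂ) * (((μ.comp (inclusion h2))⁻¹ x : ℂˣ) * f x)) = f :=
    fun f => funext fun x => by rw [MonoidHom.inv_apply, ← mul_assoc, Units.mul_inv, one_mul]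
  have h8 := hu _ (irr_lin (μ.comp (inclusion h2))⁻¹ (h3.irr hT hs)) (by
    rw [← ip_lin (μ.comp (inclusion h2)), h7, ← res_mul h2, h4]
    exact e) (by rw [res_lin h1 h6, h5.uniq hN t, ip_self hθ]; exact one_ne_zero)
  rw [← h7 s', funext_iff.1 h8 |> funext |> fun e => (by simp only [congrFun e] :
    (fun x => ((μ.comp (inclusion h2)) x : ℂ) * (((μ.comp (inclusion h2))⁻¹ x : ℂˣ) * s' x)) =
      fun x => ((μ.comp (inclusion h2)) x : ℂ) * s x)] at h3
  exact h3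

variable {ξ : Nt → ℂ}

theorem Good.tr (h : Nq N Nh) (g : Good N Nh F ξ θ) (hξ : IsClassFunction N (res N ξ)) {x : A}
    (hx : x ∈ Stb Nh N (res N ξ)) : Tr N x θ θ := by
  obtain ⟨-, -, η, h1, h2, -⟩ := g
  exact h2 ▸ (tr_of_mem hx (isCharacter_isClassFunction h1)).res (h.le_stb hξ)

theorem Fr.tr_good (h : Fr B N Nt Nh F) (hξ : IsIrrCharacter Nt ξ) (g : Good N Nh F ξ θ) {x : A}
    (hx : x ∈ Stb Nh N (res N ξ)) : Tr N x θ θ :=
  g.tr (h.nq.mono h.le_h h.hB) (isCharacter_isClassFunction (res_char h.le_t (isIrr_isCharacter hξ))) hx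

/-- **the stabiliser of a good constituent** -/
theorem Fr.stb_iff (h : Fr B N Nt Nh F) (hξ : IsIrrCharacter Nt ξ) (g : Good N Nh F ξ θ) {t x : A} (ht : t ∈ Nt)
    (hx : x ∈ Nh) : Tr N (t * x) θ θ ↔ t ∈ Stb Nt N θ ∧ x ∈ Stb Nh N (res N ξ) := by
  have h1 := h.nrN (h.hB hx)
  constructor
  · intro h2
    have h3 : x ∈ Stb Nh N (res N ξ) := ⟨hx, h1, (h.cq.stb_res_iff hξ (h.nrT (h.hB hx)) h1).2
      ((h.cq.aq.over_iff hξ hξ g.1 g.1 g.2.1 g.2.1 (h.nrT (h.hB hx)) h1).1 ⟨t, ht, h2⟩)⟩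
    refine ⟨⟨ht, h.nrN (h.tB ht), ?_⟩, h3⟩
    simpa using (h.tr_good hξ g h3).symm.trans h1.inv h2
  · rintro ⟨h2, h3⟩
    exact (h.tr_good hξ g h3).trans h1 h2.2.2

end ovr

/-! ### outer products -/

namespace Cr

/-- the outer product with the conjugate -/
noncomputable def ot (W : Subgroup (A × A)) (f : H → ℂ) (g : K → ℂ) : W → ℂ :=
  fun p => extendByZero H f p.1.1 * conj (extendByZero K g p.1.2)

variable {W W' : Subgroup (A × A)} {f : H → ℂ} {g : K → ℂ}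

theorem ot_apply (p : W) (x : H) (y : K) (h1 : (x : A) = p.1.1) (h2 : (y : A) = p.1.2) : ot W f g p = f x * conj (g y) := by
  rw [ot, ← h1, ← h2, extendByZero_of_mem _ _ x.2, extendByZero_of_mem _ _ y.2]

theorem ot_eq (h : W ≤ H.prod K) :
    ot W f g = (fun u : H × K => f u.1 * conj (g u.2)) ∘ (prodEquiv H K).toMonoidHom.comp (inclusion h) :=
  funext fun p => ot_apply p _ _ rfl rfl

theorem ot_char [Finite A] (h : W ≤ H.prod K) (hf : IsCharacter H f) (hg : IsCharacter K g) : IsCharacter W (ot W f g) :=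
  ot_eq h ▸ isCharacter_comp _ (S0188.isCharacter_outer hf (isCharacter_conj hg))

theorem ot_irr [Finite A] (hf : IsIrrCharacter H f) (hg : IsIrrCharacter K g) :
    IsIrrCharacter (H.prod K) (ot (H.prod K) f g) :=
  ot_eq (W := H.prod K) le_rfl ▸ isIrr_comp _ (fun u => ⟨(prodEquiv H K).symm u, (prodEquiv H K).apply_symm_apply u⟩)
    (S0188.isIrr_outer hf (isIrr_conj hg))

theorem res_ot (h : N.prod M ≤ W) (h1 : N ≤ H) (h2 : M ≤ K) :
    res (N.prod M) (ot W f g) = ot (N.prod M) (res N f) (res M g) := funext fun p => by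
  rw [res_of_le h, ot_apply p ⟨_, p.2.1⟩ ⟨_, p.2.2⟩ rfl rfl, res_of_le h1, res_of_le h2]
  exact ot_apply _ _ _ rfl rfl

end Cr

end Cfsg.Agent.MO.TA
end

-- part: MO/TA/B1b
section
/-!
# MO/TA, box `B1`: the bijection between the characters of `G` and of `G ⊓ C` (helper12)

* `Dat` : the hypotheses; `P₀` : pairs of good constituents;
* `Dat.stb`, `Dat.orb`, `Dat.tot`, `Dat.tot'`, `Dat.deg`, `Dat.cen` : the hypotheses of the orbit lemma;
* `ExtD`, `Dat.extD` : the character `θ × conj ψ` extends; `Dat.exists_bij`.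
-/

set_option autoImplicit false

namespace Cfsg.Agent.MO.TA.Cr

open Cfsg Subgroup Cfsg.Agent.Characters.Core
open scoped ComplexConjugate

variable {A : Type} [Group A] [Finite A] {l : ℕ} {B G Gt Gh C : Subgroup A} {F : A} {Z₀ : Set A}
  {S : Set (Gt → ℂ)} {S' : Set (↥(Gt ⊓ C) → ℂ)} {Ω : (Gt → ℂ) → ↥(Gt ⊓ C) → ℂ}

/-- the hypotheses -/
structure Dat (l : ℕ) (B G Gt Gh C : Subgroup A) (F : A) (Z₀ : Set A) (S : Set (Gt → ℂ)) (S' : Set (↥(Gt ⊓ C) → ℂ))
    (Ω : (Gt → ℂ) → ↥(Gt ⊓ C) → ℂ) : Prop where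
  fr : Fr B G Gt Gh F
  le : C ≤ B
  sup : ∀ b ∈ B, ∃ c ∈ C, ∃ g ∈ G, b = c * g
  FC : F ∈ C
  om : Om l G Gt C Z₀ S S' Ω
  gd : ∀ χ ∈ S, ∃ θ, Good G Gh F χ θ
  gd' : ∀ ψ ∈ S', ∃ θ, Good (G ⊓ C) (Gh ⊓ C) F ψ θ
  z0 : ∀ z ∈ Z₀, z ∈ G ⊓ C ∧ Cn Gt z
  zc : ∀ c ∈ C, ∀ z ∈ Z₀, c * z * c⁻¹ ∈ Z₀

/-- pairs of good constituents -/
def P₀ (G Gh : Subgroup A) (F : A) (S : Set (Gt → ℂ)) (Ω : (Gt → ℂ) → ↥(Gt ⊓ C) → ℂ) (θ : G → ℂ) (ψ : ↥(G ⊓ C) → ℂ) :
    Prop := ∃ χ ∈ S, Good G Gh F χ θ ∧ Good (G ⊓ C) (Gh ⊓ C) F (Ω χ) ψ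

/-- the characters which matter -/
def Ir (l : ℕ) (Z₀ : Set A) (H : Subgroup A) : Set (H → ℂ) := {θ | PI l H θ ∧ ∀ z : H, (z : A) ∈ Z₀ → θ z = θ 1}

/-- the same central character -/
def Cc (Gt : Subgroup A) (θ : G → ℂ) (ψ : ↥(G ⊓ C) → ℂ) : Prop :=
  ∀ z : ↥(G ⊓ C), Cn Gt z → ψ z * θ 1 = θ (inclusion inf_le_left z) * ψ 1

/-- the pairs with the same image modulo `G` -/
def Dg (G C : Subgroup A) (θ : G → ℂ) : Subgroup (A × A) where
  carrier := {p | p.2 ∈ Stb C G θ ∧ p.1 * p.2⁻¹ ∈ G}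
  one_mem' := ⟨one_mem _, by simp⟩
  mul_mem' := fun {p q} hp hq => ⟨mul_mem hp.1 hq.1, by
    have h := mul_mem hp.2 ((hp.1.2.1 _).1 hq.2)
    simpa only [mul_assoc, _root_.Prod.fst_mul, _root_.Prod.snd_mul, _root_.mul_inv_rev, _root_.inv_mul_cancel_left] using h⟩
  inv_mem' := fun {p} hp => ⟨inv_mem hp.1, by
    have h := (Nr.inv hp.1.2.1 _).1 (inv_mem hp.2)
    simpa [mul_assoc] using h⟩

/-- the character `θ × conj ψ` extends -/
def ExtD (Gt : Subgroup A) (F : A) (θ : G → ℂ) (ψ : ↥(G ⊓ C) → ℂ) : Prop :=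
  ∃ Ξ : Dg G C θ → ℂ, IsCharacter _ Ξ ∧
    (∀ (p : Dg G C θ) (g : G) (n : ↥(G ⊓ C)), (g : A) = p.1.1 → (n : A) = p.1.2 → Ξ p = θ g * conj (ψ n)) ∧
    (∀ p : Dg G C θ, p.1.1 = p.1.2 → Cn Gt p.1.2 ∨ p.1.2 = F → Ξ p = Ξ 1)

omit [Finite A] in
theorem Ir.tr {H : Subgroup A} {c : A} {θ θ' : H → ℂ} (h : θ ∈ Ir l Z₀ H) (hc : Nr H c) (t : Tr H c θ θ')
    (hz : ∀ z ∈ Z₀, c⁻¹ * z * c⁻¹⁻¹ ∈ Z₀) : θ' ∈ Ir l Z₀ H :=
  ⟨⟨t.irr hc h.1.1, t.deg ▸ h.1.2⟩, fun z hz' => by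
    rw [t.one, ← t.symm z (cje hc.inv z) rfl]
    exact h.2 _ (hz z hz')⟩

namespace Dat

variable (d : Dat l B G Gt Gh C F Z₀ S S' Ω) {χ χ' : Gt → ℂ} {θ θ' : G → ℂ} {ψ ψ' : ↥(G ⊓ C) → ℂ} {c : A}
include d

theorem fr' : Fr C (G ⊓ C) (Gt ⊓ C) (Gh ⊓ C) F := d.fr.loc d.le d.sup d.FC

theorem supT : ∀ x ∈ Gt, ∃ u ∈ G, ∃ v ∈ Gt ⊓ C, x = u * v := fun x hx => by
  obtain ⟨c, hc, g, hg, e⟩ := d.sup x (d.fr.tB hx)
  refine ⟨_, d.fr.nN c (d.le hc) g hg, c, ⟨?_, hc⟩, by rw [e, inv_mul_cancel_right]⟩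
  rw [e] at hx
  exact (mul_mem_cancel_right (d.fr.le_t hg)).1 hx

theorem irr (h : χ ∈ S) : IsIrrCharacter _ (Ω χ) := d.om.irr' _ (d.om.bij.1 h)

theorem lin_ext {ν : ↥(Gt ⊓ C) →* ℂˣ} (hν : Lin (G ⊓ C) ν) :
    ∃ μ : Gt →* ℂˣ, Lin G μ ∧ μ.comp (inclusion inf_le_left) = ν :=
  d.fr.cq.toNq.exists_lin inf_le_left d.supT fun x hx => hν x ⟨hx, x.2.2⟩

omit d [Finite A] in
theorem lin_res {μ : Gt →* ℂˣ} (hμ : Lin G μ) : Lin (G ⊓ C) (μ.comp (inclusion (inf_le_left : Gt ⊓ C ≤ Gt))) :=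
  fun _ hx => hμ _ hx.1

theorem tr_iff (hc : c ∈ C) (h : χ ∈ S) (h' : χ' ∈ S) : Tr Gt c χ χ' ↔ Tr (Gt ⊓ C) c (Ω χ) (Ω χ') := by
  refine ⟨fun t => (d.om.tr c hc χ h χ' t).2, fun t => ?_⟩
  obtain ⟨χ₁, h1⟩ := exists_tr (d.fr.nrT (d.le hc)) χ
  obtain ⟨h2, h3⟩ := d.om.tr c hc χ h χ₁ h1
  rwa [← d.om.bij.2.1 h2 h' (h3.uniq (d.fr'.nrT hc) t)]

theorem tw_iff (hc : c ∈ C) (h : χ ∈ S) (h' : χ' ∈ S) :
    (∃ μ : Gt →* ℂˣ, Lin G μ ∧ Tr Gt c χ fun x => (μ x : ℂ) * χ' x) ↔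
      ∃ ν : ↥(Gt ⊓ C) →* ℂˣ, Lin (G ⊓ C) ν ∧ Tr (Gt ⊓ C) c (Ω χ) fun x => (ν x : ℂ) * Ω χ' x := by
  constructor
  · rintro ⟨μ, h1, h2⟩
    obtain ⟨h3, h4⟩ := d.om.tw μ h1 χ' h'
    rw [d.tr_iff hc h h3, h4] at h2
    exact ⟨_, lin_res h1, h2⟩
  · rintro ⟨ν, h1, h2⟩
    obtain ⟨μ, h3, rfl⟩ := d.lin_ext h1
    obtain ⟨h4, h5⟩ := d.om.tw μ h3 χ' h'
    exact ⟨μ, h3, (d.tr_iff hc h h4).2 (h5 ▸ h2)⟩

theorem fix_iff (h : χ ∈ S) {μ : Gt →* ℂˣ} (hμ : Lin G μ) : (∀ x, (μ x : ℂ) * χ x = χ x) ↔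
    ∀ y, (μ.comp (inclusion (inf_le_left : Gt ⊓ C ≤ Gt)) y : ℂ) * Ω χ y = Ω χ y := by
  obtain ⟨h1, h2⟩ := d.om.tw μ hμ χ h
  refine ⟨fun e => ?_, fun e => congrFun (d.om.bij.2.1 h1 h (h2.trans (funext e)))⟩
  rw [funext e] at h2
  exact congrFun h2.symm

theorem yc_eq (h : χ ∈ S) : yc G χ = yc (G ⊓ C) (Ω χ) := by
  refine Nat.card_eq_of_bijective (fun μ => ⟨_, lin_res μ.2.1, (d.fix_iff h μ.2.1).1 μ.2.2⟩)
    ⟨fun μ μ' e => Subtype.ext (d.fr.cq.toNq.lin_inj inf_le_left d.supT μ.2.1 μ'.2.1 (congrArg (fun z => z.1) e)),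
      fun ν => ?_⟩
  obtain ⟨ν, h1, h2⟩ := ν
  obtain ⟨μ, h3, rfl⟩ := d.lin_ext h1
  exact ⟨⟨μ, h3, (d.fix_iff h h3).2 h2⟩, rfl⟩

/-- the stabilisers agree -/
theorem stb (h : P₀ G Gh F S Ω θ ψ) (hc : c ∈ C) : Tr G c θ θ ↔ Tr (G ⊓ C) c ψ ψ := by
  obtain ⟨χ, h1, g, g'⟩ := h
  obtain ⟨t, ht, x, hx, rfl⟩ := d.fr'.sup c hc
  have h2 := d.om.irr χ h1
  rw [d.fr.stb_iff h2 g ht.1 hx.1, d.fr'.stb_iff (d.irr h1) g' ht hx]
  refine and_congr ?_ ?_
  · rw [d.fr.cq.mem_stb h2 g.1 g.2.1 ⟨t, ht.1⟩, d.fr'.cq.mem_stb (d.irr h1) g'.1 g'.2.1 ⟨t, ht⟩]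
    refine ⟨fun h3 ν h4 h5 => ?_, fun h3 μ h4 h5 => h3 _ (lin_res h4) ((d.fix_iff h1 h4).1 h5)⟩
    obtain ⟨μ, h6, rfl⟩ := d.lin_ext h4
    exact h3 μ h6 ((d.fix_iff h1 h6).2 h5)
  · have h3 := d.fr.nrN (d.le hx.2)
    have h4 := d.fr'.nrN hx.2
    rw [mem_stb, mem_stb, d.fr.cq.stb_res_iff h2 (d.fr.nrT (d.le hx.2)) h3,
      d.fr'.cq.stb_res_iff (d.irr h1) (d.fr'.nrT hx.2) h4, d.tw_iff hx.2 h1 h1]
    exact ⟨fun h5 => ⟨hx, h4, h5.2.2⟩, fun h5 => ⟨hx.1, h3, h5.2.2⟩⟩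

theorem tr_loc (hθ : IsIrrCharacter G θ') (hc : c ∈ C) {t : A} (ht : t ∈ Gt) (h : Tr G (t * c) θ θ') :
    ∃ c' ∈ C, Tr G c' θ θ' := by
  obtain ⟨u, hu, v, hv, rfl⟩ := d.supT t ht
  refine ⟨v * c, C.mul_mem hv.2 hc, ?_⟩
  simpa [mul_assoc] using h.trans (d.fr.nrN (mul_mem (d.fr.tB ht) (d.le hc)))
    (tr_of_mem (inv_mem hu) (isIrr_isClassFunction hθ))

/-- the orbits correspond -/
theorem orb (h : P₀ G Gh F S Ω θ ψ) (h' : P₀ G Gh F S Ω θ' ψ') :
    (∃ c ∈ C, Tr G c θ θ') ↔ ∃ c ∈ C, Tr (G ⊓ C) c ψ ψ' := by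
  obtain ⟨χ, h1, g, g'⟩ := h
  obtain ⟨χ', h2, k, k'⟩ := h'
  have key : ∀ c ∈ C, (∃ t ∈ Gt, Tr G (t * c) θ θ') ↔ ∃ t ∈ Gt ⊓ C, Tr (G ⊓ C) (t * c) ψ ψ' := fun c hc => by
    rw [d.fr.cq.aq.over_iff (d.om.irr χ h1) (d.om.irr χ' h2) g.1 k.1 g.2.1 k.2.1 (d.fr.nrT (d.le hc)) (d.fr.nrN (d.le hc)),
      d.fr'.cq.aq.over_iff (d.irr h1) (d.irr h2) g'.1 k'.1 g'.2.1 k'.2.1 (d.fr'.nrT hc) (d.fr'.nrN hc), d.tw_iff hc h1 h2]
  constructor
  · rintro ⟨c, hc, t⟩
    obtain ⟨t', h3, h4⟩ := (key c hc).1 ⟨1, one_mem _, by rwa [one_mul]⟩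
    exact ⟨_, C.mul_mem h3.2 hc, h4⟩
  · rintro ⟨c, hc, t⟩
    obtain ⟨t', h3, h4⟩ := (key c hc).2 ⟨1, one_mem _, by rwa [one_mul]⟩
    exact d.tr_loc k.1 hc h3 h4

omit d in
theorem fac [Fact l.Prime] {N H : Subgroup A} (h : Cq N H) {χ : H → ℂ} {θ : N → ℂ} (hχ : IsIrrCharacter H χ)
    (hθ : IsIrrCharacter N θ) (e : ip (res N χ) θ ≠ 0) :
    (charDegree χ).factorization l = (yc N χ).factorization l + (charDegree θ).factorization l := by
  rw [h.deg hχ hθ e, Nat.factorization_mul (h.yc_ne_zero hχ) (deg_ne_zero hθ), Finsupp.add_apply]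

omit d in
theorem up [Fact l.Prime] {N H : Subgroup A} (h : Cq N H) {θ : N → ℂ} (hθ : θ ∈ Ir l Z₀ N)
    (hz : ∀ z ∈ Z₀, z ∈ N ∧ ∀ g ∈ H, z * g = g * z) : ∃ χ : H → ℂ, IsIrrCharacter H χ ∧ ip (res N χ) θ ≠ 0 ∧
      (∀ z : H, (z : A) ∈ Z₀ → χ z = χ 1) ∧ ¬ (yc N χ).factorization l < (charDegree χ).factorization l := by
  obtain ⟨χ, h1, h2⟩ := exists_over' h.le hθ.1.1
  refine ⟨χ, h1, h2, fun z hz' => ?_, ?_⟩
  · have h3 := cen_res h.le h1 hθ.1.1 h2 ⟨z, (hz z hz').1⟩ (hz z hz').2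
    rw [hθ.2 _ hz', mul_comm] at h3
    exact (mul_right_cancel₀ (isIrr_apply_one_ne_zero hθ.1.1) h3).symm
  · rw [fac h h1 hθ.1.1 h2, Nat.factorization_eq_zero_of_not_dvd hθ.1.2]
    exact lt_irrefl _

theorem tot [Fact l.Prime] (h : θ ∈ Ir l Z₀ G) : ∃ c ∈ C, ∃ θ₀ ψ₀, P₀ G Gh F S Ω θ₀ ψ₀ ∧ Tr G c θ₀ θ := by
  obtain ⟨χ, h1, h2, h3, h4⟩ := up d.fr.cq h fun z hz => ⟨(d.z0 z hz).1.1, (d.z0 z hz).2.2⟩
  have h5 : χ ∈ S := by_contra fun h5 => h4 (d.om.out χ h1 h5 h3)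
  obtain ⟨θ₀, g⟩ := d.gd χ h5
  obtain ⟨ψ₀, g'⟩ := d.gd' _ (d.om.bij.1 h5)
  obtain ⟨t, ht, h6⟩ := d.fr.cq.cnj h1 g.1 h.1.1 g.2.1 h2
  obtain ⟨c, hc, h7⟩ := d.tr_loc h.1.1 (one_mem C) ht (by rwa [mul_one])
  exact ⟨c, hc, θ₀, ψ₀, ⟨χ, h5, g, g'⟩, h7⟩

theorem tot' [Fact l.Prime] (h : ψ ∈ Ir l Z₀ (G ⊓ C)) :
    ∃ c ∈ C, ∃ θ₀ ψ₀, P₀ G Gh F S Ω θ₀ ψ₀ ∧ Tr (G ⊓ C) c ψ₀ ψ := by
  obtain ⟨ξ, h1, h2, h3, h4⟩ := up d.fr'.cq h fun z hz => ⟨(d.z0 z hz).1, fun g hg => (d.z0 z hz).2.2 g hg.1⟩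
  have h5 : ξ ∈ S' := by_contra fun h5 => h4 (d.om.out' ξ h1 h5 h3)
  obtain ⟨ψ₀, g'⟩ := d.gd' ξ h5
  obtain ⟨χ, h6, rfl⟩ := d.om.bij.2.2 h5
  obtain ⟨θ₀, g⟩ := d.gd χ h6
  obtain ⟨t, ht, h7⟩ := d.fr'.cq.cnj h1 g'.1 h.1.1 g'.2.1 h2
  exact ⟨t, ht.2, θ₀, ψ₀, ⟨χ, h6, g, g'⟩, h7⟩

theorem cen (h : P₀ G Gh F S Ω θ ψ) : Cc Gt θ ψ := by
  obtain ⟨χ, h1, g, g'⟩ := h
  intro z hz
  have h2 := cen_res d.fr.le_t (d.om.irr χ h1) g.1 g.2.1 (inclusion inf_le_left z) hz.2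
  have h3 := cen_res d.fr'.le_t (d.irr h1) g'.1 g'.2.1 z fun g hg => hz.2 g hg.1
  have h4 := d.om.cen χ h1 (inclusion d.fr'.le_t z) hz
  refine mul_right_cancel₀ (mul_ne_zero (isIrr_apply_one_ne_zero (d.om.irr χ h1)) (isIrr_apply_one_ne_zero (d.irr h1))) ?_
  have e : inclusion (inf_le_left : Gt ⊓ C ≤ Gt) (inclusion d.fr'.le_t z) =
      inclusion d.fr.le_t (inclusion (inf_le_left : G ⊓ C ≤ G) z) := rfl
  rw [e] at h4
  linear_combination (θ 1 * χ 1) * h3 + (θ 1 * ψ 1) * h4 - (ψ 1 * Ω χ 1) * h2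

theorem mem_iff [Fact l.Prime] (h : P₀ G Gh F S Ω θ ψ) : θ ∈ Ir l Z₀ G ↔ ψ ∈ Ir l Z₀ (G ⊓ C) := by
  have hc := d.cen h
  obtain ⟨χ, h1, g, g'⟩ := h
  have h2 := d.om.deg χ h1
  rw [fac d.fr.cq (d.om.irr χ h1) g.1 g.2.1, fac d.fr'.cq (d.irr h1) g'.1 g'.2.1, d.yc_eq h1, add_right_inj] at h2
  have h3 : ∀ n : ℕ, n ≠ 0 → (¬ l ∣ n ↔ n.factorization l = 0) := fun n hn =>
    ⟨Nat.factorization_eq_zero_of_not_dvd, fun e h => ((Fact.out : l.Prime).factorization_pos_of_dvd hn h).ne' e⟩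
  have h4 : ¬ l ∣ charDegree θ ↔ ¬ l ∣ charDegree ψ := by rw [h3 _ (deg_ne_zero g.1), h3 _ (deg_ne_zero g'.1), h2]
  refine ⟨fun h => ⟨⟨g'.1, h4.1 h.1.2⟩, fun z hz => ?_⟩, fun h => ⟨⟨g.1, h4.2 h.1.2⟩, fun z hz => ?_⟩⟩
  · have h5 := hc z (d.z0 z hz).2
    rw [h.2 (inclusion inf_le_left z) hz, mul_comm] at h5
    exact mul_left_cancel₀ (isIrr_apply_one_ne_zero g.1) h5
  · have h5 := hc ⟨z, (d.z0 z hz).1⟩ (d.z0 z hz).2
    rw [h.2 _ hz, mul_comm] at h5
    exact (mul_right_cancel₀ (isIrr_apply_one_ne_zero g'.1) h5).symm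

theorem tr_fst (hθ : IsClassFunction G θ) {p : A × A} (hp : p ∈ Dg G C θ) : p.1 ∈ B ∧ Tr G p.1 θ θ := by
  have e : p.1 = p.1 * p.2⁻¹ * p.2 := by group
  rw [e]
  exact ⟨mul_mem (d.fr.nq.le hp.2) (d.le hp.1.1), Tr.trans hp.1.2.1 hp.1.2.2 (tr_of_mem hp.2 hθ)⟩

/-- **the extension** -/
theorem extD₀ (h : P₀ G Gh F S Ω θ ψ) : ExtD Gt F θ ψ := by
  have hst := fun c hc => d.stb h (c := c) hc
  obtain ⟨χ, h1, g, g'⟩ := h
  have hχ := d.om.irr χ h1
  have hξ := d.irr h1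
  have hθ := isIrr_isClassFunction g.1
  have hT := d.fr.cq.le_stb hθ
  have hT' := d.fr'.cq.le_stb (isIrr_isClassFunction g'.1)
  have hR := (d.fr.nq.mono d.fr.le_h d.fr.hB).le_stb
    (isCharacter_isClassFunction (res_char d.fr.le_t (isIrr_isCharacter hχ)))
  have hR' := (d.fr'.nq.mono d.fr'.le_h d.fr'.hB).le_stb
    (isCharacter_isClassFunction (res_char d.fr'.le_t (isIrr_isCharacter hξ)))
  obtain ⟨s, s1, s2, s3, s4⟩ := d.fr.cq.cc hχ g.1 g.2.1 hT le_rfl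
  obtain ⟨s', t1, t2, t3, t4⟩ := d.fr'.cq.cc hξ g'.1 g'.2.1 hT' le_rfl
  have hfst : ∀ {W : Subgroup A}, G ≤ W → ∀ p ∈ Dg G C θ, p.2 ∈ W → p.1 ∈ W := fun hW p hp h2 => by
    simpa using mul_mem (hW hp.2) h2
  let U := Dg G C θ ⊓ (⊤ : Subgroup A).prod Gt
  let V := Dg G C θ ⊓ (⊤ : Subgroup A).prod Gh
  have hU : U ≤ (Stb Gt G θ).prod (Stb (Gt ⊓ C) (G ⊓ C) ψ) := fun p hp =>
    ⟨⟨hfst d.fr.le_t p hp.1 hp.2.2, d.fr.nrN (d.tr_fst hθ hp.1).1, (d.tr_fst hθ hp.1).2⟩,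
      ⟨hp.2.2, hp.1.1.1⟩, d.fr'.nrN hp.1.1.1, (hst _ hp.1.1.1).1 hp.1.1.2.2⟩
  have hV : V ≤ (Stb Gh G (res G χ)).prod (Stb (Gh ⊓ C) (G ⊓ C) (res (G ⊓ C) (Ω χ))) := fun p hp =>
    ⟨((d.fr.stb_iff hχ g (one_mem _) (hfst d.fr.le_h p hp.1 hp.2.2)).1
        (by rw [one_mul]; exact (d.tr_fst hθ hp.1).2)).2,
      ((d.fr'.stb_iff hξ g' (one_mem _) ⟨hp.2.2, hp.1.1.1⟩).1
        (by rw [one_mul]; exact (hst _ hp.1.1.1).1 hp.1.1.2.2)).2⟩
  have hM : U ⊓ V = G.prod (G ⊓ C) := by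
    ext p
    constructor
    · rintro ⟨h2, h3⟩
      have h4 : p.2 ∈ G := d.fr.inf.le ⟨h2.2.2, h3.2.2⟩
      exact ⟨hfst le_rfl p h2.1 h4, h4, h2.1.1.1⟩
    · rintro ⟨h2, h3⟩
      have h4 : p ∈ Dg G C θ := ⟨⟨h3.2, nr_of_mem h3.1, tr_of_mem h3.1 hθ⟩, G.mul_mem h2 (G.inv_mem h3.1)⟩
      exact ⟨⟨h4, mem_top _, d.fr.le_t h3.1⟩, h4, mem_top _, d.fr.le_h h3.1⟩
  have hMU : G.prod (G ⊓ C) ≤ U := hM ▸ inf_le_left
  have hMV : G.prod (G ⊓ C) ≤ V := hM ▸ inf_le_right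
  have hn : Nq U (Dg G C θ) := ⟨inf_le_left, fun b hb x hx =>
    ⟨(Dg G C θ).mul_mem (mul_mem hb hx.1) (inv_mem hb), mem_top _, d.fr.nT _ (d.le hb.1.1) _ hx.2.2⟩⟩
  obtain ⟨-, -, η, e1, e2, e3⟩ := id g
  obtain ⟨-, -, η', f1, f2, f3⟩ := id g'
  obtain ⟨Ξ, x1, x2, x3⟩ := glue (H := Dg G C θ) (σ := ot U s s') (ρ := ot V η η') hn inf_le_left hM
    (fun p hp => by
      obtain ⟨t, ht, x, hx, e⟩ := d.fr'.sup _ hp.1.1
      have h2 := d.fr.tr_good hχ g ((d.fr.stb_iff hχ g ht.1 hx.1).1 (e ▸ hp.1.2.2)).2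
      have h3 : ((x, x) : A × A) ∈ Dg G C θ := ⟨⟨hx.2, d.fr.nrN (d.le hx.2), h2⟩, by simp⟩
      exact ⟨p * (x, x)⁻¹, ⟨(Dg G C θ).mul_mem hp (inv_mem h3), mem_top _, by simpa [e] using ht.1⟩, (x, x), ⟨h3, mem_top _, hx.1⟩,
        by group⟩)
    (ot_char hU (isIrr_isCharacter s1) (isIrr_isCharacter t1)) (ot_char hV e1 f1) (ot_irr g.1 g'.1)
    (by rw [res_ot hMU hT hT', s3, t3]) (by rw [res_ot hMV hR hR', e2, f2]) (fun b hb p q e => by
      obtain ⟨h2, h3⟩ := d.tr_fst hθ hb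
      have h4 := hb.1.1
      have h5 := (hst _ h4).1 hb.1.2.2
      obtain ⟨μ, h6, h7⟩ := (d.fr.cq.aq.over_iff hχ hχ g.1 g.1 g.2.1 g.2.1 (d.fr.nrT (d.le h4)) (d.fr.nrN (d.le h4))).1
        ⟨1, one_mem _, by rw [one_mul]; exact hb.1.2.2⟩
      obtain ⟨h8, h9⟩ := d.om.tw μ h6 χ h1
      have h10 := (d.tr_iff h4 h1 h8).1 h7
      rw [h9] at h10
      have h11 := h7.trans (d.fr.nrT (d.le h4)) (tr_of_mem (d.fr.le_t hb.2) (isIrr_isClassFunction (d.om.irr _ h8)))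
      rw [inv_mul_cancel_right] at h11
      have h12 := cc_tr hT (stb_le θ) s1 g.1 s2 s3 s4 (nr_stb (d.fr.nrT h2) (d.fr.nrN h2) h3) (d.fr.nrN h2) h3 h6 h11
        ⟨_, (hU p.2).1⟩ ⟨_, (hU q.2).1⟩ (congrArg Prod.fst e)
      have h13 := cc_tr hT' (stb_le ψ) t1 g'.1 t2 t3 t4 (nr_stb (d.fr'.nrT h4) (d.fr'.nrN h4) h5) (d.fr'.nrN h4) h5
        (lin_res h6) h10 ⟨_, (hU p.2).2⟩ ⟨_, (hU q.2).2⟩ (congrArg Prod.snd e)
      have h14 : μ (inclusion (stb_le θ) ⟨_, (hU q.2).1⟩) =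
          μ.comp (inclusion inf_le_left) (inclusion (stb_le ψ) ⟨_, (hU q.2).2⟩) := by
        rw [← mul_inv_eq_one, MonoidHom.comp_apply, ← map_inv, ← map_mul]
        exact h6 _ q.2.1.2
      beta_reduce at h12 h13
      rw [ot_apply p ⟨_, (hU p.2).1⟩ ⟨_, (hU p.2).2⟩ rfl rfl, ot_apply q ⟨_, (hU q.2).1⟩ ⟨_, (hU q.2).2⟩ rfl rfl,
        ← h12, ← h13, ← h14, map_mul]
      have h15 := lin_mul_conj μ (inclusion (stb_le θ) ⟨_, (hU q.2).1⟩)
      linear_combination (-(s ⟨_, (hU q.2).1⟩ * conj (s' ⟨_, (hU q.2).2⟩))) * h15)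
  have hone : Ξ 1 = s 1 * conj (s' 1) := by rw [← res_one (H := U) Ξ, x2, ot_apply 1 1 1 rfl rfl]
  refine ⟨Ξ, x1, fun p x y e e' => ?_, fun p e hp => ?_⟩
  · have h2 : p.1 ∈ G.prod (G ⊓ C) := ⟨e ▸ x.2, e' ▸ y.2⟩
    rw [← res_apply Ξ (⟨p, h2⟩ : G.prod (G ⊓ C)) p rfl, ← res_res hMU, x2, res_ot hMU hT hT', s3, t3]
    exact ot_apply _ _ _ e e'
  · rcases hp with hp | hp
    · have h2 : p.1 ∈ U := ⟨p.2, mem_top _, hp.1⟩
      rw [← res_apply Ξ (⟨p, h2⟩ : U) p rfl, x2, ot_apply (⟨p, h2⟩ : U) ⟨_, (hU h2).1⟩ ⟨_, (hU h2).2⟩ rfl rfl, hone]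
      have h3 := cen_res (stb_le θ) hχ s1 s2 ⟨_, (hU h2).1⟩ fun g hg => by
        change p.1.1 * g = g * p.1.1
        rw [e, hp.2 g hg]
      have h4 := cen_res (stb_le ψ) hξ t1 t2 ⟨_, (hU h2).2⟩ fun g hg => hp.2 g hg.1
      have h5 := d.om.cen χ h1 (inclusion (stb_le ψ) ⟨_, (hU h2).2⟩) hp
      obtain ⟨w, h6, h7⟩ := exists_omega hχ (z := ⟨_, hp.1⟩) fun g => Subtype.ext (hp.2 g g.2)
      have h8 := h7 1
      rw [mul_one] at h8
      rw [show inclusion (stb_le θ) ⟨_, (hU h2).1⟩ = ⟨_, hp.1⟩ from Subtype.ext e, h8] at h3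
      rw [show inclusion (inf_le_left : Gt ⊓ C ≤ Gt) (inclusion (stb_le ψ) ⟨_, (hU h2).2⟩) = ⟨_, hp.1⟩ from rfl, h8] at h5
      have h9 : s ⟨_, (hU h2).1⟩ = w * s 1 := mul_right_cancel₀ (isIrr_apply_one_ne_zero hχ) (by linear_combination h3)
      have h10 : s' ⟨_, (hU h2).2⟩ = w * s' 1 :=
        mul_right_cancel₀ (mul_ne_zero (isIrr_apply_one_ne_zero hχ) (isIrr_apply_one_ne_zero hξ))
          (by linear_combination χ 1 * h4 + s' 1 * h5)
      rw [h9, h10, map_mul]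
      linear_combination (s 1 * conj (s' 1)) * h6
    · have h2 : p.1 ∈ V := ⟨p.2, mem_top _, hp ▸ d.fr.Fh⟩
      rw [← res_apply Ξ (⟨p, h2⟩ : V) p rfl, ← res_one (H := V) Ξ, x3,
        ot_apply (⟨p, h2⟩ : V) ⟨_, (hV h2).1⟩ ⟨_, (hV h2).2⟩ rfl rfl, ot_apply 1 1 1 rfl rfl, e3 _ (e.trans hp), f3 _ hp]

theorem extD_tr (hc : c ∈ C) (t : Tr G c θ θ') (t' : Tr (G ⊓ C) c ψ ψ') (h : ExtD Gt F θ ψ) : ExtD Gt F θ' ψ' := by
  obtain ⟨Ξ, h1, h2, h3⟩ := h
  have hG := (d.fr.nrN (d.le hc)).inv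
  let φ : Dg G C θ' →* Dg G C θ := MonoidHom.mk' (fun p => ⟨(c⁻¹ * p.1.1 * c⁻¹⁻¹, c⁻¹ * p.1.2 * c⁻¹⁻¹),
    stb_conj (nr_of_mem (inv_mem hc)) hG t.symm p.2.1, by simpa only [mul_assoc, _root_.inv_inv, _root_.mul_inv_rev, _root_.mul_inv_cancel_left] using (hG _).1 p.2.2⟩)
    fun p q => Subtype.ext (Prod.ext (by simp only [mul_assoc, _root_.Subgroup.coe_mul, _root_.Prod.fst_mul, _root_.inv_inv, _root_.MulMemClass.mk_mul_mk, _root_.Prod.mk_mul_mk, _root_.mul_inv_cancel_left]) (by simp only [mul_assoc, _root_.Subgroup.coe_mul, _root_.Prod.snd_mul, _root_.inv_inv, _root_.MulMemClass.mk_mul_mk, _root_.Prod.mk_mul_mk, _root_.mul_inv_cancel_left]))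
  refine ⟨Ξ ∘ φ, isCharacter_comp φ h1, fun p x y e e' => ?_, fun p e hp => ?_⟩
  · rw [Function.comp, h2 (φ p) (cje hG x) (cje (d.fr'.nrN hc).inv y) (by rw [cje_coe, e]; rfl) (by rw [cje_coe, e']; rfl),
      t.symm x _ rfl, t'.symm y _ rfl]
  · rw [Function.comp, Function.comp, map_one]
    refine h3 _ (congrArg (fun x => c⁻¹ * x * c⁻¹⁻¹) e) (hp.imp (fun hp => hp.conj (d.fr.nrT (d.le hc)).inv) fun hp => ?_)
    change c⁻¹ * p.1.2 * c⁻¹⁻¹ = F
    rw [hp, inv_inv, mul_assoc, d.fr.Fc c (d.le hc), inv_mul_cancel_left]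

theorem cc_cnj (hc : c ∈ C) (t : Tr G c θ θ') (t' : Tr (G ⊓ C) c ψ ψ') (h : Cc Gt θ ψ) : Cc Gt θ' ψ' := fun z hz => by
  rw [t.one, t'.one, ← t'.symm z (cje (d.fr'.nrN hc).inv z) rfl, h _ (hz.conj (d.fr.nrT (d.le hc)).inv),
    t.symm (inclusion inf_le_left z) _ rfl]

/-- **the bijection** -/
theorem exists_bij [Fact l.Prime] : ∃ Ω₁ : (G → ℂ) → ↥(G ⊓ C) → ℂ, Set.BijOn Ω₁ (Ir l Z₀ G) (Ir l Z₀ (G ⊓ C)) ∧
    (∀ θ ∈ Ir l Z₀ G, ∀ c ∈ C, ∀ θ', Tr G c θ θ' → Tr (G ⊓ C) c (Ω₁ θ) (Ω₁ θ')) ∧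
    ∀ θ ∈ Ir l Z₀ G, Cc Gt θ (Ω₁ θ) ∧ ExtD Gt F θ (Ω₁ θ) := by
  have hG : ∀ c ∈ C, Nr G c := fun c hc => d.fr.nrN (d.le hc)
  have hN : ∀ c ∈ C, Nr (G ⊓ C) c := fun c hc => d.fr'.nrN hc
  let _ := cact hG
  let _ := cact hN
  have eG : ∀ (c : C) (f f' : G → ℂ), c • f = f' ↔ Tr G c f f' := cact_iff hG
  have eN : ∀ (c : C) (f f' : ↥(G ⊓ C) → ℂ), c • f = f' ↔ Tr (G ⊓ C) c f f' := cact_iff hN
  obtain ⟨Ω₁, h1, h2, h3⟩ := exists_equi (C := C) (s := Ir l Z₀ G) (t := Ir l Z₀ (G ⊓ C)) (P := P₀ G Gh F S Ω)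
    (fun c a ha => Ir.tr ha (hG c c.2) ((eG _ _ _).1 rfl) (d.zc _ (inv_mem c.2)))
    (fun c a ha => Ir.tr ha (hN c c.2) ((eN _ _ _).1 rfl) (d.zc _ (inv_mem c.2)))
    (fun _ _ h => d.mem_iff h) (fun _ _ h c => by rw [eG, eN, d.stb h c.2])
    (fun _ _ _ _ h h' => by simpa only [eG, eN, Subtype.exists, exists_prop] using d.orb h h')
    (fun a ha => by
      obtain ⟨c, hc, θ₀, ψ₀, h, t⟩ := d.tot ha
      exact ⟨⟨c, hc⟩, θ₀, ψ₀, h, (eG _ _ _).2 t⟩)
    (fun a ha => by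
      obtain ⟨c, hc, θ₀, ψ₀, h, t⟩ := d.tot' ha
      exact ⟨⟨c, hc⟩, θ₀, ψ₀, h, (eN _ _ _).2 t⟩)
  refine ⟨Ω₁, h1, fun θ hθ c hc θ' t => ?_, fun θ hθ => ?_⟩
  · rw [← (eG ⟨c, hc⟩ _ _).2 t, h2 θ hθ]
    exact (eN ⟨c, hc⟩ _ _).1 rfl
  · obtain ⟨c, θ₀, ψ₀, h, t, t'⟩ := h3 θ hθ
    rw [eG] at t
    rw [eN] at t'
    exact ⟨d.cc_cnj c.2 t t' (d.cen h), d.extD_tr c.2 t t' (d.extD₀ h)⟩

end Dat

end Cfsg.Agent.MO.TA.Cr
end

-- part: MO/TA/B1
section
/-!
# MO/TA, box `B1`: the criterion (helper12)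

* `Cr.extOn_of` : `ExtD` gives `ExtOn`; `Cr.exists_cd` : the Clifford data `CD`; `b1 : B1`.
-/

set_option autoImplicit false

namespace Cfsg.Agent.MO.TA

open Cfsg Subgroup Cfsg.Agent.Characters.Core
open Cfsg.Agent.MK (Ov Fa Cj In Nm St rs Supp ExtOn)
open scoped ComplexConjugate

namespace Cr

variable {A : Type} [Group A] [Finite A] {l : ℕ} {B G Gt Gh C : Subgroup A} {F : A}
  {S : Set (Gt → ℂ)} {S' : Set (↥(Gt ⊓ C) → ℂ)} {Ω : (Gt → ℂ) → ↥(Gt ⊓ C) → ℂ}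
  {X : Type} [Group X] [Finite X] {π : G →* X} {a : B →* MulAut X} {Λ : Subgroup (MulAut X)}

/-- the hypotheses on the action -/
structure Ac (B G Gt Gh C : Subgroup A) (F : A) (π : G →* X) (a : B →* MulAut X) (Λ : Subgroup (MulAut X)) : Prop where
  fr : Fr B G Gt Gh F
  le : C ≤ B
  zC : ∀ z, Cn Gt z → z ∈ C
  FC : F ∈ C
  act : Act B G Gt F π a
  up : ∀ α ∈ Λ, ∃ c : B, (c : A) ∈ C ∧ a c = α
  inn : ∀ n : G, (n : A) ∈ C → MulAut.conj (π n) ∈ Λ

omit [Finite A] [Finite X] in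
theorem a_eq (h : Act B G Gt F π a) (b : B) (g : G) (e : (b : A) = g) : a b = MulAut.conj (π g) := by
  ext x
  obtain ⟨x, rfl⟩ := h.surj x
  rw [← h.act b x (g * x * g⁻¹) (by rw [e]; rfl), map_mul, map_mul, map_inv, MulAut.conj_apply]

namespace Ac

variable (d : Ac B G Gt Gh C F π a Λ)
include d

omit [Finite A] [Finite X]

/-- the map of `G ⊓ C` onto `In Λ` -/
def pl : ↥(G ⊓ C) →* In Λ := (π.comp (inclusion inf_le_left)).codRestrict (In Λ) fun n => d.inn _ n.2.2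

theorem pl_coe (n : ↥(G ⊓ C)) : (d.pl n : X) = π (inclusion inf_le_left n) := rfl

theorem ker_le {b : B} (h : a b = 1) : (b : A) ∈ C := by
  obtain ⟨z, hz, k, e⟩ := d.act.kera b h
  exact e ▸ mul_mem (d.zC z hz) (pow_mem d.FC k)

theorem mem_C {g : G} (h : MulAut.conj (π g) ∈ Λ) : (g : A) ∈ C := by
  obtain ⟨c, hc, e⟩ := d.up _ h
  have h1 := d.ker_le (b := ⟨g, d.fr.nq.le g.2⟩ * c⁻¹) (by rw [map_mul, map_inv, e, a_eq d.act _ g rfl, mul_inv_cancel])
  exact (mul_mem_cancel_right (inv_mem hc)).1 h1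

theorem pl_surj : Function.Surjective d.pl := fun y => by
  obtain ⟨g, hg⟩ := d.act.surj y
  exact ⟨⟨g, g.2, d.mem_C (hg ▸ y.2)⟩, Subtype.ext hg⟩

theorem cn_of {g : G} (h : π g ∈ center X) : Cn Gt g := by
  obtain ⟨z, hz, k, e⟩ := d.act.kera ⟨g, d.fr.nq.le g.2⟩ ((a_eq d.act _ g rfl).trans (MK.E.conj_eq_one_iff.2 h))
  have h1 : F ^ k ∈ Gt := (mul_mem_cancel_left hz.1).1 (e ▸ d.fr.le_t g.2)
  rw [d.fr.Ft k h1, mul_one] at e
  exact (show (g : A) = z from e) ▸ hz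

theorem trA (c : B) (θ : X → ℂ) : Tr G c ((fun x => θ (a c x)) ∘ π) (θ ∘ π) := fun x y e =>
  congrArg θ (d.act.act c x y e)

theorem trB (c : B) {α : Λ} (e : a c = α) (ψ : In Λ → ℂ) :
    Tr (G ⊓ C) c ((fun y => ψ (rs Λ α y)) ∘ d.pl) (ψ ∘ d.pl) := fun x y e' =>
  congrArg ψ (Subtype.ext (by rw [MK.rs_coe, ← e]; exact d.act.act c _ _ e'))

end Ac

omit [Finite X] in
/-- **the extension property** -/
theorem extOn_of (d : Ac B G Gt Gh C F π a Λ) {θ : X → ℂ} {ψ : In Λ → ℂ} (hθ : IsClassFunction X θ)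
    (h : ExtD Gt F (θ ∘ π) (ψ ∘ d.pl)) : ExtOn Λ (St Λ θ) θ ψ := by
  obtain ⟨Ξ, h1, h2, h3⟩ := h
  obtain ⟨A', _, r, Ψ, hΨ, hr, hk⟩ := MK.E.exists_faith h1
  have hc : IsClassFunction G (θ ∘ π) := fun g h => by
    simp only [Function.comp, map_mul, map_inv]
    exact hθ _ _
  have hst : ∀ n : ↥(G ⊓ C), (n : A) ∈ Stb C G (θ ∘ π) := fun n => ⟨n.2.2, nr_of_mem n.2.1, tr_of_mem n.2.1 hc⟩
  let i : G × ↥(G ⊓ C) →* Dg G C (θ ∘ π) := (G.subtype.prodMap (G ⊓ C).subtype).codRestrict _ fun u =>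
    ⟨hst u.2, G.mul_mem u.1.2 (G.inv_mem u.2.2.1)⟩
  have hs : Function.Surjective (π.prodMap d.pl) := d.act.surj.prodMap d.pl_surj
  let j : X × In Λ →* A' := (π.prodMap d.pl).liftOfSurjective hs ⟨r.comp i, fun u hu => hk _ (by
    rw [h2 _ u.1 u.2 rfl rfl, h2 1 1 1 rfl rfl, Function.comp, Function.comp, Function.comp, Function.comp, map_one,
      map_one, show π u.1 = 1 from congrArg Prod.fst hu, show d.pl u.2 = 1 from congrArg Prod.snd hu])⟩
  have hj : ∀ g n, j (π g, d.pl n) = r (i (g, n)) := fun g n =>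
    MonoidHom.liftOfRightInverse_comp_apply _ _ (Function.rightInverse_surjInv hs) _ (g, n)
  let dg : Stb C G (θ ∘ π) →* Dg G C (θ ∘ π) := ((Stb C G (θ ∘ π)).subtype.prod (Stb C G (θ ∘ π)).subtype).codRestrict _
    fun c => ⟨c.2, by simp⟩
  let ac : Stb C G (θ ∘ π) →* MulAut X := a.comp (inclusion ((stb_le _).trans d.le))
  have key : ∀ c c', ac c = ac c' → r (dg c) = r (dg c') := by
    intro c c' e
    obtain ⟨z, hz, k, e'⟩ := d.act.kera (inclusion ((stb_le _).trans d.le) (c⁻¹ * c'))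
      (by change ac _ = 1; rw [map_mul, map_inv, e, inv_mul_cancel])
    have hz' : z ∈ Stb C G (θ ∘ π) :=
      ⟨d.zC z hz, d.fr.nrN (d.fr.tB hz.1), tr_of_comm (fun x hx => hz.2 x (d.fr.le_t hx)) _⟩
    have hF : F ∈ Stb C G (θ ∘ π) :=
      ⟨d.FC, d.fr.nrN (d.le d.FC), tr_of_comm (fun x hx => d.fr.Fc x (d.fr.nq.le hx)) _⟩
    rw [← mul_inv_cancel_left c c', show c⁻¹ * c' = ⟨z, hz'⟩ * ⟨F, hF⟩ ^ k from Subtype.ext e', map_mul, map_mul, map_mul,
      map_mul, map_pow, map_pow, hk _ (h3 (dg ⟨z, hz'⟩) rfl (Or.inl hz)), hk _ (h3 (dg ⟨F, hF⟩) rfl (Or.inr rfl)),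
      one_pow, mul_one, mul_one]
  have hS : ∀ α : St Λ θ, ∃ c, ac c = α := fun α => by
    obtain ⟨c, h4, h5⟩ := d.up α.1 α.2.1
    have h6 := d.trA c θ
    rw [h5, funext α.2.2] at h6
    exact ⟨⟨c, h4, d.fr.nrN c.2, h6⟩, h5⟩
  choose s hs' using hS
  let t : St Λ θ →* A' := MonoidHom.mk' (fun α => r (dg (s α))) fun α β => by
    rw [← map_mul, ← map_mul]
    exact key _ _ (by rw [map_mul, hs', hs', hs']; rfl)
  refine ⟨A', inferInstance, j, t, Ψ, hΨ, fun x y => ?_, fun α x y y' e => ?_, fun y hy => ?_⟩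
  · obtain ⟨g, rfl⟩ := d.act.surj x
    obtain ⟨n, rfl⟩ := d.pl_surj y
    rw [hj, hr]
    exact h2 _ g n rfl rfl
  · obtain ⟨g, rfl⟩ := d.act.surj x
    obtain ⟨n, rfl⟩ := d.pl_surj y
    have h4 : Nr G (s α) := (s α).2.2.1
    have h5 : Nr (G ⊓ C) (s α) := h4.inf (nr_of_mem (s α).2.1)
    have h6 : ∀ x : G, α.1 (π x) = π (cje h4 x) := fun x => by
      rw [← hs' α]
      exact (d.act.act _ _ _ rfl).symm
    rw [h6, show y' = d.pl (cje h5 n) from Subtype.ext (e.trans (h6 _)), hj, hj]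
    change r _ * _ = _ * r _
    rw [← map_mul, ← map_mul]
    exact congrArg r (Subtype.ext (Prod.ext (inv_mul_cancel_right _ _).symm (inv_mul_cancel_right _ _).symm))
  · obtain ⟨n, rfl⟩ := d.pl_surj y
    exact (key _ ⟨n, hst n⟩ ((hs' _).trans (a_eq d.act _ (inclusion inf_le_left n) rfl).symm)).trans
      (hj (inclusion inf_le_left n) n).symm

omit [Finite X] in
/-- **the Clifford data** -/
theorem exists_cd [Fact l.Prime] (d : Ac B G Gt Gh C F π a Λ)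
    (e : Dat l B G Gt Gh C F (Subtype.val '' (π.ker : Set G)) S S' Ω) (lam : X → ℂ) : ∃ Ω', CD l Λ lam Ω' := by
  obtain ⟨Ω₁, h1, h2, h3⟩ := e.exists_bij
  have hZ : ∀ {H : Subgroup A} (h : H ≤ G) (z : H), (z : A) ∈ Subtype.val '' (π.ker : Set G) ↔ π (inclusion h z) = 1 :=
    fun h z => ⟨fun ⟨y, hy, e⟩ => by rwa [show inclusion h z = y from Subtype.ext e.symm], fun hz => ⟨_, hz, rfl⟩⟩
  have hA : ∀ θ, PI l X θ → θ ∘ π ∈ Ir l (Subtype.val '' (π.ker : Set G)) G := fun θ h =>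
    ⟨h.comp π d.act.surj, fun z hz => by
      rw [Function.comp, Function.comp, map_one, show π z = 1 from (hZ le_rfl z).1 hz]⟩
  have hB : ∀ ψ, PI l (In Λ) ψ → ψ ∘ d.pl ∈ Ir l (Subtype.val '' (π.ker : Set G)) (G ⊓ C) := fun ψ h =>
    ⟨h.comp d.pl d.pl_surj, fun z hz => by
      rw [Function.comp, Function.comp, map_one, show d.pl z = 1 from Subtype.ext ((hZ inf_le_left z).1 hz)]⟩
  have desc : ∀ {H Y : Type} [Group H] [Finite H] [Group Y] (φ : H →* Y), Function.Surjective φ → ∀ f, PI l H f →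
      (∀ z, φ z = 1 → f z = f 1) → ∃ η, PI l Y η ∧ η ∘ φ = f := by
    intro H Y _ _ _ φ hφ f hf hk
    obtain ⟨η, h4, h5⟩ := ODD.Red.exists_quot φ hφ hf.1 hk
    refine ⟨η, ⟨h4, ?_⟩, funext h5⟩
    rw [charDegree, ← map_one φ, h5]
    exact hf.2
  let Ω' : (X → ℂ) → In Λ → ℂ := fun θ => Ω₁ (θ ∘ π) ∘ Function.surjInv d.pl_surj
  have hΩ : ∀ θ, PI l X θ → PI l (In Λ) (Ω' θ) ∧ Ω' θ ∘ d.pl = Ω₁ (θ ∘ π) := fun θ h => by
    have h4 := h1.1 (hA θ h)
    obtain ⟨η, h5, h6⟩ := desc d.pl d.pl_surj _ h4.1 fun z hz => h4.2 z ((hZ inf_le_left z).2 (congrArg Subtype.val hz))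
    have h7 : Ω' θ = η := funext fun y => by
      change Ω₁ (θ ∘ π) _ = _
      rw [← h6, Function.comp, Function.surjInv_eq d.pl_surj]
    rw [h7]
    exact ⟨h5, h6⟩
  have inj : ∀ θ θ', PI l X θ → PI l X θ' → Ω' θ = Ω' θ' → θ = θ' := fun θ θ' h h' e =>
    d.act.surj.injective_comp_right (h1.2.1 (hA θ h) (hA θ' h') (by rw [← (hΩ θ h).2, ← (hΩ θ' h').2, e]))
  have eqv : ∀ θ, PI l X θ → ∀ α : Λ, Ω' (fun x => θ (α.1 x)) = fun y => Ω' θ (rs Λ α y) := fun θ h α => by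
    obtain ⟨c, hc, e'⟩ := d.up α.1 α.2
    have h4 := E.pi_comp h α.1
    have h5 := h2 _ (hA _ h4) c hc _ (e' ▸ d.trA c θ)
    rw [← (hΩ θ h).2, ← (hΩ _ h4).2] at h5
    exact d.pl_surj.injective_comp_right (h5.uniq' (e.fr'.nrN hc) (d.trB c e' _))
  have cen : ∀ θ, PI l X θ → ∀ y : In Λ, (y : X) ∈ center X → Ω' θ y * θ 1 = θ y * Ω' θ 1 := fun θ h y hy => by
    obtain ⟨n, rfl⟩ := d.pl_surj y
    have h4 := (h3 _ (hA θ h)).1 n (d.cn_of (g := inclusion inf_le_left n) hy)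
    rw [← (hΩ θ h).2] at h4
    simpa only [Function.comp, map_one, d.pl_coe] using h4
  refine ⟨Ω', ⟨fun θ h => ⟨(hΩ θ h.1).1, fun y hy => ?_, fun α hα => ?_⟩, fun θ h θ' h' => inj θ θ' h.1 h'.1,
    fun ψ h => ?_⟩, fun θ h α => congrFun (eqv θ h.1 α), fun θ h => ?_⟩
  · have h4 := cen θ h.1 y hy
    rw [h.2.1 y hy] at h4
    exact mul_right_cancel₀ h.1.one_ne (by linear_combination h4)
  · have h4 := eqv θ h.1 α
    rw [funext (h.2.2 α.1 α.2 (hα.imp fun k hk => congrArg Subtype.val hk))] at h4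
    exact congrFun h4.symm
  · obtain ⟨θ₁, h4, h5⟩ := h1.2.2 (hB ψ h.1)
    obtain ⟨θ, h6, rfl⟩ := desc π d.act.surj _ h4.1 fun z hz => h4.2 z ((hZ le_rfl z).2 hz)
    have h7 : Ω' θ = ψ := d.pl_surj.injective_comp_right ((hΩ θ h6).2.trans h5)
    refine ⟨θ, ⟨h6, fun z hz => ?_, fun α hα hk => ?_⟩, h7⟩
    · have h8 : z ∈ In Λ := by
        change MulAut.conj z ∈ Λ
        rw [MK.E.conj_eq_one_iff.2 hz]
        exact one_mem _
      have h9 := cen θ h6 ⟨z, h8⟩ hz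
      rw [h7, h.2.1 ⟨z, h8⟩ hz] at h9
      exact mul_right_cancel₀ h.1.one_ne (by linear_combination -h9)
    · have h8 := eqv θ h6 ⟨α, hα⟩
      rw [h7, funext (h.2.2 ⟨α, hα⟩ (hk.imp fun k hk => Subtype.ext hk)), ← h7] at h8
      exact congrFun (inj _ _ (E.pi_comp h6 α) h6 h8)
  · exact extOn_of d (isIrr_isClassFunction h.1.1) ((hΩ θ h.1).2 ▸ (h3 _ (hA θ h.1)).2)

end Cr

open Cr in
/-- **box B1** -/
theorem b1 : B1 := by
  intro l _ A _ _ B G Gt Gh C F X _ _ π a Γ S S' Ω fr lc ac om gd gd' s hΓ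
  let Λ : Subgroup (MulAut X) := Γ ⊓ (C.subgroupOf B).map a
  have d : Ac B G Gt Gh C F π a Λ := ⟨fr, lc.le, lc.zC, lc.FC, ac, fun α hα => hα.2,
    fun n hn => ⟨s.inn _, ⟨n, fr.nq.le n.2⟩, hn, a_eq ac _ n rfl⟩⟩
  have e : Dat l B G Gt Gh C F (Subtype.val '' (π.ker : Set G)) S S' Ω := ⟨fr, lc.le, lc.sup, lc.FC, om, gd, gd',
    by rintro _ ⟨z, hz, rfl⟩; exact ⟨⟨z.2, lc.zC _ (ac.kerπ z hz)⟩, ac.kerπ z hz⟩, by
      rintro c hc _ ⟨z, hz, rfl⟩
      refine ⟨cje (fr.nrN (lc.le hc)) z, ?_, rfl⟩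
      change π _ = 1
      rw [ac.act ⟨c, lc.le hc⟩ z _ rfl, show π z = 1 from hz, map_one]⟩
  obtain ⟨P, h1, h2, h3, h4⟩ := lc.syl
  have h5 : IsPGroup l (P.subgroupOf G) := h2.comap_subtype
  have h6 := nd_of_dvd h3 (index_map_dvd (P.subgroupOf G) ac.surj)
  refine ⟨Λ, (h5.map π).toSylow h6, inf_le_left, fun h => lc.ne fun g hg => d.mem_C (g := ⟨g, hg⟩) (h ▸ s.inn _),
    fun α hα => ⟨hα.1, ?_⟩, MO.C.stepC X Γ Λ s ⟨inf_le_left, fun α hα => ?_⟩ fun lam _ => exists_cd d e lam⟩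
  · obtain ⟨b, rfl⟩ := hΓ hα.1
    refine ⟨b, h4 b b.2 fun x hx => ?_, rfl⟩
    obtain ⟨p, hp, e'⟩ := (hα.2 (π ⟨x, h1 hx⟩)).2 ⟨_, hx, rfl⟩
    rw [← ac.act b ⟨x, h1 hx⟩ (cje (fr.nrN b.2) ⟨x, h1 hx⟩) rfl] at e'
    have h7 := ac.kerπ (p⁻¹ * cje (fr.nrN b.2) ⟨x, h1 hx⟩) (by rw [map_mul, map_inv, e', inv_mul_cancel])
    have h8 : cje (fr.nrN b.2) ⟨x, h1 hx⟩ ∈ normalizer ((h5.toSylow h3 : Subgroup G) : Set G) := by
      rw [← mul_inv_cancel_left p (cje _ _)]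
      exact mul_mem (le_normalizer hp) (center_le_normalizer _ (mem_center_iff.2 fun g =>
        Subtype.ext (h7.2 g (fr.le_t g.2)).symm))
    exact (((h5.map (cje (fr.nrN b.2)).toMonoidHom).inf_normalizer_sylow (h5.toSylow h3)).le ⟨⟨_, hx, rfl⟩, h8⟩).2
  · obtain ⟨b, rfl⟩ := hΓ hα
    obtain ⟨c, hc, g, hg, e'⟩ := lc.sup b b.2
    have h7 : a b = MulAut.conj (π (cje (fr.nrN (lc.le hc)) ⟨g, hg⟩)) * a ⟨c, lc.le hc⟩ := by
      rw [← a_eq ac ⟨_, fr.nq.le (cje (fr.nrN (lc.le hc)) ⟨g, hg⟩).2⟩ _ rfl, ← map_mul]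
      exact congrArg a (Subtype.ext (e'.trans (inv_mul_cancel_right _ _).symm))
    exact ⟨_, _, ⟨(mul_mem_cancel_left (s.inn _)).1 (h7 ▸ hα), _, hc, rfl⟩, h7⟩

end Cfsg.Agent.MO.TA
end

-- part: MO/TA/GRel
section
/-!
# MO, types `A` and `²A`, box G: the action of a unit on the labels (helper95)

The first part is a copy of the beginning of `H623/XZ/Fld` (with light imports).

* `sg` : the permutation `o ↦ o ^ r` of the orbits; `rel Q M r` : the homomorphism `X (k, c) ↦ X (k, r c)`;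
* `evR_rel` : `evR (rel x) lam = evR x (lam ∘ σ⁻¹)`;
* `evR_mulL` : the values of the label `mulL t k`;
* `evR_shiftL` : the values of the label `shiftL t ha`.
-/

set_option autoImplicit false
set_option linter.unusedSectionVars false

namespace Cfsg.Agent.MO.TA.G

open MvPolynomial
open Cfsg.Agent.H577.GLB.Std Cfsg.Agent.H614.GLn Cfsg.Agent.H615.GU Cfsg.Agent.H421.GU
open Cfsg.Agent.H112.GLB (shiftL schP_mem_hom)

section orb

variable {K : Type} [Field K] {θ : K →*₀ ℂ} {Q : ℤ} {M : ℕ} {r : ℕ}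

theorem pow_zpow_comm (x : Kˣ) (z : ℤ) : (x ^ r) ^ z = (x ^ z) ^ r := by
  rw [← zpow_natCast, ← zpow_natCast, ← zpow_mul, ← zpow_mul, mul_comm]

/-- the map `o ↦ o ^ r` on the orbits -/
def sgf (K : Type) [Field K] (Q : ℤ) (r : ℕ) : Orb K Q → Orb K Q :=
  Quotient.map (fun x : Kˣ => x ^ r) fun x y ⟨i, j, h⟩ => ⟨i, j, by
    show (x ^ r) ^ (Q ^ i) = (y ^ r) ^ (Q ^ j)
    rw [pow_zpow_comm, pow_zpow_comm, h]⟩

theorem sgf_mk (x : Kˣ) : sgf K Q r (Quotient.mk (orbSetoid K Q) x) = Quotient.mk (orbSetoid K Q) (x ^ r) := rfl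

variable [Finite K] (hM : Nat.card Kˣ = M) (hQ : IsUnit (Q : ZMod M)) (hr : r.Coprime M)

include hM hr in
theorem pow_inj : Function.Injective fun x : Kˣ => x ^ r := by
  have h : (Nat.card Kˣ).Coprime r := by rw [hM]; exact hr.symm
  exact (powCoprime h).injective

include hM hr in
theorem pow_surj : Function.Surjective fun x : Kˣ => x ^ r := by
  have h : (Nat.card Kˣ).Coprime r := by rw [hM]; exact hr.symm
  exact (powCoprime h).surjective

include hM hQ hr in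
theorem sgf_bij : Function.Bijective (sgf K Q r) := by
  constructor
  · intro o o' h
    induction o using Quotient.inductionOn with
    | _ x =>
    induction o' using Quotient.inductionOn with
    | _ y =>
      rw [sgf_mk, sgf_mk] at h
      obtain ⟨i, hi⟩ := (mk_eq_iff hM hQ).1 h
      rw [pow_zpow_comm] at hi
      exact (mk_eq_iff hM hQ).2 ⟨i, pow_inj hM hr hi⟩
  · intro o
    induction o using Quotient.inductionOn with
    | _ x =>
      obtain ⟨y, hy⟩ := pow_surj hM hr x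
      exact ⟨Quotient.mk _ y, by rw [sgf_mk]; exact congrArg _ hy⟩

/-- the permutation `o ↦ o ^ r` of the orbits -/
noncomputable def sg : Orb K Q ≃ Orb K Q := Equiv.ofBijective _ (sgf_bij hM hQ hr)

theorem sg_mk (x : Kˣ) : sg hM hQ hr (Quotient.mk (orbSetoid K Q) x) = Quotient.mk (orbSetoid K Q) (x ^ r) := rfl

theorem dOrb_sg (o : Orb K Q) : dOrb K Q (sg hM hQ hr o) = dOrb K Q o := by
  induction o using Quotient.inductionOn with
  | _ x =>
    have h : ∀ k, dOrb K Q (Quotient.mk (orbSetoid K Q) (x ^ r)) ∣ k ↔ dOrb K Q (Quotient.mk (orbSetoid K Q) x) ∣ k := by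
      intro k
      rw [dOrb_dvd_iff hM hQ, dOrb_dvd_iff hM hQ, pow_zpow_comm]
      exact ⟨fun h => pow_inj hM hr h, fun h => by rw [h]⟩
    exact Nat.dvd_antisymm ((h _).2 dvd_rfl) ((h _).1 dvd_rfl)

omit [Finite K] in
theorem torZ_mul' {k : ℕ} {c : ZMod M} (h : TorZ Q M k c) (u : ZMod M) : TorZ Q M k (u * c) := by
  rw [TorZ] at h ⊢
  rw [mul_left_comm, h, mul_zero]

variable [NeZero M]

omit [Finite K] in
theorem pow_expoZ_nat {k : ℕ} {x : Kˣ} (hx : x ^ (Q ^ k) = x) {c : ZMod M} (h : TorZ Q M k c) :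
    x ^ expoZ Q M k ((r : ZMod M) * c) = (x ^ r) ^ expoZ Q M k c := by
  have hM0 : (M : ℤ) ≠ 0 := by exact_mod_cast NeZero.ne M
  rw [← zpow_natCast x r, ← zpow_mul]
  refine pow_of_level hx ?_
  have h1 := expoZ_mul h
  have h2 := expoZ_mul (torZ_mul' h (r : ZMod M))
  have h4 : (M : ℤ) ∣ (((r : ZMod M) * c).val : ℤ) - r * c.val := by
    rw [← ZMod.intCast_zmod_eq_zero_iff_dvd]
    push_cast
    rw [ZMod.natCast_zmod_val, ZMod.natCast_zmod_val]
    ring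
  obtain ⟨t, ht⟩ := h4
  refine ⟨t, mul_right_cancel₀ hM0 ?_⟩
  linear_combination h2 - r * h1 + (Q ^ k - 1) * ht

theorem thO_nat {k : ℕ} {c : ZMod M} (hc : TorZ Q M k c) {o : Orb K Q} (ho : dOrb K Q o ∣ k) :
    thO θ Q M k ((r : ZMod M) * c) o = thO θ Q M k c (sg hM hQ hr o) := by
  have hd := dOrb_sg hM hQ hr o
  induction o using Quotient.inductionOn with
  | _ x =>
    rw [sg_mk] at hd ⊢
    rw [thO_mk hM hQ, thO_mk hM hQ, hd]
    refine Finset.sum_congr rfl fun i _ => ?_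
    have hxi : (x ^ (Q ^ i)) ^ (Q ^ k) = x ^ (Q ^ i) := by
      rw [← zpow_mul, mul_comm, zpow_mul, (dOrb_dvd_iff hM hQ x k).1 ho]
    rw [pow_expoZ_nat (r := r) hxi hc, pow_zpow_comm x (Q ^ i)]

/-- relabelling the types -/
noncomputable def Sg : Module.End ℂ (Ty (Orb K Q) → ℂ) where
  toFun f lam := f (Finsupp.equivMapDomain (sg hM hQ hr) lam)
  map_add' _ _ := rfl
  map_smul' _ _ := rfl

omit [NeZero M] in
theorem Sg_apply (f : Ty (Orb K Q) → ℂ) (lam : Ty (Orb K Q)) :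
    Sg hM hQ hr f lam = f (Finsupp.equivMapDomain (sg hM hQ hr) lam) := rfl

omit [NeZero M] in
theorem lft_Sg (A : Module.End ℂ (Col → ℂ)) (o : Orb K Q) (f : Ty (Orb K Q) → ℂ) :
    lft o A (Sg hM hQ hr f) = Sg hM hQ hr (lft (sg hM hQ hr o) A f) := by
  classical
  funext lam
  rw [H531.GU.lft_apply, Sg_apply, H531.GU.lft_apply, Finsupp.equivMapDomain_apply, Equiv.symm_apply_apply]
  refine congrFun (congrArg A (_root_.funext fun c => ?_)) _
  rw [Sg_apply]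
  congr 1
  ext1 o'
  rw [Finsupp.equivMapDomain_apply, Finsupp.coe_update, Finsupp.coe_update, Function.update_apply, Function.update_apply,
    Finsupp.equivMapDomain_apply]
  by_cases h : o' = sg hM hQ hr o
  · rw [if_pos h, if_pos (by rw [h, Equiv.symm_apply_apply])]
  · rw [if_neg h, if_neg (fun h' => h (by rw [← h', Equiv.apply_symm_apply]))]

omit [NeZero M] in
theorem Sg_vac : Sg hM hQ hr (H615.GU.vac : Ty (Orb K Q) → ℂ) = H615.GU.vac := by
  classical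
  funext lam
  rw [Sg_apply]
  unfold H615.GU.vac
  have h : Finsupp.equivMapDomain (sg hM hQ hr) lam = 0 ↔ lam = 0 := by
    constructor
    · intro h
      ext1 o
      have h1 := DFunLike.congr_fun h (sg hM hQ hr o)
      rw [Finsupp.equivMapDomain_apply, Equiv.symm_apply_apply] at h1
      rw [h1]
      rfl
    · rintro rfl
      ext1 o
      rw [Finsupp.equivMapDomain_apply]
      rfl
  by_cases h0 : lam = 0
  · rw [if_pos (h.2 h0), if_pos h0]
  · rw [if_neg (fun h' => h0 (h.1 h')), if_neg h0]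

theorem Pop_Sg {c : ZMod M} {k : ℕ} (hc : TorZ Q M k c) (f : Ty (Orb K Q) → ℂ) :
    Pop θ Q M k ((r : ZMod M) * c) (Sg hM hQ hr f) = Sg hM hQ hr (Pop θ Q M k c f) := by
  classical
  have : Fintype (Orb K Q) := Fintype.ofFinite _
  unfold Pop
  rw [finsum_eq_sum_of_fintype, finsum_eq_sum_of_fintype, LinearMap.sum_apply, LinearMap.sum_apply, map_sum]
  refine Eq.trans (Finset.sum_congr rfl fun o _ => ?_) (Equiv.sum_comp (sg hM hQ hr) (fun o => Sg hM hQ hr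
    ((if 0 < k ∧ dOrb K Q o ∣ k then thO θ Q M k c o • lft o (Pl ((Q : ℂ) ^ dOrb K Q o) (k / dOrb K Q o)) else 0) f)))
  simp only [dOrb_sg]
  split_ifs with h
  · simp only [LinearMap.smul_apply, LinearMap.smul_apply, lft_Sg, thO_nat hM hQ hr hc h.2, map_smul]
  · rw [LinearMap.zero_apply, LinearMap.zero_apply, map_zero]

end orb

section rel

variable {Q : ℤ} {M : ℕ}

/-- the labels multiplied by `u` -/
noncomputable def rel (Q : ℤ) (M : ℕ) (u : ZMod M) : RS M →ₐ[ℂ] RS M := aeval fun v : Var M => rv Q M v.1 (u * v.2)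

variable [NeZero M] (hQ : IsUnit (Q : ZMod M))

omit [NeZero M] in
theorem same_mul (u : ZMod M) {c c' : ZMod M} (h : SameZ Q M c c') : SameZ Q M (u * c) (u * c') := by
  obtain ⟨j, rfl⟩ := h
  exact ⟨j, by ring⟩

theorem perZ_mul (k : (ZMod M)ˣ) (c : ZMod M) : perZ Q M (k * c) = perZ Q M c := by
  have key : ∀ j : ℕ, perZ Q M (k * c) ∣ j ↔ perZ Q M c ∣ j := by
    intro j
    rw [← RSt.pow_mul_eq_iff, ← RSt.pow_mul_eq_iff, mul_left_comm, Units.mul_right_inj]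
  exact Nat.dvd_antisymm ((key _).2 dvd_rfl) ((key _).1 dvd_rfl)

theorem torZ_unit (u : (ZMod M)ˣ) (k : ℕ) (c : ZMod M) : TorZ Q M k (u * c) ↔ TorZ Q M k c := by
  rw [RSt.torZ_iff, RSt.torZ_iff, perZ_mul]

include hQ

theorem rel_rv (u : (ZMod M)ˣ) (k : ℕ) (c : ZMod M) : rel Q M u (rv Q M k c) = rv Q M k (u * c) := by
  by_cases h : 0 < k ∧ TorZ Q M k c
  · have h1 : rv Q M k c = X (k, canon Q M c) := by rw [rv, if_pos h]
    rw [h1, rel, aeval_X]
    exact (H157.GLB.rv_congr hQ (same_mul _ (RSt.sameZ_canon c)) k).symm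
  · have h1 : rv Q M k c = 0 := by rw [rv, if_neg h]
    have h2 : rv Q M k (u * c) = 0 := by rw [rv, if_neg (by rw [torZ_unit]; exact h)]
    rw [h1, h2, map_zero]

theorem rel_Pw (u : (ZMod M)ˣ) (j : ℕ) (c : ZMod M) : rel Q M u (Pw Q M j c) = Pw Q M j (u * c) := by
  rw [Pw, Pw, rel_rv hQ, perZ_mul]

theorem rel_Sch (u : (ZMod M)ˣ) {m : ℕ} (c : ZMod M) (β : Fin m → ℕ) :
    rel Q M u (Sch Q M c β) = Sch Q M (u * c) β := by
  unfold Sch
  rw [map_sum]
  refine Finset.sum_congr rfl fun ν _ => ?_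
  rw [map_smul, map_multiset_prod, Multiset.map_map]
  congr 2
  exact Multiset.map_congr rfl fun j _ => rel_Pw hQ u j c

theorem rel_SchP (u : (ZMod M)ˣ) {m : ℕ} (t : ZMod M → Fin m → ℕ) (ht : ∀ c, t ((Q : ZMod M) * c) = t c) :
    rel Q M u (SchP Q M fun c => t (u * c)) = SchP Q M t := by
  unfold SchP
  rw [map_prod]
  refine Finset.prod_nbij' (fun c => canon Q M (u * c)) (fun c => canon Q M ((u⁻¹ : (ZMod M)ˣ) * c)) ?_ ?_ ?_ ?_ ?_
  · intro c _
    rw [Finset.mem_filter]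
    exact ⟨Finset.mem_univ _, RSt.canon_canon hQ _⟩
  · intro c _
    rw [Finset.mem_filter]
    exact ⟨Finset.mem_univ _, RSt.canon_canon hQ _⟩
  · intro c hc
    rw [Finset.mem_filter] at hc
    have h1 := same_mul ((u⁻¹ : (ZMod M)ˣ) : ZMod M) (RSt.sameZ_canon (Q := Q) ((u : ZMod M) * c))
    rw [Units.inv_mul_cancel_left] at h1
    rw [← RSt.canon_eq_of_same hQ h1, hc.2]
  · intro c hc
    rw [Finset.mem_filter] at hc
    have h1 := same_mul (u : ZMod M) (RSt.sameZ_canon (Q := Q) (((u⁻¹ : (ZMod M)ˣ) : ZMod M) * c))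
    rw [Units.mul_inv_cancel_left] at h1
    rw [← RSt.canon_eq_of_same hQ h1, hc.2]
  · intro c _
    have h1 := RSt.sameZ_canon (Q := Q) ((u : ZMod M) * c)
    rw [rel_Sch hQ, H157.GLB.tup_congr ht h1]
    exact H157.GLB.Sch_congr hQ h1 _

end rel

section main

variable {K : Type} [Field K] {θ : K →*₀ ℂ} {Q : ℤ} {M : ℕ}
variable [Finite K] (hM : Nat.card Kˣ = M) (hQ : IsUnit (Q : ZMod M)) [NeZero M]

/-- **the relabelled evaluation** -/
theorem evR_rel (u : (ZMod M)ˣ) {x : RS M} (hx : x ∈ GenR Q M) (lam : Ty (Orb K Q)) :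
    evR θ Q M (rel Q M u x) lam =
      evR θ Q M x (Finsupp.equivMapDomain (sg hM hQ (ZMod.val_coe_unit_coprime u)) lam) := by
  have hr := ZMod.val_coe_unit_coprime u
  suffices h : evR θ Q M (rel Q M u x) = Sg hM hQ hr (evR θ Q M x) by rw [h, Sg_apply]
  have hmul := fun (v : Var M) (x : RS M) => H531.GU.evR_X_mul θ Q M H521.GU.i2s v x
  rw [GenR, ← Subalgebra.mem_toSubmodule, Algebra.adjoin_eq_span] at hx
  induction hx using Submodule.span_induction with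
  | zero => simp only [_root_.map_zero]
  | add x y _ _ hx hy => simp only [map_add, map_add, map_add, map_add, hx, hy]
  | smul c x _ hx => simp only [map_smul, map_smul, map_smul, map_smul, hx]
  | mem x hx =>
    induction hx using Submonoid.closure_induction_left with
    | one =>
      rw [map_one, evR_one]
      exact (Sg_vac hM hQ hr).symm
    | mul_left y hy x _ ih =>
      obtain ⟨⟨k, c⟩, rfl⟩ := hy
      rw [map_mul]
      show evR θ Q M (rel Q M u (rv Q M k c) * rel Q M u x) = Sg hM hQ hr (evR θ Q M (rv Q M k c * x))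
      rw [rel_rv hQ]
      by_cases h : 0 < k ∧ TorZ Q M k c
      · have hrc := torZ_mul' h.2 (u : ZMod M)
        have h1 : rv Q M k c = X (k, canon Q M c) := by rw [rv, if_pos h]
        have h2 : rv Q M k (u * c) = X (k, canon Q M (u * c)) := by rw [rv, if_pos ⟨h.1, hrc⟩]
        rw [h2, h1, hmul, hmul, Pop_canon hM hQ hrc, Pop_canon hM hQ h.2, ih, ← Pop_Sg hM hQ hr h.2,
          ZMod.natCast_zmod_val]
      · have h1 : rv Q M k c = 0 := by rw [rv, if_neg h]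
        have h2 : rv Q M k (u * c) = 0 := by rw [rv, if_neg (by rw [torZ_unit]; exact h)]
        rw [h1, h2, zero_mul, zero_mul, map_zero, map_zero]

include hM hQ in
/-- **the values of the label multiplied by a unit** -/
theorem evR_mulL {m n : ℕ} (t : LabZ Q M m n) (u : (ZMod M)ˣ) {lam lam' : Ty (Orb K Q)}
    (h : ∀ x : Kˣ, lam' (Quotient.mk (orbSetoid K Q) (x ^ (u : ZMod M).val)) = lam (Quotient.mk (orbSetoid K Q) x)) :
    evR θ Q M (SchP Q M (mulL t u).t) lam' = evR θ Q M (SchP Q M t.t) lam := by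
  have hr := ZMod.val_coe_unit_coprime u
  have h1 : lam' = Finsupp.equivMapDomain (sg hM hQ hr) lam := by
    ext1 o
    obtain ⟨o, rfl⟩ := (sg hM hQ hr).surjective o
    induction o using Quotient.inductionOn with
    | _ x => rw [Finsupp.equivMapDomain_apply, Equiv.symm_apply_apply, sg_mk, h]
  rw [h1, ← evR_rel hM hQ u (schP_mem_hom hQ (mulL t u)).1, ← rel_SchP hQ u t.t t.orb]
  rfl

include hM hQ in
/-- **the values of the translated label** -/
theorem evR_shiftL {m n : ℕ} (t : LabZ Q M m n) {a : ZMod M} (ha : TorZ Q M 1 a) (lam : Ty (Orb K Q)) :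
    evR θ Q M (SchP Q M (shiftL t ha).t) lam = linT θ Q M a lam * evR θ Q M (SchP Q M t.t) lam := by
  rw [← evR_twist hM hQ (H531.GU.evR_X_mul θ Q M H521.GU.i2s) ha (schP_mem_hom hQ t).1,
    H157.GLB.twist_SchP hQ a ha t.t t.orb]
  rfl

end main

end Cfsg.Agent.MO.TA.G
end

-- part: MO/TA/GDeg
section
/-!
# MO, types `A` and `²A`, box G: the degrees (helper95)

Copies of short proofs of `H794/EM/Main`, `LV/A/Num`, `LV/A/Tow`, `BZ/A/Deg2` (with light imports).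

* `JT_val` : the Jacobi-Trudi determinant of the sequence `s ^ k / ph T k`;
* `vz_PB` : the hook formula for the valuation;
* `deg_val` : the valuation of the value at the type of the identity.
-/

set_option autoImplicit false
set_option linter.unusedSectionVars false

namespace Cfsg.Agent.MO.TA.G

open Finset Cfsg.Agent.H614 Cfsg.Agent.H794.EM Cfsg.Agent.H577.GLB.Std Cfsg.Agent.H614.GLn.RSt Cfsg.Agent.H615.GU
open Cfsg.Agent.H614.GLn hiding bsz
open Cfsg.Agent.H112.GLB (schP_mem_hom)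

section ints

theorem PH_cast (Q : ℤ) (n : ℕ) : ((PH Q n : ℤ) : ℂ) = ph (Q : ℂ) n := by
  rw [PH, ph, Int.cast_prod]
  exact Finset.prod_congr rfl fun i _ => by push_cast; rfl

theorem pow_ne_one {Q : ℤ} (h : 2 ≤ |Q|) {i : ℕ} (hi : 0 < i) : Q ^ i ≠ 1 := by
  intro h1
  have h2 : |Q| ^ i = 1 := by rw [← abs_pow, h1, abs_one]
  have h3 : 1 < |Q| ^ i := one_lt_pow₀ (by linarith) hi.ne'
  omega

theorem PH_ne {Q : ℤ} (h : 2 ≤ |Q|) (n : ℕ) : PH Q n ≠ 0 :=
  Finset.prod_ne_zero_iff.2 fun _ _ => sub_ne_zero.2 (pow_ne_one h (Nat.succ_pos _))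

theorem vz_mul {p : ℕ} {a b : ℤ} (ha : a ≠ 0) (hb : b ≠ 0) : vz p (a * b) = vz p a + vz p b := by
  rw [vz, Int.natAbs_mul, Nat.factorization_mul (Int.natAbs_ne_zero.2 ha) (Int.natAbs_ne_zero.2 hb)]
  rfl

theorem vz_natCast (p D : ℕ) : vz p (D : ℤ) = D.factorization p := by
  rw [vz, Int.natAbs_natCast]

theorem vz_unit {p : ℕ} (s : ℤˣ) (a : ℤ) : vz p ((s : ℤ) * a) = vz p a := by
  rw [vz, vz, Int.natAbs_mul, Int.natAbs_of_isUnit s.isUnit, one_mul]

theorem vz_one (r : ℕ) : vz r 1 = 0 := by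
  rw [vz, Int.natAbs_one, Nat.factorization_one]
  rfl

theorem vz_prod {ι : Type*} (r : ℕ) (S : Finset ι) (f : ι → ℤ) (hf : ∀ i ∈ S, f i ≠ 0) :
    vz r (∏ i ∈ S, f i) = ∑ i ∈ S, vz r (f i) := by
  classical
  induction S using Finset.induction_on with
  | empty => rw [prod_empty, sum_empty, vz_one]
  | insert a S ha ih =>
    rw [prod_insert ha, sum_insert ha, vz_mul (hf a (mem_insert_self a S))
      (prod_ne_zero_iff.2 fun i hi => hf i (mem_insert_of_mem hi)), ih fun i hi => hf i (mem_insert_of_mem hi)]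

theorem vz_pow {r : ℕ} (hr : r.Prime) {T : ℤ} (h : ¬ (r : ℤ) ∣ T) (k : ℕ) : vz r (T ^ k) = 0 := by
  refine Nat.factorization_eq_zero_of_not_dvd fun hd => h ?_
  exact (Nat.prime_iff_prime_int.1 hr).dvd_of_dvd_pow (Int.natCast_dvd.2 hd)

theorem two_pow {Q : ℤ} (h : 2 ≤ |Q|) {k : ℕ} (hk : 0 < k) : 2 ≤ |Q ^ k| := by
  rw [abs_pow]
  exact h.trans (le_self_pow₀ (by linarith) hk.ne')

theorem ne_zero_of_two {T : ℤ} (hT : 2 ≤ |T|) : T ≠ 0 := by
  rintro rfl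
  rw [abs_zero] at hT
  omega

end ints

variable {m : ℕ}

/-- the Vandermonde product -/
def VD (T : ℤ) (β : Fin m → ℕ) : ℤ := ∏ j : Fin m, ∏ i ∈ Finset.Iio j, (T ^ β j - T ^ β i)

/-- the product of the orders -/
def PB (T : ℤ) (β : Fin m → ℕ) : ℤ := ∏ i, PH T (β i)

theorem det_VD (T : ℤ) (β : Fin m → ℕ) :
    ∑ σ : Equiv.Perm (Fin m), H614.sg σ * ∏ i, ∏ l ∈ range (σ i : ℕ), (T ^ β i - T ^ l) = VD T β := by
  have h1 := Matrix.det_eval_matrixOfPolynomials_eq_det_vandermonde (R := ℤ)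
    (fun i : Fin m => T ^ β i) (fun i => ∏ l ∈ range (i : ℕ), (Polynomial.X - Polynomial.C (T ^ l)))
    (fun i => by rw [Polynomial.natDegree_finsetProd_X_sub_C_eq_card, card_range])
    (fun i => Polynomial.monic_prod_X_sub_C _ _)
  rw [Matrix.det_vandermonde] at h1
  have h2 : VD T β = ∏ i : Fin m, ∏ j ∈ Finset.Ioi i, (T ^ β j - T ^ β i) := by
    refine Finset.prod_comm' fun j i => ?_
    simp only [mem_univ, mem_Iio, mem_Ioi, true_and, and_true]
  rw [h2, h1, ← Matrix.det_transpose, Matrix.det_apply']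
  refine Finset.sum_congr rfl fun σ _ => ?_
  congr 1
  refine Finset.prod_congr rfl fun i _ => ?_
  rw [Matrix.transpose_apply, Matrix.of_apply, Polynomial.eval_prod]
  refine Finset.prod_congr rfl fun l _ => ?_
  rw [Polynomial.eval_sub, Polynomial.eval_X, Polynomial.eval_C]

theorem ph_split (T : ℂ) {a b : ℕ} (h : b ≤ a) :
    ph T a * ∏ l ∈ range b, T ^ l = ph T (a - b) * ∏ l ∈ range b, (T ^ a - T ^ l) := by
  induction b with
  | zero => rw [prod_range_zero, prod_range_zero, Nat.sub_zero]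
  | succ b ih =>
    have e1 : a - b = (a - (b + 1)) + 1 := by omega
    have e2 : T ^ a = T ^ ((a - (b + 1)) + 1) * T ^ b := by
      rw [← pow_add]
      congr 1
      omega
    rw [prod_range_succ, prod_range_succ, ← mul_assoc, ih (by omega), e1, ph_succ]
    nth_rewrite 3 [e2]
    ring

/-- the entries -/
theorem entry {T s : ℂ} (hT : ∀ i, 0 < i → T ^ i ≠ 1) (hs : s * s = 1) (a b : ℕ) :
    (if b ≤ a then s ^ (a - b) * (ph T (a - b))⁻¹ else 0) * (ph T a * ∏ l ∈ range b, T ^ l) =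
      s ^ a * s ^ b * ∏ l ∈ range b, (T ^ a - T ^ l) := by
  split_ifs with h
  · have h1 : s ^ a * s ^ b = s ^ (a - b) := by
      obtain ⟨c, rfl⟩ := Nat.exists_eq_add_of_le h
      rw [Nat.add_sub_cancel_left, pow_add, mul_right_comm, ← mul_pow, hs, one_pow, one_mul]
    rw [ph_split T h, h1, mul_assoc, ← mul_assoc (ph T (a - b))⁻¹, inv_mul_cancel₀ (ph_ne hT _), one_mul]
  · rw [zero_mul, Finset.prod_eq_zero (mem_range.2 (not_le.1 h)) (sub_self _), mul_zero]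

/-- **the determinant** -/
theorem JT_val {T : ℤ} {s : ℤˣ} (hT : ∀ i, 0 < i → (T : ℂ) ^ i ≠ 1) (β : Fin m → ℕ) :
    ∃ (u : ℤˣ) (A : ℕ), (∑ σ : Equiv.Perm (Fin m), (H614.sg σ : ℂ) * ∏ i,
      (if (σ i : ℕ) ≤ β i then ((s : ℤ) : ℂ) ^ (β i - σ i) * (ph (T : ℂ) (β i - σ i))⁻¹ else 0)) *
        ((PB T β * T ^ A : ℤ) : ℂ) = (((u : ℤ) * VD T β : ℤ) : ℂ) := by
  have hs : ((s : ℤ) : ℂ) * ((s : ℤ) : ℂ) = 1 := by
    rw [← Int.cast_mul, ← Units.val_mul, Int.units_mul_self, Units.val_one, Int.cast_one]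
  refine ⟨s ^ (∑ i, β i) * s ^ (∑ i : Fin m, (i : ℕ)), ∑ i : Fin m, ∑ l ∈ range (i : ℕ), l, ?_⟩
  rw [← det_VD, Finset.sum_mul]
  push_cast
  rw [Finset.mul_sum]
  refine Finset.sum_congr rfl fun σ _ => ?_
  have h1 : ((PB T β : ℤ) : ℂ) * (T : ℂ) ^ (∑ i : Fin m, ∑ l ∈ range (i : ℕ), l) =
      ∏ i, (ph (T : ℂ) (β i) * ∏ l ∈ range (σ i : ℕ), (T : ℂ) ^ l) := by
    rw [Finset.prod_mul_distrib, PB, Int.cast_prod, ← Finset.prod_pow_eq_pow_sum,
      ← Equiv.prod_comp σ (fun i : Fin m => (T : ℂ) ^ ∑ l ∈ range (i : ℕ), l)]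
    congr 1
    · exact Finset.prod_congr rfl fun i _ => PH_cast T _
    · exact Finset.prod_congr rfl fun i _ => (Finset.prod_pow_eq_pow_sum _ _ _).symm
  rw [h1, mul_assoc, ← Finset.prod_mul_distrib, Finset.prod_congr rfl fun i _ => entry hT hs (β i) (σ i),
    Finset.prod_mul_distrib, Finset.prod_mul_distrib, Finset.prod_pow_eq_pow_sum, Finset.prod_pow_eq_pow_sum,
    Equiv.sum_comp σ (fun i : Fin m => (i : ℕ))]
  ring

theorem sum_split {β : Fin m → ℕ} (hβ : StrictMono β) (F : ℕ → ℕ) (j : Fin m) :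
    ∑ x ∈ range (β j), F (x + 1) =
      ∑ x ∈ range (β j) \ (Iio j).image β, F (β j - x) + ∑ i ∈ Iio j, F (β j - β i) := by
  have h1 : (Iio j).image β ⊆ range (β j) := by
    intro x hx
    obtain ⟨i, hi, rfl⟩ := mem_image.1 hx
    exact mem_range.2 (hβ (mem_Iio.1 hi))
  rw [← Finset.sum_image (s := Iio j) (g := β) (f := fun x => F (β j - x)) fun a _ b _ h => hβ.injective h,
    Finset.sum_sdiff h1, ← Finset.sum_range_reflect]
  refine Finset.sum_congr rfl fun x hx => ?_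
  have := mem_range.1 hx
  congr 1
  omega

theorem hk_split {β : Fin m → ℕ} (hβ : StrictMono β) (F : ℕ → ℕ) :
    ∑ j, ∑ x ∈ range (β j), F (x + 1) = hk F β + ∑ j, ∑ i ∈ Iio j, F (β j - β i) := by
  rw [hk, ← sum_add_distrib]
  exact sum_congr rfl fun j _ => sum_split hβ F j

theorem VD_fac {T : ℤ} {β : Fin m → ℕ} (hβ : StrictMono β) {i j : Fin m} (hi : i ∈ Iio j) :
    T ^ β j - T ^ β i = T ^ β i * (T ^ (β j - β i) - 1) := by
  rw [mul_sub, mul_one, ← pow_add, Nat.add_sub_cancel' (hβ (mem_Iio.1 hi)).le]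

theorem VD_ne {T : ℤ} (hT : 2 ≤ |T|) {β : Fin m → ℕ} (hβ : StrictMono β) : VD T β ≠ 0 := by
  refine prod_ne_zero_iff.2 fun j _ => prod_ne_zero_iff.2 fun i hi => ?_
  rw [VD_fac hβ hi]
  exact mul_ne_zero (pow_ne_zero _ (ne_zero_of_two hT))
    (sub_ne_zero.2 (pow_ne_one hT (Nat.sub_pos_of_lt (hβ (mem_Iio.1 hi)))))

theorem PB_ne {T : ℤ} (hT : 2 ≤ |T|) (β : Fin m → ℕ) : PB T β ≠ 0 := prod_ne_zero_iff.2 fun _ _ => PH_ne hT _

theorem vz_PH (l : ℕ) {T : ℤ} (hT : 2 ≤ |T|) (k : ℕ) : vz l (PH T k) = ∑ x ∈ range k, vz l (T ^ (x + 1) - 1) := by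
  rw [PH, vz_prod _ _ _ fun i _ => sub_ne_zero.2 (pow_ne_one hT (Nat.succ_pos i))]

/-- the hook formula -/
theorem vz_PB {l : ℕ} (hl : l.Prime) {T : ℤ} (ho : ¬ (l : ℤ) ∣ T) (hT : 2 ≤ |T|) {β : Fin m → ℕ} (hβ : StrictMono β) :
    vz l (PB T β) = hk (fun k => vz l (T ^ k - 1)) β + vz l (VD T β) := by
  have hp : ∀ {j : Fin m}, ∀ i ∈ Iio j, 0 < β j - β i := fun i hi => Nat.sub_pos_of_lt (hβ (mem_Iio.1 hi))
  have h0 : ∀ j : Fin m, ∀ i ∈ Iio j, T ^ (β j - β i) - 1 ≠ 0 := fun j i hi => sub_ne_zero.2 (pow_ne_one hT (hp i hi))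
  have h0' : ∀ j : Fin m, ∀ i ∈ Iio j, T ^ β j - T ^ β i ≠ 0 := fun j i hi => by
    rw [VD_fac hβ hi]
    exact mul_ne_zero (pow_ne_zero _ (ne_zero_of_two hT)) (h0 j i hi)
  rw [PB, vz_prod _ _ _ fun _ _ => PH_ne hT _, sum_congr rfl fun j _ => vz_PH l hT (β j),
    hk_split hβ fun k => vz l (T ^ k - 1), VD, vz_prod _ _ _ fun j _ => prod_ne_zero_iff.2 (h0' j)]
  refine congrArg _ (sum_congr rfl fun j _ => ?_)
  rw [vz_prod _ _ _ (h0' j)]
  refine sum_congr rfl fun i hi => ?_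
  rw [VD_fac hβ hi, vz_mul (pow_ne_zero _ (ne_zero_of_two hT)) (h0 j i hi), vz_pow hl ho, zero_add]

section lab

variable {Q : ℤ} {M : ℕ} [NeZero M]

/-- the degree functional at a Schur function -/
theorem eps_SS (hQ : IsUnit (Q : ZMod M)) (h2 : 2 ≤ |Q|) (c : ZMod M) {β : Fin m → ℕ} (hβ : StrictMono β) :
    ∃ (u : ℤˣ) (A : ℕ), eps Q M (SS (fun j => Pw Q M j c) (bsz β) β) *
      ((PB (Q ^ perZ Q M c) β * (Q ^ perZ Q M c) ^ A : ℤ) : ℂ) = (((u : ℤ) * VD (Q ^ perZ Q M c) β : ℤ) : ℂ) := by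
  have ht : ∀ i, 0 < i → (Q : ℂ) ^ i ≠ 1 := fun i hi h => pow_ne_one h2 hi (by exact_mod_cast h)
  have hT : ∀ i, 0 < i → ((Q ^ perZ Q M c : ℤ) : ℂ) ^ i ≠ 1 := fun i hi h =>
    pow_ne_one (two_pow h2 (perZ_pos hQ c)) hi (by exact_mod_cast h)
  obtain ⟨u, A, h⟩ := JT_val (s := (-1) ^ (perZ Q M c - 1)) hT β
  refine ⟨u, A, ?_⟩
  rw [← h, SS_eq_JT _ _ (sum_eq_bsz hβ), JT, map_sum]
  congr 1
  refine Finset.sum_congr rfl fun σ _ => ?_
  rw [map_zsmul, zsmul_eq_mul, map_prod]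
  congr 1
  refine Finset.prod_congr rfl fun i _ => ?_
  rw [jt]
  split_ifs with h1
  · rw [eps_hh Q M hQ ht]
    push_cast
    rfl
  · exact map_zero _

variable {K : Type} [Field K] {θ : K →*₀ ℂ} {N : ℕ}

theorem coprime_of_unit (ctx : CtxQ θ Q M N) : IsCoprime Q (Nat.card Kˣ : ℤ) := by
  rw [ctx.card]
  exact ((ZMod.coe_int_isUnit_iff_isCoprime Q M).1 ctx.unit).symm

theorem ht_of (ctx : CtxQ θ Q M N) : ∀ i, 0 < i → (Q : ℂ) ^ i ≠ 1 := fun i hi h =>
  pow_ne_one ctx.two hi (by exact_mod_cast h)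

/-- **the valuation of the degree** -/
theorem deg_val (ctx : CtxQ θ Q M N) {n : ℕ} (t : LabZ Q M m n) {l : ℕ} (hl : l.Prime) (hlQ : ¬ (l : ℤ) ∣ Q) {D : ℕ}
    (hD0 : D ≠ 0) {s : ℤˣ} (hD : evR θ Q M (SchP Q M t.t) (tyOne Q n) = ((s : ℤ) : ℂ) * (D : ℂ)) :
    D.factorization l + dfG l t = vz l (PH Q n) := by
  have := ctx.finK
  rw [evR_tyOne θ Q M (coprime_of_unit ctx) (ht_of ctx) (schP_mem_hom ctx.unit t)] at hD
  choose u A h using fun c : ZMod M => eps_SS ctx.unit ctx.two c (t.mono c)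
  have hT : ∀ c : ZMod M, 2 ≤ |Q ^ perZ Q M c| := fun c => two_pow ctx.two (perZ_pos ctx.unit c)
  have hl' : ∀ c : ZMod M, ¬ (l : ℤ) ∣ Q ^ perZ Q M c := fun c e =>
    hlQ ((Nat.prime_iff_prime_int.1 hl).dvd_of_dvd_pow e)
  have h1 : (s : ℤ) * D * ∏ c ∈ repsZ Q M, (PB (Q ^ perZ Q M c) (t.t c) * (Q ^ perZ Q M c) ^ A c) =
      PH Q n * ∏ c ∈ repsZ Q M, ((u c : ℤ) * VD (Q ^ perZ Q M c) (t.t c)) := by
    apply Int.cast_injective (α := ℂ)
    rw [Int.cast_mul, Int.cast_mul, Int.cast_natCast, ← hD, Int.cast_mul, PH_cast, Int.cast_prod, Int.cast_prod,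
      SchP_eq, prodS, map_prod, mul_assoc, ← prod_mul_distrib]
    congr 1
    exact prod_congr rfl fun c _ => h c
  have h3 : ∀ c : ZMod M, PB (Q ^ perZ Q M c) (t.t c) * (Q ^ perZ Q M c) ^ A c ≠ 0 := fun c =>
    mul_ne_zero (PB_ne (hT c) _) (pow_ne_zero _ (ne_zero_of_two (hT c)))
  have h4 : ∀ c : ZMod M, (u c : ℤ) * VD (Q ^ perZ Q M c) (t.t c) ≠ 0 := fun c =>
    mul_ne_zero (u c).ne_zero (VD_ne (hT c) (t.mono c))
  have h5 : (s : ℤ) * D ≠ 0 := mul_ne_zero s.ne_zero (Nat.cast_ne_zero.2 hD0)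
  have h6 := congrArg (vz l) h1
  rw [vz_mul h5 (prod_ne_zero_iff.2 fun c _ => h3 c), vz_unit, vz_natCast,
    vz_mul (PH_ne ctx.two n) (prod_ne_zero_iff.2 fun c _ => h4 c), vz_prod _ _ _ fun c _ => h3 c,
    vz_prod _ _ _ fun c _ => h4 c] at h6
  rw [sum_congr rfl fun c _ => vz_unit (u c) _, sum_congr rfl fun c _ => (vz_mul (PB_ne (hT c) _)
    (pow_ne_zero _ (ne_zero_of_two (hT c)))).trans (by rw [vz_pow hl (hl' c), add_zero,
      vz_PB hl (hl' c) (hT c) (t.mono c)]), sum_add_distrib] at h6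
  unfold dfG
  omega

end lab

end Cfsg.Agent.MO.TA.G
end

-- part: MO/TA/GCen
section
/-!
# MO, types `A` and `²A`, box G: the central characters (helper95)

The first part is a copy of `BZ/A/Cen` (with light imports).

* `sum_orbits` : sums over the labels, orbit by orbit;
* `cen_val` : the value at the type of a scalar matrix.
-/

set_option autoImplicit false
set_option linter.unusedSectionVars false

namespace Cfsg.Agent.MO.TA.G

open Finset Cfsg.Agent.H794.EM Cfsg.Agent.H577.GLB.Std Cfsg.Agent.H614.GLn.RSt Cfsg.Agent.H615.GU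
open Cfsg.Agent.H421.GU (expoZ_mul pow_expoZ_add pow_of_level dOrb_dvd_iff finsum_orb th_zpow)

section lab

variable {Q : ℤ} {M : ℕ} [NeZero M]

/-- sums over the labels -/
theorem sum_orbits {A : Type*} [AddCommMonoid A] (hQ : IsUnit (Q : ZMod M)) (f : ZMod M → A) :
    ∑ c, f c = ∑ c ∈ repsZ Q M, ∑ j ∈ range (perZ Q M c), f ((Q : ZMod M) ^ j * c) := by
  classical
  rw [← Finset.sum_fiberwise_of_maps_to (s := (Finset.univ : Finset (ZMod M))) (g := fun x => canon Q M x)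
    (t := repsZ Q M) (fun x _ => canon_mem_repsZ hQ x) f]
  refine Finset.sum_congr rfl fun c hc => Eq.symm ?_
  refine Finset.sum_bij (fun j _ => (Q : ZMod M) ^ j * c) ?_ ?_ ?_ fun _ _ => rfl
  · intro j _
    rw [Finset.mem_filter]
    have h1 : canon Q M c = canon Q M ((Q : ZMod M) ^ j * c) := canon_eq_of_same hQ ⟨j, rfl⟩
    exact ⟨Finset.mem_univ _, h1.symm.trans (mem_repsZ.1 hc)⟩
  · intro a ha b hb hab
    rw [Finset.mem_range] at ha hb
    rw [← iter_mul, ← iter_mul] at hab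
    exact Function.iterate_injOn_Iio_minimalPeriod (f := fun x : ZMod M => (Q : ZMod M) * x) (x := c) ha hb hab
  · intro x hx
    rw [Finset.mem_filter] at hx
    obtain ⟨j, hj⟩ := (canon_eq_iff hQ (c := c) (c' := x)).1 (by rw [hx.2, mem_repsZ.1 hc])
    refine ⟨j % perZ Q M c, Finset.mem_range.2 (Nat.mod_lt _ (perZ_pos hQ c)), ?_⟩
    rw [hj]
    conv_rhs => rw [← Nat.mod_add_div j (perZ Q M c), pow_add, mul_assoc,
      (pow_mul_eq_iff _ c).2 (dvd_mul_right _ _)]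

variable (Q) in
/-- the sum of the orbit -/
noncomputable def nrm (c : ZMod M) : ZMod M := ((∑ j ∈ range (perZ Q M c), Q ^ j : ℤ) : ZMod M) * c

theorem tor_nrm (c : ZMod M) : TorZ Q M 1 (nrm Q c) := by
  have h := (torZ_iff (Q := Q) (perZ Q M c) c).2 dvd_rfl
  rw [TorZ] at h ⊢
  rw [nrm, pow_one, ← mul_assoc]
  push_cast
  rw [mul_geom_sum, h]

theorem tot_eq (hQ : IsUnit (Q : ZMod M)) {m n : ℕ} (t : LabZ Q M m n) :
    tot t = ∑ c ∈ repsZ Q M, bsz (t.t c) • nrm Q c := by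
  rw [tot, sum_orbits hQ]
  refine sum_congr rfl fun c _ => ?_
  rw [nrm]
  push_cast
  rw [sum_mul, smul_sum]
  exact sum_congr rfl fun j _ => by rw [t_pow t.t t.orb]

theorem tor_zero (k : ℕ) : TorZ Q M k 0 := mul_zero _

theorem expoZ_zero (k : ℕ) : expoZ Q M k 0 = 0 := by
  rw [expoZ, ZMod.val_zero, Nat.cast_zero, zero_mul, Int.zero_ediv]

theorem tor_nsmul {k : ℕ} {a : ZMod M} (ha : TorZ Q M k a) (j : ℕ) : TorZ Q M k (j • a) := by
  rw [TorZ] at ha ⊢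
  rw [nsmul_eq_mul, mul_left_comm, ha, mul_zero]

theorem tor_sum {ι : Type*} {k : ℕ} (S : Finset ι) (a : ι → ZMod M) (ha : ∀ i, TorZ Q M k (a i)) :
    TorZ Q M k (∑ i ∈ S, a i) := by
  rw [TorZ, mul_sum]
  exact sum_eq_zero fun i _ => ha i

theorem tor_tot (hQ : IsUnit (Q : ZMod M)) {m n : ℕ} (t : LabZ Q M m n) : TorZ Q M 1 (tot t) := by
  rw [tot_eq hQ]
  exact tor_sum _ _ fun c => tor_nsmul (tor_nrm c) _

variable {K : Type} [Field K] {w : Kˣ}

theorem pow_fix (hw : w ^ Q = w) (i : ℕ) : w ^ (Q ^ i) = w := by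
  induction i with
  | zero => rw [pow_zero, zpow_one]
  | succ i ih => rw [pow_succ, zpow_mul, ih, hw]

theorem pow_nsmul {k : ℕ} (hw : w ^ (Q ^ k) = w) {a : ZMod M} (ha : TorZ Q M k a) (j : ℕ) :
    w ^ expoZ Q M k (j • a) = (w ^ expoZ Q M k a) ^ j := by
  induction j with
  | zero => rw [zero_smul, expoZ_zero, zpow_zero, pow_zero]
  | succ j ih => rw [succ_nsmul, pow_expoZ_add hw (tor_nsmul ha j) ha, ih, pow_succ]

theorem pow_sum' {ι : Type*} {k : ℕ} (hw : w ^ (Q ^ k) = w) (S : Finset ι) (a : ι → ZMod M)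
    (ha : ∀ i, TorZ Q M k (a i)) : w ^ expoZ Q M k (∑ i ∈ S, a i) = ∏ i ∈ S, w ^ expoZ Q M k (a i) := by
  classical
  induction S using Finset.induction_on with
  | empty => rw [sum_empty, prod_empty, expoZ_zero, zpow_zero]
  | insert i S hi ih => rw [sum_insert hi, prod_insert hi, pow_expoZ_add hw (ha i) (tor_sum S a ha), ih]

theorem pow_nrm (hw : w ^ Q = w) (c : ZMod M) : w ^ expoZ Q M 1 (nrm Q c) = w ^ expoZ Q M (perZ Q M c) c := by
  have hM0 : (M : ℤ) ≠ 0 := by exact_mod_cast NeZero.ne M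
  refine pow_of_level (pow_fix hw 1) ?_
  have h1 := expoZ_mul ((torZ_iff (Q := Q) (perZ Q M c) c).2 dvd_rfl)
  have h2 := expoZ_mul (tor_nrm (Q := Q) c)
  have h4 : (M : ℤ) ∣ ((nrm Q c).val : ℤ) - (∑ j ∈ range (perZ Q M c), Q ^ j) * c.val := by
    rw [← ZMod.intCast_zmod_eq_zero_iff_dvd, Int.cast_sub, Int.cast_mul, Int.cast_natCast, Int.cast_natCast,
      ZMod.natCast_zmod_val, ZMod.natCast_zmod_val, nrm, sub_self]
  obtain ⟨s, hs⟩ := h4
  have h5 := geom_sum_mul Q (perZ Q M c)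
  refine ⟨s, mul_right_cancel₀ hM0 ?_⟩
  linear_combination h2 - h1 + (Q - 1) * hs + c.val * h5

theorem pow_tot (hQ : IsUnit (Q : ZMod M)) (hw : w ^ Q = w) {m n : ℕ} (t : LabZ Q M m n) :
    w ^ expoZ Q M 1 (tot t) = ∏ c ∈ repsZ Q M, (w ^ expoZ Q M (perZ Q M c) c) ^ bsz (t.t c) := by
  rw [tot_eq hQ, pow_sum' (pow_fix hw 1) _ _ fun c => tor_nsmul (tor_nrm c) _]
  exact prod_congr rfl fun c _ => by rw [pow_nsmul (pow_fix hw 1) (tor_nrm c), pow_nrm hw]

end lab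

section val

variable {K : Type} [Field K] [Finite K] {θ : K →*₀ ℂ} {Q : ℤ} {M N : ℕ} [NeZero M] {w : Kˣ}

variable (Q w) in
/-- normalized values at the types of a scalar -/
noncomputable def Rw (f : Ty (Orb K Q) → ℂ) (n : ℕ) : ℂ :=
  f (Finsupp.single (Quotient.mk (orbSetoid K Q) w) (cn n)) * (ph (Q : ℂ) n)⁻¹

variable (θ Q M w) in
/-- the twist by the central character -/
noncomputable def sz : RS M →ₐ[ℂ] RS M :=
  MvPolynomial.aeval fun v : Var M => θ (w : K) ^ expoZ Q M v.1 v.2 • MvPolynomial.X v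

variable (ctx : CtxQ θ Q M N) (hw : w ^ Q = w)
include ctx hw

theorem dOrb_fix : dOrb K Q (Quotient.mk (orbSetoid K Q) w) = 1 :=
  Nat.dvd_one.1 ((dOrb_dvd_iff ctx.card ctx.unit w 1).2 (pow_fix hw 1))

theorem Rw_Pop (k : ℕ) (c : ZMod M) (f : Ty (Orb K Q) → ℂ) :
    Rw Q w (Pop θ Q M k c f) = fun n => θ (w : K) ^ expoZ Q M k c * (cs (Q : ℂ) k * H794.EM.Sh k (Rw Q w f) n) := by
  classical
  funext n
  have hd := dOrb_fix ctx hw
  rw [Rw, H531.GU.Pop_eq, LinearMap.sum_apply, Finset.sum_apply, Finset.sum_eq_single (Quotient.mk (orbSetoid K Q) w)]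
  · rcases Nat.eq_zero_or_pos k with rfl | hk
    · rw [if_neg (fun h => lt_irrefl _ h.1), LinearMap.zero_apply, Pi.zero_apply, zero_mul, cs_zero, zero_mul, mul_zero]
    · rw [if_pos ⟨hk, hd ▸ one_dvd k⟩, thO, finsum_orb ctx.card ctx.unit
        (fun x : Kˣ => θ (x : K) ^ expoZ Q M k c) w, hd, Finset.sum_range_one, pow_zero, zpow_one, pow_one, Nat.div_one,
        LinearMap.smul_apply, Pi.smul_apply, smul_eq_mul, mul_assoc, H531.GU.lft_apply, Finsupp.single_eq_same]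
      have h1 : ∀ (o : Orb K Q) (a b : Col), (Finsupp.single o a).update o b = Finsupp.single o b := fun o a b => by
        ext1 j
        rw [Finsupp.coe_update]
        by_cases hj : j = o
        · rw [hj, Function.update_self, Finsupp.single_eq_same]
        · rw [Function.update_of_ne hj, Finsupp.single_eq_of_ne hj, Finsupp.single_eq_of_ne hj]
      simp only [h1]
      exact congrArg _ (congrFun (Rc_pp (ht_of ctx) k fun c => f (Finsupp.single _ c)) n)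
  · intro o _ ho
    split_ifs with h
    · rw [LinearMap.smul_apply, Pi.smul_apply, H531.GU.lft_apply, Finsupp.single_eq_of_ne ho, pp_at_zero, smul_zero]
    · rfl
  · exact fun h => absurd (Finset.mem_univ _) h

theorem Rw_evR (x : RS M) : Rw Q w (evR θ Q M x) = fun n => (epsX Q M (sz θ Q M w x)).coeff n := by
  induction x using MvPolynomial.induction_on with
  | C a =>
    funext n
    rw [← MvPolynomial.algebraMap_eq, AlgHom.commutes, ← congrFun (RG_evR θ Q M (coprime_of_unit ctx) (ht_of ctx) _) n,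
      Algebra.algebraMap_eq_smul_one, map_smul, evR_one]
    simp only [Rw, RG, tyOne, Pi.smul_apply, H615.GU.vac, Finsupp.single_eq_zero]
  | add x y hx hy =>
    funext n
    rw [map_add, map_add, map_add, Polynomial.coeff_add, ← congrFun hx n, ← congrFun hy n]
    exact add_mul _ _ _
  | mul_X x v hx =>
    rw [mul_comm, H531.GU.evR_X_mul θ Q M H521.GU.i2s, Rw_Pop ctx hw, hx]
    funext n
    simp only [map_mul, sz, MvPolynomial.aeval_X, smul_mul_assoc, map_smul, map_mul, epsX, MvPolynomial.aeval_X,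
      ← Polynomial.C_mul_X_pow_eq_monomial, mul_assoc, Polynomial.coeff_smul, Polynomial.coeff_C_mul,
      Polynomial.coeff_X_pow_mul', H794.EM.Sh, smul_eq_mul]

theorem sz_Pw {c : ZMod M} (hc : c ∈ repsZ Q M) {j : ℕ} (hj : 0 < j) :
    sz θ Q M w (Pw Q M j c) = (θ (w : K) ^ expoZ Q M (perZ Q M c) c) ^ j • Pw Q M j c := by
  have h1 : expoZ Q M (j * perZ Q M c) c = (∑ i ∈ Finset.range j, (Q ^ perZ Q M c) ^ i) * expoZ Q M (perZ Q M c) c :=
    mul_right_cancel₀ (Nat.cast_ne_zero.2 (NeZero.ne M)) (by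
      rw [expoZ_mul ((torZ_iff _ c).2 (dvd_mul_left _ _)), mul_assoc, expoZ_mul ((torZ_iff _ c).2 dvd_rfl),
        mul_left_comm, geom_sum_mul, ← pow_mul, mul_comm j])
  have h2 : ∀ j : ℕ, w ^ ∑ i ∈ Finset.range j, (Q ^ perZ Q M c) ^ i = w ^ j := fun j => by
    induction j with
    | zero => simp
    | succ j ih => rw [Finset.sum_range_succ, zpow_add, ih, ← pow_mul, pow_fix hw, pow_succ]
  rw [Pw_eq ctx.unit hc hj, sz, MvPolynomial.aeval_X, h1, zpow_mul, ← map_zpow₀ θ _ (∑ _ ∈ _, _),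
    ← Units.val_zpow_eq_zpow_val, h2, Units.val_pow_eq_pow_val, map_pow, ← zpow_natCast, ← zpow_mul, mul_comm, zpow_mul,
    zpow_natCast]

theorem sz_Sch {c : ZMod M} (hc : c ∈ repsZ Q M) {m : ℕ} (β : Fin m → ℕ) :
    sz θ Q M w (Sch Q M c β) = (θ (w : K) ^ expoZ Q M (perZ Q M c) c) ^ bsz β • Sch Q M c β := by
  rw [Sch, map_sum, Finset.smul_sum]
  refine Finset.sum_congr rfl fun ν _ => ?_
  rw [map_smul, smul_comm, map_multiset_prod, Multiset.map_map,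
    Multiset.map_congr (f := sz θ Q M w ∘ fun j => Pw Q M j c) rfl fun j hj => sz_Pw ctx hw hc (ν.parts_pos hj)]
  simp only [Algebra.smul_def, map_pow, Multiset.prod_map_mul]
  rw [show bsz β = ν.parts.sum from ν.parts_sum.symm]
  congr 2
  induction ν.parts using Multiset.induction_on with
  | empty => simp only [_root_.MvPolynomial.algebraMap_eq, _root_.Multiset.map_zero, _root_.Multiset.prod_zero, _root_.Multiset.sum_zero, _root_.pow_zero]
  | cons a s ih => rw [Multiset.map_cons, Multiset.prod_cons, ih, Multiset.sum_cons, pow_add]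

theorem sz_SchP {m n : ℕ} (t : LabZ Q M m n) :
    sz θ Q M w (SchP Q M t.t) = θ (w : K) ^ expoZ Q M 1 (tot t) • SchP Q M t.t := by
  have h5 := congrArg (fun x : Kˣ => θ (x : K)) (pow_tot ctx.unit hw t)
  simp only [Units.coe_prod, map_prod, Units.val_pow_eq_pow_val, map_pow, Units.val_zpow_eq_zpow_val, map_zpow₀] at h5
  (rewrite [SchP, map_prod, Finset.prod_congr rfl fun c hc => sz_Sch ctx hw (mem_repsZ.2 (Finset.mem_filter.1 hc).2) _]; simp only [Finset.prod_smul]; rewrite [h5])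
  rfl

/-- **the value at a scalar** -/
theorem cen_val {m n : ℕ} (t : LabZ Q M m n) (k : ℕ) :
    evR θ Q M (SchP Q M t.t) (Finsupp.single (Quotient.mk (orbSetoid K Q) w) (cn k)) =
      θ (w : K) ^ expoZ Q M 1 (tot t) * evR θ Q M (SchP Q M t.t) (tyOne Q k) := by
  have h6 := congrFun (Rw_evR ctx hw (SchP Q M t.t)) k
  rw [sz_SchP ctx hw, map_smul, Polynomial.coeff_smul,
    ← congrFun (RG_evR θ Q M (coprime_of_unit ctx) (ht_of ctx) _) k, Rw, RG, smul_eq_mul, ← mul_assoc,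
    mul_left_inj' (inv_ne_zero (ph_ne (ht_of ctx) k))] at h6
  exact h6

end val

end Cfsg.Agent.MO.TA.G
end

-- part: MO/TA/GCol
section
/-!
# MO, types `A` and `²A`, box G: the columns of matrices (helper95)

* `colOf_congr`, `col_conj`, `col_fm`, `col_itm`, `col_act` : invariance of the columns;
* `col_scalar_self`, `col_scalar_ne` : scalar matrices;
* `size_col` : the size is the multiplicity of the eigenvalue; `det_eq_detT` : the determinant.
-/

set_option autoImplicit false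
set_option linter.unusedSectionVars false

namespace Cfsg.Agent.MO.TA.G

open Module Matrix Cfsg.Agent.H615.GU Cfsg.Agent.H794.EM
open scoped MatrixGroups

section col

variable {K : Type} [Field K] {ι : Type} [Fintype ι] [DecidableEq ι]

theorem rank_pow_add (A : Matrix ι ι K) (i : ℕ) :
    (A ^ i).rank + finrank K (LinearMap.ker (toLin' A ^ i)) = Fintype.card ι := by
  have h := LinearMap.finrank_range_add_finrank_ker (toLin' A ^ i)
  rw [finrank_fintype_fun_eq_card] at h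
  have h2 : (A ^ i).rank = finrank K (LinearMap.range (toLin' A ^ i)) := by
    rw [← toLin'_pow]
    rfl
  rw [h2, h]

theorem colOf_congr {A B : Matrix ι ι K} (h : ∀ i, (A ^ i).rank = (B ^ i).rank) :
    colOf (toLin' A) = colOf (toLin' B) := by
  ext i
  have h1 := rank_pow_add A i
  have h2 := rank_pow_add A (i + 1)
  have h3 := colOf_add (toLin' A) i
  have h4 := rank_pow_add B i
  have h5 := rank_pow_add B (i + 1)
  have h6 := colOf_add (toLin' B) i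
  have h7 := h i
  have h8 := h (i + 1)
  omega

theorem rank_map (f : K →+* K) (A : Matrix ι ι K) : (A.map f).rank = A.rank := by
  obtain ⟨M, M', D, h⟩ := Pivot.exists_list_transvec_mul_diagonal_mul_list_transvec A
  set B := (M.map TransvectionStruct.toMatrix).prod with hB
  set B' := (M'.map TransvectionStruct.toMatrix).prod with hB'
  have hBd : B.det = 1 := TransvectionStruct.det_toMatrix_prod M
  have hB'd : B'.det = 1 := TransvectionStruct.det_toMatrix_prod M'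
  have h1 : A.rank = (diagonal D).rank := by
    rw [h, rank_mul_eq_left_of_isUnit_det _ _ (by rw [hB'd]; exact isUnit_one),
      rank_mul_eq_right_of_isUnit_det _ _ (by rw [hBd]; exact isUnit_one)]
  have hBd' : (B.map f).det = 1 := by
    have := (RingHom.map_det f B).symm
    rw [RingHom.mapMatrix_apply] at this
    rw [this, hBd, map_one]
  have hB'd' : (B'.map f).det = 1 := by
    have := (RingHom.map_det f B').symm
    rw [RingHom.mapMatrix_apply] at this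
    rw [this, hB'd, map_one]
  have h2 : (A.map f).rank = (diagonal (fun i => f (D i))).rank := by
    rw [h, Matrix.map_mul, Matrix.map_mul, rank_mul_eq_left_of_isUnit_det _ _ (by rw [hB'd']; exact isUnit_one),
      rank_mul_eq_right_of_isUnit_det _ _ (by rw [hBd']; exact isUnit_one), diagonal_map (map_zero f)]
  classical
  rw [h1, h2, rank_diagonal, rank_diagonal]
  refine Fintype.card_congr (Equiv.subtypeEquivRight fun i => ?_)
  rw [Ne, Ne, map_eq_zero]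

theorem colOf_map (f : K →+* K) (A : Matrix ι ι K) : colOf (toLin' (A.map f)) = colOf (toLin' A) := by
  refine colOf_congr fun i => ?_
  have h1 : (A.map f) ^ i = (A ^ i).map f := (map_pow (f.mapMatrix (m := ι)) A i).symm
  rw [h1, rank_map]

theorem colOf_transpose (A : Matrix ι ι K) : colOf (toLin' Aᵀ) = colOf (toLin' A) := by
  refine colOf_congr fun i => ?_
  rw [← transpose_pow, rank_transpose]

theorem colOf_mul {U A : Matrix ι ι K} (hU : IsUnit U) (h : Commute U A) :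
    colOf (toLin' (U * A)) = colOf (toLin' A) := by
  refine colOf_congr fun i => ?_
  rw [h.mul_pow, rank_mul_eq_right_of_isUnit_det]
  exact (isUnit_iff_isUnit_det _).1 (hU.pow i)

theorem scalar_comm (x : K) (A : Matrix ι ι K) : Commute (scalar ι x) A :=
  scalar_commute _ (fun _ => Commute.all _ _) _

theorem col_conj (h g : GL ι K) (x : Kˣ) : col (h * g * h⁻¹) x = col g x := by
  refine colOf_congr fun i => ?_
  have h1 : (h * g * h⁻¹).1 - scalar ι (x : K) = h.1 * (g.1 - scalar ι (x : K)) * (h⁻¹).1 := by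
    rw [mul_sub, sub_mul, ← (scalar_comm (x : K) h.1).eq, mul_assoc (scalar ι (x : K)), Units.mul_inv, mul_one]
    rfl
  rw [h1, Units.conj_pow, rank_mul_eq_left_of_isUnit_det _ _ ((isUnit_iff_isUnit_det _).1 (h⁻¹).isUnit),
    rank_mul_eq_right_of_isUnit_det _ _ ((isUnit_iff_isUnit_det _).1 h.isUnit)]

theorem col_fm (σ : K ≃+* K) (g : GL ι K) (x : Kˣ) : col (fm K ι σ g) (Units.map (σ : K →* K) x) = col g x := by
  rw [col, col, ← colOf_map (σ : K →+* K) (g.1 - scalar ι (x : K))]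
  congr 2
  ext i j
  rw [Matrix.sub_apply, fm_apply, map_apply, Matrix.sub_apply, map_sub, scalar_apply, scalar_apply]
  congr 1
  by_cases hij : i = j
  · subst hij
    rw [diagonal_apply_eq, diagonal_apply_eq]
    rfl
  · rw [diagonal_apply_ne _ hij, diagonal_apply_ne _ hij, map_zero]

theorem col_itm (g : GL ι K) (x : Kˣ) : col (itm K ι g) x⁻¹ = col g x := by
  have h1 : (itm K ι g).1 - scalar ι ((x⁻¹ : Kˣ) : K) = ((g⁻¹).1 - scalar ι ((x⁻¹ : Kˣ) : K))ᵀ := by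
    rw [itm_val, transpose_sub, scalar_apply, diagonal_transpose]
  have h2 : (g⁻¹).1 - scalar ι ((x⁻¹ : Kˣ) : K) =
      (scalar ι (-((x⁻¹ : Kˣ) : K)) * (g⁻¹).1) * (g.1 - scalar ι (x : K)) := by
    rw [mul_sub, mul_assoc, Units.inv_mul, mul_one, mul_assoc, ← (scalar_comm (x : K) _).eq, ← mul_assoc, ← map_mul,
      neg_mul, Units.inv_mul, map_neg, map_neg, map_one, neg_one_mul, neg_sub_neg]
  have h3 : IsUnit (scalar ι (-((x⁻¹ : Kˣ) : K)) * (g⁻¹).1) := ((x⁻¹).isUnit.neg.map (scalar ι)).mul (g⁻¹).isUnit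
  have h4 : Commute (g⁻¹).1 (g.1 - scalar ι (x : K)) :=
    Commute.sub_right (by rw [Commute, SemiconjBy, Units.inv_mul, Units.mul_inv]) (scalar_comm _ _).symm
  rw [col, col, h1, colOf_transpose, h2, colOf_mul h3 ((scalar_comm _ _).mul_left h4)]

theorem col_sm (s : ℤˣ) (g : GL ι K) (x : Kˣ) : col (sm K ι s g) (x ^ (s : ℤ)) = col g x := by
  rcases Int.units_eq_one_or s with rfl | rfl
  · rw [sm_one, Units.val_one, zpow_one]
    rfl
  · rw [sm_neg, Units.val_neg, Units.val_one, _root_.zpow_neg_one, col_itm]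

theorem col_act (c : D0) (e : c.E) (g : GL ι c.K) (x : c.Kˣ) : col (c.act ι e g) (c.ue e x) = col g x := by
  rw [D0.act_apply, D0.ue, col_fm, col_sm]

theorem dg_const (x : Kˣ) : (dg (fun _ : ι => x) : GL ι K).1 = scalar ι (x : K) := rfl

theorem col_scalar_self (x : Kˣ) : col (dg fun _ : ι => x) x = cn (Fintype.card ι) := by
  rw [col, dg_const, sub_self, map_zero]
  ext i
  rw [colOf_apply, LinearMap.ker_zero, top_inf_eq]
  rcases Nat.eq_zero_or_pos i with rfl | hi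
  · rw [pow_zero, cn_zero_apply, Module.End.one_eq_id, LinearMap.range_id, finrank_top, finrank_fintype_fun_eq_card]
  · rw [zero_pow hi.ne', cn_apply hi.ne', LinearMap.range_zero, finrank_bot]

theorem col_scalar_ne {x y : Kˣ} (h : y ≠ x) : col (dg fun _ : ι => x) y = 0 := by
  have h1 : IsUnit (scalar ι ((x : K) - y)) :=
    (sub_ne_zero.2 fun e => h (Units.ext e).symm).isUnit.map (scalar ι)
  rw [col, dg_const, ← map_sub]
  ext i
  have h2 : LinearMap.ker (toLin' (scalar ι ((x : K) - y))) = ⊥ :=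
    ((isUnit_toLin'_iff.2 h1).map (MonoidHom.id _) |> (LinearMap.isUnit_iff_ker_eq_bot _).1)
  rw [colOf_apply, h2, bot_inf_eq, finrank_bot]
  rfl

theorem sum_colOf {V : Type} [AddCommGroup V] [Module K V] [Module.Finite K V] (T : V →ₗ[K] V) (j : ℕ) :
    ∑ i ∈ Finset.range j, colOf T i = finrank K (LinearMap.ker (T ^ j)) := by
  induction j with
  | zero => rw [Finset.sum_range_zero, pow_zero, Module.End.one_eq_id, LinearMap.ker_id, finrank_bot]
  | succ j ih =>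
    rw [Finset.sum_range_succ, ih, add_comm]
    exact colOf_add _ j

/-- the size is the multiplicity -/
theorem size_col (g : GL ι K) (x : Kˣ) : (col g x).size = g.1.charpoly.rootMultiplicity (x : K) := by
  have h1 : toLin' (g.1 - scalar ι (x : K)) = toLin' g.1 - (x : K) • 1 := by
    rw [map_sub, scalar_apply, ← smul_one_eq_diagonal, map_smul, toLin'_one]
    rfl
  rw [Col.size_eq_sum_range (le_max_left _ (finrank K (ι → K))), col, sum_colOf, h1, ← Module.End.genEigenspace_nat,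
    Module.End.genEigenspace_eq_genEigenspace_finrank_of_le _ _ (le_max_right _ _),
    ← Module.End.maxGenEigenspace_eq_genEigenspace_finrank, LinearMap.finrank_maxGenEigenspace_eq, charpoly_toLin']

theorem det_eq_prod [Fintype Kˣ] (g : GL ι K) (h : ∑ x : Kˣ, (col g x).size = Fintype.card ι) :
    GeneralLinearGroup.det g = ∏ x : Kˣ, x ^ (col g x).size := by
  classical
  have h0 : ∀ a ∈ g.1.charpoly.roots, a ∈ Finset.univ.map ⟨Units.val, Units.val_injective⟩ := by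
    intro a ha
    have h1 : a ≠ 0 := by
      rintro rfl
      have h2 := Polynomial.isRoot_of_mem_roots ha
      rw [Polynomial.IsRoot, ← Polynomial.coeff_zero_eq_eval_zero] at h2
      refine (GeneralLinearGroup.det g).ne_zero ?_
      rw [GeneralLinearGroup.val_det_apply, det_eq_sign_charpoly_coeff, h2, mul_zero]
    exact Finset.mem_map.2 ⟨Units.mk0 a h1, Finset.mem_univ _, rfl⟩
  have h1 : ∀ x : Kˣ, g.1.charpoly.roots.count (x : K) = (col g x).size := fun x => by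
    rw [size_col, Polynomial.count_roots]
  have h2 : g.1.charpoly.Splits := by
    rw [Polynomial.splits_iff_card_roots, charpoly_natDegree_eq_dim, ← h, ← Multiset.sum_count_eq_card h0,
      Finset.sum_map]
    exact Finset.sum_congr rfl fun x _ => h1 x
  refine Units.ext ?_
  rw [GeneralLinearGroup.val_det_apply, det_eq_prod_roots_charpoly_of_splits h2,
    Finset.prod_multiset_count_of_subset _ _ fun a ha => h0 a (Multiset.mem_toFinset.1 ha), Finset.prod_map,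
    Units.coe_prod]
  exact Finset.prod_congr rfl fun x _ => by rw [Units.val_pow_eq_pow_val, ← h1]; rfl

/-- **the determinant** -/
theorem det_eq_detT [Finite K] {Q : ℤ} (g : GL ι K) (lam : Ty (Orb K Q))
    (h : ∀ x : Kˣ, lam (Quotient.mk (orbSetoid K Q) x) = col g x) (hd : tdeg (dOrb K Q) lam = Fintype.card ι) :
    GeneralLinearGroup.det g = detT Q lam := by
  classical
  have : Fintype Kˣ := Fintype.ofFinite _
  have : Fintype (Orb K Q) := Fintype.ofFinite _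
  rw [det_eq_prod g, detT, finprod_eq_prod_of_fintype,
    ← Fintype.prod_fiberwise (fun x : Kˣ => Quotient.mk (orbSetoid K Q) x)]
  · refine Finset.prod_congr rfl fun o _ => ?_
    rw [finprod_eq_prod_of_fintype, ← Finset.prod_pow]
    exact Finset.prod_congr rfl fun x _ => by rw [← h, x.2]
  · rw [← hd, tdeg, Finsupp.sum_fintype _ _ fun _ => by rw [Col.size_zero, mul_zero],
      ← Fintype.sum_fiberwise (fun x : Kˣ => Quotient.mk (orbSetoid K Q) x)]
    refine Finset.sum_congr rfl fun o _ => ?_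
    delta dOrb
    rw [Nat.card_eq_fintype_card, ← Finset.card_univ, ← smul_eq_mul, ← Finset.sum_const]
    exact Finset.sum_congr rfl fun x _ => by rw [← h, x.2]

end col

end Cfsg.Agent.MO.TA.G
end

-- part: MO/TA/BoxG
section
/-!
# MO, types `A` and `²A`: box G, the labels of `Gt v` with all symmetries (helper95)

* `G.ue_F`, `G.exists_ex`, `G.dtH`, `G.exists_lin` : the action on the units, the determinant, linear characters;
* `G.ty_scalar`, `G.val_tr`, `G.val_tw`, `G.val_cen` : the values at the types;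
* `boxG`.
-/

set_option autoImplicit false
set_option linter.unusedSectionVars false

namespace Cfsg.Agent.MO.TA

open Cfsg Subgroup Matrix Cfsg.Agent.H577.GLB.Std Cfsg.Agent.H615.GU
open Cfsg.Agent.H112.GLB (shiftL)
open Cfsg.Agent.H794.EM (cn tyOne cn_zero cn_inj)
open Cfsg.Agent.H421.GU (expoZ_mul pow_expoZ_add pow_of_level th_zpow mk_eq_iff)
open Cfsg.Agent.Blocks.Basic (irr_one_eq_charDegree charDegree_pos)
open scoped MatrixGroups

namespace G

theorem sign_eq {H H' : Type} [Group H] [Finite H] [Group H'] [Finite H'] {χ : H → ℂ} {χ' : H' → ℂ}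
    (hχ : IsIrrCharacter H χ) (hχ' : IsIrrCharacter H' χ') {s s' : ℤˣ}
    (h : ((s : ℤ) : ℂ) * χ 1 = ((s' : ℤ) : ℂ) * χ' 1) : s = s' := by
  have h1 := charDegree_pos hχ
  have h2 := charDegree_pos hχ'
  rw [irr_one_eq_charDegree hχ, irr_one_eq_charDegree hχ'] at h
  have h3 : (s : ℤ) * charDegree χ = (s' : ℤ) * charDegree χ' := by exact_mod_cast h
  rcases Int.units_eq_one_or s with rfl | rfl <;> rcases Int.units_eq_one_or s' with rfl | rfl
  · rfl
  · simp only [Units.val_one, Units.val_neg] at h3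
    omega
  · simp only [Units.val_one, Units.val_neg] at h3
    omega
  · rfl

theorem sign_ne (s : ℤˣ) : ((s : ℤ) : ℂ) ≠ 0 := Int.cast_ne_zero.2 s.ne_zero

variable (c : D0)

theorem ue_F (x : c.Kˣ) : c.ue c.F x = x ^ c.Q := by
  refine Units.ext ?_
  rw [D0.ue, c.hQ, _root_.zpow_mul, ← Nat.cast_pow, zpow_natCast, Units.val_pow_eq_pow_val, ← c.hF]
  rfl

theorem exists_ex (e : c.E) : ∃ k, c.Ex e k := by
  let f : c.Kˣ →* c.Kˣ := (Units.map (c.σ e : c.K →* c.K)).comp (zpowGroupHom (c.sg e : ℤ))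
  have hf : Function.Injective f := by
    refine (Units.map_injective (c.σ e).injective).comp fun x y h => ?_
    change x ^ (c.sg e : ℤ) = y ^ (c.sg e : ℤ) at h
    rcases Int.units_eq_one_or (c.sg e) with h1 | h1 <;> rw [h1] at h
    · simpa using h
    · simpa using h
  obtain ⟨m, hm⟩ := f.map_cyclic
  obtain ⟨g, hg⟩ := IsCyclic.exists_generator (α := c.Kˣ)
  obtain ⟨y, hy⟩ := Finite.surjective_of_injective hf g
  obtain ⟨j, rfl⟩ := mem_zpowers_iff.1 (hg y)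
  have h1 : (m : ZMod c.M) * (j : ZMod c.M) = 1 := by
    rw [hm, ← _root_.zpow_mul] at hy
    have h2 : g ^ (j * m) = g ^ (1 : ℤ) := by rw [hy, zpow_one]
    rw [zpow_eq_zpow_iff_modEq, orderOf_eq_card_of_forall_mem_zpowers hg, c.ctx.card,
      ← ZMod.intCast_eq_intCast_iff, Int.cast_mul, Int.cast_one] at h2
    rw [mul_comm, h2]
  refine ⟨Units.mkOfMulEqOne _ _ h1, fun x => ?_⟩
  have h3 : x ^ c.M = 1 := by
    rw [← c.ctx.card]
    exact pow_card_eq_one'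
  rw [Units.val_mkOfMulEqOne, ← zpow_natCast, ZMod.val_intCast, ← zpow_eq_zpow_emod' m h3, ← hm]
  rfl

theorem not_dvd_Q {l : ℕ} (hl : l.Prime) (h : l ≠ c.p) : ¬ (l : ℤ) ∣ c.Q := by
  intro h1
  rw [c.hQ, Units.dvd_mul_left, ← Nat.cast_pow, Int.natCast_dvd_natCast] at h1
  exact h ((Nat.prime_dvd_prime_iff_eq hl c.pp.out).1 (hl.dvd_of_dvd_pow h1))

variable {c} {ι : Type} [Fintype ι] [DecidableEq ι] {v : GL ι c.K}

theorem right_eq (g : c.Gt v) : g.1.right = 1 := g.2.2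

theorem left_mul (g h : c.Gt v) : (g * h).1.left = g.1.left * h.1.left := by
  change g.1.left * c.act ι g.1.right h.1.left = _
  rw [right_eq, map_one, MulAut.one_apply]

theorem dt_fix (g : c.Gt v) : c.dt g.1 ^ c.Q = c.dt g.1 := by
  have h := congrArg (fun a : c.AA ι => GeneralLinearGroup.det a.left) (mem_centralizer_singleton_iff.1 g.2.1)
  change GeneralLinearGroup.det (g.1.left * c.act ι g.1.right v) = GeneralLinearGroup.det (v * c.act ι c.F g.1.left) at h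
  rw [right_eq, map_one, MulAut.one_apply, map_mul, map_mul, c.det_act, ue_F, mul_comm] at h
  exact (mul_left_cancel h).symm

variable (v) in
/-- the determinant as a homomorphism -/
def dtH : c.Gt v →* c.Kˣ := MonoidHom.mk' (fun g => c.dt g.1) fun g h => by
  rw [D0.dt, left_mul, map_mul]
  rfl

theorem dtH_apply (g : c.Gt v) : dtH v g = c.dt g.1 := rfl

theorem lin_eq {μ : c.Gt v →* ℂˣ} (hμ : Lin (c.G v) μ) {g h : c.Gt v} (e : dtH v g = dtH v h) : μ g = μ h := by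
  rw [← mul_inv_eq_one, ← map_inv, ← map_mul]
  refine hμ _ ⟨(g * h⁻¹).2, (g * h⁻¹).2.1, ?_⟩
  change dtH v (g * h⁻¹) = 1
  rw [map_mul, map_inv, e, mul_inv_cancel]

variable (v) in
theorem exists_gen : ∃ g₀ : c.Gt v, ∀ g : c.Gt v, ∃ i : ℤ, dtH v g = dtH v (g₀ ^ i) := by
  obtain ⟨⟨_, g₀, rfl⟩, h⟩ := IsCyclic.exists_generator (α := (dtH v).range)
  refine ⟨g₀, fun g => ?_⟩
  obtain ⟨i, hi⟩ := mem_zpowers_iff.1 (h ⟨_, g, rfl⟩)
  exact ⟨i, by rw [map_zpow]; exact (congrArg Subtype.val hi).symm⟩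

/-- the linear characters -/
theorem exists_lin (μ : c.Gt v →* ℂˣ) (hμ : Lin (c.G v) μ) :
    ∃ a, TorZ c.Q c.M 1 a ∧ ∀ g, (μ g : ℂ) = c.lin a (c.dt g.1) := by
  obtain ⟨g₀, h₀⟩ := exists_gen v
  have h1 : IsPrimitiveRoot (c.θ (dtH v g₀ : c.Kˣ)) (orderOf (dtH v g₀)) :=
    (IsPrimitiveRoot.coe_units_iff.2 (IsPrimitiveRoot.orderOf _)).map_of_injective c.ctx.inj
  have h2 : (μ g₀ : ℂ) ^ orderOf (dtH v g₀) = 1 := by
    rw [← Units.val_pow_eq_pow_val, ← map_pow, lin_eq hμ (h := 1) (by rw [map_pow, pow_orderOf_eq_one, map_one]),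
      map_one, Units.val_one]
  have : NeZero (orderOf (dtH v g₀)) := ⟨(orderOf_pos _).ne'⟩
  obtain ⟨j, -, hj⟩ := h1.eq_pow_of_pow_eq_one h2
  obtain ⟨R, hR⟩ := c.ctx.dvd 1 one_pos (by omega)
  have hM0 : (c.M : ℤ) ≠ 0 := by exact_mod_cast NeZero.ne c.M
  have ha : TorZ c.Q c.M 1 ((j * R : ℤ) : ZMod c.M) := by
    have h3 := congrArg (fun z : ℤ => (z : ZMod c.M)) hR
    simp only [Int.cast_natCast, ZMod.natCast_self, Int.cast_mul, Int.cast_sub, Int.cast_pow, Int.cast_one] at h3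
    rw [TorZ, Int.cast_mul, mul_left_comm, ← h3, mul_zero]
  refine ⟨_, ha, fun g => ?_⟩
  have h4 : c.dt g.1 ^ expoZ c.Q c.M 1 ((j * R : ℤ) : ZMod c.M) = c.dt g.1 ^ (j : ℤ) := by
    refine pow_of_level (k := 1) (Q := c.Q) (by rw [pow_one, dt_fix]) ?_
    have h5 := expoZ_mul ha
    have h6 : (c.M : ℤ) ∣ ((((j * R : ℤ) : ZMod c.M).val : ℕ) : ℤ) - j * R := by
      rw [← ZMod.intCast_zmod_eq_zero_iff_dvd, Int.cast_sub, Int.cast_natCast, ZMod.natCast_zmod_val, sub_self]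
    obtain ⟨s, hs⟩ := h6
    refine ⟨s, mul_right_cancel₀ hM0 ?_⟩
    linear_combination h5 + (c.Q ^ 1 - 1) * hs - j * hR
  obtain ⟨i, hi⟩ := h₀ g
  rw [D0.lin, th_zpow, h4, lin_eq hμ hi, map_zpow, Units.val_zpow_eq_zpow_val, ← hj, ← dtH_apply, hi, map_zpow,
    ← th_zpow, ← th_zpow, ← zpow_natCast, ← _root_.zpow_mul, ← _root_.zpow_mul, mul_comm]

/-- the linear characters which fix `χ` -/
def Yc (χ : c.Gt v → ℂ) : Subgroup (c.Gt v →* ℂˣ) where
  carrier := {μ | Lin (c.G v) μ ∧ ∀ x, (μ x : ℂ) * χ x = χ x}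
  one_mem' := ⟨fun _ _ => rfl, fun _ => one_mul _⟩
  mul_mem' := fun {a b} ha hb => ⟨fun x hx => by rw [MonoidHom.mul_apply, ha.1 x hx, hb.1 x hx, one_mul],
    fun x => by rw [MonoidHom.mul_apply, Units.val_mul, mul_assoc, hb.2, ha.2]⟩
  inv_mem' := fun {a} ha => ⟨fun x hx => by rw [MonoidHom.inv_apply, ha.1 x hx, inv_one],
    fun x => by rw [MonoidHom.inv_apply, Units.inv_mul_eq_iff_eq_mul, ha.2]⟩

theorem yc_eq (χ : c.Gt v → ℂ) : yc (c.G v) χ = Nat.card (Yc χ) := rfl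

theorem natAbs_ne : (c.Q - 1).natAbs ≠ 0 := by
  have h := pow_ne_one c.ctx.two one_pos
  rw [pow_one] at h
  exact Int.natAbs_ne_zero.2 (sub_ne_zero.2 h)

theorem exists_emb (χ : c.Gt v → ℂ) : ∃ f : Yc χ →* rootsOfUnity (c.Q - 1).natAbs ℂ, Function.Injective f := by
  obtain ⟨g₀, h₀⟩ := exists_gen v
  refine ⟨((MonoidHom.eval g₀).comp (Yc χ).subtype).codRestrict _ fun μ => ?_, ?_⟩
  · change μ.1 g₀ ^ (c.Q - 1).natAbs = 1
    rw [← map_pow, lin_eq μ.2.1 (h := 1), map_one]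
    rw [map_pow, map_one, pow_natAbs_eq_one, _root_.zpow_sub_one, dtH_apply, dt_fix, mul_inv_cancel]
  · refine (injective_iff_map_eq_one _).2 fun μ h => Subtype.ext (MonoidHom.ext fun g => ?_)
    obtain ⟨i, hi⟩ := h₀ g
    have h1 : μ.1 g₀ = 1 := congrArg Subtype.val h
    simp only [lin_eq μ.2.1 hi, map_zpow, h1, _root_.one_zpow]
    rfl

theorem yc_dvd (χ : c.Gt v → ℂ) : ((yc (c.G v) χ : ℕ) : ℤ) ∣ c.Q - 1 := by
  have : NeZero (c.Q - 1).natAbs := ⟨natAbs_ne⟩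
  obtain ⟨f, hf⟩ := exists_emb χ
  have h := card_dvd_of_injective f hf
  rw [Complex.card_rootsOfUnity] at h
  exact Int.natCast_dvd.2 h

theorem yc_two (χ : c.Gt v → ℂ) (h : ∀ μ ∈ Yc χ, μ * μ = 1) : ∃ k : ℕ, yc (c.G v) χ = 2 ^ k := by
  have : NeZero (c.Q - 1).natAbs := ⟨natAbs_ne⟩
  obtain ⟨f, hf⟩ := exists_emb χ
  have : Finite (Yc χ) := Finite.of_injective f hf
  rw [yc_eq]
  refine (IsPGroup.iff_card (p := 2) (G := Yc χ)).1 fun μ => ⟨1, Subtype.ext ?_⟩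
  simp only [pow_one, sq]
  exact h μ.1 μ.2

theorem lin_add {a b : ZMod c.M} (ha : TorZ c.Q c.M 1 a) (hb : TorZ c.Q c.M 1 b) {x : c.Kˣ} (hx : x ^ c.Q = x) :
    c.lin (a + b) x = c.lin a x * c.lin b x := by
  rw [D0.lin, D0.lin, D0.lin, th_zpow, th_zpow, th_zpow, pow_expoZ_add (pow_fix hx 1) ha hb, Units.val_mul, map_mul]

theorem lin_zero (x : c.Kˣ) : c.lin 0 x = 1 := by rw [D0.lin, expoZ_zero, zpow_zero]

theorem lin_one (a : ZMod c.M) : c.lin a 1 = 1 := by rw [D0.lin, Units.val_one, map_one, _root_.one_zpow]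

variable (T : c.Tab v)
include T

theorem scalar_fix (h0 : Fintype.card ι ≠ 0) {z : c.Gt v} {x : c.Kˣ} (hz : z.1.left = dg fun _ => x) : x ^ c.Q = x := by
  by_contra h
  have h1 : Quotient.mk (orbSetoid c.K c.Q) (x ^ c.Q) = Quotient.mk (orbSetoid c.K c.Q) x :=
    (mk_eq_iff c.ctx.card c.ctx.unit).2 ⟨1, by rw [pow_one]⟩
  have h2 := T.orb z (x ^ c.Q)
  rw [h1, T.orb, hz, col_scalar_self, col_scalar_ne h, ← cn_zero] at h2
  exact h0 (cn_inj h2)

/-- the type of a scalar matrix -/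
theorem ty_scalar {z : c.Gt v} {x : c.Kˣ} (hz : z.1.left = dg fun _ => x) (hx : x ^ c.Q = x) :
    ty c.Q z.1.left = Finsupp.single (Quotient.mk (orbSetoid c.K c.Q) x) (cn (Fintype.card ι)) := by
  ext1 o
  induction o using Quotient.inductionOn with
  | h y =>
    rw [T.orb, hz]
    by_cases hy : y = x
    · rw [hy, col_scalar_self, Finsupp.single_eq_same]
    · rw [col_scalar_ne hy, Finsupp.single_eq_of_ne]
      exact fun h => ((mk_eq_iff c.ctx.card c.ctx.unit).1 h).elim fun i hi => hy (hi.trans (pow_fix hx i))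

theorem ty_one : ty c.Q (1 : c.Gt v).1.left = tyOne c.Q (Fintype.card ι) :=
  ty_scalar T (x := 1) (map_one (dg : (ι → c.Kˣ) →* GL ι c.K)).symm (_root_.one_zpow _)

variable {m n : ℕ}

theorem val_tr {a : c.AA ι} {k : (ZMod c.M)ˣ} (hk : c.Ex a.right k) (t : LabZ c.Q c.M m n) {x y : c.Gt v}
    (h : (y : c.AA ι) = a * x * a⁻¹) : evR c.θ c.Q c.M (SchP c.Q c.M (mulL t k).t) (ty c.Q y.1.left) =
      evR c.θ c.Q c.M (SchP c.Q c.M t.t) (ty c.Q x.1.left) := by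
  refine evR_mulL c.ctx.card c.ctx.unit t k fun z => ?_
  have h1 : y.1.left = a.left * c.act ι a.right x.1.left * a.left⁻¹ := by
    rw [h]
    change a.left * c.act ι a.right x.1.left * c.act ι (a.right * x.1.right) (c.act ι a.right⁻¹ a.left⁻¹) = _
    simp only [right_eq, mul_one, ← MulAut.mul_apply, ← map_mul, mul_inv_cancel, map_one, MulAut.one_apply]
  rw [T.orb, T.orb, h1, col_conj, ← hk, col_act]

theorem val_tw (t : LabZ c.Q c.M m n) {a : ZMod c.M} (ha : TorZ c.Q c.M 1 a) (g : c.Gt v) :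
    evR c.θ c.Q c.M (SchP c.Q c.M (shiftL t ha).t) (ty c.Q g.1.left) =
      c.lin a (c.dt g.1) * evR c.θ c.Q c.M (SchP c.Q c.M t.t) (ty c.Q g.1.left) := by
  obtain ⟨D, hD⟩ := T.typ
  rw [evR_shiftL c.ctx.card c.ctx.unit, linT, ← det_eq_detT g.1.left _ (T.orb g) (hD g ▸ D.deg g)]
  rfl

theorem val_cen (t : LabZ c.Q c.M m n) {z : c.Gt v} {x : c.Kˣ} (hz : z.1.left = dg fun _ => x) (hx : x ^ c.Q = x) :
    evR c.θ c.Q c.M (SchP c.Q c.M t.t) (ty c.Q z.1.left) =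
      c.lin (tot t) x * evR c.θ c.Q c.M (SchP c.Q c.M t.t) (ty c.Q (1 : c.Gt v).1.left) := by
  rw [ty_scalar T hz hx, ty_one T, cen_val c.ctx hx]
  rfl

end G

open G in
/-- **box G** -/
theorem boxG : BoxG := by
  rintro c ι _ _ hι v hv m _ rfl hm
  have T := c.tab ι hι v hv
  choose ch hch hu using T.chr m hm
  have inj : Function.Injective ch := fun t t' h =>
    (T.lab m hm _ (hch t').1).unique (h ▸ (hch t).2) (hch t').2
  have tw : ∀ a (ha : TorZ c.Q c.M 1 a) t g, ch (shiftL t ha) g = c.lin a (c.dt g.1) * ch t g := by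
    intro a ha t g
    obtain ⟨s, hs⟩ := (hch t).2
    obtain ⟨s', hs'⟩ := (hch (shiftL t ha)).2
    have h1 := val_tw T t ha 1
    rw [hs, hs', ← dtH_apply, map_one, lin_one, one_mul] at h1
    have h2 := val_tw T t ha g
    rw [hs, hs', sign_eq (hch _).1 (hch _).1 h1, mul_left_comm] at h2
    exact mul_left_cancel₀ (sign_ne s) h2
  refine ⟨ch, fun t => (hch t).2, ⟨fun t _ => (hch t).1, inj.injOn, fun χ hχ => ?_⟩, exists_ex c.toD0, ?_, exists_lin, tw,
    ?_, ?_, fun t => yc_dvd _, fun t h => yc_two _ fun μ hμ => ?_⟩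
  · obtain ⟨t, ht, -⟩ := T.lab m hm χ hχ
    exact ⟨t, Set.mem_univ _, (hu t χ ⟨hχ, ht⟩).symm⟩
  · intro a _ k hk t x y h
    obtain ⟨s, hs⟩ := (hch t).2
    obtain ⟨s', hs'⟩ := (hch (mulL t k)).2
    have h1 := val_tr T hk t (x := 1) (y := 1) (by rw [coe_one, mul_one, mul_inv_cancel])
    rw [hs, hs'] at h1
    have h2 := val_tr T hk t h
    rw [hs, hs', sign_eq (hch _).1 (hch _).1 h1] at h2
    exact mul_left_cancel₀ (sign_ne s) h2
  · intro z x hz t
    by_cases h0 : Fintype.card ι = 0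
    · have h1 : tot t = 0 := Finset.sum_eq_zero fun b _ => by
        rw [Finset.sum_eq_zero_iff.1 (t.sum.trans h0) b (Finset.mem_univ _), zero_smul]
      have : IsEmpty ι := Fintype.card_eq_zero_iff.1 h0
      have h2 : z = 1 := Subtype.ext (SemidirectProduct.ext (Units.ext (Subsingleton.elim _ _)) (right_eq z))
      rw [h1, lin_zero, one_mul, h2]
    · obtain ⟨s, hs⟩ := (hch t).2
      have h2 := val_cen T t hz (scalar_fix T h0 hz)
      rw [hs, hs, mul_left_comm] at h2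
      exact mul_left_cancel₀ (sign_ne s) h2
  · intro l hl hp t
    obtain ⟨s, hs⟩ := (hch t).2
    refine deg_val c.ctx t hl (not_dvd_Q c.toD0 hl hp) (charDegree_pos (hch t).1).ne' (s := s) ?_
    rw [← ty_one T, hs, irr_one_eq_charDegree (hch t).1]
  · obtain ⟨a, ha, h1⟩ := exists_lin μ hμ.1
    have h2 := h a ha (inj (funext fun g => by rw [tw, ← h1, hμ.2]))
    refine MonoidHom.ext fun g => Units.ext ?_
    rw [MonoidHom.mul_apply, Units.val_mul, h1, ← lin_add ha ha (dt_fix g), h2, lin_zero]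
    rfl

end Cfsg.Agent.MO.TA
end

-- part: MO/TA/BoxH1
section
/-!
# MO, types `A` and `²A`: the characters of a cyclic extension of an abelian group (helper92)

* `Mc τ s Q d ε` : `H` is generated by the abelian group `τ T` and `s`, which acts as the `Q`-th power, `s ^ d = τ ε`;
* `Pe Q μ e` : the period of a linear character of `T`; `L`, `K` : the extension to the inertia group and the induced character;
* `K_irr`, `K_inj`, `K_inj'`, `K_surj`, `K_tr`, `K_cen`, `K_one`, `K_prim`.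
-/

set_option autoImplicit false

namespace Cfsg.Agent.MO.TA.H

open Cfsg Subgroup Cfsg.Agent.Characters.Core Cfsg.Agent.Characters Cfsg.Agent.OddOrderCharacters Cfsg.Agent.H672
open scoped ComplexConjugate

/-- the roots of `c` of order `n` -/
noncomputable def rt (c : ℂ) (n j : ℕ) : ℂ := c ^ ((n : ℂ)⁻¹) * Complex.exp (2 * Real.pi * Complex.I / n) ^ j

theorem rt_pow (c : ℂ) {n : ℕ} (hn : n ≠ 0) (j : ℕ) : rt c n j ^ n = c := by
  rw [rt, mul_pow, Complex.cpow_nat_inv_pow c hn, ← pow_mul, mul_comm j, pow_mul,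
    (Complex.isPrimitiveRoot_exp n hn).pow_eq_one, one_pow, mul_one]

theorem rt_inj {c : ℂ} (hc : c ≠ 0) {n j j' : ℕ} (hj : j < n) (hj' : j' < n) (h : rt c n j = rt c n j') : j = j' :=
  (Complex.isPrimitiveRoot_exp n (by omega)).pow_inj hj hj' (mul_left_cancel₀ (fun e => hc (by
    rw [← Complex.cpow_nat_inv_pow c (n := n) (by omega), e, zero_pow (by omega)])) h)

theorem sum_rt (c : ℂ) {n b : ℕ} (hn : n ≠ 0) (h : ¬ n ∣ b) : ∑ j ∈ Finset.range n, rt c n j ^ b = 0 := by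
  have h1 := Complex.isPrimitiveRoot_exp n hn
  simp only [rt, mul_pow, ← pow_mul, mul_comm _ b]
  simp only [pow_mul]
  rw [← Finset.mul_sum, eq_zero_of_ne_zero_of_mul_right_eq_zero (sub_ne_zero.2 fun e => h ((h1.pow_eq_one_iff_dvd b).1 e))
    ((geom_sum_mul _ n).trans (by rw [← pow_mul, mul_comm b, pow_mul, h1.pow_eq_one, one_pow, sub_self])), mul_zero]

variable {H T : Type} [Group H] [CommGroup T]

/-- a cyclic extension of an abelian group -/
structure Mc (τ : T →* H) (s : H) (Q : ℤ) (d : ℕ) (ε : T) : Prop where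
  inj : Function.Injective τ
  comm : ∀ t, τ t * s = s * τ (t ^ Q)
  gen : ∀ h, ∃ (i : ℕ) (t : T), h = s ^ i * τ t
  dvd : ∀ (i : ℕ) t, s ^ i = τ t → d ∣ i
  sd : s ^ d = τ ε
  pos : 0 < d

/-- the period -/
def Pe (Q : ℤ) (μ : T →* ℂˣ) (e : ℕ) : Prop := ∀ i : ℕ, (∀ t, μ (t ^ Q ^ i) = μ t) ↔ e ∣ i

open Classical in
/-- the extension to the inertia group -/
noncomputable def L (τ : T →* H) (s : H) (d : ℕ) (ε : T) (μ : T →* ℂˣ) (e j : ℕ) (h : H) : ℂ :=
  if hh : ∃ x : ℕ × T, h = s ^ (e * x.1) * τ x.2 then rt (μ ε) (d / e) j ^ hh.choose.1 * μ hh.choose.2 else 0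

/-- the induced character -/
noncomputable def K [Finite H] (τ : T →* H) (s : H) (d : ℕ) (ε : T) (μ : T →* ℂˣ) (e j : ℕ) (h : H) : ℂ :=
  (e : ℂ) / Nat.card H * ∑ᶠ y, L τ s d ε μ e j (y⁻¹ * h * y)

namespace Mc

variable {τ : T →* H} {s : H} {Q : ℤ} {d : ℕ} {ε : T} (m : Mc τ s Q d ε) {μ μ' : T →* ℂˣ} {e e' j j' : ℕ}

include m

theorem comm_pow (t : T) (i : ℕ) : τ t * s ^ i = s ^ i * τ (t ^ Q ^ i) := by
  induction i with
  | zero => simp
  | succ i ih => rw [pow_succ, ← mul_assoc, ih, mul_assoc, m.comm, ← mul_assoc, ← zpow_mul, ← pow_succ Q]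

theorem mul (i k : ℕ) (t u : T) : s ^ i * τ t * (s ^ k * τ u) = s ^ (i + k) * τ (t ^ Q ^ k * u) := by
  rw [mul_assoc, ← mul_assoc (τ t), m.comm_pow, pow_add, map_mul]
  simp only [mul_assoc]

theorem cj (y : H) : ∃ i : ℕ, ∀ u, y⁻¹ * τ u * y = τ (u ^ Q ^ i) := by
  obtain ⟨i, t, rfl⟩ := m.gen y
  exact ⟨i, fun u => by
    rw [mul_assoc, ← mul_assoc (τ u), m.comm_pow, inv_mul_eq_iff_eq_mul, mul_assoc, mul_assoc, ← map_mul, ← map_mul,
      mul_comm t]⟩

theorem eq_of_le {i k : ℕ} {t u : T} (h : s ^ i * τ t = s ^ (i + k) * τ u) : ∃ c, k = d * c ∧ t = ε ^ c * u := by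
  rw [pow_add, mul_assoc, mul_right_inj] at h
  obtain ⟨c, rfl⟩ := m.dvd k (t * u⁻¹) (by rw [map_mul, h, map_inv, mul_inv_cancel_right])
  exact ⟨c, rfl, m.inj (by rw [h, pow_mul, m.sd, map_mul, map_pow])⟩

theorem modEq {i k : ℕ} {t u : T} (h : s ^ i * τ t = s ^ k * τ u) : i ≡ k [MOD d] := by
  wlog hik : i ≤ k generalizing i k t u
  · exact (this h.symm (by omega)).symm
  obtain ⟨k, rfl⟩ := Nat.exists_eq_add_of_le hik
  obtain ⟨c, rfl, -⟩ := m.eq_of_le h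
  exact (Nat.modEq_iff_dvd' hik).2 ⟨c, Nat.add_sub_cancel_left _ _⟩

theorem div_ne (he : e ∣ d) : d / e ≠ 0 :=
  (Nat.div_pos (Nat.le_of_dvd m.pos he) (Nat.pos_of_dvd_of_pos he m.pos)).ne'

theorem L_apply (he : e ∣ d) (b : ℕ) (t : T) : L τ s d ε μ e j (s ^ (e * b) * τ t) = rt (μ ε) (d / e) j ^ b * μ t := by
  have key : ∀ (b b' : ℕ) (t t' : T), s ^ (e * b) * τ t = s ^ (e * b') * τ t' →
      rt (μ ε) (d / e) j ^ b * μ t = rt (μ ε) (d / e) j ^ b' * μ t' := fun b b' t t' h => by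
    wlog hb : b ≤ b' generalizing b b' t t'
    · exact (this _ _ _ _ h.symm (by omega)).symm
    obtain ⟨k, rfl⟩ := Nat.exists_eq_add_of_le hb
    rw [mul_add] at h
    obtain ⟨c, h1, rfl⟩ := m.eq_of_le h
    rw [← Nat.mul_div_cancel' he, mul_assoc] at h1
    rw [Nat.eq_of_mul_eq_mul_left (Nat.pos_of_dvd_of_pos he m.pos) h1, pow_add, pow_mul, rt_pow _ (m.div_ne he), map_mul,
      map_pow, Units.val_mul, Units.val_pow_eq_pow_val, mul_assoc]
  have hh : ∃ x : ℕ × T, s ^ (e * b) * τ t = s ^ (e * x.1) * τ x.2 := ⟨(b, t), rfl⟩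
  rw [L, dif_pos hh]
  exact (key _ _ _ _ hh.choose_spec).symm

theorem L_τ (he : e ∣ d) (t : T) : L τ s d ε μ e j (τ t) = μ t := by
  simpa using m.L_apply (μ := μ) (j := j) he 0 t

/-- the inertia group -/
theorem exists_sub (he : e ∣ d) :
    ∃ N : Subgroup H, N.Normal ∧ N.index = e ∧ ∀ h, h ∈ N ↔ ∃ x : ℕ × T, h = s ^ (e * x.1) * τ x.2 := by
  choose i t h using m.gen
  have h1 : ∀ {k : ℕ} {u y}, y = s ^ k * τ u → (i y : ZMod e) = k := fun e =>
    (ZMod.natCast_eq_natCast_iff _ _ _).2 ((m.modEq ((h _).symm.trans e)).of_dvd he)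
  let ω : H →* Multiplicative (ZMod e) := MonoidHom.mk' (fun y => Multiplicative.ofAdd (i y : ZMod e)) fun a b => by
    rw [h1 ((congrArg₂ (· * ·) (h a) (h b)).trans (m.mul _ _ _ _)), Nat.cast_add, ofAdd_add]
  have : NeZero e := ⟨(Nat.pos_of_dvd_of_pos he m.pos).ne'⟩
  refine ⟨ω.ker, inferInstance, ?_, fun y => ⟨fun hy => ?_, ?_⟩⟩
  · rw [index_ker, MonoidHom.range_eq_top.2 fun a => ⟨s ^ a.toAdd.val * τ 1, congrArg Multiplicative.ofAdd
      ((h1 rfl).trans (ZMod.natCast_zmod_val _))⟩, card_top, Nat.card_congr Multiplicative.toAdd, Nat.card_zmod]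
  · obtain ⟨b, hb⟩ := (ZMod.natCast_eq_zero_iff _ _).1 (congrArg Multiplicative.toAdd hy)
    exact ⟨(b, t y), hb ▸ h y⟩
  · rintro ⟨x, hx⟩
    exact congrArg Multiplicative.ofAdd ((h1 hx).trans (by simp))

variable {N : Subgroup H} (he : e ∣ d) (hp : Pe Q μ e) (hN : ∀ h, h ∈ N ↔ ∃ x : ℕ × T, h = s ^ (e * x.1) * τ x.2)

omit m in
include hN in
theorem L_not {h : H} (hh : h ∉ N) : L τ s d ε μ e j h = 0 := dif_neg fun e => hh ((hN h).2 e)

omit m in
include hN in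
theorem τ_mem (t : T) : τ t ∈ N := (hN _).2 ⟨(0, t), by simp⟩

include he hp hN

theorem exists_hom : ∃ l : N →* ℂˣ, ∀ n : N, (l n : ℂ) = L τ s d ε μ e j n := by
  let l : N →* ℂ :=
    { toFun := fun n => L τ s d ε μ e j n
      map_one' := by simpa only [_root_.OneMemClass.coe_one, _root_.map_one, _root_.Units.val_one] using m.L_τ (μ := μ) (j := j) he 1
      map_mul' := fun a b => by
        obtain ⟨x, hx⟩ := (hN _).1 a.2
        obtain ⟨y, hy⟩ := (hN _).1 b.2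
        rw [coe_mul, hx, hy, m.mul, ← mul_add, m.L_apply he, m.L_apply he, m.L_apply he, map_mul,
          (hp _).2 (dvd_mul_right _ _), pow_add, Units.val_mul]
        ring }
  exact ⟨l.toHomUnits, fun _ => rfl⟩

theorem L_conj [N.Normal] {n : H} (hn : n ∈ N) (h : H) : L τ s d ε μ e j (n⁻¹ * h * n) = L τ s d ε μ e j h := by
  obtain ⟨l, hl⟩ := m.exists_hom (j := j) he hp hN
  by_cases hh : h ∈ N
  · rw [← hl ⟨h, hh⟩, ← mul_inv_cancel_comm (l ⟨n, hn⟩)⁻¹ (l ⟨h, hh⟩), inv_inv, ← map_inv, ← map_mul, ← map_mul, hl]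
    rfl
  · rw [L_not hN hh, L_not hN fun e => hh ((mul_mem_cancel_left (inv_mem hn)).1 ((mul_mem_cancel_right hn).1 e))]

omit m he hp in
theorem K_eq [Fintype H] (hi : N.index = e) {l : N → ℂ} (hl : ∀ n : N, l n = L τ s d ε μ e j n) :
    K τ s d ε μ e j = indFun N l := by
  funext h
  have h1 : (Nat.card N : ℂ) ≠ 0 := Nat.cast_ne_zero.2 Nat.card_pos.ne'
  have h2 : (N.index : ℂ) ≠ 0 := Nat.cast_ne_zero.2 index_ne_zero_of_finite
  subst hi
  rw [K, indFun, finsum_eq_sum_of_fintype, ← N.index_mul_card, Nat.cast_mul, div_mul_cancel_left₀ h2]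
  refine congrArg _ (Finset.sum_congr rfl fun y _ => ?_)
  by_cases hy : y⁻¹ * h * y ∈ N
  · exact (hl ⟨_, hy⟩).symm.trans (S0150.extendByZero_coe N l ⟨_, hy⟩).symm
  · rw [L_not hN hy, S0150.extendByZero_of_notMem _ _ hy]

omit hN

variable [Finite H]

theorem K_irr : IsIrrCharacter H (K τ s d ε μ e j) := by
  have := Fintype.ofFinite H
  obtain ⟨N, _, hi, hN⟩ := m.exists_sub he
  obtain ⟨l, hl⟩ := m.exists_hom (j := j) he hp hN
  rw [K_eq hN hi hl]
  refine IndRes.isIrr_indFun_of_stabilizer N (Linear.isIrrCharacter_hom l) fun g hg => ?_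
  obtain ⟨i, t, h1⟩ := m.gen g⁻¹
  obtain ⟨b, rfl⟩ := (hp i).1 fun u => Units.ext (by
    have h2 := congrFun hg ⟨τ u, τ_mem hN u⟩
    rw [NormalInduced.conjFn_apply, hl, hl, m.L_τ he] at h2
    rw [← h2, ← m.L_τ (j := j) he]
    congr 1
    change _ = g * τ u * g⁻¹
    rw [eq_comm, mul_assoc, h1, ← mul_assoc (τ u), m.comm_pow, mul_assoc, ← map_mul, mul_comm, map_mul,
      ← mul_assoc (s ^ i), ← h1, mul_inv_cancel_left])
  exact inv_mem_iff.1 ((hN _).2 ⟨(b, t), h1⟩)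

theorem K_comm {h : H} (hh : h * s = s * h) : K τ s d ε μ e j h = e * L τ s d ε μ e j h := by
  have := Fintype.ofFinite H
  obtain ⟨N, _, -, hN⟩ := m.exists_sub he
  have h1 : ∀ y, L τ s d ε μ e j (y⁻¹ * h * y) = L τ s d ε μ e j h := fun y => by
    obtain ⟨i, t, rfl⟩ := m.gen y
    rw [← m.L_conj he hp hN (τ_mem hN t) h, mul_inv_rev, mul_assoc, mul_assoc, ← mul_assoc h,
      (Commute.pow_right hh i).eq, mul_assoc, inv_mul_cancel_left, mul_assoc]
  simp only [K, h1]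
  rw [finsum_eq_sum_of_fintype, Finset.sum_const, Finset.card_univ, nsmul_eq_mul, ← Nat.card_eq_fintype_card, ← mul_assoc,
    div_mul_cancel₀ _ (Nat.cast_ne_zero.2 Nat.card_pos.ne')]

theorem K_one : K τ s d ε μ e j 1 = e := by
  rw [m.K_comm he hp (by rw [one_mul, mul_one]), ← map_one τ, m.L_τ he, map_one, Units.val_one, mul_one]

theorem K_inj' (hj : j < d / e) (hj' : j' < d / e) (h : K τ s d ε μ e j = K τ s d ε μ e j') : j = j' := by
  have h1 := congrFun h (s ^ (e * 1) * τ 1)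
  have h2 : s ^ (e * 1) * τ 1 * s = s * (s ^ (e * 1) * τ 1) := by rw [map_one, mul_one, ← pow_succ, pow_succ']
  rw [m.K_comm he hp h2, m.K_comm he hp h2, m.L_apply he, m.L_apply he, pow_one, pow_one] at h1
  exact rt_inj (Units.ne_zero _) hj hj' (mul_right_cancel₀ (Units.ne_zero _)
    (mul_left_cancel₀ (Nat.cast_ne_zero.2 (Nat.pos_of_dvd_of_pos he m.pos).ne') h1))

omit hp in
theorem over_iff' [Finite T] : Over τ (K τ s d ε μ e j) (fun t => μ' t) ↔ ∃ i : ℕ, ∀ t, μ' t = μ (t ^ Q ^ i) := by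
  classical
  have := Fintype.ofFinite H
  have := Fintype.ofFinite T
  choose f hf using m.cj
  have h1 : K τ s d ε μ e j ∘ τ = ((e : ℂ) / Nat.card H) • ∑ y, fun t => ((μ.comp (zpowGroupHom (Q ^ f y)) t : ℂˣ) : ℂ) :=
    funext fun t => by
      simp only [Function.comp_apply, K, hf, m.L_τ he, finsum_eq_sum_of_fintype, Pi.smul_apply, Finset.sum_apply]
      rfl
  rw [over_iff, h1, classInner_smul_left, classInner_sum_left]
  simp only [classInner_irr (Linear.isIrrCharacter_hom _) (Linear.isIrrCharacter_hom μ')]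
  rw [Finset.sum_boole, mul_ne_zero_iff, and_iff_right (div_ne_zero
    (Nat.cast_ne_zero.2 (Nat.pos_of_dvd_of_pos he m.pos).ne') (Nat.cast_ne_zero.2 Nat.card_pos.ne')),
    Nat.cast_ne_zero, Finset.card_ne_zero]
  refine ⟨fun ⟨y, hy⟩ => ⟨f y, fun t => Units.ext (congrFun (Finset.mem_filter.1 hy).2 t).symm⟩,
    fun ⟨i, hi⟩ => ⟨s ^ i, Finset.mem_filter.2 ⟨Finset.mem_univ _, funext fun t => ?_⟩⟩⟩
  rw [hi, ← m.inj (a₂ := t ^ Q ^ i) ((hf (s ^ i) t).symm.trans (by rw [mul_assoc, m.comm_pow, inv_mul_cancel_left]))]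
  rfl

omit hp in
theorem K_inj [Finite T] (he' : e' ∣ d) (h : K τ s d ε μ e j = K τ s d ε μ' e' j') :
    ∃ i : ℕ, ∀ t, μ' t = μ (t ^ Q ^ i) :=
  (m.over_iff' he).1 (h ▸ (m.over_iff' he').2 ⟨0, fun t => by rw [pow_zero, zpow_one]⟩)

theorem K_surj [Finite T] {χ : H → ℂ} (hχ : IsIrrCharacter H χ) (ho : Over τ χ fun t => μ t) :
    ∃ j < d / e, K τ s d ε μ e j = χ := by
  have := Fintype.ofFinite H
  have := Fintype.ofFinite T
  obtain ⟨N, _, hi, hN⟩ := m.exists_sub he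
  have := Fintype.ofFinite N
  by_contra h
  have h1 : classInner (IndRes.res N χ) (∑ j ∈ Finset.range (d / e), fun n : N => L τ s d ε μ e j n) = 0 := by
    rw [classInner_sum_right]
    refine Finset.sum_eq_zero fun j hj => ?_
    rw [← IndRes.classInner_indFun_right N _ (isIrr_isClassFunction hχ), ← K_eq hN hi fun _ => rfl]
    exact classInner_irr_ne hχ (m.K_irr he hp) fun e => h ⟨j, Finset.mem_range.1 hj, e.symm⟩
  rw [classInner_def, mul_eq_zero, or_iff_right (inv_ne_zero card_ne_zero_complex),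
    ← Fintype.sum_of_injective (τ.codRestrict N (τ_mem hN)) (m.inj.codRestrict _)
      (fun t => (d / e : ℕ) * (χ (τ t) * conj (μ t : ℂ))) _ (fun n hn => ?_) fun t => ?_, ← Finset.mul_sum] at h1
  · rw [over_iff, classInner_def] at ho
    exact right_ne_zero_of_mul ho ((mul_eq_zero.1 h1).resolve_left (Nat.cast_ne_zero.2 (m.div_ne he)))
  · obtain ⟨x, hx⟩ := (hN _).1 n.2
    simp only [Finset.sum_apply, hx, m.L_apply he]
    rw [← Finset.sum_mul, sum_rt _ (m.div_ne he), zero_mul, map_zero, mul_zero]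
    rintro ⟨c, hc⟩
    exact hn ⟨ε ^ c * x.2, Subtype.ext (by
      rw [hx, hc, ← mul_assoc, Nat.mul_div_cancel' he, pow_mul, m.sd, ← map_pow, ← map_mul]
      rfl)⟩
  · simp only [Finset.sum_apply, MonoidHom.codRestrict_apply, m.L_τ he, Finset.sum_const, Finset.card_range,
      nsmul_eq_mul, map_mul, map_natCast]
    exact mul_left_comm _ _ _

omit hp in
/-- automorphisms and linear characters -/
theorem K_tr (α : H →* H) (hα : Function.Injective α) (c : H →* ℂˣ) (hs : α s = s) (hc : c s = 1)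
    (hτ : ∀ t, ∃ t', α (τ t) = τ t' ∧ μ' t' = c (τ t) * μ t) (h : H) :
    K τ s d ε μ' e j (α h) = c h * K τ s d ε μ e j h := by
  have := Fintype.ofFinite H
  obtain ⟨N, _, -, hN⟩ := m.exists_sub he
  have h1 : μ' ε = μ ε := by
    obtain ⟨t, h1, h2⟩ := hτ ε
    rw [← m.sd, map_pow, hs, m.sd] at h1
    rw [← m.inj h1, ← m.sd, map_pow, hc, one_pow, one_mul] at h2
    exact h2
  have h2 : ∀ y ∈ N, α y ∈ N ∧ L τ s d ε μ' e j (α y) = c y * L τ s d ε μ e j y := fun y hy => by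
    obtain ⟨x, rfl⟩ := (hN _).1 hy
    obtain ⟨t, h3, h4⟩ := hτ x.2
    simp only [map_mul, map_pow, hs, h3, m.L_apply he, m.L_apply he, h1, h4, map_mul, map_pow, hc, one_pow, one_mul,
      Units.val_mul]
    exact ⟨(hN _).2 ⟨(x.1, t), rfl⟩, mul_left_comm _ _ _⟩
  have h3 : N.map α = N := eq_of_le_of_card_ge (map_le_iff_le_comap.2 fun y hy => (h2 y hy).1)
    (card_map_of_injective hα).ge
  have h4 : ∀ y, L τ s d ε μ' e j (α y) = c y * L τ s d ε μ e j y := fun y => by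
    by_cases hy : y ∈ N
    · exact (h2 y hy).2
    · rw [L_not hN hy, L_not hN fun e => hy ((mem_map_iff_mem hα).1 (h3.ge e)), mul_zero]
  rw [K, K, finsum_eq_sum_of_fintype, finsum_eq_sum_of_fintype, mul_left_comm, Finset.mul_sum _ _ (c h : ℂ),
    ← (Finite.injective_iff_bijective.1 hα).sum_comp]
  refine congrArg _ (Finset.sum_congr rfl fun y _ => ?_)
  rw [← map_inv, ← map_mul, ← map_mul, h4, map_mul, map_mul, map_inv, inv_mul_cancel_comm]

omit hp in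
theorem K_pow (h : ∀ t, μ' t = μ (t ^ Q)) : K τ s d ε μ' e j = K τ s d ε μ e j := by
  funext y
  have h1 := m.K_tr (μ' := μ) (μ := μ') (j := j) he (MulAut.conj s⁻¹).toMonoidHom (MulAut.conj s⁻¹).injective 1 (by simp) rfl
    (fun t => ⟨t ^ Q, by simp only [mul_assoc, m.comm, _root_.map_inv, _root_.MulEquiv.toMonoidHom_eq_coe, _root_.MonoidHom.coe_coe, _root_.MulAut.inv_apply, _root_.MulAut.conj_symm_apply, _root_.map_zpow, _root_.inv_mul_cancel_left], by simp [h]⟩) y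
  rw [MonoidHom.one_apply, Units.val_one, one_mul] at h1
  rw [← h1, K, K, ← finsum_comp_equiv (Equiv.mulLeft s⁻¹)]
  simp only [mul_assoc, _root_.Equiv.coe_mulLeft, _root_.mul_inv_rev, _root_.inv_inv, _root_.map_inv, _root_.MulEquiv.toMonoidHom_eq_coe, _root_.MonoidHom.coe_coe, _root_.MulAut.inv_apply, _root_.MulAut.conj_symm_apply, _root_.mul_inv_cancel_left]

omit hp in
/-- central characters -/
theorem K_cen {u : T} (hu : u ^ Q = u) (h : H) : K τ s d ε μ e j (τ u * h) = μ u * K τ s d ε μ e j h := by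
  have := Fintype.ofFinite H
  obtain ⟨N, _, -, hN⟩ := m.exists_sub he
  have h1 : Commute (τ u) s := (m.comm u).trans (by rw [hu])
  have h2 : ∀ i t, τ u * (s ^ i * τ t) = s ^ i * τ (u * t) := fun i t => by
    rw [← mul_assoc, (h1.pow_right i).eq, map_mul, mul_assoc]
  have h3 : ∀ y, L τ s d ε μ e j (τ u * y) = μ u * L τ s d ε μ e j y := fun y => by
    by_cases hy : y ∈ N
    · obtain ⟨x, rfl⟩ := (hN _).1 hy
      rw [h2, m.L_apply he, m.L_apply he, map_mul, Units.val_mul, mul_left_comm]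
    · rw [L_not hN hy, L_not hN fun e => hy ((mul_mem_cancel_left (τ_mem hN u)).1 e), mul_zero]
  rw [K, K, finsum_eq_sum_of_fintype, finsum_eq_sum_of_fintype, mul_left_comm, Finset.mul_sum _ _ (μ u : ℂ)]
  refine congrArg _ (Finset.sum_congr rfl fun y _ => ?_)
  obtain ⟨i, t, h4⟩ := m.gen y⁻¹
  rw [← h3, ← mul_assoc, ← mul_assoc, ← mul_assoc, h4, h2, mul_comm u, map_mul, mul_assoc (s ^ i)]

/-- a constituent of multiplicity one -/
theorem K_prim {A : Subgroup H} (hs : s ∈ A) (hA : ∀ a ∈ A, a * s = s * a) :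
    ∃ β, IsIrrCharacter A β ∧ ip (fun g : A => K τ s d ε μ e j g) β = 1 := by
  have := Fintype.ofFinite A
  obtain ⟨N, _, hi, hN⟩ := m.exists_sub he
  have := Fintype.ofFinite (N.subgroupOf A)
  obtain ⟨l, hl⟩ := m.exists_hom (j := j) he hp hN
  have h1 : ∀ a b : A, a * b = b * a := fun a b => Subtype.ext (by
    obtain ⟨i, t, ha⟩ := m.gen a
    obtain ⟨k, u, hb⟩ := m.gen b
    have h2 : Commute s (τ t) := by
      rw [← inv_mul_cancel_left (s ^ i) (τ t), ← ha]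
      exact ((Commute.refl s).pow_right i).inv_right.mul_right (hA a a.2).symm
    have h3 : Commute (b : H) (τ t) := hb ▸ (h2.pow_left k).mul_left ((Commute.all u t).map τ)
    exact (ha ▸ (Commute.pow_right (hA b b.2) i).mul_right h3 : Commute (b : H) a).symm)
  let l' : N.subgroupOf A →* ℂˣ := l.comp (A.subtype.subgroupComap N)
  obtain ⟨β, h2, h3⟩ := exists_over_subtype (N.subgroupOf A) (Linear.isIrrCharacter_hom l')
  obtain ⟨f, rfl⟩ := CCBasic.exists_hom_of_comm h1 h2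
  rw [over_iff] at h3
  have h4 : (fun g : A => K τ s d ε μ e j g) = indFun (N.subgroupOf A) fun n => l' n := funext fun g => by
    rw [m.K_comm he hp (hA g g.2)]
    by_cases hg : g ∈ N.subgroupOf A
    · rw [IndRes.indFun_of_invariant (N.subgroupOf A) (θ := fun n => l' n) (fun y => funext fun n =>
        congrArg (fun n => (l' n : ℂ)) (Subtype.ext ((congrArg (· * y⁻¹) (h1 y n)).trans (mul_inv_cancel_right _ _))))
        ⟨g, hg⟩, ← hl ⟨g, hg⟩, ← hi]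
      congr 2
      refine ((relIndex_top_right N).symm.trans (congrArg _ (top_le_iff.1 fun y _ => ?_).symm)).trans
        (relIndex_sup_right A N)
      obtain ⟨i, t, rfl⟩ := m.gen y
      exact mul_mem (mem_sup_left (pow_mem hs i)) (mem_sup_right (τ_mem hN t))
    · rw [L_not (h := g) hN hg, mul_zero, NormalInduced.indFun_of_notMem _ _ hg]
  refine ⟨_, h2, ?_⟩
  rw [ip_eq, h4, IndRes.classInner_indFun_left _ _ (isIrr_isClassFunction h2)]
  have h5 := Linear.isIrrCharacter_hom (f.comp (N.subgroupOf A).subtype)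
  by_contra h6
  exact h3 (classInner_irr_ne h5 (Linear.isIrrCharacter_hom l') fun e => h6 (e ▸ classInner_irr_self h5))

end Mc

end Cfsg.Agent.MO.TA.H
end

-- part: MO/TA/BoxH
section
/-!
# MO, types `A` and `²A`: the characters of `Hd` (box `BoxH`, helper92)

* `Mn` : monomial matrices with their permutations, `mn_of_norm` : a matrix which normalises the diagonal matrices is monomial;
* `Tt`, `th` : the torus and its characters; `lf`, `tau`, `sg`, `mc` : the structure of `Hd`;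
* `boxH`.
-/

set_option autoImplicit false

namespace Cfsg.Agent.MO.TA

open Cfsg Subgroup Matrix Cfsg.Agent.H577.GLB.Std Cfsg.Agent.H615.GU Cfsg.Agent.H614.GLn.RSt Cfsg.Agent.H421.GU
open Cfsg.Agent.Characters
open SemidirectProduct (inl inr)
open scoped MatrixGroups

namespace H

section mat

variable {K : Type} [Field K] {ι : Type} [Fintype ι] [DecidableEq ι]

variable (K ι) in
/-- monomial matrices -/
def Mn : Subgroup (GL ι K × Equiv.Perm ι) where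
  carrier := {x | ∃ a, x.1 = dg a * pm x.2}
  one_mem' := ⟨1, by simp only [_root_.Prod.fst_one, _root_.map_one, _root_.Prod.snd_one, _root_.mul_one]⟩
  mul_mem' := by
    rintro x y ⟨a, ha⟩ ⟨b, hb⟩
    exact ⟨_, by rw [Prod.fst_mul, Prod.snd_mul, ha, hb, mul_assoc, ← mul_assoc (pm _), pm_mul_dg, ← mul_assoc, ← mul_assoc,
      ← map_mul, mul_assoc, ← map_mul]⟩
  inv_mem' := by
    rintro x ⟨a, ha⟩
    exact ⟨_, by rw [Prod.fst_inv, Prod.snd_inv, ha, _root_.mul_inv_rev, ← map_inv, ← map_inv, pm_mul_dg]⟩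

theorem mn_uniq {g : GL ι K} {π π' : Equiv.Perm ι} (h : (g, π) ∈ Mn K ι) (h' : (g, π') ∈ Mn K ι) : π = π' := by
  obtain ⟨a, ha⟩ := h
  obtain ⟨b, hb⟩ := h'
  refine Equiv.ext fun j => by_contra fun e => ?_
  have h1 := congrArg (fun g : GL ι K => g.1 (π j) j) (ha.symm.trans hb)
  simp only [dg_pm_apply, if_true, if_neg e] at h1
  exact Units.ne_zero _ h1

theorem mn_of_norm {y : Kˣ} (hy : y ≠ 1) {g : GL ι K} (h : ∀ t, ∃ t', g * dg t = dg t' * g) : ∃ π, (g, π) ∈ Mn K ι := by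
  have h1 : ∀ i, ∃ j, g.1 i j ≠ 0 := fun i => by_contra fun e => by
    simp only [not_exists, not_not] at e
    simpa only [mul_apply, e, _root_.Matrix.coe_units_inv, _root_.MulZeroClass.zero_mul, _root_.Finset.sum_const_zero, _root_.Matrix.one_apply_eq, _root_.zero_ne_one] using congrFun (congrFun g.mul_inv i) i
  choose f hf using h1
  have h2 : ∀ i j, j ≠ f i → g.1 i j = 0 := fun i j e => by_contra fun e' => by
    obtain ⟨t, ht⟩ := h (Pi.mulSingle (f i) y)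
    have h3 := fun k => congrArg (fun g : GL ι K => g.1 i k) ht
    simp only [mul_dg_apply, dg_mul_apply, mul_comm (t i : K)] at h3
    have h4 := (mul_left_cancel₀ (hf i) (h3 _)).trans (mul_left_cancel₀ e' (h3 _)).symm
    rw [Pi.mulSingle_eq_same, Pi.mulSingle_eq_of_ne e] at h4
    exact hy (Units.ext h4)
  have h3 : Function.Surjective f := fun j => by_contra fun e => by
    simp only [not_exists] at e
    simpa only [mul_apply, fun i => h2 i j (Ne.symm (e i)), _root_.Matrix.coe_units_inv, _root_.MulZeroClass.mul_zero, _root_.Finset.sum_const_zero, _root_.Matrix.one_apply_eq, _root_.zero_ne_one] using congrFun (congrFun g.inv_mul j) j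
  refine ⟨(Equiv.ofBijective f (Finite.surjective_iff_bijective.1 h3)).symm, fun i => Units.mk0 _ (hf i),
    Units.ext (Matrix.ext fun i j => ?_)⟩
  rw [dg_pm_apply]
  split_ifs with e
  · rw [(Equiv.eq_symm_apply _).1 e |>.symm]
    rfl
  · exact h2 i j fun e' => e ((Equiv.eq_symm_apply _).2 e'.symm)

end mat

section tor

variable {K : Type} [Field K] {θ : K →*₀ ℂ} {Q : ℤ} {M d N : ℕ} [NeZero M]

variable (K Q d) in
/-- the torus -/
def Tt : Subgroup Kˣ := (zpowGroupHom (Q ^ d)).eqLocus (MonoidHom.id _)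

variable (θ Q d) in
/-- the characters of the torus -/
noncomputable def th (x : ZMod M) : Tt K Q d →* ℂˣ :=
  (Units.map (θ : K →* ℂ)).comp ((zpowGroupHom (expoZ Q M d x)).comp (Tt K Q d).subtype)

theorem th_expo {a b : ℤ} (h : a * M = b * (Q ^ d - 1)) :
    TorZ Q M d b ∧ ∀ t, th θ Q d (b : ZMod M) t = Units.map (θ : K →* ℂ) (t.1 ^ a) := by
  have h1 : TorZ Q M d b := by
    have h2 := congrArg (Int.cast : ℤ → ZMod M) h
    push_cast at h2
    rw [TorZ, mul_comm, ← h2, ZMod.natCast_self, mul_zero]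
  refine ⟨h1, fun t => congrArg (Units.map (θ : K →* ℂ)) (pow_of_level (a := expoZ Q M d (b : ZMod M)) t.2 ?_)⟩
  obtain ⟨c, hc⟩ : (M : ℤ) ∣ ((b : ZMod M).val : ℤ) - b := by
    rw [← ZMod.intCast_zmod_eq_zero_iff_dvd]
    simp
  exact ⟨c, mul_right_cancel₀ (Nat.cast_ne_zero.2 (NeZero.ne M)) (by linear_combination expoZ_mul h1 - h + (Q ^ d - 1) * hc)⟩

theorem th_mul {x : ZMod M} (hx : TorZ Q M d x) (a : ℤ) :
    TorZ Q M d ((a : ZMod M) * x) ∧ ∀ t, th θ Q d ((a : ZMod M) * x) t = th θ Q d x (t ^ a) := by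
  have h := th_expo (θ := θ) (a := a * expoZ Q M d x) (b := a * x.val) (by rw [mul_assoc, expoZ_mul hx, mul_assoc])
  simp only [Int.cast_mul, Int.cast_natCast, ZMod.natCast_zmod_val, _root_.zpow_mul] at h
  exact h

theorem th_pow {x : ZMod M} (hx : TorZ Q M d x) (i : ℕ) (t : Tt K Q d) :
    th θ Q d ((Q : ZMod M) ^ i * x) t = th θ Q d x (t ^ Q ^ i) := by
  rw [← (th_mul hx _).2, Int.cast_pow]

variable (h : CtxQ θ Q M N) (h0 : 0 < d) (hd : d ≤ N)

include h h0 hd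

omit [NeZero M] in
theorem exists_prim : ∃ g : Tt K Q d, IsPrimitiveRoot g.1 (Q ^ d - 1).natAbs := by
  have := h.finK
  obtain ⟨g, hg⟩ := exists_gen h.card (Int.natCast_dvd_natCast.1 (Int.natAbs_dvd.2 (h.dvd d h0 hd)))
  exact ⟨⟨g, pow_eq_self_iff.2 (orderOf_dvd_iff_pow_eq_one.1 hg.dvd)⟩, IsPrimitiveRoot.iff_orderOf.2 hg⟩

theorem th_inj {x x' : ZMod M} (hx : TorZ Q M d x) (hx' : TorZ Q M d x') (e : ∀ t, th θ Q d x t = th θ Q d x' t) :
    x = x' := by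
  obtain ⟨g, hg⟩ := exists_prim h h0 hd
  have h1 : g.1 ^ expoZ Q M d x = g.1 ^ expoZ Q M d x' := Units.map_injective h.inj (e g)
  rw [← mul_inv_eq_one, ← _root_.zpow_sub, hg.zpow_eq_one_iff_dvd, Int.natAbs_dvd] at h1
  obtain ⟨r, hr⟩ := h1
  rw [← ZMod.natCast_zmod_val x, ← ZMod.natCast_zmod_val x', ← Int.cast_natCast, ← Int.cast_natCast x'.val, eq_comm,
    ZMod.intCast_eq_intCast_iff_dvd_sub]
  exact ⟨r, mul_right_cancel₀ (sub_ne_zero.2 (_root_.Cfsg.Agent.H421.GU.sign_pow h.two h0).2) (by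
    linear_combination expoZ_mul hx' - expoZ_mul hx + M * hr)⟩

theorem th_surj (μ : Tt K Q d →* ℂˣ) : ∃ x : ZMod M, TorZ Q M d x ∧ th θ Q d x = μ := by
  obtain ⟨g, hg⟩ := exists_prim h h0 hd
  obtain ⟨r, hr⟩ := h.dvd d h0 hd
  have : NeZero (Q ^ d - 1).natAbs := ⟨Int.natAbs_ne_zero.2 (sub_ne_zero.2 (_root_.Cfsg.Agent.H421.GU.sign_pow h.two h0).2)⟩
  have h1 : ∀ t : Tt K Q d, t ^ (Q ^ d - 1).natAbs = 1 := fun t => Subtype.ext (pow_eq_self_iff.1 t.2)
  have h2 := IsPrimitiveRoot.coe_units_iff.2 hg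
  obtain ⟨a, -, ha⟩ := (h2.map_of_injective h.inj).eq_pow_of_pow_eq_one (ξ := (μ g : ℂ))
    (by rw [← Units.val_pow_eq_pow_val, ← map_pow, h1, map_one, Units.val_one])
  obtain ⟨h3, h4⟩ := th_expo (θ := θ) (Q := Q) (M := M) (d := d) (a := a) (b := a * r) (by rw [hr]; ring)
  refine ⟨_, h3, MonoidHom.ext fun t => ?_⟩
  obtain ⟨i, -, hi⟩ := h2.eq_pow_of_pow_eq_one (ξ := (t.1 : K)) (congrArg (fun u : Tt K Q d => (u.1 : K)) (h1 t))
  rw [← show g ^ i = t from Subtype.ext (Units.ext hi), map_pow, map_pow, h4, map_zpow, zpow_natCast]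
  exact congrArg (· ^ i) (Units.ext ha)

theorem pe_th {x : ZMod M} (hx : TorZ Q M d x) : Pe Q (th θ Q d x) (perZ Q M x) := fun i => by
  simp only [← th_pow hx, ← pow_mul_eq_iff]
  exact ⟨th_inj h h0 hd (torZ_mul d hx i) hx, fun e t => by rw [e]⟩

end tor

section grp

variable (c : D0) (d : ℕ) [NeZero d]

theorem mn_sig : (c.sig d, Equiv.addRight 1) ∈ Mn c.K (ZMod d) := ⟨_, rfl⟩

theorem mn_act {ι : Type} [Fintype ι] [DecidableEq ι] (e : c.E) {g : GL ι c.K} {π : Equiv.Perm ι} (h : (g, π) ∈ Mn c.K ι) :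
    (c.act ι e g, π) ∈ Mn c.K ι := h.elim fun _ ha => ⟨_, by rw [show g = _ from ha, map_mul, c.act_dg, c.act_pm]⟩

theorem sig_dg {a b : ZMod d → c.Kˣ} : c.sig d * dg b = dg a * c.sig d ↔ ∀ i, a (i + 1) = b i := by
  rw [D0.sig, mul_assoc, pm_mul_dg, ← mul_assoc, ← mul_assoc, mul_left_inj, dg_comm, mul_left_inj, dg_inj.eq_iff, funext_iff,
    ← (Equiv.addRight (1 : ZMod d)).forall_congr_right]
  exact forall_congr' fun i => by rw [Equiv.Perm.coe_inv, Equiv.symm_apply_apply, eq_comm, Equiv.coe_addRight]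

theorem pow_val {t : c.Kˣ} (ht : t ∈ Tt c.K c.Q d) (i : ZMod d) : t ^ c.Q ^ (i + 1).val = (t ^ c.Q ^ i.val) ^ c.Q := by
  have h1 : ∀ k : ℕ, t ^ c.Q ^ (d * k) = t := fun k => by
    induction k with
    | zero => simp
    | succ k ih => rw [mul_add_one, pow_add, _root_.zpow_mul, ih]; exact ht
  have h2 : ∀ k : ℕ, t ^ c.Q ^ (k % d) = t ^ c.Q ^ k := fun k => by
    conv_rhs => rw [← Nat.div_add_mod k d, pow_add, _root_.zpow_mul, h1]
  rw [ZMod.val_add, ZMod.val_one_eq_one_mod, Nat.add_mod_mod, h2, pow_succ, _root_.zpow_mul]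

/-- the matrix of an element of `Hd` -/
def lf : c.Hd d →* GL (ZMod d) c.K := (c.lf _).comp (inclusion inf_le_left)

theorem lf_inj : Function.Injective (lf c d) := (c.lf_inj _).comp (inclusion_injective _)

theorem eq_inl (h : c.Hd d) : h.1 = inl (lf c d h) := c.eq_inl (c.right_of_Gt h.2.1)

/-- the torus in `Hd` -/
def tau : Tt c.K c.Q d →* c.Hd d :=
  (inl.comp (dg.comp (MonoidHom.pi fun i : ZMod d => (zpowGroupHom (c.Q ^ i.val)).comp (Tt c.K c.Q d).subtype))).codRestrict _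
    fun t => ⟨c.inl_mem_Gt.2 (by
      rw [MonoidHom.comp_apply, c.act_dg, sig_dg]
      exact fun i => (pow_val c d t.2 i).trans (c.ue_F _).symm), le_normalizer ⟨_, rfl⟩⟩

theorem lf_tau (t : Tt c.K c.Q d) : lf c d (tau c d t) = dg fun i => t.1 ^ c.Q ^ i.val := rfl

/-- the signed cycle in `Hd` -/
def sg : c.Hd d :=
  ⟨inl (c.sig d), c.inl_mem_Gt.2 (by rw [c.act_sig]), by
    rw [D0.sig, map_mul]
    refine mul_mem (le_normalizer ⟨_, rfl⟩) (mem_normalizer_fintype ?_)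
    rintro _ ⟨t, rfl⟩
    rw [MonoidHom.comp_apply, ← map_inv, ← map_mul, ← map_mul, pm_dg_conj]
    exact ⟨_, rfl⟩⟩

theorem lf_sg : lf c d (sg c d) = c.sig d := rfl

variable {c d}

theorem exists_tau {h : c.Hd d} {a : ZMod d → c.Kˣ} (e : lf c d h = dg a) :
    (∀ i, a (i + 1) = a i ^ c.Q) ∧ ∃ t, t.1 = a 0 ∧ h = tau c d t := by
  have h1 := (c.mem_Gt.1 h.2.1).2
  rw [show h.1.left = dg a from e, c.act_dg, sig_dg] at h1
  simp only [c.ue_F] at h1
  have h2 : ∀ k : ℕ, a k = a 0 ^ c.Q ^ k := fun k => by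
    induction k with
    | zero => simp
    | succ k ih => rw [Nat.cast_succ, h1, ih, pow_succ, _root_.zpow_mul]
  refine ⟨h1, ⟨a 0, (h2 d).symm.trans (by rw [ZMod.natCast_self]; rfl)⟩, rfl, lf_inj c d ?_⟩
  rw [e, lf_tau]
  exact congrArg _ (funext fun i => by rw [← h2, ZMod.natCast_zmod_val])

theorem exists_tau' {h : c.Hd d} (e : (lf c d h, 1) ∈ Mn c.K (ZMod d)) : ∃ t, h = tau c d t := by
  obtain ⟨a, ha⟩ := e
  obtain ⟨-, t, -, ht⟩ := exists_tau (a := a) (ha.trans (by rw [map_one, mul_one]))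
  exact ⟨t, ht⟩

omit [NeZero d] in
theorem add_pow (n : ℕ) (j : ZMod d) : (Equiv.addRight (1 : ZMod d) ^ n) j = j + n := by
  simp

variable (c d)

theorem mc : ∃ ε, Mc (tau c d) (sg c d) c.Q d ε := by
  have h1 : ∀ n : ℕ, (lf c d (sg c d ^ n), Equiv.addRight 1 ^ n) ∈ Mn c.K (ZMod d) := fun n => by
    rw [map_pow]
    exact pow_mem (mn_sig c d) n
  obtain ⟨ε, hε⟩ := exists_tau' (h := sg c d ^ d) (by
    convert h1 d using 2
    exact Equiv.ext fun j => by rw [add_pow, ZMod.natCast_self, add_zero, Equiv.Perm.one_apply])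
  refine ⟨ε, fun t u e => Subtype.ext ?_, fun t => lf_inj c d ?_, fun h => ?_, fun i t e => ?_, hε, NeZero.pos d⟩
  · have h2 := congrArg (lf c d) e
    rw [lf_tau, lf_tau] at h2
    simpa using congrFun (dg_inj h2) 0
  · rw [map_mul, map_mul, lf_sg, lf_tau, lf_tau, eq_comm, sig_dg]
    exact fun i => by rw [pow_val c d t.2, coe_zpow, ← _root_.zpow_mul, ← _root_.zpow_mul, mul_comm]
  · obtain ⟨g, hg⟩ := exists_prim c.ctx two_pos (Nat.le_add_left _ _)
    obtain ⟨π, h2⟩ := mn_of_norm (hg.ne_one (by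
      have : 4 ≤ c.Q ^ 2 := by nlinarith only [c.ctx.two, sq_abs c.Q]
      omega)) (g := lf c d h) fun t => by
      obtain ⟨u, hu⟩ := (mem_normalizer_iff.1 h.2.2 _).1 ⟨t, rfl⟩
      (rewrite [eq_inl c d h, MonoidHom.comp_apply] at hu; simp only [MonoidHom.comp_apply] at hu; simp +singlePass only [← map_inv] at hu; (conv at hu => enter [@3, @5]; rw [← map_mul]); rewrite [← map_mul] at hu)
      exact ⟨u, by rw [SemidirectProduct.inl_injective hu, inv_mul_cancel_right]⟩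
    have h3 := mul_mem (mn_sig c d) (mn_act c c.F h2)
    rw [Prod.mk_mul_mk, show c.sig d * c.act _ c.F (lf c d h) = _ from (c.mem_Gt.1 h.2.1).2] at h3
    have h4 : ∀ j, π j + 1 = π (j + 1) := fun j => congrArg (· j) (mn_uniq h3 ((mul_mem h2 (mn_sig c d) :)))
    have h5 : ∀ k : ℕ, π k = k + π 0 := fun k => by
      induction k with
      | zero => simp only [_root_.Nat.cast_zero, _root_.zero_add]
      | succ k ih => rw [Nat.cast_succ, ← h4, ih, add_right_comm]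
    obtain ⟨t, ht⟩ := exists_tau' (h := (sg c d ^ (π 0).val)⁻¹ * h) (by
      convert mul_mem (inv_mem (h1 (π 0).val)) h2 using 1
      rw [map_mul, map_inv, Prod.inv_mk, Prod.mk_mul_mk, Prod.mk.injEq, eq_comm (a := 1), inv_mul_eq_one]
      exact ⟨rfl, Equiv.ext fun j => by rw [add_pow, ZMod.natCast_zmod_val, ← ZMod.natCast_zmod_val j, h5]⟩)
    exact ⟨_, t, inv_mul_eq_iff_eq_mul.1 ht⟩
  · have h2 := congrArg (· 0) (mn_uniq (h1 i) (π' := 1) ⟨_, by rw [e, lf_tau]; exact (mul_one _).symm.trans (congrArg _ (map_one pm).symm)⟩)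
    rwa [add_pow, zero_add, Equiv.Perm.one_apply, ZMod.natCast_eq_zero_iff] at h2

variable {c d}

theorem a0_le {S : Subgroup (GL (ZMod d) c.K)} (h1 : c.sig d ∈ S) (h2 : dg (fun _ => -1) ∈ S) {g : c.Hd d} (hg : g ∈ c.A0 d) :
    lf c d g ∈ S := by
  obtain ⟨u, h3, h4⟩ := (closure_le (S.map inl)).2 (Set.pair_subset ⟨_, h1, rfl⟩ ⟨_, h2, rfl⟩) (mem_subgroupOf.1 hg)
  rwa [← SemidirectProduct.inl_injective (h4.trans (eq_inl c d g))]

theorem det_tau (t : Tt c.K c.Q d) :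
    GeneralLinearGroup.det (lf c d (tau c d t)) = t.1 ^ ∑ i ∈ Finset.range d, c.Q ^ i := by
  obtain ⟨d, rfl⟩ := Nat.exists_eq_succ_of_ne_zero (NeZero.ne d)
  rw [lf_tau, det_dg]
  exact (Fin.prod_univ_eq_prod_range (fun i => t.1 ^ c.Q ^ i) _).trans
    (map_prod (zpowersHom _ t.1) (fun i => Multiplicative.ofAdd (c.Q ^ i)) _).symm

end grp

theorem _root_.Cfsg.Agent.MO.TA.boxH : BoxH := fun c d _ hd => by
  classical
  obtain ⟨ε, m⟩ := mc c.toD0 d
  have h0 := NeZero.pos d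
  have hN : d ≤ 2 * c.n + 2 := by omega
  have hu := c.ctx.unit
  have hp := fun x => pe_th (x := x) c.ctx h0 hN
  have he := fun x (h : TorZ c.Q c.M d x) => (torZ_iff d x).1 h
  have h1 : ∀ x, (if TorZ c.Q c.M d (c.Q * x) then fun j => K ((by exact tau _ d)) (sg _ d) d ε (th c.θ c.Q d ((c.Q : ZMod c.M) * x))
      (perZ c.Q c.M (c.Q * x)) j else 0) =
      if TorZ c.Q c.M d x then fun j => K ((by exact tau _ d)) (sg _ d) d ε (th c.θ c.Q d x) (perZ c.Q c.M x) j else 0 := fun x => by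
    rw [torZ_iff, torZ_iff, ← perZ_of_same hu ⟨1, by rw [pow_one]⟩]
    split_ifs with h
    · exact funext fun j => m.K_pow h (th_mul ((torZ_iff d x).2 h) _).2
    · rfl
  refine ⟨fun x => if TorZ c.Q c.M d x then fun j => K (tau _ d) (sg _ d) d ε (th c.θ c.Q d x) (perZ c.Q c.M x) j else 0,
    fun x j hx _ => ?_, h1, fun x hx x' hx' j j' h2 h3 h4 h5 e => ?_, fun χ hχ => ?_, fun e k hk x j h h' hx hh => ?_,
    fun a ha x j h hx => ?_, fun z y hz x j h hx => ?_, fun x j hx => ?_, fun x j hx _ => ?_, fun g e => ?_, ?_, ?_⟩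
  · rw [if_pos hx]
    exact m.K_irr (he x hx) (hp x hx)
  · simp only [if_pos h2, if_pos h4] at e
    obtain ⟨i, hi⟩ := m.K_inj (he x h2) (he x' h4) e
    obtain rfl : x = x' := (mem_repsZ.1 hx).symm.trans ((canon_eq_of_same hu
      ⟨i, th_inj c.ctx h0 hN h4 (torZ_mul d h2 i) fun t => (hi t).trans (th_pow h2 i t).symm⟩).trans (mem_repsZ.1 hx'))
    exact ⟨rfl, m.K_inj' (he x h2) (hp x h2) h3 h5 e⟩
  · obtain ⟨l, h2, h3⟩ := H672.exists_under (f := tau _ d) hχ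
    obtain ⟨μ, rfl⟩ := CCBasic.exists_hom_of_comm mul_comm h2
    obtain ⟨x, hx, rfl⟩ := th_surj c.ctx h0 hN μ
    obtain ⟨i, hi⟩ := sameZ_canon (Q := c.Q) x
    have h4 : TorZ c.Q c.M d (canon c.Q c.M x) := hi ▸ torZ_mul d hx i
    obtain ⟨j, hj, rfl⟩ := m.K_surj (he x hx) (hp x hx) hχ h3
    obtain ⟨j, hj, e⟩ := m.K_surj (he _ h4) (hp _ h4) hχ ((m.over_iff' (he x hx)).2 ⟨i, hi ▸ th_pow hx i⟩)
    exact ⟨_, canon_mem_repsZ hu x, j, h4, hj, by rw [if_pos h4, e]⟩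
  · have h2 := th_mul (θ := c.θ) hx (k : ZMod c.M).val
    rw [Int.cast_natCast, ZMod.natCast_zmod_val] at h2
    have h3 : ∀ t, c.act _ e (lf _ d (tau _ d t)) = lf _ d (tau _ d (t ^ ((k : ZMod c.M).val : ℤ))) := fun t => by
      rw [lf_tau, lf_tau, D0.act_dg]
      exact congrArg _ (funext fun i => by rw [hk, coe_zpow, ← zpow_natCast, zpow_comm])
    let α : c.Hd d →* c.Hd d := (inl.comp ((c.act _ e).toMonoidHom.comp (lf _ d))).codRestrict _ fun y => by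
      obtain ⟨i, t, rfl⟩ := m.gen y
      change inl (c.act _ e (lf _ d _)) ∈ _
      rw [map_mul, map_pow, map_mul, map_pow, h3, lf_sg, D0.act_sig, ← lf_sg, ← map_pow, ← map_mul, ← eq_inl]
      exact Subtype.prop _
    have h4 : perZ c.Q c.M (k * x) = perZ c.Q c.M x := Nat.dvd_right_iff_eq.1 fun i => by
      rw [← pow_mul_eq_iff, ← pow_mul_eq_iff, mul_left_comm, Units.mul_right_inj]
    rw [if_pos hx, if_pos h2.1, h4, show h' = α h from lf_inj _ d hh]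
    exact (m.K_tr (he x hx) α (fun a b hab => lf_inj _ d ((c.act _ e).injective (congrArg (lf _ d) hab))) 1
      (lf_inj _ d (c.act_sig d e)) rfl (fun t => ⟨_, lf_inj _ d (h3 t), by rw [h2.2, MonoidHom.one_apply, one_mul]⟩) h).trans
      (one_mul _)
  · have h4 : perZ c.Q c.M (x + a) = perZ c.Q c.M x := Nat.dvd_right_iff_eq.1 fun i => by
      rw [← pow_mul_eq_iff, ← pow_mul_eq_iff, mul_add, (pow_mul_eq_iff i a).2 (((torZ_iff 1 a).1 ha).trans (one_dvd i)),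
        add_left_inj]
    rw [if_pos hx, if_pos (torZ_add d hx (torZ_of_one ha d)), h4, mul_comm, D0.lin, th_zpow]
    refine m.K_tr (he x hx) (MonoidHom.id _) (fun _ _ => id) ((Units.map (c.θ : c.K →* ℂ)).comp
      ((zpowGroupHom (expoZ c.Q c.M 1 a)).comp (GeneralLinearGroup.det.comp (lf _ d)))) rfl ?_ (fun t => ⟨t, rfl, ?_⟩) h
    · simp only [MonoidHom.comp_apply, lf_sg, D0.det_sig, map_one]
    · simp only [th, MonoidHom.comp_apply, det_tau, zpowGroupHom_apply, coe_subtype]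
      rw [pow_expoZ_add t.2 hx (torZ_of_one ha d), expoZ_lin ha, _root_.zpow_mul, mul_comm, map_mul]
  · obtain ⟨h2, t, rfl, rfl⟩ := exists_tau (h := z) hz
    rw [if_pos hx, th_zpow]
    exact m.K_cen (he x hx) (Subtype.ext (h2 0).symm) h
  · rw [if_pos hx]
    exact m.K_one (he x hx) (hp x hx)
  · simp only [if_pos hx]
    exact m.K_prim (he x hx) (hp x hx) (mem_subgroupOf.2 (_root_.Subgroup.subset_closure (Or.inl rfl))) fun a ha => lf_inj _ d (by
      rw [map_mul, map_mul]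
      exact mem_centralizer_singleton_iff.1 (a0_le (S := centralizer {c.sig d}) (mem_centralizer_singleton_iff.2 rfl)
        (mem_centralizer_singleton_iff.2 (dg_const_comm _ _)) ha))
  · exact a0_le (S := (c.act _ e).toMonoidHom.eqLocus (MonoidHom.id _)) (c.act_sig d e)
      ((c.act_dg e _).trans (by simp only [D0.ue_neg_one]; rfl)) g.2
  · exact ⟨⟨⟨inl (dg fun _ => -1), c.inl_mem_Gt.2 (by simp only [D0.act_dg, D0.ue_neg_one, dg_const_comm]),
      le_normalizer ⟨_, rfl⟩⟩, mem_subgroupOf.2 (_root_.Subgroup.subset_closure (Or.inr rfl))⟩, rfl⟩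
  · have h2 := det_dg_const (ι := ZMod d) (-1 : c.Kˣ)
    rw [ZMod.card] at h2
    by_cases h : (-1 : c.Kˣ) ^ d = 1
    · exact ⟨1, fun g => (a0_le (S := GeneralLinearGroup.det.ker) (c.det_sig d) (h2.trans h) g.2).trans (map_one _).symm,
        fun _ => rfl⟩
    have h3 : Function.Injective (um c.K) := (injective_iff_map_eq_one _).2 fun s hs =>
      (Int.units_eq_one_or s).resolve_right fun e => h (by rw [← um_neg_one, ← e, hs, one_pow])
    let f := (GeneralLinearGroup.det.comp ((lf _ d).comp (c.A0 d).subtype)).codRestrict (um c.K).range fun g =>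
      a0_le (S := (um c.K).range.comap GeneralLinearGroup.det) ⟨1, (map_one _).trans (c.det_sig d).symm⟩
        ⟨(-1) ^ d, by rw [map_pow, um_neg_one, h2]⟩ g.2
    exact ⟨(MonoidHom.ofInjective h3).symm.toMonoidHom.comp f,
      fun g => (MonoidHom.apply_ofInjective_symm h3 (f g)).symm, fun e => absurd e.neg_one_pow h⟩

end H

end Cfsg.Agent.MO.TA
end

-- part: MO/TA/R1
section
/-!
# MO, types `A` and `²A`, box `R`: the abstract part and the transport (helper51)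

* `Md B G Gt F j` : `G` is the image of the group `St`, all automorphisms of `St / Z` come from `B`;
* `Md.act` : the action of `B` on a quasisimple quotient of `St`;
* `Md.map`, `md_tw` : transport along isomorphisms, from `v = 1` on `Fin n` to all twists.
-/

set_option autoImplicit false

namespace Cfsg.Agent.MO.TA.R

open Cfsg Subgroup Matrix Cfsg.Agent.SignalizersComponents.Components
open scoped MatrixGroups

section abs

variable {A : Type} [Group A] {St : Type} [Group St]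

/-- the model -/
structure Md (B G Gt : Subgroup A) (F : A) (j : St →* A) : Prop where
  inj : Function.Injective j
  rng : ∀ x, x ∈ G ↔ ∃ s, j s = x
  nrm : ∀ b ∈ B, ∀ s, ∃ s', j s' = b * j s * b⁻¹
  pw : ∀ b ∈ B, ∀ z ∈ center St, ∃ k : ℤ, b * j z * b⁻¹ = j z ^ k
  cen : ∀ z ∈ center St, Cn Gt (j z)
  aut : ∀ β : MulAut (St ⧸ center St), ∃ b ∈ B, ∀ s s', j s' = b * j s * b⁻¹ →
    β (QuotientGroup.mk s) = QuotientGroup.mk s'
  ker : ∀ b ∈ B, (∀ s, b * j s = j s * b) → ∃ z, Cn Gt z ∧ ∃ k : ℕ, b = z * F ^ k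

theorem hom_eq {P Y : Type} [Group P] [Group Y] (hP : Group.IsPerfect P) (f g : P →* Y)
    (h : ∀ x, (f x)⁻¹ * g x ∈ center Y) (x : P) : f x = g x := by
  let d : P →* center Y := MonoidHom.mk' (fun x => ⟨_, h x⟩) fun a b => Subtype.ext (by
    show (f (a * b))⁻¹ * g (a * b) = (f a)⁻¹ * g a * ((f b)⁻¹ * g b)
    rw [map_mul, map_mul, _root_.mul_inv_rev, ← mul_assoc ((f a)⁻¹ * g a), ← mem_center_iff.1 (h a)]
    group)
  have h1 : commutator P ≤ d.ker := by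
    rw [commutator_eq_closure, closure_le]
    rintro _ ⟨a, b, rfl⟩
    rw [SetLike.mem_coe, MonoidHom.mem_ker, map_commutatorElement, commutatorElement_eq_one_iff_mul_comm]
    exact Subtype.ext (mem_center_iff.1 (d b).2 (d a))
  exact inv_mul_eq_one.1 (congrArg Subtype.val (h1 (hP.commutator_eq_top ▸ mem_top x)))

variable {B G Gt : Subgroup A} {F : A} {j : St →* A} (h : Md B G Gt F j)

/-- conjugation -/
noncomputable def Md.cj (b : B) : St →* St :=
  MonoidHom.mk' (fun s => (h.nrm b b.2 s).choose) fun s t => h.inj (by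
    rw [(h.nrm b b.2 _).choose_spec, map_mul, map_mul, (h.nrm b b.2 s).choose_spec, (h.nrm b b.2 t).choose_spec]
    group)

theorem Md.j_cj (b : B) (s : St) : j (h.cj b s) = b * j s * (b : A)⁻¹ := (h.nrm b b.2 s).choose_spec

include h in
theorem Md.act (qs : IsQuasisimple St) {X : Type} [Group X] (hX : IsQuasisimple X) (π₀ : St →* X)
    (hπ : Function.Surjective π₀) :
    IsQuasisimple G ∧ ∃ (π : G →* X) (a : B →* MulAut X), Act B G Gt F π a ∧ Function.Surjective a := by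
  have hG : j.range = G := Subgroup.ext fun x => (h.rng x).symm
  let e : St ≃* G := (MonoidHom.ofInjective h.inj).trans (MulEquiv.subgroupCongr hG)
  have he : ∀ s, (e s : A) = j s := fun _ => rfl
  have hc : (center X).comap π₀ = center St := by
    refine le_antisymm ((quasisimple_normal qs _ inferInstance).resolve_left fun h1 => ?_) fun z hz => ?_
    · refine quasisimple_center_ne_top hX (eq_top_iff.2 fun x _ => ?_)
      obtain ⟨s, rfl⟩ := hπ x
      exact h1.ge (mem_top s)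
    · refine mem_center_iff.2 fun x => ?_
      obtain ⟨s, rfl⟩ := hπ x
      rw [← map_mul, ← map_mul, mem_center_iff.1 hz]
  have hk : ∀ s, π₀ s = 1 → s ∈ center St := fun s hs => hc.le (by rw [mem_comap, hs]; exact one_mem _)
  have h1 : ∀ b : B, π₀.ker ≤ (π₀.comp (h.cj b)).ker := fun b s hs => by
    obtain ⟨k, h2⟩ := h.pw b b.2 s (hk s hs)
    have h3 : h.cj b s = s ^ k := h.inj (by rw [h.j_cj, h2, map_zpow])
    show π₀ (h.cj b s) = 1
    rw [h3, map_zpow, show π₀ s = 1 from hs, _root_.one_zpow]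
  let ψ : B → X →* X := fun b => π₀.liftOfSurjective hπ ⟨_, h1 b⟩
  have hψ : ∀ b s, ψ b (π₀ s) = π₀ (h.cj b s) := fun b s => π₀.liftOfRightInverse_comp_apply _ _ ⟨_, h1 b⟩ s
  have hm : ∀ b b' x, ψ (b * b') x = ψ b (ψ b' x) := fun b b' x => by
    obtain ⟨s, rfl⟩ := hπ x
    rw [hψ, hψ, hψ]
    refine congrArg π₀ (h.inj ?_)
    rw [h.j_cj, h.j_cj, h.j_cj, coe_mul]
    group
  have ho : ∀ x, ψ 1 x = x := fun x => by
    obtain ⟨s, rfl⟩ := hπ x
    rw [hψ]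
    refine congrArg π₀ (h.inj ?_)
    rw [h.j_cj, coe_one]
    group
  let a : B →* MulAut X := MonoidHom.mk' (fun b =>
    { toFun := ψ b
      invFun := ψ b⁻¹
      left_inv := fun x => by rw [← hm, inv_mul_cancel, ho]
      right_inv := fun x => by rw [← hm, mul_inv_cancel, ho]
      map_mul' := map_mul _ }) fun b b' => MulEquiv.ext (hm b b')
  have ha : ∀ b s, a b (π₀ s) = π₀ (h.cj b s) := hψ
  refine ⟨isQuasisimple_of_mulEquiv e qs, π₀.comp e.symm.toMonoidHom, a, ⟨hπ.comp e.symm.surjective, fun x hx => ?_,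
    fun b x y hy => ?_, fun b hb => ?_⟩, fun α => ?_⟩
  · obtain ⟨s, rfl⟩ := e.surjective x
    exact h.cen s (hk s (by simpa only [_root_.MulEquiv.toMonoidHom_eq_coe, _root_.MonoidHom.coe_comp, _root_.MonoidHom.coe_coe, _root_.Function.comp_apply, _root_.MulEquiv.symm_apply_apply] using hx))
  · obtain ⟨s, rfl⟩ := e.surjective x
    obtain ⟨t, rfl⟩ := e.surjective y
    have h2 : t = h.cj b s := h.inj (by rw [h.j_cj, ← he, hy, he])
    simpa only [h2, _root_.MulEquiv.toMonoidHom_eq_coe, _root_.MonoidHom.coe_comp, _root_.MonoidHom.coe_coe, _root_.Function.comp_apply, _root_.MulEquiv.symm_apply_apply] using (ha b s).symm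
  · refine h.ker b b.2 fun s => ?_
    have h2 := hom_eq qs.1 (MonoidHom.id _) (h.cj b) (fun t => hk _ (by
      rw [map_mul, map_inv, ← ha, hb]
      simp)) s
    rw [← mul_inv_eq_iff_eq_mul, ← h.j_cj, ← h2]
    rfl
  · have h2 : ((QuotientGroup.mk' (center X)).comp π₀).ker = center St := by
      rw [← MonoidHom.comap_ker, QuotientGroup.ker_mk', hc]
    let ε : St ⧸ center St ≃* X ⧸ center X := (QuotientGroup.quotientMulEquivOfEq h2.symm).trans
      (QuotientGroup.quotientKerEquivOfSurjective _ ((QuotientGroup.mk'_surjective _).comp hπ))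
    have hε : ∀ s, ε (QuotientGroup.mk s) = QuotientGroup.mk (π₀ s) := fun _ => rfl
    let γ : X ⧸ center X ≃* X ⧸ center X := QuotientGroup.congr _ _ α
      (characteristic_iff_map_eq.1 inferInstance α)
    have hγ : ∀ x, γ (QuotientGroup.mk x) = QuotientGroup.mk (α x) := fun _ => rfl
    obtain ⟨b, hb, h3⟩ := h.aut ((ε.trans γ).trans ε.symm)
    refine ⟨⟨b, hb⟩, MulEquiv.ext (hom_eq hX.1 (a ⟨b, hb⟩).toMonoidHom α.toMonoidHom fun x => ?_)⟩
    obtain ⟨s, rfl⟩ := hπ x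
    have h4 := h3 s _ (h.j_cj ⟨b, hb⟩ s)
    rw [MulEquiv.trans_apply, MulEquiv.symm_apply_eq, MulEquiv.trans_apply, hε, hε, hγ, ← ha] at h4
    exact QuotientGroup.eq.1 h4.symm

include h in
theorem Md.map {A' : Type} [Group A'] (Θ : A ≃* A') {B' G' Gt' : Subgroup A'} (hB : ∀ x, Θ x ∈ B' ↔ x ∈ B)
    (hG : ∀ x, Θ x ∈ G' ↔ x ∈ G) (hT : ∀ x, Θ x ∈ Gt' ↔ x ∈ Gt) :
    Md B' G' Gt' (Θ F) (Θ.toMonoidHom.comp j) := by
  have hj : ∀ s, Θ.toMonoidHom.comp j s = Θ (j s) := fun _ => rfl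
  have hC : ∀ z, Cn Gt z → Cn Gt' (Θ z) := fun z hz => ⟨(hT z).2 hz.1, fun g hg => by
    obtain ⟨g, rfl⟩ := Θ.surjective g
    rw [← map_mul, ← map_mul, hz.2 g ((hT g).1 hg)]⟩
  refine ⟨Θ.injective.comp h.inj, fun x => ?_, fun b hb s => ?_, fun b hb z hz => ?_, fun z hz => hC _ (h.cen z hz),
    fun β => ?_, fun b hb hs => ?_⟩
  · obtain ⟨x, rfl⟩ := Θ.surjective x
    simp only [hG, h.rng, hj, Θ.injective.eq_iff]
  · obtain ⟨b, rfl⟩ := Θ.surjective b
    obtain ⟨s', h1⟩ := h.nrm b ((hB b).1 hb) s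
    exact ⟨s', by rw [hj, hj, h1, map_mul, map_mul, map_inv]⟩
  · obtain ⟨b, rfl⟩ := Θ.surjective b
    obtain ⟨k, h1⟩ := h.pw b ((hB b).1 hb) z hz
    exact ⟨k, by rw [hj, ← map_zpow, ← h1, map_mul, map_mul, map_inv]⟩
  · obtain ⟨b, hb, h1⟩ := h.aut β
    exact ⟨Θ b, (hB b).2 hb, fun s s' h2 => h1 s s' (Θ.injective (by
      rw [← hj, h2, hj, map_mul, map_mul, map_inv]))⟩
  · obtain ⟨b, rfl⟩ := Θ.surjective b
    obtain ⟨z, hz, k, h1⟩ := h.ker b ((hB b).1 hb) fun s => Θ.injective (by rw [map_mul, map_mul, ← hj, hs])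
    exact ⟨Θ z, hC z hz, k, by rw [h1, map_mul, map_pow]⟩

end abs

section tw

variable {K : Type} [Field K] {ι ι' : Type} [Fintype ι] [DecidableEq ι] [Fintype ι'] [DecidableEq ι']

/-- renaming the coordinates -/
def rx (e : ι ≃ ι') : GL ι K ≃* GL ι' K := Units.mapEquiv (reindexAlgEquiv K K e).toMulEquiv

theorem det_rx (e : ι ≃ ι') (g : GL ι K) : GeneralLinearGroup.det (rx e g) = GeneralLinearGroup.det g :=
  Units.ext (det_reindex_self e g.1)

variable (c : D0)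

theorem rx_act (e : ι ≃ ι') (a : c.E) (g : GL ι c.K) : rx e (c.act ι a g) = c.act ι' a (rx e g) := by
  rw [c.act_apply, c.act_apply]
  rcases Int.units_eq_one_or (c.sg a) with h | h <;> rw [h]
  · rw [sm_one, sm_one]
    rfl
  · rw [sm_neg, sm_neg]
    rfl

/-- renaming the coordinates in the ambient group -/
def ra (e : ι ≃ ι') : c.AA ι ≃* c.AA ι' :=
  SemidirectProduct.congr (rx e) (MulEquiv.refl _) fun a => MulEquiv.ext (rx_act c e a)

theorem md_tw {St : Type} [Group St] {j : St →* c.AA ι} (h : Md (c.Ah 1) (c.G 1) (c.Gt 1) (c.tw 1) j) (e : ι ≃ ι')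
    {v : GL ι' c.K} (hv : c.Lg v) : ∃ j' : St →* c.AA ι', Md (c.Ah v) (c.G v) (c.Gt v) (c.tw v) j' := by
  obtain ⟨y, hy, h1⟩ := hv
  let Y : c.AA ι' := SemidirectProduct.inl y
  let Θ : c.AA ι ≃* c.AA ι' := (ra c e).trans (MulAut.conj Y⁻¹)
  have hΘ : ∀ x, Θ x = Y⁻¹ * ra c e x * Y := fun x => by
    show Y⁻¹ * ra c e x * Y⁻¹⁻¹ = _
    rw [inv_inv]
  have hF : Θ (c.tw 1) = c.tw v := by
    rw [hΘ, mul_assoc, inv_mul_eq_iff_eq_mul]
    refine SemidirectProduct.ext ?_ ((mul_one _).trans (one_mul _).symm)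
    show rx e 1 * c.act ι' c.F y = y * c.act ι' 1 v
    rw [map_one, map_one, one_mul, ← h1]
    rfl
  have hB : ∀ x, Θ x ∈ c.Ah v ↔ x ∈ c.Ah 1 := fun x => by
    rw [D0.Ah, D0.Ah, mem_centralizer_singleton_iff, mem_centralizer_singleton_iff, ← hF, ← map_mul, ← map_mul,
      Θ.injective.eq_iff]
  have hL : ∀ x, Θ x ∈ c.GLs ι' ↔ x ∈ c.GLs ι := fun x => by
    rw [D0.GLs, D0.GLs, MonoidHom.mem_ker, MonoidHom.mem_ker, hΘ, map_mul, map_mul, map_inv,
      SemidirectProduct.rightHom_inl, inv_one, one_mul, mul_one]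
    rfl
  have hY : Y ∈ c.SE ι' := hy
  have hS : ∀ x, Θ x ∈ c.SE ι' ↔ x ∈ c.SE ι := fun x => by
    rw [hΘ, mul_mem_cancel_right hY, mul_mem_cancel_left (inv_mem hY)]
    exact (det_rx e x.left).congr_left
  have h2 := h.map Θ hB (G' := c.G v) (Gt' := c.Gt v)
    (fun x => by simp only [D0.G, D0.Gt, D0.Gh, mem_inf, hB, hL, hS]) fun x => by simp only [D0.Gt, mem_inf, hB, hL]
  exact ⟨_, hF ▸ h2⟩

end tw

end Cfsg.Agent.MO.TA.R
end

-- part: MO/TA/R2
section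
/-!
# MO, types `A` and `²A`, box `R`: the model over a subfield (helper51)

* `exists_emb`, `exists_pow`, `exists_ext` : finite fields;
* `mem_Ah`, `conj_map` : the group `Ah 1`;
* `Sub`, `Sub.md` : the model from data over the subfield `F`.
-/

set_option autoImplicit false

namespace Cfsg.Agent.MO.TA.R

open Cfsg Subgroup Matrix SemidirectProduct
open scoped MatrixGroups

section fld

variable {F K : Type} [Field F] [Field K] [Fintype F] [Fintype K] (p : ℕ) [Fact p.Prime] [CharP F p] [CharP K p]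

include p in
theorem exists_emb (h : Fintype.card F - 1 ∣ Fintype.card K - 1) : Nonempty (F →+* K) := by
  let _ := ZMod.algebra F p
  let _ := ZMod.algebra K p
  have hp := (Fact.out : p.Prime).one_lt
  rw [← FiniteField.pow_finrank_eq_card p F, ← FiniteField.pow_finrank_eq_card p K] at h
  have h1 := Nat.gcd_eq_left h
  rw [Nat.pow_sub_one_gcd_pow_sub_one] at h1
  have h2 := Nat.pow_right_injective hp (tsub_inj_left (Nat.one_le_pow _ _ (by omega))
    (Nat.one_le_pow _ _ (by omega)) h1)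
  obtain ⟨g⟩ := FiniteField.nonempty_algHom_of_finrank_dvd (F := ZMod p) (K := F) (L := K) (h2 ▸ Nat.gcd_dvd_right _ _)
  exact ⟨g.toRingHom⟩

omit [CharP K p] in
include p in
theorem exists_pow' (f : F →+* K) (τ : K ≃+* K) (h : ∀ x, τ (f x) = f x) :
    ∃ i : ℕ, ∀ x, τ x = x ^ Fintype.card F ^ i := by
  let _ := f.toAlgebra
  rw [← Nat.card_eq_fintype_card]
  exact FiniteField.exists_forall_apply_eq_pow F p K (AlgEquiv.ofRingEquiv (f := τ) h)

theorem exists_pow (τ : K ≃+* K) : ∃ i : ℕ, ∀ x, τ x = x ^ p ^ i := by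
  have h := exists_pow' p (ZMod.castHom dvd_rfl K) τ fun x =>
    RingHom.congr_fun (RingHom.ext_zmod ((τ : K →+* K).comp (ZMod.castHom dvd_rfl K)) _) x
  rwa [ZMod.card] at h

include p in
theorem exists_ext (f : F →+* K) (ρ : F ≃+* F) : ∃ τ : K ≃+* K, ∀ x, τ (f x) = f (ρ x) := by
  obtain ⟨i, h⟩ := exists_pow p ρ
  exact ⟨iterateFrobeniusEquiv K p i, fun x => by rw [h, map_pow, iterateFrobeniusEquiv_def]⟩

include p in
theorem exists_res (f : F →+* K) (τ : K ≃+* K) : ∃ ρ : F ≃+* F, ∀ x, τ (f x) = f (ρ x) := by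
  obtain ⟨i, h⟩ := exists_pow p τ
  exact ⟨iterateFrobeniusEquiv F p i, fun x => by rw [h, iterateFrobeniusEquiv_def, map_pow]⟩

omit [Fintype K] in
theorem mem_range (f : F →+* K) {y : K} (h : y ^ Fintype.card F = y) : ∃ x, f x = y := by
  classical
  have h0 : (Polynomial.X ^ Fintype.card F - Polynomial.X : Polynomial K) ≠ 0 :=
    FiniteField.X_pow_card_sub_X_ne_zero K Fintype.one_lt_card
  have h1 : Finset.univ.image f = (Polynomial.X ^ Fintype.card F - Polynomial.X : Polynomial K).roots.toFinset := by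
    refine Finset.eq_of_subset_of_card_le (fun y hy => ?_) ?_
    · obtain ⟨x, -, rfl⟩ := Finset.mem_image.1 hy
      simp [h0, ← map_pow, FiniteField.pow_card]
    · rw [Finset.card_image_of_injective _ f.injective, Finset.card_univ]
      exact (Multiset.toFinset_card_le _).trans ((Polynomial.card_roots' _).trans
        (FiniteField.X_pow_card_sub_X_natDegree_eq K Fintype.one_lt_card).le)
  have h2 : y ∈ Finset.univ.image f := by
    rw [h1]
    simp [h0, h]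
  simpa using h2

end fld

section mat

variable {F K : Type} [Field F] [Field K] {ι : Type} [Fintype ι] [DecidableEq ι] (f : F →+* K)

theorem map_inj : Function.Injective (GeneralLinearGroup.map f : GL ι F →* GL ι K) := fun _ _ h =>
  Units.ext (Matrix.map_injective f.injective (congrArg Units.val h))

theorem det_map (g : GL ι F) :
    GeneralLinearGroup.det (GeneralLinearGroup.map f g) = Units.map (f : F →* K) (GeneralLinearGroup.det g) :=
  Units.ext (f.map_det g.1).symm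

theorem exists_map {y : GL ι K} (h : ∀ i j, ∃ x, f x = y.1 i j) : ∃ g : GL ι F, GeneralLinearGroup.map f g = y := by
  choose a ha using h
  have h1 : (of a).map f = y.1 := Matrix.ext ha
  have h2 : (of a).det ≠ 0 := fun h0 => (GeneralLinearGroup.det y).ne_zero (by
    rw [GeneralLinearGroup.val_det_apply, ← h1, ← RingHom.mapMatrix_apply, ← f.map_det, h0, map_zero])
  exact ⟨GeneralLinearGroup.mkOfDetNeZero _ h2, Units.ext h1⟩

theorem map_dg (x : Fˣ) : GeneralLinearGroup.map f (dg fun _ : ι => x) = dg fun _ => Units.map (f : F →* K) x :=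
  Units.ext (diagonal_map (map_zero f))

theorem sm_map (s : ℤˣ) (g : GL ι F) : sm K ι s (GeneralLinearGroup.map f g) = GeneralLinearGroup.map f (sm F ι s g) := by
  rcases Int.units_eq_one_or s with rfl | rfl
  · rw [sm_one, sm_one]
    rfl
  · rw [sm_neg, sm_neg]
    rfl

theorem fm_map {τ : K ≃+* K} {ρ : F ≃+* F} (h : ∀ x, τ (f x) = f (ρ x)) (g : GL ι F) :
    fm K ι τ (GeneralLinearGroup.map f g) = GeneralLinearGroup.map f (fm F ι ρ g) :=
  Units.ext (Matrix.ext fun _ _ => h _)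

theorem dg_comm (x : Kˣ) (g : GL ι K) : (dg fun _ => x) * g = g * dg fun _ => x :=
  Units.ext (scalar_commute (x : K) (fun _ => Commute.all _ _) g.1).eq

theorem exists_dg [Nonempty ι] {g : GL ι K} {x : K} (h : g.1 = scalar ι x) : ∃ y : Kˣ, g = dg fun _ => y := by
  have h1 : x ≠ 0 := by
    rintro rfl
    refine (GeneralLinearGroup.det g).ne_zero ?_
    rw [GeneralLinearGroup.val_det_apply, h, map_zero, det_zero]
  exact ⟨Units.mk0 x h1, Units.ext h⟩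

end mat

section model

variable (c : D0) {ι : Type} [Fintype ι] [DecidableEq ι]

theorem act_dg (e : c.E) (x : c.Kˣ) : c.act ι e (dg fun _ => x) = dg fun _ => c.ue e x := by
  rw [c.act_apply, D0.ue]
  rcases Int.units_eq_one_or (c.sg e) with h | h <;> rw [h]
  · rw [sm_one, Units.val_one, zpow_one]
    exact map_dg _ x
  · rw [sm_neg, Units.val_neg, Units.val_one, _root_.zpow_neg_one,
      show itm c.K ι (dg fun _ => x) = dg fun _ => x⁻¹ from Units.ext (diagonal_transpose _)]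
    exact map_dg _ _

theorem mem_Ah {a : c.AA ι} : a ∈ c.Ah 1 ↔ c.act ι c.F a.left = a.left := by
  rw [D0.Ah, mem_centralizer_singleton_iff, SemidirectProduct.ext_iff]
  show a.left * c.act ι a.right 1 = 1 * c.act ι c.F a.left ∧ a.right * c.F = c.F * a.right ↔ _
  rw [map_one, mul_one, one_mul, and_iff_left (mul_comm _ _), eq_comm]

theorem conj_inl (b : c.AA ι) (y : GL ι c.K) : b * inl y * b⁻¹ = inl (b.left * c.act ι b.right y * b.left⁻¹) := by
  conv_lhs => rw [← inl_left_mul_inr_right b]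
  simp only [map_mul, map_mul, inl_aut, map_inv, map_inv, _root_.mul_inv_rev]
  group

theorem eq_inl {a : c.AA ι} (h : a ∈ c.GLs ι) : a = inl a.left := SemidirectProduct.ext rfl h

theorem cn_dg {x : c.Kˣ} (h : c.act ι c.F (dg fun _ => x) = dg fun _ => x) : Cn (c.Gt 1) (inl (dg fun _ : ι => x)) :=
  ⟨⟨(mem_Ah c).2 h, rightHom_inl _⟩, fun g hg => by rw [eq_inl c hg.2, ← map_mul, ← map_mul, dg_comm]⟩

variable {F : Type} [Field F] [Fintype F] (f : F →+* c.K) {St : Type} [Group St]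

/-- the data over the subfield -/
structure Sub (T : Subgroup (GL ι F)) (i : St →* GL ι F) (m : ℕ) : Prop where
  inj : Function.Injective i
  card : Fintype.card F = (c.p ^ c.f) ^ m
  sg : c.sg c.F ^ m = 1
  fix : ∀ y : GL ι c.K, c.act ι c.F y = y ↔ ∃ g ∈ T, GeneralLinearGroup.map f g = y
  rng : ∀ g, (∃ s, i s = g) ↔ g ∈ T ∧ GeneralLinearGroup.det g = 1
  cen : ∀ z ∈ center St, ∃ x : Fˣ, i z = dg fun _ => x
  ext : ∀ τ, ∃ e, c.σ e = τ ∧ c.sg e = 1
  aut : ∀ β : MulAut (St ⧸ center St), ∃ g ∈ T, ∃ (ρ : F ≃+* F) (s : ℤˣ), (∃ e, c.σ e = 1 ∧ c.sg e = s) ∧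
    ∀ t t', i t' = g * fm F ι ρ (sm F ι s (i t)) * g⁻¹ → β (QuotientGroup.mk t) = QuotientGroup.mk t'
  ker : ∀ g ∈ T, ∀ ρ : F ≃+* F, (∀ t, g * fm F ι ρ (i t) * g⁻¹ = i t) → (∃ x : Fˣ, g = dg fun _ => x) ∧ ∀ x, ρ x = x
  neg : c.sg c.F = -1 ∨ ∀ e, c.sg e = -1 → ∀ (g : GL ι F) (ρ : F ≃+* F), ¬ ∀ t, g * fm F ι ρ (itm F ι (i t)) * g⁻¹ = i t

omit [Fintype F] in
theorem conj_map {b : c.AA ι} {g : GL ι F} {ρ : F ≃+* F} (hg : GeneralLinearGroup.map f g = b.left)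
    (hρ : ∀ x, c.σ b.right (f x) = f (ρ x)) (y : GL ι F) : b * inl (GeneralLinearGroup.map f y) * b⁻¹ =
      inl (GeneralLinearGroup.map f (g * fm F ι ρ (sm F ι (c.sg b.right) y) * g⁻¹)) := by
  simp only [conj_inl, c.act_apply, sm_map, fm_map f hρ, ← hg, ← map_inv, ← map_mul, ← map_mul]

theorem σ_pow (k : ℕ) (x : c.K) : c.σ (c.F ^ k) x = x ^ (c.p ^ c.f) ^ k := by
  induction k generalizing x with
  | zero => rw [pow_zero, map_one, pow_zero, pow_one]; rfl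
  | succ k ih =>
    rw [pow_succ, map_mul, pow_succ', pow_mul, ← ih, ← c.hF]
    rfl

theorem tw_pow (k : ℕ) : c.tw (1 : GL ι c.K) ^ k = inr (c.F ^ k) := by
  rw [map_pow]
  rfl

variable {c f}

theorem Sub.md {T : Subgroup (GL ι F)} {i : St →* GL ι F} {m : ℕ} (h : Sub c f T i m) :
    Md (c.Ah 1) (c.G 1) (c.Gt 1) (c.tw 1) ((inl.comp (GeneralLinearGroup.map f)).comp i) := by
  have : CharP F c.p := f.charP f.injective c.p
  have hj : ∀ s, (inl.comp (GeneralLinearGroup.map f)).comp i s = (inl (GeneralLinearGroup.map f (i s)) : c.AA ι) :=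
    fun _ => rfl
  have hi : Function.Injective fun g : GL ι F => (inl (GeneralLinearGroup.map f g) : c.AA ι) :=
    inl_injective.comp (map_inj f)
  have hu : Function.Injective (Units.map (f : F →* c.K)) := Units.map_injective f.injective
  have hr : ∀ x, x ∈ c.G 1 ↔ ∃ s, (inl (GeneralLinearGroup.map f (i s)) : c.AA ι) = x := fun x => by
    constructor
    · rintro ⟨⟨h1, h2⟩, -, h3⟩
      obtain ⟨g, hg, h4⟩ := (h.fix _).1 ((mem_Ah c).1 h1)
      obtain ⟨s, rfl⟩ := (h.rng g).2 ⟨hg, hu (by rw [← det_map, h4, map_one]; exact h3)⟩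
      exact ⟨s, by rw [h4, ← eq_inl c h2]⟩
    · rintro ⟨s, rfl⟩
      obtain ⟨h1, h2⟩ := (h.rng _).1 ⟨s, rfl⟩
      have h3 : (inl (GeneralLinearGroup.map f (i s)) : c.AA ι) ∈ c.Ah 1 := (mem_Ah c).2 ((h.fix _).2 ⟨_, h1, rfl⟩)
      refine ⟨⟨h3, rightHom_inl _⟩, h3, ?_⟩
      show GeneralLinearGroup.det (GeneralLinearGroup.map f (i s)) = 1
      rw [det_map, h2, map_one]
  have hk : ∀ b ∈ c.Ah (1 : GL ι c.K), c.sg b.right = 1 → (∀ s, b * inl (GeneralLinearGroup.map f (i s)) =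
      inl (GeneralLinearGroup.map f (i s)) * b) → ∃ z, Cn (c.Gt 1) z ∧ ∃ k : ℕ, b = z * c.tw 1 ^ k := fun b hb h1 h2 => by
    obtain ⟨g, hg, h3⟩ := (h.fix _).1 ((mem_Ah c).1 hb)
    obtain ⟨ρ, hρ⟩ := exists_res c.p f (c.σ b.right)
    obtain ⟨⟨x, rfl⟩, h4⟩ := h.ker g hg ρ fun t => hi (by
      have h5 := conj_map c f h3 hρ (i t)
      simp only [h1, sm_one, h2, mul_inv_cancel_right] at h5
      exact h5.symm)
    obtain ⟨k, h5⟩ := exists_pow' c.p f (c.σ b.right) fun x => by rw [hρ, h4]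
    have h6 : b.right = c.F ^ (m * k) := by
      refine mul_inv_eq_one.1 (c.inj _ ?_ ?_)
      · rw [map_mul, map_inv, mul_inv_eq_one]
        exact RingEquiv.ext fun x => by rw [h5, σ_pow, h.card, pow_mul]
      · rw [map_mul, map_inv, h1, map_pow, pow_mul, h.sg, one_pow, inv_one, mul_one]
    rw [map_dg] at h3
    exact ⟨_, cn_dg c (h3 ▸ (mem_Ah c).1 hb), m * k, by rw [tw_pow, h3, ← h6, inl_left_mul_inr_right]⟩
  refine ⟨hi.comp h.inj, hr, fun b hb s => (hr _).1 ?_, fun b hb z hz => ?_, fun z hz => ?_, fun β => ?_,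
    fun b hb hs => ?_⟩
  · obtain ⟨⟨h1, -⟩, -, h3⟩ := (hr _).2 ⟨s, rfl⟩
    have h4 := mul_mem (mul_mem hb h1) (inv_mem hb)
    rw [hj]
    rw [conj_inl] at h4 ⊢
    refine ⟨⟨h4, rightHom_inl _⟩, h4, ?_⟩
    show GeneralLinearGroup.det (b.left * c.act ι b.right _ * b.left⁻¹) = 1
    rw [map_mul, map_mul, c.det_act, show GeneralLinearGroup.det (GeneralLinearGroup.map f (i s)) = 1 from h3, c.ue_one,
      mul_one, map_inv, mul_inv_cancel]
  · obtain ⟨x, hx⟩ := h.cen z hz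
    obtain ⟨k, h1⟩ := exists_pow c.p (c.σ b.right)
    refine ⟨c.sg b.right * (c.p ^ k : ℕ), ?_⟩
    simp only [hj, hx, map_dg, conj_inl, act_dg, ← dg_comm, mul_inv_cancel_right, ← map_zpow, ← map_zpow]
    refine congrArg (fun t => inl (dg t)) (funext fun _ => Units.ext ?_)
    rw [Pi.pow_apply, _root_.zpow_mul, zpow_natCast, Units.val_pow_eq_pow_val, ← h1]
    rfl
  · obtain ⟨x, hx⟩ := h.cen z hz
    have h1 := (mem_Ah c).1 ((hr _).2 ⟨z, rfl⟩).1.1
    rw [hj, hx, map_dg]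
    rw [hx, map_dg] at h1
    exact cn_dg c h1
  · obtain ⟨g, hg, ρ, s, ⟨e, h1, h2⟩, h3⟩ := h.aut β
    obtain ⟨τ, hτ⟩ := exists_ext c.p f ρ
    obtain ⟨e', h4, h5⟩ := h.ext τ
    refine ⟨⟨GeneralLinearGroup.map f g, e' * e⟩, (mem_Ah c).2 ((h.fix _).2 ⟨g, hg, rfl⟩), fun t t' h6 => h3 t t' (hi ?_)⟩
    rw [hj, hj, conj_map c f (g := g) (ρ := ρ) rfl fun x => by
      show c.σ (e' * e) (f x) = _
      rw [map_mul, h1, mul_one, h4, hτ]] at h6
    rwa [show c.sg (e' * e) = s by rw [map_mul, h5, h2, one_mul]] at h6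
  · rcases Int.units_eq_one_or (c.sg b.right) with h1 | h1
    · exact hk b hb h1 hs
    rcases h.neg with h2 | h2
    · have h3 : c.tw 1 ∈ c.Ah (1 : GL ι c.K) := mem_centralizer_singleton_iff.2 rfl
      obtain ⟨z, hz, k, h4⟩ := hk (b * (c.tw 1)⁻¹) (mul_mem hb (inv_mem h3)) (by
        show c.sg (b.right * c.F⁻¹) = 1
        rw [map_mul, map_inv, h1, h2, mul_inv_cancel]) fun s => by
          have h5 : Commute (inl (GeneralLinearGroup.map f (i s))) (c.tw 1) :=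
            mem_centralizer_singleton_iff.1 ((hr _).2 ⟨s, rfl⟩).1.1
          (simp only [mul_assoc]; simp only [← h5.inv_right.eq]; rewrite [← mul_assoc]; simp only [← mul_assoc]; simp only [← hj]; simp only [hs])
      exact ⟨z, hz, k + 1, by rw [pow_succ, ← mul_assoc, ← h4, inv_mul_cancel_right]⟩
    · obtain ⟨g, -, h3⟩ := (h.fix _).1 ((mem_Ah c).1 hb)
      obtain ⟨ρ, hρ⟩ := exists_res c.p f (c.σ b.right)
      refine absurd (fun t => hi ?_) (h2 _ h1 g ρ)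
      have h5 := conj_map c f h3 hρ (i t)
      simp only [h1, sm_neg, ← hj, hs, mul_inv_cancel_right] at h5
      exact h5.symm

end model

end Cfsg.Agent.MO.TA.R
end

-- part: MO/TA/BoxR
section
/-!
# MO, types `A` and `²A`, box `R`: the realisation (helper51)

* `subL`, `subU` : the data for `SL` and `SU`; `boxR_of : BoxC → BoxR`.
-/

set_option autoImplicit false

namespace Cfsg.Agent.MO.TA

open Cfsg Subgroup Matrix Cfsg.Agent.SignalizersComponents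
open scoped MatrixGroups

namespace R

variable {c : D0} {F : Type} [Field F] [Fintype F] {n : ℕ}

theorem emb [CharP F c.p] {m : ℕ} (h0 : 0 < m) (h2 : m ≤ 2) (hF : Fintype.card F = (c.p ^ c.f) ^ m)
    (hs : c.sg c.F ^ m = 1) : Nonempty (F →+* c.K) := by
  classical
  refine exists_emb c.p ?_
  have h1 := c.ctx.dvd m h0 (by omega)
  rw [c.hQ, mul_pow, ← Units.val_pow_eq_pow_val, hs, Units.val_one, one_mul, ← c.ctx.card, Nat.card_eq_fintype_card,
    Fintype.card_units] at h1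
  rw [← Int.natCast_dvd_natCast, Nat.cast_sub Fintype.card_pos, hF]
  exact_mod_cast h1

theorem fix_pow (f : F →+* c.K) {m : ℕ} (hF : Fintype.card F = (c.p ^ c.f) ^ m) (hs : c.sg c.F ^ m = 1)
    (y : GL (Fin n) c.K) : c.act _ (c.F ^ m) y = y ↔ ∃ g, GeneralLinearGroup.map f g = y := by
  rw [c.act_apply, map_pow c.sg, hs, sm_one]
  refine ⟨fun h => exists_map f fun i j => mem_range f ?_, ?_⟩
  · rw [hF, ← σ_pow]
    exact congrArg (fun g : GL (Fin n) c.K => g.1 i j) h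
  · rintro ⟨g, rfl⟩
    refine Units.ext (Matrix.ext fun i j => ?_)
    show c.σ (c.F ^ m) (f (g.1 i j)) = f (g.1 i j)
    rw [σ_pow, ← hF, ← map_pow, FiniteField.pow_card]

omit [Fintype F] in
theorem exists_sl {g : GL (Fin n) F} (h : GeneralLinearGroup.det g = 1) :
    ∃ s : _root_.Matrix.SpecialLinearGroup (Fin n) F, SpecialLinearGroup.toGL s = g :=
  ⟨⟨g.1, congrArg Units.val h⟩, Units.ext rfl⟩

omit [Fintype F] in
theorem det_sl (s : _root_.Matrix.SpecialLinearGroup (Fin n) F) : GeneralLinearGroup.det (SpecialLinearGroup.toGL s) = 1 :=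
  Units.ext s.2

omit [Fintype F] in
theorem itm_two : ∃ J : GL (Fin 2) F, ∀ s : _root_.Matrix.SpecialLinearGroup (Fin 2) F,
    itm F _ (SpecialLinearGroup.toGL s) = J * SpecialLinearGroup.toGL s * J⁻¹ := by
  refine ⟨⟨!![0, 1; -1, 0], !![0, -1; 1, 0], by simp [← one_fin_two], by simp [← one_fin_two]⟩, fun s => Units.ext ?_⟩
  show (s⁻¹).1ᵀ = !![0, 1; -1, 0] * s.1 * !![0, -1; 1, 0]
  rw [SpecialLinearGroup.SL2_inv_expl]
  ext i j
  (revert i j; simp only [Matrix.mul_apply, Fin.sum_univ_two, Matrix.vecMul, dotProduct, _root_.Fin.forall_fin_succ, Fin.isValue, _root_.Matrix.cons_mul, _root_.Nat.succ_eq_add_one, Nat.reduceAdd, _root_.Matrix.empty_mul, _root_.Equiv.symm_apply_apply, _root_.Matrix.of_apply, _root_.Matrix.cons_val', _root_.Matrix.cons_val_zero, _root_.MulZeroClass.zero_mul, _root_.Matrix.cons_val_one, _root_.Matrix.cons_val_fin_one, _root_.one_mul, _root_.zero_add, _root_.neg_mul, _root_.add_zero,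 _root_.MulZeroClass.mul_zero, _root_.mul_one, _root_.Matrix.cons_val_succ, _root_.mul_neg, _root_.Fin.succ_zero_eq_one, _root_.IsEmpty.forall_iff, _root_.and_true, _root_.neg_neg]) <;> (repeat' with_reducible apply And.intro) <;> rfl

theorem subL (f : F →+* c.K) (hF : Fintype.card F = c.p ^ c.f) (hs : c.sg c.F = 1) (hn : 2 ≤ n)
    (h4 : n = 2 → 4 ≤ Fintype.card F) (h1 : ∀ τ, ∃ e, c.σ e = τ ∧ c.sg e = 1)
    (h2 : 3 ≤ n → ∃ e, c.σ e = 1 ∧ c.sg e = -1) (h3 : ¬ 3 ≤ n → ∀ e, c.sg e = 1) :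
    Sub c f ⊤ (SpecialLinearGroup.toGL : _root_.Matrix.SpecialLinearGroup (Fin n) F →* _) 1 := by
  have hne : Nonempty (Fin n) := ⟨⟨0, by omega⟩⟩
  have htr : ∀ {i j : Fin n} (h : i ≠ j) (b : F),
      (SpecialLinearGroup.toGL (SpecialLinearGroup.transvection h b)).1 = 1 + single i j b := fun _ _ => rfl
  refine ⟨SpecialLinearGroup.toGL_injective, by rw [pow_one, hF], by rw [pow_one, hs], fun y => ?_, fun g => ?_,
    fun z hz => ?_, h1, fun β => ?_, fun g _ ρ h => ?_, .inr fun e he g ρ h => ?_⟩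
  · simpa only [_root_.Subgroup.mem_top, _root_.true_and, _root_.pow_one] using fix_pow f (m := 1) (by rw [pow_one, hF]) (by rw [pow_one, hs]) y
  · exact ⟨fun ⟨s, h⟩ => ⟨mem_top _, h ▸ det_sl s⟩, fun h => exists_sl h.2⟩
  · obtain ⟨x, -, h⟩ := Matrix.SpecialLinearGroup.mem_center_iff.1 hz
    exact exists_dg h.symm
  · obtain ⟨δ, φ, γ, ρ, ⟨g, hδ⟩, hφ, hγ, rfl⟩ := S2690.result hF c.fpos hn h4 β
    have key : ∀ (s : ℤˣ) (t t' : _root_.Matrix.SpecialLinearGroup (Fin n) F), (γ = 1 → s = 1) → (γ ≠ 1 → s = -1) →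
        SpecialLinearGroup.toGL t' = g * fm F _ ρ (sm F _ s (SpecialLinearGroup.toGL t)) * g⁻¹ →
        (δ * φ * γ) (QuotientGroup.mk t) = QuotientGroup.mk t' := fun s t t' a1 a2 a3 => by
      obtain ⟨t₁, b1⟩ := exists_sl (g := sm F _ s (SpecialLinearGroup.toGL t)) (by rw [det_sm, det_sl, _root_.one_zpow])
      obtain ⟨t₂, b2⟩ := exists_sl (g := fm F _ ρ (SpecialLinearGroup.toGL t₁)) (by rw [det_fm, det_sl, map_one])
      have b3 : γ (QuotientGroup.mk t) = QuotientGroup.mk t₁ := by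
        by_cases h : γ = 1
        · rw [a1 h, sm_one] at b1
          rw [h, SpecialLinearGroup.toGL_injective b1]
          rfl
        · rw [a2 h, sm_neg] at b1
          exact hγ.resolve_left h t t₁ (congrArg Units.val b1)
      rw [← b1, ← b2] at a3
      rw [MulAut.mul_apply, MulAut.mul_apply, b3, hφ t₁ t₂ (congrArg Units.val b2), hδ t₂ t' (congrArg Units.val a3)]
    by_cases h : γ = 1
    · exact ⟨g, mem_top _, ρ, 1, h1 1, fun t t' => key 1 t t' (fun _ => rfl) fun h' => absurd h h'⟩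
    by_cases h5 : 3 ≤ n
    · exact ⟨g, mem_top _, ρ, -1, h2 h5, fun t t' => key (-1) t t' (fun h' => absurd h' h) fun _ => rfl⟩
    obtain rfl : n = 2 := by omega
    obtain ⟨J, hJ⟩ := itm_two (F := F)
    refine ⟨g * fm F _ ρ J, mem_top _, ρ, 1, h1 1, fun t t' a => key (-1) t t' (fun h' => absurd h' h) (fun _ => rfl) ?_⟩
    simp only [a, sm_neg, hJ, sm_one, map_mul, map_mul, map_inv, MulAut.one_apply]
    group
  · have a1 : ∀ {i j : Fin n} (hij : i ≠ j) (b : F), g.1 * single i j (ρ b) = single i j b * g.1 := fun {i j} hij b => by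
      have a2 := congrArg Units.val (mul_inv_eq_iff_eq_mul.1 (h (SpecialLinearGroup.transvection hij b)))
      have a3 : (fm F _ ρ (SpecialLinearGroup.toGL (SpecialLinearGroup.transvection hij b))).1 = 1 + single i j (ρ b) := by
        show (1 + single i j b).map ρ = _
        rw [Matrix.map_add _ (map_add ρ), Matrix.map_one _ (map_zero ρ) (map_one ρ), map_single]
      rwa [Units.val_mul, Units.val_mul, a3, htr, mul_add, add_mul, mul_one, one_mul, add_right_inj] at a2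
    obtain ⟨x, hx⟩ := mem_range_scalar_of_commute_single (M := g.1) fun i j hij => by
      have := a1 hij 1
      rw [map_one] at this
      exact this.symm
    obtain ⟨y, rfl⟩ := exists_dg hx.symm
    refine ⟨⟨y, rfl⟩, fun b => ?_⟩
    have a2 : (⟨0, by omega⟩ : Fin n) ≠ ⟨1, by omega⟩ := by simp
    have a3 := congrFun (congrFun (a1 a2 b) ⟨0, by omega⟩) ⟨1, by omega⟩
    rw [dg_val, diagonal_mul, mul_diagonal, single_apply_same, single_apply_same, mul_comm] at a3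
    exact mul_right_cancel₀ y.ne_zero a3
  · have h5 : 3 ≤ n := by
      by_contra h5
      exact absurd (he.symm.trans (h3 h5 e)) (by decide)
    have a1 : ∀ {i j : Fin n} (hij : i ≠ j), g.1 * single j i (-1) = single i j 1 * g.1 := fun {i j} hij => by
      have a2 := congrArg Units.val (mul_inv_eq_iff_eq_mul.1 (h (SpecialLinearGroup.transvection hij 1)))
      have a3 : (fm F _ ρ (itm F _ (SpecialLinearGroup.toGL (SpecialLinearGroup.transvection hij 1)))).1 =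
          1 + single j i (-1) := by
        show ((SpecialLinearGroup.transvection hij (1 : F))⁻¹.1ᵀ).map ρ = _
        rw [SpecialLinearGroup.transvection_inv, SpecialLinearGroup.transvection_coe, transpose_add, transpose_one,
          transpose_single, Matrix.map_add _ (map_add ρ), Matrix.map_one _ (map_zero ρ) (map_one ρ), map_single, map_neg,
          map_one]
      rwa [Units.val_mul, Units.val_mul, a3, htr, mul_add, add_mul, mul_one, one_mul, add_right_inj] at a2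
    obtain ⟨i, j, k, hij, hjk, hik⟩ : ∃ i j k : Fin n, i ≠ j ∧ j ≠ k ∧ i ≠ k :=
      ⟨⟨0, by omega⟩, ⟨1, by omega⟩, ⟨2, by omega⟩, by simp, by simp, by simp⟩
    have a2 : single i k (1 : F) * g.1 = 0 := by
      rw [← mul_one (1 : F), ← single_mul_single_same _ i j k, mul_assoc, ← a1 hjk, ← mul_assoc, ← a1 hij, mul_assoc,
        single_mul_single_of_ne _ _ _ _ hik, mul_zero]
    have a3 := congrFun (congrFun (g.mul_left_eq_zero.1 a2) i) k
    rw [single_apply_same] at a3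
    exact one_ne_zero a3

omit [Fintype F] in
theorem mem_GU {q : ℕ} (hq : q ≠ 0) {φ : F ≃+* F} (h1 : ∀ x, φ x = x ^ q) (h2 : ∀ x, φ (φ x) = x) (g : GL (Fin n) F) :
    fm F _ φ (itm F _ g) = g ↔ g ∈ GU n F q := by
  have h3 : fm F _ φ (itm F _ g) = g ↔ g.1.map φ = (g⁻¹).1ᵀ := by
    refine ⟨fun h => Matrix.ext fun i j => ?_, fun h => Units.ext (Matrix.ext fun i j => ?_)⟩
    · rw [map_apply, ← congrArg (fun g : GL (Fin n) F => g.1 i j) h, fm_apply, h2, itm_val]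
    · rw [fm_apply, itm_val, ← h, map_apply, h2]
  rw [h3]
  constructor
  · intro h u v
    have h4 : ∀ u v, hermForm n F q u v = u ⬝ᵥ (φ ∘ v) := fun u v => Finset.sum_congr rfl fun i _ => by
      rw [Function.comp_apply, h1]
    show hermForm n F q (g.1 *ᵥ u) (g.1 *ᵥ v) = _
    have h5 : φ ∘ (g.1 *ᵥ v) = g.1.map φ *ᵥ (φ ∘ v) := funext fun i => RingHom.map_mulVec (φ : F →+* F) g.1 v i
    rw [h4, h4, h5, h, mulVec_transpose, dotProduct_comm, ← dotProduct_mulVec, mulVec_mulVec, Units.inv_mul, one_mulVec,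
      dotProduct_comm]
  · intro h
    have h4 : g.1ᵀ * g.1.map (fun x => x ^ q) = 1 := ClassicalGeometry.GUBasic.transpose_mul_map hq h
    rw [← funext h1] at h4
    rw [← one_mul (g.1.map φ), ← transpose_one, ← g.mul_inv, transpose_mul, mul_assoc, h4, mul_one]

theorem subU (f : F →+* c.K) (hF : Fintype.card F = (c.p ^ c.f) ^ 2) (hs : c.sg c.F = -1) (hn : 3 ≤ n)
    (h32 : ¬ (n = 3 ∧ c.p ^ c.f = 2)) (h1 : ∀ τ, ∃ e, c.σ e = τ ∧ c.sg e = 1) :
    Sub c f (GU n F (c.p ^ c.f)) (SpecialLinearGroup.toGL.comp (SU n F (c.p ^ c.f)).subtype) 2 := by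
  have : CharP F c.p := f.charP f.injective c.p
  have hne : Nonempty (Fin n) := ⟨⟨0, by omega⟩⟩
  have h2 : c.sg c.F ^ 2 = 1 := by rw [hs, neg_one_sq]
  obtain ⟨φ, hφ⟩ := exists_res c.p f (c.σ c.F)
  have h3 : ∀ x, φ x = x ^ c.p ^ c.f := fun x => f.injective (by rw [← hφ, c.hF, map_pow])
  have h4 := mem_GU (n := n) (pow_ne_zero _ c.pp.1.ne_zero) h3 fun x => by
    rw [h3, h3, ← pow_mul, ← sq, ← hF, FiniteField.pow_card]
  have h5 : ∀ g : GL (Fin n) F, c.act _ c.F (GeneralLinearGroup.map f g) = GeneralLinearGroup.map f g ↔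
      g ∈ GU n F (c.p ^ c.f) := fun g => by
    rw [c.act_apply, sm_map, fm_map f hφ, (map_inj f).eq_iff, hs, sm_neg, h4]
  refine ⟨SpecialLinearGroup.toGL_injective.comp Subtype.val_injective, hF, h2, fun y => ⟨fun h => ?_, ?_⟩, fun g => ?_,
    fun z hz => ?_, h1, fun β => ?_, fun g hg ρ h => ?_, .inl hs⟩
  · obtain ⟨g, rfl⟩ := (fix_pow f hF h2 y).1 (by rw [sq, map_mul, MulAut.mul_apply, h, h])
    exact ⟨g, (h5 g).1 h, rfl⟩
  · rintro ⟨g, hg, rfl⟩
    exact (h5 g).2 hg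
  · refine ⟨?_, fun h => ?_⟩
    · rintro ⟨s, rfl⟩
      exact ⟨s.2, det_sl _⟩
    · obtain ⟨s, rfl⟩ := exists_sl h.2
      exact ⟨⟨s, h.1⟩, rfl⟩
  · obtain ⟨x, -, -, rfl⟩ := (LieClassical.SUBasic.mem_center_SU_iff hF hn z).1 hz
    exact exists_dg (x := x) rfl
  · obtain ⟨A, ρ, rfl⟩ := ClassicalGeometry.PSUAutMain.exists_toAut hF hn h32 β
    refine ⟨A, A.2, ρ, 1, h1 1, fun t t' h => ?_⟩
    rw [sm_one] at h
    rw [show t' = ClassicalGeometry.PSUAutCount.semiConj A ρ t from Subtype.ext (Subtype.ext (congrArg Units.val h))]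
    rfl
  · have a1 : ClassicalGeometry.PSUAutCount.toAut 1 (RingEquiv.refl F) =
        ClassicalGeometry.PSUAutCount.toAut (⟨g, hg⟩ : GU n F (c.p ^ c.f)) ρ := by
      refine MulEquiv.ext fun x => ?_
      obtain ⟨t, rfl⟩ := QuotientGroup.mk_surjective x
      refine congrArg QuotientGroup.mk (Subtype.ext (Subtype.ext ?_))
      refine Eq.trans ?_ (congrArg Units.val (h t)).symm
      exact (mul_one _).trans (one_mul _)
    obtain ⟨rfl, x, -, a2⟩ := ClassicalGeometry.PSUAutCount.eq_of_toAut_eq hF hn a1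
    exact ⟨exists_dg (x := x) (a2.trans (smul_one_eq_diagonal x)), fun _ => rfl⟩

theorem real {r : ℕ} {X : Type} [Group X] (hX : IsQuasisimple X) (c : Cx) (hp : c.p = r) (hn : 2 ≤ n) (hc : n ≤ c.n)
    {f : F →+* c.K} {St : Type} [Group St] (qs : IsQuasisimple St) {T : Subgroup (GL (Fin n) F)} {i : St →* GL (Fin n) F}
    {m : ℕ} (h : Sub c.toD0 f T i m) (π : St →* X) (hπ : Function.Surjective π) : Real r X := by
  refine ⟨c, n, hp, hn, hc, fun ι _ _ hι v hv => ?_⟩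
  obtain ⟨j, hj⟩ := md_tw c.toD0 h.md (Fintype.equivFinOfCardEq hι).symm hv
  exact hj.act qs hX π hπ

end R

open _root_.Cfsg.Agent.MO.TA.R in
/-- **box R** -/
theorem boxR_of (hC : BoxC) : BoxR := by
  intro r X _ _ hr hX h
  have : Fact r.Prime := ⟨hr⟩
  have hns : ∀ {St : Type} [Group St] (π : St →* X), Function.Surjective π → ¬ Group.IsSolvable St := fun π hπ h =>
    Components.quasisimple_not_isSolvable hX (Group.isSolvable_of_surjective hπ)
  rcases h with ⟨F, _, _, n, _, hn, π, hπ⟩ | ⟨F, _, _, n, q, _, hF, hn, π, hπ⟩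
  · obtain ⟨f, -, hF⟩ := FiniteField.card F r
    have h4 : n = 2 → 4 ≤ Fintype.card F := by
      rintro rfl
      by_contra h4
      have h1 := S0242.result (F := F) rfl 2 (by omega)
      have h2 : 1 < Fintype.card F := Fintype.one_lt_card
      refine hns π hπ ?_
      obtain h3 | h3 : Fintype.card F = 2 ∨ Fintype.card F = 3 := by omega
      · rw [h3, Fin.prod_univ_two] at h1
        exact S0144.result 2 3 1 1 Nat.prime_two Nat.prime_three (by norm_num only [_root_.one_mul, _root_.Fin.coe_ofNat_eq_mod, _root_.pow_zero, _root_.Nat.add_one_sub_one, _root_.pow_one] at h1 ⊢; omega)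
      · rw [h3, Fin.prod_univ_two] at h1
        exact S0144.result 2 3 3 1 Nat.prime_two Nat.prime_three (by norm_num at h1 ⊢; omega)
    obtain ⟨c, rfl, h2, h3, h5, h6, h7, h8⟩ := hC r f n 1 (3 ≤ n) hr f.2 fun h => absurd h (by decide)
    rw [← h2] at hF
    obtain ⟨e⟩ := emb (c := c.toD0) (F := F) Nat.one_pos one_le_two (by rw [pow_one, hF]) (by rw [pow_one, h5])
    refine real hX c rfl hn h3.ge ?_ (subL e hF h5 hn h4 h6 h7 h8) π hπ
    rcases hn.eq_or_lt with rfl | h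
    · exact SLQuasisimple.isQuasisimple_two (by rw [Nat.card_eq_fintype_card]; exact h4 rfl)
    · exact SLQuasisimple.isQuasisimple_of_three_le (by rw [Fintype.card_fin]; omega)
  · obtain ⟨k, -, hk⟩ := FiniteField.card F r
    obtain ⟨f, -, rfl⟩ := (Nat.dvd_prime_pow hr).1 (show q ∣ r ^ (k : ℕ) from hk ▸ hF ▸ dvd_pow_self q two_ne_zero)
    have hf : 0 < f := Nat.pos_of_ne_zero (by
      rintro rfl
      exact Fintype.one_lt_card.ne' hF)
    have h32 : ¬ (n = 3 ∧ r ^ f = 2) := by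
      rintro ⟨rfl, h⟩
      revert π
      rw [h] at hF ⊢
      intro π hπ
      have := (S0282.result (F := F) hF).2
      have : Group.IsSolvable (center (SU 3 F 2)) := Group.isSolvable_of_comm fun a b => Subtype.ext (mem_center_iff.1 b.2 a)
      exact hns π hπ (Group.isSolvable_of_ker_le_range (center (SU 3 F 2)).subtype (QuotientGroup.mk' (center _)) (by
        rw [QuotientGroup.ker_mk', range_subtype]))
    obtain ⟨c, rfl, rfl, h3, h5, h6, -, -⟩ := hC r f n (-1) True hr hf fun _ => trivial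
    obtain ⟨e⟩ := emb (c := c.toD0) (F := F) two_pos le_rfl hF (by rw [h5, neg_one_sq])
    exact real hX c rfl (by omega) h3.ge
      ⟨⟨LieClassical.HermPerfect.commutator_SU_eq_top hF hn h32⟩, S0283.result hF n hn h32⟩ (subU e hF h5 hn h32 h6) π hπ

end Cfsg.Agent.MO.TA
end

-- part: MO/TA/T1
section
/-!
# MO/TA, box `T`: counting on a coset (helper80)

* `count` : `H / N` is cyclic, generated by `φ`, and `τ` normalises `N` and `H`.  The number of `τ`-stable classes in the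
  coset `N φ` is at most the number of `τ`-stable characters of `N` which extend to `H`; if equality holds then all
  extensions are `τ`-stable;
* `coset_ext` : the same with an invariant `ν` of the classes and labels `ℓ` of the characters;
* `fix_of_ndvd` : a character over `χ|N` which is fixed by an `s`-group;
* `tr_of_central` : extensions over a central element are stable.
-/

set_option autoImplicit false

namespace Cfsg.Agent.MO.TA.T

open Cfsg Subgroup Cfsg.Agent.Characters.Core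
open scoped ComplexConjugate

variable {A : Type} [Group A] [Finite A] {N H : Subgroup A} {τ : A}

omit [Finite A] in
theorem lin_eq_one {φ : H} (hle : N ≤ H) (hφ : ∀ x ∈ H, ∃ k : ℕ, ∃ y ∈ N, x = φ ^ k * y) {μ : H →* ℂˣ} (hμ : Lin N μ)
    (h : μ φ = 1) : μ = 1 := MonoidHom.ext fun x => by
  obtain ⟨k, y, hy, e⟩ := hφ x x.2
  rw [show x = φ ^ k * ⟨y, hle hy⟩ from Subtype.ext e, map_mul, map_pow, h, hμ _ hy, one_pow, one_mul]
  rfl

theorem coset_sum [Fintype H] {Λ : Finset (H →* ℂˣ)} {m : ℕ} (h3 : ∀ g : H, (g : A) ∈ N → ∑ μ ∈ Λ, (μ g : ℂ) = m)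
    (h4 : ∀ g : H, (g : A) ∉ N → ∑ μ ∈ Λ, (μ g : ℂ) = 0) (φ : H) (f g : H → ℂ)
    [DecidablePred fun x : H => ((x * φ⁻¹ : H) : A) ∈ N] :
    (m : ℂ) * ∑ x with ((x * φ⁻¹ : H) : A) ∈ N, f x * conj (g x) =
      Nat.card H * ∑ μ ∈ Λ, (μ φ⁻¹ : ℂ) * ip (fun x => (μ x : ℂ) * f x) g := by
  have h1 : ∀ μ : H →* ℂˣ, (Nat.card H : ℂ) * ((μ φ⁻¹ : ℂ) * ip (fun x => (μ x : ℂ) * f x) g) =
      ∑ x, (μ (x * φ⁻¹) : ℂ) * (f x * conj (g x)) := fun μ => by
    rw [ip_def, mul_left_comm, mul_inv_cancel_left₀ card_ne_zero_complex, Finset.mul_sum]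
    exact Finset.sum_congr rfl fun x _ => by rw [map_mul, Units.val_mul]; ring
  rw [Finset.mul_sum Λ, Finset.sum_congr rfl fun μ _ => h1 μ, Finset.sum_comm, Finset.sum_filter, Finset.mul_sum]
  refine Finset.sum_congr rfl fun x _ => ?_
  rw [← Finset.sum_mul]
  split_ifs with hx
  · rw [h3 _ hx]
  · rw [h4 _ hx, mul_zero, zero_mul]

/-- a character with a reducible restriction vanishes on the coset -/
theorem vanish (h : Aq N H) {φ : H} (hφ : ∀ x ∈ H, ∃ k : ℕ, ∃ y ∈ N, x = φ ^ k * y) {ψ : H → ℂ}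
    (hψ : IsIrrCharacter H ψ) (hr : ¬ IsIrrCharacter N (res N ψ)) {x : H} (hx : ((x * φ⁻¹ : H) : A) ∈ N) : ψ x = 0 := by
  by_contra h0
  have := Fintype.ofFinite N
  refine hr (isIrr_of_classInner_self (res_char h.le (isIrr_isCharacter hψ)) ?_)
  rw [← ip_eq, h.ip_self hψ, Nat.cast_eq_one, yc, Nat.card_eq_one_iff_unique]
  have key : ∀ μ : {μ : H →* ℂˣ // Lin N μ ∧ ∀ x, (μ x : ℂ) * ψ x = ψ x}, μ.1 = 1 := fun μ => by
    refine lin_eq_one h.le hφ μ.2.1 ?_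
    have h1 : μ.1 x = 1 := Units.ext ((mul_eq_right₀ h0).1 (μ.2.2 x))
    have h2 := μ.2.1 _ hx
    rwa [map_mul, h1, one_mul, map_inv, inv_eq_one] at h2
  exact ⟨⟨fun a b => Subtype.ext ((key a).trans (key b).symm)⟩, ⟨⟨1, fun _ _ => rfl, fun _ => one_mul _⟩⟩⟩

/-- the classes of the coset -/
theorem class_sum {G : Type} [Group G] [Fintype G] (α : G ≃* G) (C : Finset G) {I : Type} [Fintype I] (r : I → G)
    (hr : ∀ i x, IsConj x (r i) → x ∈ C) (hi : ∀ i j, IsConj (r i) (r j) → i = j) (ht : ∀ i, IsConj (α (r i)) (r i))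
    [∀ x, Decidable (IsConj (α x) x)] :
    Fintype.card I * Nat.card G ≤ ∑ x ∈ C, if IsConj (α x) x then Nat.card (centralizer ({x} : Set G)) else 0 := by
  classical
  refine le_trans (le_of_eq ?_) (Finset.sum_le_sum_of_subset
    (s := Finset.univ.biUnion fun i => Finset.univ.filter fun x => IsConj x (r i)) fun x hx => ?_)
  · rw [Finset.sum_biUnion fun i _ j _ hij => Finset.disjoint_left.2 fun x h1 h2 =>
      hij (hi i j ((Finset.mem_filter.1 h1).2.symm.trans (Finset.mem_filter.1 h2).2)), ← Finset.card_univ, ← smul_eq_mul,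
      ← Finset.sum_const]
    refine Finset.sum_congr rfl fun i _ => ?_
    have h1 : 0 < (Finset.univ.filter fun x => IsConj x (r i)).card :=
      Finset.card_pos.2 ⟨r i, Finset.mem_filter.2 ⟨Finset.mem_univ _, IsConj.refl _⟩⟩
    refine Nat.eq_of_mul_eq_mul_right h1 ?_
    rw [Finset.sum_mul, mul_comm, ← smul_eq_mul, ← Finset.sum_const]
    refine Finset.sum_congr rfl fun x hx => ?_
    have h2 := (Finset.mem_filter.1 hx).2
    have h3 : IsConj (α x) x := (((α : G →* G).map_isConj h2).trans (ht i)).trans h2.symm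
    rw [if_pos h3, ← S0145.card_centralizer_mul_card_class x]
    (with_reducible congr 2)
    exact Finset.filter_congr fun y _ => ⟨fun e => e.trans h2, fun e => e.trans h2.symm⟩
  · obtain ⟨i, -, h1⟩ := Finset.mem_biUnion.1 hx
    exact hr i x (Finset.mem_filter.1 h1).2

/-- **the count** -/
theorem count (h : Aq N H) {φ : H} (hφ : ∀ x ∈ H, ∃ k : ℕ, ∃ y ∈ N, x = φ ^ k * y) (hH : Nr H τ) (S : Finset (N → ℂ))
    (hS : ∀ ψ : H → ℂ, IsIrrCharacter H ψ → IsIrrCharacter N (res N ψ) → Tr N τ (res N ψ) (res N ψ) → res N ψ ∈ S)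
    {I : Type} [Fintype I] (r : I → H) (hr : ∀ i, ((r i * φ⁻¹ : H) : A) ∈ N) (hi : ∀ i j, IsConj (r i) (r j) → i = j)
    (ht : ∀ i, IsConj (cje hH (r i)) (r i)) :
    Fintype.card I ≤ S.card ∧ (S.card ≤ Fintype.card I → ∀ ψ : H → ℂ, IsIrrCharacter H ψ →
      IsIrrCharacter N (res N ψ) → Tr N τ (res N ψ) (res N ψ) → Tr H τ ψ ψ) := by
  classical
  have := Fintype.ofFinite H
  have := finite_irr (G := H)
  have := Fintype.ofFinite (IrrCharacter H)
  obtain ⟨Λ, h1, h2, h3, h4⟩ := h.dual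
  have hm : 0 < N.relIndex H := Nat.pos_of_ne_zero index_ne_zero_of_finite
  let W : IrrCharacter H → ℂ := fun ψ => ∑ μ ∈ Λ, (μ φ⁻¹ : ℂ) * ip (fun x => (μ x : ℂ) * (ψ.1 ∘ cje hH) x) ψ.1
  let T : Finset (IrrCharacter H) :=
    Finset.univ.filter fun ψ => IsIrrCharacter N (res N ψ.1) ∧ Tr N τ (res N ψ.1) (res N ψ.1)
  have hirr : ∀ ψ : IrrCharacter H, IsIrrCharacter H (ψ.1 ∘ cje hH) := fun ψ => (irr_comp_iff _).2 ψ.2
  have hfix : ∀ (ψ : IrrCharacter H) (μ : H →* ℂˣ), ip (fun x => (μ x : ℂ) * (ψ.1 ∘ cje hH) x) ψ.1 ≠ 0 →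
      (fun x => (μ x : ℂ) * (ψ.1 ∘ cje hH) x) = ψ.1 := fun ψ μ e => eq_of_ip (irr_lin μ (hirr ψ)) ψ.2 e
  have hA : ∀ ψ, ψ ∉ T → W ψ = 0 := fun ψ hψ => by
    by_cases hr' : IsIrrCharacter N (res N ψ.1)
    · refine Finset.sum_eq_zero fun μ hμ => mul_eq_zero_of_right _ (by_contra fun e => hψ ?_)
      refine Finset.mem_filter.2 ⟨Finset.mem_univ _, hr', ?_⟩
      have h5 : res N (ψ.1 ∘ cje hH) = res N ψ.1 := by
        rw [← res_lin h.le ((h1 μ).1 hμ), hfix ψ μ e]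
      have h6 := ((tr_iff hH).2 (rfl : ψ.1 ∘ cje hH = _)).res h.le
      rwa [h5] at h6
    · have h5 := coset_sum h3 h4 φ (ψ.1 ∘ cje hH) ψ.1
      rw [Finset.sum_eq_zero fun x hx => by
        rw [vanish h hφ ψ.2 hr' (Finset.mem_filter.1 hx).2, map_zero, mul_zero], mul_zero] at h5
      exact (mul_eq_zero.1 h5.symm).resolve_left card_ne_zero_complex
  have hB : ∀ ψ ∈ T, (W ψ).re ≤ 1 ∧ ((W ψ).re = 1 → Tr H τ ψ.1 ψ.1) := fun ψ hψ => by
    by_cases h5 : ∃ μ ∈ Λ, ip (fun x => (μ x : ℂ) * (ψ.1 ∘ cje hH) x) ψ.1 ≠ 0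
    · obtain ⟨μ, h6, h7⟩ := h5
      have h8 := hfix ψ μ h7
      have h9 : W ψ = (μ φ⁻¹ : ℂ) := by
        refine (Finset.sum_eq_single μ (fun ν h9 h10 => mul_eq_zero_of_right _ (by_contra fun e => h10 ?_))
          fun e => absurd h6 e).trans (by rw [h8, ip_self ψ.2, mul_one])
        have h11 := hfix ψ ν e
        refine mul_inv_eq_one.1 (h.eq_one ψ.2 (Finset.mem_filter.1 hψ).2.1 (fun x hx => ?_) fun x => ?_)
        · rw [MonoidHom.mul_apply, MonoidHom.inv_apply, (h1 ν).1 h9 x hx, (h1 μ).1 h6 x hx, inv_one, mul_one]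
        · rw [MonoidHom.mul_apply, MonoidHom.inv_apply, Units.val_mul, mul_assoc]
          conv_lhs => rw [← congrFun h8 x, Units.inv_mul_cancel_left]
          exact congrFun h11 x
      have h10 : ‖(μ φ⁻¹ : ℂ)‖ = 1 := by
        have h11 := congrArg norm (lin_mul_conj μ φ⁻¹)
        rw [norm_mul, Complex.norm_conj, norm_one] at h11
        exact (mul_self_eq_one_iff.1 h11).resolve_right fun e => by linarith only [e, norm_nonneg (μ φ⁻¹ : ℂ)]
      rw [h9]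
      refine ⟨h10 ▸ Complex.re_le_norm _, fun e => ?_⟩
      have h11 : (μ φ⁻¹ : ℂ) = 1 := by
        have h12 := Complex.sq_norm_sub_sq_re (μ φ⁻¹ : ℂ)
        rw [h10, e, sub_self] at h12
        exact Complex.ext e (pow_eq_zero_iff two_ne_zero |>.1 h12.symm)
      have h12 : μ = 1 := lin_eq_one h.le hφ ((h1 μ).1 h6) (by
        rw [← inv_eq_one, ← map_inv]
        exact Units.ext h11)
      refine (tr_iff hH).2 (funext fun x => ?_)
      rw [← congrFun h8 x, h12, MonoidHom.one_apply, Units.val_one, one_mul]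
    · push Not at h5
      rw [show W ψ = 0 from Finset.sum_eq_zero fun μ hμ => by rw [h5 μ hμ, mul_zero], Complex.zero_re]
      exact ⟨zero_le_one, fun e => absurd e zero_ne_one⟩
  have hC : ((N.relIndex H * Fintype.card I : ℕ) : ℝ) ≤ ∑ ψ ∈ T, (W ψ).re := by
    have h5 := class_sum (cje hH) (Finset.univ.filter fun x : H => ((x * φ⁻¹ : H) : A) ∈ N) r (fun i x hx => by
      obtain ⟨g, rfl⟩ := isConj_iff.1 hx.symm
      refine Finset.mem_filter.2 ⟨Finset.mem_univ _, ?_⟩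
      have h6 := mul_mem (h.comm g g.2 _ (r i).2) (hr i)
      simpa only [coe_mul, coe_inv, mul_assoc, inv_mul_cancel_left] using h6) hi ht
    have h6 : (Nat.card H : ℂ) * ∑ ψ ∈ T, W ψ = ((N.relIndex H * ∑ x with ((x * φ⁻¹ : H) : A) ∈ N,
        if IsConj (cje hH x) x then Nat.card (centralizer ({x} : Set H)) else 0 : ℕ) : ℂ) := by
      rw [Finset.sum_subset (Finset.subset_univ T) fun ψ _ hψ => hA ψ hψ, Finset.mul_sum,
        Finset.sum_congr rfl fun ψ _ => (coset_sum h3 h4 φ (ψ.1 ∘ cje hH) ψ.1).symm, ← Finset.mul_sum, Finset.sum_comm,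
        Nat.cast_mul, Nat.cast_sum]
      congr 1
      refine Finset.sum_congr rfl fun x _ => ?_
      rw [Nat.cast_ite, Nat.cast_zero]
      exact S0145.sum_irr_mul_conj _ _
    have h7 := congrArg Complex.re h6
    rw [Complex.natCast_re, ← Complex.ofReal_natCast, Complex.re_ofReal_mul, Complex.re_sum] at h7
    have h8 : (0 : ℝ) < Nat.card H := Nat.cast_pos.2 Nat.card_pos
    refine le_of_mul_le_mul_left ?_ h8
    rw [h7, ← Nat.cast_mul, Nat.cast_le, mul_left_comm, mul_comm (Nat.card H)]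
    exact Nat.mul_le_mul_left _ h5
  have hD : T.card ≤ N.relIndex H * S.card := by
    refine Finset.card_le_mul_card_image_of_maps_to (f := fun ψ : IrrCharacter H => res N ψ.1)
      (fun ψ hψ => hS _ ψ.2 (Finset.mem_filter.1 hψ).2.1 (Finset.mem_filter.1 hψ).2.2) _ fun χ _ => ?_
    rcases (T.filter fun ψ => res N ψ.1 = χ).eq_empty_or_nonempty with e | ⟨ψ, hψ⟩
    · rw [e]
      exact Nat.zero_le _
    · rw [← h2]
      refine Finset.card_le_card_of_surjOn (fun μ => ⟨_, irr_lin μ ψ.2⟩) fun ψ' hψ' => ?_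
      obtain ⟨h5, h6⟩ := Finset.mem_filter.1 hψ
      obtain ⟨μ, h7, h8⟩ := h.twist ψ.2 ψ'.2 (by
        rw [(Finset.mem_filter.1 hψ').2, ← h6, ip_self (Finset.mem_filter.1 h5).2.1]
        exact one_ne_zero)
      exact ⟨μ, (h1 μ).2 h7, Subtype.ext h8.symm⟩
  have hE : ∑ ψ ∈ T, (W ψ).re ≤ ∑ _ψ ∈ T, (1 : ℝ) := Finset.sum_le_sum fun ψ hψ => (hB ψ hψ).1
  have hF : ∑ _ψ ∈ T, (1 : ℝ) = T.card := by rw [Finset.sum_const, nsmul_eq_mul, mul_one]
  refine ⟨Nat.le_of_mul_le_mul_left (le_trans ?_ hD) hm, fun e ψ h5 h6 h7 => ?_⟩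
  · exact_mod_cast hC.trans (hE.trans_eq hF)
  · have h8 : (⟨ψ, h5⟩ : IrrCharacter H) ∈ T := Finset.mem_filter.2 ⟨Finset.mem_univ _, h6, h7⟩
    refine (hB _ h8).2 ((Finset.sum_eq_sum_iff_of_le fun ψ hψ => (hB ψ hψ).1).1 (le_antisymm hE ?_) _ h8)
    rw [hF]
    exact le_trans (Nat.cast_le.2 (hD.trans (Nat.mul_le_mul_left _ e))) hC

theorem finite_irr' (G : Type) [Group G] [Finite G] (P : (G → ℂ) → Prop) : {χ | IsIrrCharacter G χ ∧ P χ}.Finite :=
  (show {χ | IsIrrCharacter G χ}.Finite from finite_irr (G := G)).subset fun _ h => h.1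

/-- **stability of the extensions** from an invariant of the classes and labels of the characters -/
theorem coset_ext (h : Aq N H) {φ : H} (hφ : ∀ x ∈ H, ∃ k : ℕ, ∃ y ∈ N, x = φ ^ k * y) (hH : Nr H τ)
    (hC : ∀ x : H, ((x * φ⁻¹ : H) : A) ∈ N → ((cje hH x * φ⁻¹ : H) : A) ∈ N) {Θ : Type} (ν : H → Θ) (ℓ : (N → ℂ) → Θ)
    (hν : ∀ x : H, ((x * φ⁻¹ : H) : A) ∈ N → ∀ y, IsConj x y → ν x = ν y)
    (hℓ : ∀ χ χ', IsIrrCharacter N χ → IsIrrCharacter N χ' → ℓ χ = ℓ χ' → χ = χ')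
    (hs : ∀ χ, IsIrrCharacter N χ → Tr N φ χ χ → ∃ x : H, ((x * φ⁻¹ : H) : A) ∈ N ∧ ν x = ℓ χ)
    (ht : ∀ χ, IsIrrCharacter N χ → Tr N τ χ χ → ∀ x : H, ((x * φ⁻¹ : H) : A) ∈ N → ν x = ℓ χ → ν (cje hH x) = ℓ χ)
    {ψ : H → ℂ} (h1 : IsIrrCharacter H ψ) (h2 : IsIrrCharacter N (res N ψ)) (h3 : Tr N τ (res N ψ) (res N ψ)) :
    Tr H τ ψ ψ := by
  classical
  choose! x hx hx' using hs
  have hφ' : ∀ ψ : H → ℂ, IsIrrCharacter H ψ → Tr N φ (res N ψ) (res N ψ) := fun ψ e =>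
    h.tr_res (isIrr_isClassFunction e) φ.2
  have key : ∀ χ, IsIrrCharacter N χ → Tr N φ χ χ → ∀ y : H, ((y * φ⁻¹ : H) : A) ∈ N → ν y = ℓ χ → IsConj y (x χ) := by
    intro χ h4 h5 y h6 h7
    by_contra h8
    let S := (finite_irr' N fun χ => Tr N φ χ χ).toFinset
    have hS : ∀ χ, χ ∈ S ↔ IsIrrCharacter N χ ∧ Tr N φ χ χ := fun χ => Set.Finite.mem_toFinset _
    have h9 : ∀ χ' : S, ¬ IsConj y (x χ') := fun χ' e => by
      obtain ⟨h9, h10⟩ := (hS _).1 χ'.2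
      exact h8 (hℓ _ _ h9 h4 ((hx' _ h9 h10).symm.trans ((hν y h6 _ e).symm.trans h7)) ▸ e)
    have h10 := (count h hφ (nr_of_mem (one_mem H)) S (fun ψ e e' _ => (hS _).2 ⟨e', hφ' ψ e⟩)
      (fun i : Option S => i.elim y fun χ => x χ) (fun i => ?_) (fun i j e => ?_) fun i => ?_).1
    · rw [Fintype.card_option, Fintype.card_coe] at h10
      exact Nat.not_succ_le_self _ h10
    · rcases i with _ | i
      · exact h6
      · exact hx _ ((hS _).1 i.2).1 ((hS _).1 i.2).2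
    · rcases i with _ | i <;> rcases j with _ | j
      · rfl
      · exact absurd e (h9 j)
      · exact absurd e.symm (h9 i)
      · obtain ⟨h10, h11⟩ := (hS _).1 i.2
        obtain ⟨h12, h13⟩ := (hS _).1 j.2
        exact congrArg some (Subtype.ext (hℓ _ _ h10 h12
          ((hx' _ h10 h11).symm.trans ((hν _ (hx _ h10 h11) _ e).trans (hx' _ h12 h13)))))
    · exact isConj_iff.2 ⟨1, Subtype.ext (by simp only [cje_coe, _root_.one_mul, _root_.inv_one, _root_.mul_one])⟩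
  let S := (finite_irr' N fun χ => Tr N φ χ χ ∧ Tr N τ χ χ).toFinset
  have hS : ∀ χ, χ ∈ S ↔ IsIrrCharacter N χ ∧ Tr N φ χ χ ∧ Tr N τ χ χ := fun χ => Set.Finite.mem_toFinset _
  refine (count h hφ hH S (fun ψ e e' e'' => (hS _).2 ⟨e', hφ' ψ e, e''⟩) (fun i : S => x i) (fun i => ?_)
    (fun i j e => ?_) fun i => ?_).2 (Fintype.card_coe S).ge ψ h1 h2 h3
  · exact hx _ ((hS _).1 i.2).1 ((hS _).1 i.2).2.1
  · obtain ⟨h10, h11, -⟩ := (hS _).1 i.2
    obtain ⟨h12, h13, -⟩ := (hS _).1 j.2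
    exact Subtype.ext (hℓ _ _ h10 h12 ((hx' _ h10 h11).symm.trans ((hν _ (hx _ h10 h11) _ e).trans (hx' _ h12 h13))))
  · obtain ⟨h10, h11, h12⟩ := (hS _).1 i.2
    exact key _ h10 h11 _ (hC _ (hx _ h10 h11)) (ht _ h10 h12 _ (hx _ h10 h11) (hx' _ h10 h11))

/-- extensions over a central element are stable -/
theorem tr_of_central (hle : N ≤ H) {z : H} (hz : ∀ x ∈ H, ∃ k : ℕ, ∃ y ∈ N, x = z ^ k * y) (hc : ∀ g : H, z * g = g * z)
    (hτ : τ * z = z * τ) (hN : Nr N τ) {ψ : H → ℂ} (h1 : IsIrrCharacter H ψ) (h3 : Tr N τ (res N ψ) (res N ψ)) :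
    Tr H τ ψ ψ := fun x x' e => by
  obtain ⟨w, -, hw⟩ := exists_omega h1 hc
  have hk : ∀ (k : ℕ) (y : H), ψ (z ^ k * y) = w ^ k * ψ y := fun k y => by
    induction k with
    | zero => rw [pow_zero, pow_zero, one_mul, one_mul]
    | succ k ih => rw [pow_succ', mul_assoc, hw, ih, pow_succ', mul_assoc]
  obtain ⟨k, y, hy, e'⟩ := hz x x.2
  have h4 := h3 ⟨y, hy⟩ ⟨_, (hN y).1 hy⟩ rfl
  rw [res_of_le hle, res_of_le hle] at h4
  rw [show x = z ^ k * inclusion hle ⟨y, hy⟩ from Subtype.ext e',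
    show x' = z ^ k * inclusion hle ⟨_, (hN y).1 hy⟩ from Subtype.ext (by
      rw [e, e', ← mul_assoc, (Commute.pow_right hτ k).eq]
      simp only [coe_mul, coe_pow, coe_inclusion, mul_assoc]), hk, hk, h4]

/-- **a character over `χ|N` which is fixed by an `s`-group** -/
theorem fix_of_ndvd (h : Aq N H) {s : ℕ} [Fact s.Prime] (hs : ¬ s ∣ N.relIndex H) {χ : H → ℂ} (hχ : IsIrrCharacter H χ)
    {D : Subgroup A} (hD : ∀ d ∈ D, Nr H d) (hst : ∀ d ∈ D, Nr N d ∧ Tr N d (res N χ) (res N χ))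
    (hp : ∀ a ∈ D, ∃ k : ℕ, a ^ s ^ k ∈ N) :
    ∃ χ', IsIrrCharacter H χ' ∧ res N χ' = res N χ ∧ ∀ d ∈ D, Tr H d χ' χ' := by
  classical
  let X := {χ' : H → ℂ // IsIrrCharacter H χ' ∧ res N χ' = res N χ}
  have hX : ¬ s ∣ Nat.card X := fun e => hs (e.trans ?_)
  · let α : D →* Equiv.Perm X :=
      MonoidHom.mk' (fun d =>
        { toFun := fun f => ⟨f.1 ∘ cje (hD d d.2).inv, (irr_comp_iff _).2 f.2.1, by
            have h1 := ((tr_iff (hD d d.2).inv).2 (rfl : f.1 ∘ cje (hD d d.2).inv = _)).res h.le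
            rw [f.2.2] at h1
            exact h1.uniq' (hst d d.2).1.inv (hst d d.2).2.symm⟩
          invFun := fun f => ⟨f.1 ∘ cje (hD d d.2), (irr_comp_iff _).2 f.2.1, by
            have h1 := ((tr_iff (hD d d.2)).2 (rfl : f.1 ∘ cje (hD d d.2) = _)).res h.le
            rw [f.2.2] at h1
            exact h1.uniq' (hst d d.2).1 (hst d d.2).2⟩
          left_inv := fun f => Subtype.ext (funext fun x => congrArg f.1 (Subtype.ext (by simp only [cje_coe, mul_assoc, _root_.inv_mul_cancel_left, _root_.inv_inv, _root_.inv_mul_cancel, _root_.mul_one])))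
          right_inv := fun f => Subtype.ext (funext fun x => congrArg f.1 (Subtype.ext (by simp [cje_coe, mul_assoc]))) })
        fun a b => Equiv.ext fun f => Subtype.ext (funext fun x => congrArg f.1 (Subtype.ext (by simp only [cje_coe, mul_assoc, _root_.Subgroup.coe_mul, _root_.mul_inv_rev, _root_.inv_inv])))
    have h1 : IsPGroup s α.range := by
      rintro ⟨_, d, rfl⟩
      obtain ⟨k, hk⟩ := hp d d.2
      refine ⟨k, Subtype.ext ?_⟩
      rw [coe_pow, ← map_pow]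
      exact Equiv.ext fun f => Subtype.ext
        ((tr_iff _).1 (tr_of_mem (inv_mem (h.le hk)) (isIrr_isClassFunction f.2.1))).symm
    obtain ⟨f, hf⟩ := h1.nonempty_fixed_point_of_prime_not_dvd_card X hX
    refine ⟨f.1, f.2.1, f.2.2, fun d hd => ?_⟩
    have h2 := congrArg Subtype.val (hf ⟨_, ⟨d, hd⟩, rfl⟩)
    have h3 := ((tr_iff (hD d hd).inv).2 h2.symm).symm
    rwa [inv_inv] at h3
  · let L : Subgroup (H →* ℂˣ) :=
      { carrier := {μ | Lin N μ}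
        one_mem' := fun _ _ => rfl
        mul_mem' := fun {a b} ha hb x hx => by rw [MonoidHom.mul_apply, ha x hx, hb x hx, one_mul]
        inv_mem' := fun {a} ha x hx => by rw [MonoidHom.inv_apply, ha x hx, inv_one] }
    let act : MulAction L X :=
      { smul := fun μ f => ⟨fun x => (μ.1 x : ℂ) * f.1 x, irr_lin _ f.2.1, (res_lin h.le μ.2 _).trans f.2.2⟩
        one_smul := fun f => Subtype.ext (funext fun x => one_mul _)
        mul_smul := fun a b f => Subtype.ext (funext fun x => mul_assoc _ _ _) }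
    have h1 : MulAction.IsPretransitive L X := ⟨fun f g => by
      obtain ⟨θ, h1, h2⟩ := exists_under h.le hχ
      obtain ⟨μ, h3, h4⟩ := h.twist' f.2.1 g.2.1 h1 (by rwa [f.2.2]) (by rwa [g.2.2])
      exact ⟨⟨μ, h3⟩, Subtype.ext h4.symm⟩⟩
    rw [← h.card_lin, ← MulAction.index_stabilizer_of_transitive L (⟨χ, hχ, rfl⟩ : X)]
    exact index_dvd_card _

end Cfsg.Agent.MO.TA.T
end

-- part: MO/TA/T2
section
/-!
# MO/TA, box `T`: the norm map (helper80)

* `col_map` : the columns do not change under field extensions;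
* `lang` : Lang's theorem for an arbitrary index type;
* `norm` : a class which is stable under a field automorphism is a norm.
-/

set_option autoImplicit false

namespace Cfsg.Agent.MO.TA.T

open Matrix
open Matrix.GeneralLinearGroup (map)
open scoped MatrixGroups

variable {K L : Type} [Field K] [Field L] {ι : Type} [Fintype ι] [DecidableEq ι]

theorem rank_map' (φ : K →+* L) (B : Matrix ι ι K) : (B.map φ).rank = B.rank := by
  obtain ⟨V, U, e, hV, hU, h⟩ := exists_rank_normal_form B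
  have h1 := congrArg φ.mapMatrix h
  rw [map_mul, map_mul] at h1
  have h2 : φ.mapMatrix ((fromBlocks 1 0 0 0).submatrix e e) = diagonal fun i => Sum.elim (fun _ => (1 : L)) (fun _ => 0) (e i) := by
    ext i j
    rw [RingHom.mapMatrix_apply, map_apply, submatrix_apply, diagonal_apply]
    rcases hi : e i with a | a <;> rcases hj : e j with b | b
    · rw [fromBlocks_apply₁₁, one_apply, apply_ite φ, map_one, map_zero]
      exact if_congr (by rw [← e.injective.eq_iff, hi, hj, Sum.inl.injEq]) rfl rfl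
    · rw [fromBlocks_apply₁₂, Matrix.zero_apply, map_zero, if_neg fun h => by simp [h, hj] at hi]
    · rw [fromBlocks_apply₂₁, Matrix.zero_apply, map_zero, Sum.elim_inr, ite_self]
    · rw [fromBlocks_apply₂₂, Matrix.zero_apply, map_zero, Sum.elim_inr, ite_self]
  classical
  have h3 := congrArg rank (h1.trans h2)
  rw [rank_mul_eq_left_of_isUnit_det _ _ ((isUnit_iff_isUnit_det _).1 (hU.map φ.mapMatrix)),
    rank_mul_eq_right_of_isUnit_det _ _ ((isUnit_iff_isUnit_det _).1 (hV.map φ.mapMatrix)), rank_diagonal,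
    Fintype.card_congr (e.subtypeEquiv (q := fun s => s.isLeft) fun i => by rcases e i with a | a <;> simp),
    Fintype.card_congr Equiv.sumIsLeft, Fintype.card_fin] at h3
  exact h3

theorem col_map (φ : K →+* L) (g : GL ι K) (x : Kˣ) : col (_root_.Matrix.GeneralLinearGroup.map φ g) (Units.map (φ : K →* L) x) = col g x := by
  have h : ∀ i : ℕ, (((_root_.Matrix.GeneralLinearGroup.map φ g).1 - scalar ι ((Units.map (φ : K →* L) x : Lˣ) : L)) ^ i).rank =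
      ((g.1 - scalar ι (x : K)) ^ i).rank := fun i => by
    have h1 : (_root_.Matrix.GeneralLinearGroup.map φ g).1 - scalar ι ((Units.map (φ : K →* L) x : Lˣ) : L) = φ.mapMatrix (g.1 - scalar ι (x : K)) := by
      rw [map_sub]
      congr 1
      exact (diagonal_map (map_zero φ)).symm
    rw [h1, ← map_pow]
    exact rank_map' φ _
  ext i
  have h1 := col_add (_root_.Matrix.GeneralLinearGroup.map φ g) (Units.map (φ : K →* L) x) i
  rw [h, h] at h1
  exact Nat.add_right_cancel (h1.trans (col_add g x i).symm)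

theorem lang [IsAlgClosed L] (p : ℕ) [Fact p.Prime] [CharP L p] {f : ℕ} (hf : 0 < f) (g : GL ι L) :
    ∃ x : GL ι L, g = x * (_root_.Matrix.GeneralLinearGroup.map (iterateFrobenius L p f) x)⁻¹ := by
  let e : GL ι L ≃* GL (Fin (Fintype.card ι)) L :=
    Units.mapEquiv (reindexAlgEquiv L L (Fintype.equivFin ι)).toMulEquiv
  obtain ⟨x, hx⟩ := H192.lang_gl p f hf (e g)
  refine ⟨e.symm x, e.injective ?_⟩
  simp only [hx, map_mul, map_inv, e.apply_symm_apply]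
  congr 2
  exact e.symm.injective (by rw [e.symm_apply_apply]; rfl)

open Polynomial in
theorem mem_range [Fintype K] (φ : K →+* L) {q : ℕ} (hq : q - 1 ∣ Nat.card Kˣ) {x : L} (hx : x ^ q = x) : x ∈ φ.range := by
  rcases eq_or_ne x 0 with rfl | h0
  · exact zero_mem _
  have h1 : (X ^ Fintype.card K - X : K[X]).Splits := by
    simpa using (FiniteField.isSplittingField_sub K K).splits
  refine h1.mem_range_of_isRoot (FiniteField.X_pow_card_sub_X_ne_zero _ Fintype.one_lt_card) ?_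
  obtain ⟨k, hk⟩ := hq
  have h2 : x ^ (q - 1) = 1 := by
    rcases q with _ | q
    · exact pow_zero x
    · exact mul_right_cancel₀ h0 (by rw [← pow_succ, one_mul]; exact hx)
  rw [Nat.card_units, Nat.card_eq_fintype_card] at hk
  rw [Polynomial.map_sub, Polynomial.map_pow, map_X, IsRoot, eval_sub, eval_pow, eval_X,
    ← Nat.sub_add_cancel (Fintype.card_pos (α := K)), hk, pow_succ, pow_mul, h2, one_pow, one_mul, sub_self]

theorem exists_map (φ : K →+* L) (G : GL ι L) (h : ∀ i j, G.1 i j ∈ φ.range) : ∃ g : GL ι K, _root_.Matrix.GeneralLinearGroup.map φ g = G := by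
  choose B hB using h
  have h1 : φ.mapMatrix (of B) = G.1 := Matrix.ext hB
  refine ⟨GeneralLinearGroup.mkOfDetNeZero (of B) fun e => G.det_ne_zero ?_, Units.ext h1⟩
  rw [← h1, ← RingHom.map_det, e, map_zero]

/-- **stable classes are norms** -/
theorem norm [Fintype K] (p : ℕ) [Fact p.Prime] [CharP K p] {a m : ℕ} (ha : 0 < a) (hm : 0 < m)
    (hq : p ^ (a * m) - 1 ∣ Nat.card Kˣ) (σ : GL ι K →* GL ι K) (hσ : ∀ g i j, (σ g).1 i j = g.1 i j ^ p ^ a)
    {y h : GL ι K} (e : h * σ y * h⁻¹ = y) : ∃ g : GL ι K, (∀ i j, g.1 i j ^ p ^ (a * m) = g.1 i j) ∧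
      ∀ n : ℕ → GL ι K, n 0 = 1 → (∀ k, n (k + 1) = g * σ (n k)) → ∀ x, col (n m) x = col y x := by
  let φ := algebraMap K (AlgebraicClosure K)
  let Φ : ℕ → GL ι (AlgebraicClosure K) →* GL ι (AlgebraicClosure K) := fun k => _root_.Matrix.GeneralLinearGroup.map (iterateFrobenius _ p k)
  have hΦ : ∀ k l g, Φ (k + l) g = Φ k (Φ l g) := fun k l g =>
    Units.ext (Matrix.ext fun i j => iterateFrobenius_add_apply _ p k l _)
  have hj : ∀ g, _root_.Matrix.GeneralLinearGroup.map φ (σ g) = Φ a (_root_.Matrix.GeneralLinearGroup.map φ g) := fun g => Units.ext (Matrix.ext fun i j =>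
    (congrArg φ (hσ g i j)).trans (map_pow φ _ _))
  obtain ⟨b, hb⟩ := lang p ha (_root_.Matrix.GeneralLinearGroup.map φ h)
  have h1 : Φ a (b⁻¹ * _root_.Matrix.GeneralLinearGroup.map φ y * b) = b⁻¹ * _root_.Matrix.GeneralLinearGroup.map φ y * b := by
    conv_rhs => rw [← e, map_mul, map_mul, map_inv, hb, hj]
    simp only [map_mul, map_mul, map_inv]
    simp only [Φ, _root_.mul_inv_rev, inv_inv, mul_assoc, inv_mul_cancel_left, inv_mul_cancel, mul_one]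
  obtain ⟨c, hc⟩ := lang p (Nat.mul_pos ha hm) (b⁻¹ * _root_.Matrix.GeneralLinearGroup.map φ y * b)⁻¹
  have h2 : Φ (a * m) c = b⁻¹ * _root_.Matrix.GeneralLinearGroup.map φ y * b * c := by
    rw [← inv_inv (b⁻¹ * _root_.Matrix.GeneralLinearGroup.map φ y * b), hc, _root_.mul_inv_rev, inv_inv, inv_mul_cancel_right]
  have h3 : Φ (a * m) (c⁻¹ * Φ a c) = c⁻¹ * Φ a c := by
    rw [map_mul, map_inv, ← hΦ, add_comm, hΦ, h2, map_mul, h1, _root_.mul_inv_rev, mul_assoc, inv_mul_cancel_left]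
  have h4 : ∀ i j, (c⁻¹ * Φ a c).1 i j ^ p ^ (a * m) = (c⁻¹ * Φ a c).1 i j := fun i j =>
    congrArg (fun g : GL ι (AlgebraicClosure K) => g.1 i j) h3
  obtain ⟨g, hg⟩ := exists_map φ _ fun i j => mem_range φ hq (h4 i j)
  refine ⟨g, fun i j => φ.injective ?_, fun n h5 h6 x => ?_⟩
  · rw [map_pow]
    rw [← hg] at h4
    exact h4 i j
  · have h7 : ∀ k, _root_.Matrix.GeneralLinearGroup.map φ (n k) = c⁻¹ * Φ (a * k) c := fun k => by
      induction k with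
      | zero =>
        rw [h5, map_one, eq_inv_mul_iff_mul_eq, mul_one]
        exact Units.ext (Matrix.ext fun i j => (pow_one _).symm)
      | succ k ih => simp only [h6, map_mul, hj, ih, hg, map_mul, map_inv, ← hΦ, mul_assoc, mul_inv_cancel_left, mul_add_one, add_comm]
    rw [← col_map φ, ← col_map φ y, h7, h2, ← col_conj (c⁻¹ * b⁻¹) (_root_.Matrix.GeneralLinearGroup.map φ y)]
    simp only [_root_.mul_inv_rev, inv_inv, mul_assoc]

end Cfsg.Agent.MO.TA.T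
end

-- part: MO/TA/T3
section
/-!
# MO/TA, box `T`: labels, types and the subgroups of `E` (helper80)

* `exists_toCol` : partitions of `β`-tuples; `exists_typ`, `sep` : existence and uniqueness of classes with given columns;
* `exists_lab` : an injective equivariant map from the irreducible characters to the types;
* `dich` : the subgroups of `E` which contain `F`.
-/

set_option autoImplicit false

namespace Cfsg.Agent.MO.TA.T

open Cfsg Subgroup Cfsg.Agent.H577.GLB.Std Cfsg.Agent.H615.GU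
open SemidirectProduct (inl inr)
open scoped MatrixGroups

theorem add_le_of_mono {m : ℕ} {β : Fin m → ℕ} (h : StrictMono β) (k : ℕ) :
    ∀ a b : Fin m, (b : ℕ) = a + k → β a + k ≤ β b := by
  induction k with
  | zero => exact fun a b e => by rw [Fin.ext e, add_zero]
  | succ k ih =>
    intro a b e
    have h1 := ih a ⟨a + k, by omega⟩ rfl
    have h2 := h (show (⟨a + k, by omega⟩ : Fin m) < b from by rw [Fin.lt_def]; simp only; omega)
    omega

theorem le_of_mono {m : ℕ} {β : Fin m → ℕ} (h : StrictMono β) (b : Fin m) : (b : ℕ) ≤ β b :=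
  le_of_add_le_right (add_le_of_mono h b ⟨0, b.pos⟩ b (zero_add _).symm)

theorem exists_toCol (m : ℕ) : ∃ κ : {β : Fin m → ℕ // StrictMono β} → Col, (∀ β, (κ β).size = bsz β.1) ∧
    Function.Injective κ := by
  let f : (Fin m → ℕ) → ℕ → ℕ := fun β i => if h : i < m then β (Fin.rev ⟨i, h⟩) - (Fin.rev ⟨i, h⟩ : Fin m) else 0
  have hf : ∀ β i, f β i ≠ 0 → i ∈ Finset.range m := fun β i h => Finset.mem_range.2 (by_contra fun e => h (dif_neg e))
  have ha : ∀ β, StrictMono β → Antitone (Finsupp.onFinset _ (f β) (hf β)) := fun β hβ i j hij => by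
    change f β j ≤ f β i
    by_cases hj : j < m
    · have hi : i < m := hij.trans_lt hj
      have h1 := add_le_of_mono hβ (j - i) (Fin.rev ⟨j, hj⟩) (Fin.rev ⟨i, hi⟩) (by simp only [Fin.val_rev]; omega)
      simp only [f, dif_pos hi, dif_pos hj, Fin.val_rev]
      omega
    · rw [show f β j = 0 from dif_neg hj]
      exact Nat.zero_le _
  refine ⟨fun β => ⟨_, ha β.1 β.2⟩, fun β => ?_, fun β β' e => Subtype.ext (funext fun i => ?_)⟩
  · refine (Finsupp.onFinset_sum (hf β.1) fun _ => rfl).trans ?_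
    rw [Finset.sum_range, bsz, ← Finset.sum_tsub_distrib _ fun i _ => le_of_mono β.2 i, ← Equiv.sum_comp Fin.revPerm]
    exact Finset.sum_congr rfl fun i _ => by simp only [f, Fin.revPerm_apply, dif_pos (Fin.rev i).2, Fin.eta, Fin.rev_rev]
  · have h1 : f β (Fin.rev i) = f β' (Fin.rev i) := congrArg (fun l : Col => l (Fin.rev i)) e
    simp only [f, dif_pos (Fin.rev i).2, Fin.eta, Fin.rev_rev] at h1
    have h2 := le_of_mono β.2 i
    have h3 := le_of_mono β'.2 i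
    omega

variable {c : D0} {ι : Type} [Fintype ι] [DecidableEq ι] {v : GL ι c.K}

theorem sep (T : c.Tab v) {y y' : c.Gt v} (h : col y.1.left = col y'.1.left) : IsConj y y' := by
  obtain ⟨T', hT⟩ := T.typ
  refine T'.sep _ _ ?_
  rw [hT, hT]
  exact Finsupp.ext fun o => congrFun h _

theorem exists_typ [Fintype c.Kˣ] (T : c.Tab v) (l : c.Kˣ → Col) (h1 : ∀ x, l (x ^ c.Q) = l x) (h2 : ∑ x, (l x).size = Fintype.card ι) :
    ∃ y : c.Gt v, col y.1.left = l := by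
  classical
  obtain ⟨T', hT⟩ := T.typ
  have h3 : ∀ (i : ℕ) x, l (x ^ c.Q ^ i) = l x := fun i x => by
    induction i with
    | zero => rw [pow_zero, zpow_one]
    | succ i ih => rw [pow_succ, zpow_mul, h1, ih]
  have h4 : ∀ x, l (Quotient.mk (orbSetoid c.K c.Q) x).out = l x := fun x => by
    obtain ⟨i, j, e⟩ := Quotient.mk_out (s := orbSetoid c.K c.Q) x
    rw [← h3 i, e, h3]
  have := Fintype.ofFinite (Orb c.K c.Q)
  have h5 := T'.card (Finsupp.equivFunOnFinite.symm fun o => l o.out) (by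
    rw [tdeg, Finsupp.sum_fintype _ _ fun _ => by rw [Col.size_zero, mul_zero], ← h2,
      ← Finset.sum_fiberwise Finset.univ (Quotient.mk (orbSetoid c.K c.Q))]
    refine Finset.sum_congr rfl fun o _ => ?_
    rw [Finset.sum_congr rfl (g := fun _ => (l o.out).size) fun x hx => by rw [← (Finset.mem_filter.1 hx).2, h4],
      Finset.sum_const, smul_eq_mul, dOrb, Nat.card_eq_fintype_card, Fintype.card_subtype]
    rfl)
  obtain ⟨⟨y, hy⟩⟩ := (Nat.card_ne_zero.1 fun e => by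
    rw [e, Nat.cast_zero, zero_mul] at h5
    exact Characters.Core.card_ne_zero_complex h5.symm).1
  refine ⟨y, funext fun x => ?_⟩
  rw [← T.orb, ← hT, hy]
  exact h4 x

/-- the labels as types -/
theorem exists_lab [Fintype c.Kˣ] {m n : ℕ} {ch : LabZ c.Q c.M m n → c.Gt v → ℂ} (h : c.Glob v ch) :
    ∃ ℓ : (c.Gt v → ℂ) → c.Kˣ → Col, (∀ χ χ', IsIrrCharacter _ χ → IsIrrCharacter _ χ' → ℓ χ = ℓ χ' → χ = χ') ∧
    (∀ χ, IsIrrCharacter _ χ → (∀ x, ℓ χ (x ^ c.Q) = ℓ χ x) ∧ ∑ x, (ℓ χ x).size = n) ∧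
    ∀ χ, IsIrrCharacter _ χ → ∀ a ∈ c.Ah v, Nr (c.Gt v) a → Tr (c.Gt v) a χ χ → ∀ x, ℓ χ (c.ue a.right x) = ℓ χ x := by
  obtain ⟨κ, h1, h2⟩ := exists_toCol m
  obtain ⟨g, hg⟩ := IsCyclic.exists_generator (α := c.Kˣ)
  let e : c.Kˣ ≃ ZMod c.M := (zmodMulEquivOfGenerator hg c.ctx.card).symm.toEquiv.trans Multiplicative.toAdd
  have he : ∀ x (k : ℤ), e (x ^ k) = (k : ZMod c.M) * e x := fun x k => by
    rw [← zsmul_eq_mul]
    exact (congrArg Multiplicative.toAdd (map_zpow (zmodMulEquivOfGenerator hg c.ctx.card).symm x k)).trans (toAdd_zpow _ _)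
  have h3 : ∀ χ, IsIrrCharacter _ χ → ∃ t, ch t = χ := fun χ hχ => (h.bij.surjOn hχ).imp fun _ ht => ht.2
  have h4 : Nonempty (LabZ c.Q c.M m n) := (h3 _ Characters.Core.isIrr_one).nonempty
  choose! t ht using h3
  refine ⟨fun χ x => κ ⟨(t χ).t (e x), (t χ).mono _⟩, fun χ χ' h3 h4 h5 => ?_,
    fun χ _ => ⟨fun x => congrArg κ (Subtype.ext ?_), ?_⟩, fun χ h3 a h4 h5 h6 x => congrArg κ (Subtype.ext ?_)⟩
  · rw [← ht χ h3, ← ht χ' h4]
    refine congrArg ch (LabZ.ext (funext fun z => ?_))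
    obtain ⟨x, rfl⟩ := e.surjective z
    exact congrArg Subtype.val (h2 (congrFun h5 x))
  · simp only [he, LabZ.orb]
  · simp only [h1]
    exact (Equiv.sum_comp e fun z => bsz ((t χ).t z)).trans (t χ).sum
  · obtain ⟨k, hk⟩ := h.ex a.right
    have h7 := h.tr a h4 k hk (t χ)
    rw [ht χ h3] at h7
    have h8 : mulL (t χ) k = t χ := h.bij.injOn (Set.mem_univ _) (Set.mem_univ _) ((h7.uniq h5 h6).trans (ht χ h3).symm)
    change (t χ).t _ = (t χ).t _
    rw [hk, ← zpow_natCast, he, Int.cast_natCast, ZMod.natCast_zmod_val]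
    conv_rhs => rw [← h8]
    rfl

theorem exists_frob (c : D0) (e : c.E) : ∃ j : ℕ, ∀ x, c.σ e x = x ^ c.p ^ j := by
  let alg : Algebra (ZMod c.p) c.K := ZMod.algebra c.K c.p
  obtain ⟨j, hj⟩ := FiniteField.exists_forall_apply_eq_pow (ZMod c.p) c.p c.K (AlgEquiv.ofRingEquiv (f := c.σ e) fun x =>
    DFunLike.congr_fun (RingHom.ext_zmod ((c.σ e : c.K →+* c.K).comp (algebraMap _ _)) (algebraMap _ _)) x)
  rw [Nat.card_zmod] at hj
  exact ⟨j, hj⟩

theorem frob_pow {e : c.E} {a : ℕ} (h : ∀ x, c.σ e x = x ^ c.p ^ a) (k : ℕ) (x : c.K) : c.σ (e ^ k) x = x ^ c.p ^ (a * k) := by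
  induction k with
  | zero => rw [pow_zero, map_one, mul_zero, pow_zero, pow_one]; rfl
  | succ k ih => rw [pow_succ', map_mul, RingAut.mul_apply, ih, h, ← pow_mul, ← pow_add, mul_add_one]

/-- **the subgroups of `E` which contain `F`** -/
theorem dich (U : Subgroup c.E) (hF : c.F ∈ U) :
    (∃ e ∈ U, ∀ u ∈ U, ∃ x ∈ zpowers e, ∃ y ∈ zpowers c.F, u = x * y) ∨
      ∃ e ∈ U, ∃ t ∈ U, ∃ a m : ℕ, 0 < a ∧ c.f = a * m ∧ c.sg e = 1 ∧ (∀ x, c.σ e x = x ^ c.p ^ a) ∧ c.F = e ^ m ∧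
        ∀ u ∈ U, ∃ x ∈ zpowers t, ∃ y ∈ zpowers e, u = x * y := by
  classical
  have hP : ∃ a : ℕ, 0 < a ∧ ∃ e ∈ U, ∀ x, c.σ e x = x ^ c.p ^ a := ⟨c.f, c.fpos, c.F, hF, c.hF⟩
  obtain ⟨ha, e₀, h0, h0'⟩ := Nat.find_spec hP
  have key : ∀ e ∈ U, (∀ x, c.σ e x = x ^ c.p ^ Nat.find hP) → ∀ u ∈ U, ∀ j : ℕ, (∀ x, c.σ u x = x ^ c.p ^ j) →
      ∃ k, j = Nat.find hP * k ∧ c.σ (u * (e ^ k)⁻¹) = 1 := by
    intro e h1 h2 u h3 j h4
    have h5 : ∀ x, c.σ (u * (e ^ (j / Nat.find hP))⁻¹) x = x ^ c.p ^ (j % Nat.find hP) := fun x => by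
      obtain ⟨y, rfl⟩ := (c.σ (e ^ (j / Nat.find hP))).surjective x
      rw [← RingAut.mul_apply, ← map_mul, inv_mul_cancel_right, h4, frob_pow h2, ← pow_mul, ← pow_add, Nat.div_add_mod]
    have h6 : j % Nat.find hP = 0 := by_contra fun h6 => Nat.find_min hP (Nat.mod_lt j ha)
      ⟨Nat.pos_of_ne_zero h6, _, mul_mem h3 (inv_mem (pow_mem h1 _)), h5⟩
    refine ⟨j / Nat.find hP, (Nat.mul_div_cancel' (Nat.dvd_of_mod_eq_zero h6)).symm, RingEquiv.ext fun x => ?_⟩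
    rw [h5, h6, pow_zero, pow_one]
    rfl
  by_cases hk : ∀ z ∈ U, c.σ z = 1 → z = 1
  · refine Or.inl ⟨e₀, h0, fun u hu => ?_⟩
    obtain ⟨j, hj⟩ := exists_frob c u
    obtain ⟨k, -, h1⟩ := key e₀ h0 h0' u hu j hj
    exact ⟨_, npow_mem_zpowers e₀ k, 1, one_mem _, by
      rw [mul_one, ← mul_inv_eq_one, hk _ (mul_mem hu (inv_mem (pow_mem h0 _))) h1]⟩
  push Not at hk
  obtain ⟨t, ht, h1, h2⟩ := hk
  have h3 : c.sg t = -1 := (Int.units_eq_one_or _).resolve_left fun e => h2 (c.inj t h1 e)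
  have h4 : ∀ z, c.σ z = 1 → z = 1 ∨ z = t := fun z hz => (Int.units_eq_one_or (c.sg z)).imp (c.inj z hz) fun e =>
    mul_inv_eq_one.1 (c.inj _ (by rw [map_mul, map_inv, hz, h1, inv_one, mul_one])
      (by rw [map_mul, map_inv, e, h3, mul_inv_cancel]))
  obtain ⟨e, h5, h6, h7⟩ : ∃ e ∈ U, c.sg e = 1 ∧ ∀ x, c.σ e x = x ^ c.p ^ Nat.find hP := by
    rcases Int.units_eq_one_or (c.sg e₀) with e | e
    · exact ⟨e₀, h0, e, h0'⟩
    · exact ⟨e₀ * t, mul_mem h0 ht, by rw [map_mul, e, h3, neg_mul_neg, one_mul], by rwa [map_mul, h1, mul_one]⟩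
  have h8 : ∀ u ∈ U, ∃ k : ℕ, u = e ^ k ∨ u = t * e ^ k := fun u hu => by
    obtain ⟨j, hj⟩ := exists_frob c u
    obtain ⟨k, -, h8⟩ := key e h5 h7 u hu j hj
    exact ⟨k, (h4 _ h8).imp mul_inv_eq_one.1 mul_inv_eq_iff_eq_mul.1⟩
  obtain ⟨m, h9, h10⟩ := key e h5 h7 _ hF _ c.hF
  rcases h4 _ h10 with h11 | h11
  · refine Or.inr ⟨e, h5, t, ht, _, m, ha, h9, h6, h7, mul_inv_eq_one.1 h11, fun u hu => ?_⟩
    obtain ⟨k, rfl | rfl⟩ := h8 u hu
    · exact ⟨1, one_mem _, _, npow_mem_zpowers e k, (one_mul _).symm⟩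
    · exact ⟨t, mem_zpowers t, _, npow_mem_zpowers e k, rfl⟩
  · refine Or.inl ⟨e, h5, fun u hu => ?_⟩
    obtain ⟨k, rfl | rfl⟩ := h8 u hu
    · exact ⟨_, npow_mem_zpowers e k, 1, one_mem _, (mul_one _).symm⟩
    · exact ⟨_, mul_mem (inv_mem (npow_mem_zpowers e m)) (npow_mem_zpowers e k), _, mem_zpowers _, by
        rw [← h11, mul_assoc, mul_comm]⟩

end Cfsg.Agent.MO.TA.T
end

-- part: MO/TA/BoxT
section
/-!
# MO/TA, box `T`: the prime two in characteristic two (helper80)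

* `T.ext_stb` : every irreducible character of `GL_n(Q)` extends to its stabiliser in `GL_n(Q) ⋊ E` (any characteristic);
* `mul_of_ndvd` : the criterion at the primes which do not divide `Q - 1`; `boxT_of`, `boxT` : the box `T`.
-/

set_option autoImplicit false

namespace Cfsg.Agent.MO.TA

open Cfsg Subgroup Cfsg.Agent.H577.GLB.Std Cfsg.Agent.H615.GU Cfsg.Agent.Characters.Core
open SemidirectProduct (inl inr)
open scoped MatrixGroups

namespace T

variable {c : D0} {ι : Type} [Fintype ι] [DecidableEq ι]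

variable (c ι) in
/-- the elements over `U` -/
def HH (U : Subgroup c.E) : Subgroup (c.AA ι) := c.Ah 1 ⊓ U.comap SemidirectProduct.rightHom

theorem mem_HH {U : Subgroup c.E} {a : c.AA ι} : a ∈ HH c ι U ↔ a ∈ c.Ah 1 ∧ a.right ∈ U := Iff.rfl

theorem Gt_eq : c.Gt (1 : GL ι c.K) = HH c ι ⊥ := Subgroup.ext fun _ => and_congr_right' (mem_bot (G := c.E)).symm

theorem inr_mem_Ah (e : c.E) : (inr e : c.AA ι) ∈ c.Ah 1 := c.Gh_le_Ah _ (c.inr_mem_Gh_one e)

theorem inr_mem {U : Subgroup c.E} {e : c.E} (h : e ∈ U) : inr e ∈ HH c ι U := ⟨inr_mem_Ah e, h⟩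

theorem nr_HH (U : Subgroup c.E) {a : c.AA ι} (h : a ∈ c.Ah 1) : Nr (HH c ι U) a :=
  (nr_of_mem h).inf fun x => by
    change x.right ∈ U ↔ (a * x * a⁻¹).right ∈ U
    rw [c.conj_right]

theorem nr_Gt {a : c.AA ι} (h : a ∈ c.Ah 1) : Nr (c.Gt 1) a := Gt_eq (c := c) (ι := ι) ▸ nr_HH ⊥ h

theorem gen_HH {U V : Subgroup c.E} {e : c.E} (h : ∀ u ∈ V, ∃ x ∈ zpowers e, ∃ y ∈ U, u = x * y) :
    ∀ x ∈ HH c ι V, ∃ k : ℕ, ∃ y ∈ HH c ι U, x = inr e ^ k * y := fun x hx => by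
  obtain ⟨_, h1, y, h2, h3⟩ := h _ hx.2
  obtain ⟨k, rfl⟩ := mem_powers_iff_mem_zpowers.2 h1
  refine ⟨k, (inr e ^ k)⁻¹ * x, mem_HH.2 ⟨mul_mem (inv_mem (pow_mem (inr_mem_Ah e) k)) hx.1, ?_⟩,
    (mul_inv_cancel_left _ _).symm⟩
  rw [← map_pow, ← map_inv, SemidirectProduct.mul_right, SemidirectProduct.right_inr, show x.right = e ^ k * y from h3,
    inv_mul_cancel_left]
  exact h2

theorem cq_HH {U V : Subgroup c.E} (hle : U ≤ V) {e : c.E} (he : e ∈ V) (h : ∀ u ∈ V, ∃ x ∈ zpowers e, ∃ y ∈ U, u = x * y) :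
    Cq (HH c ι U) (HH c ι V) :=
  ⟨⟨fun _ hx => ⟨hx.1, hle hx.2⟩, fun _ hb x => (nr_HH U hb.1 x).1⟩, _, inr_mem he, gen_HH h⟩

theorem gen_Gt (e : c.E) : ∀ x ∈ HH c ι (zpowers e), ∃ k : ℕ, ∃ y ∈ c.Gt 1, x = inr e ^ k * y :=
  Gt_eq (c := c) (ι := ι) ▸ gen_HH fun u hu => ⟨u, hu, 1, one_mem _, (mul_one u).symm⟩

theorem cq_Gt (e : c.E) : Cq (c.Gt 1) (HH c ι (zpowers e)) :=
  Gt_eq (c := c) (ι := ι) ▸ cq_HH bot_le (mem_zpowers e) fun u hu => ⟨u, hu, 1, one_mem _, (mul_one u).symm⟩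

theorem inl_left_mem {a : c.AA ι} (h : a ∈ c.Ah 1) : inl a.left ∈ c.Gt 1 :=
  c.mem_Gt_one.2 ⟨rfl, (c.mem_Ah_one (a := a)).1 h⟩

/-- two cyclic steps -/
theorem ext_two {U : Subgroup c.E} {e t : c.E} (he : e ∈ U) (ht : t ∈ U)
    (h : ∀ u ∈ U, ∃ x ∈ zpowers t, ∃ y ∈ zpowers e, u = x * y) {χ : c.Gt (1 : GL ι c.K) → ℂ} (hχ : IsIrrCharacter _ χ)
    (hU : ∀ u ∈ U, Tr _ (inr u) χ χ)
    (key : ∀ ψ : HH c ι (zpowers e) → ℂ, IsIrrCharacter _ ψ → res _ ψ = χ → Tr _ (inr t) ψ ψ) :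
    ∃ η : HH c ι U → ℂ, IsIrrCharacter _ η ∧ res _ η = χ := by
  have h1 := zpowers_le.2 he
  obtain ⟨ψ, h2, h3⟩ := (cq_Gt e).ext hχ fun b hb => by
    obtain ⟨k, y, h2, rfl⟩ := gen_Gt e b hb
    rw [← map_pow]
    exact (tr_of_mem h2 (isIrr_isClassFunction hχ)).trans (nr_of_mem h2) (hU _ (pow_mem he k))
  obtain ⟨η, h4, h5⟩ := (cq_HH h1 ht h).ext h2 fun b hb => by
    obtain ⟨k, y, h4, rfl⟩ := gen_HH h b hb
    have h5 : inr t ∈ Stb (c.Ah 1) _ ψ := ⟨inr_mem_Ah t, nr_HH _ (inr_mem_Ah t), key ψ h2 h3⟩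
    exact (tr_of_mem h4 (isIrr_isClassFunction h2)).trans (nr_of_mem h4) (pow_mem h5 k).2.2
  exact ⟨η, h4, by rw [← res_res (cq_Gt e).le, h5, h3]⟩

theorem col_cj {a b : c.AA ι} (h : c.act ι a.right b.left = b.left) (x : c.Kˣ) :
    col (b * a * b⁻¹).left (c.ue b.right x) = col a.left x := by
  rw [c.conj_left, h, col_conj, c.col_act]

theorem col_cj' {a b : c.AA ι} (h : c.act ι a.right b.left = b.left) {l : c.Kˣ → Col} (h1 : col a.left = l)
    (h2 : ∀ x, l (c.ue b.right x) = l x) : col (b * a * b⁻¹).left = l := funext fun x => by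
  obtain ⟨x, rfl⟩ := (c.ueA b.right).surjective x
  rw [c.ueA_apply, col_cj h, h2, h1]

/-- **the stability of the extensions to the field automorphisms** -/
theorem stable (T : c.Tab (1 : GL ι c.K)) {m' : ℕ} {ch : LabZ c.Q c.M m' (Fintype.card ι) → c.Gt (1 : GL ι c.K) → ℂ}
    (hG : c.Glob 1 ch)
    {e t : c.E} {a m : ℕ} (ha : 0 < a) (hf : c.f = a * m) (hs : c.sg e = 1) (hσ : ∀ x, c.σ e x = x ^ c.p ^ a)
    (hF : c.F = e ^ m) {ψ : HH c ι (zpowers e) → ℂ} (h1 : IsIrrCharacter _ ψ) (h2 : IsIrrCharacter (c.Gt 1) (res _ ψ))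
    (h3 : Tr (c.Gt 1) (inr t) (res _ ψ) (res _ ψ)) : Tr _ (inr t) ψ ψ := by
  have := Fintype.ofFinite c.Kˣ
  obtain ⟨ℓ, l1, l2, l3⟩ := exists_lab hG
  have hC : ∀ x : HH c ι (zpowers e), ((x * (⟨inr e, inr_mem (mem_zpowers e)⟩ : HH c ι (zpowers e))⁻¹ :
      HH c ι (zpowers e)) : c.AA ι) ∈ c.Gt 1 ↔ x.1.right = e := fun x =>
    (and_iff_right ((c.Ah 1).mul_mem x.2.1 ((c.Ah 1).inv_mem (inr_mem_Ah e)))).trans (mul_inv_eq_one (G := c.E))
  have hp : ∀ (x : c.AA ι) (k : ℕ), (x ^ k).right = x.right ^ k := fun x k => map_pow SemidirectProduct.rightHom x k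
  have hsF : c.sg c.F = 1 := by rw [hF, map_pow, hs, one_pow]
  refine coset_ext (cq_Gt e).aq (φ := ⟨inr e, inr_mem (mem_zpowers e)⟩) (gen_Gt e) (nr_HH _ (inr_mem_Ah t))
    (fun x hx => (hC _).2 ((c.conj_right _ _).trans ((hC x).1 hx))) (fun x => col (x.1 ^ m).left) ℓ (fun x hx y hy => ?_) l1
    (fun χ h4 h5 => ?_) (fun χ h4 h5 x hx h6 => ?_) h1 h2 h3
  · obtain ⟨g, rfl⟩ := isConj_iff.1 hy
    have h4 := (hC x).1 hx
    obtain ⟨k, hk⟩ := mem_powers_iff_mem_zpowers.2 g.2.2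
    have h5 : (g.1 * (x.1 ^ k)⁻¹).right = 1 := by
      rw [SemidirectProduct.mul_right, SemidirectProduct.inv_right, hp, h4, mul_inv_eq_one]
      exact hk.symm
    have h6 : ((g * x * g⁻¹ : HH c ι (zpowers e)) : c.AA ι) ^ m = g.1 * (x.1 ^ k)⁻¹ * x.1 ^ m * (g.1 * (x.1 ^ k)⁻¹)⁻¹ := by
      rw [coe_mul, coe_mul, coe_inv, conj_pow]
      group
    rw [h6]
    refine (col_cj' ?_ rfl fun z => by rw [h5, c.one_ue]).symm
    rw [hp, h4, ← hF]
    exact c.mem_Ah_one.1 ((c.Ah 1).mul_mem g.2.1 ((c.Ah 1).inv_mem ((c.Ah 1).pow_mem x.2.1 k)))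
  · obtain ⟨y, hy⟩ := exists_typ T _ (l2 χ h4).1 (l2 χ h4).2
    have h6 : col (cje (nr_Gt (inr_mem_Ah e)) y).1.left = ℓ χ :=
      col_cj' (map_one _) hy (l3 χ h4 _ (inr_mem_Ah e) (nr_Gt (inr_mem_Ah e)) h5)
    obtain ⟨h, hh⟩ := isConj_iff.1 (sep T (h6.trans hy.symm))
    have h7 : h.1.left * (c.act ι e : GL ι c.K →* GL ι c.K) y.1.left * h.1.left⁻¹ = y.1.left := by
      have h7 := congrArg (c.lf 1) hh
      rw [map_mul, map_mul, map_inv, c.lf_apply, c.lf_apply, c.lf_apply, cje_coe, c.conj_left, SemidirectProduct.left_inr,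
        map_one, one_mul, inv_one, mul_one] at h7
      exact h7
    have h8 : c.p ^ (a * m) - 1 ∣ Nat.card c.Kˣ := by
      have h8 := c.ctx.dvd 1 one_pos (by omega)
      rw [pow_one, c.hQ, hsF, Units.val_one, one_mul, hf] at h8
      rw [c.ctx.card, ← Int.natCast_dvd_natCast, Nat.cast_sub (Nat.one_le_pow _ _ c.pp.out.pos)]
      exact_mod_cast h8
    obtain ⟨g, h9, h10⟩ := norm c.p ha (Nat.pos_of_mul_pos_left (hf ▸ c.fpos)) h8 _
      (fun g i j => (c.act_of_sg_one hs g i j).trans (hσ _)) h7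
    have h11 : (⟨g, e⟩ : c.AA ι) ∈ HH c ι (zpowers e) := ⟨c.mem_Ah_one.2 (Units.ext (Matrix.ext fun i j => by
      rw [c.act_of_sg_one hsF, c.hF, hf, h9])), mem_zpowers e⟩
    refine ⟨⟨_, h11⟩, (hC _).2 rfl, (funext (h10 (fun k => ((⟨g, e⟩ : c.AA ι) ^ k).left) ?_ fun k => ?_)).trans hy⟩
    · rw [pow_zero, SemidirectProduct.one_left]
    · rw [pow_succ', SemidirectProduct.mul_left]
      rfl
  · rw [cje_coe, conj_pow]
    exact col_cj' (map_one _) h6 (l3 χ h4 _ (inr_mem_Ah t) (nr_Gt (inr_mem_Ah t)) h5)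

/-- **extension to the stabiliser** -/
theorem ext_stb (T : c.Tab (1 : GL ι c.K)) {m' : ℕ} {ch : LabZ c.Q c.M m' (Fintype.card ι) → c.Gt (1 : GL ι c.K) → ℂ}
    (hG : c.Glob 1 ch)
    {χ : c.Gt (1 : GL ι c.K) → ℂ} (hχ : IsIrrCharacter _ χ) :
    ∃ η : Stb (c.Ah 1) _ χ → ℂ, IsCharacter _ η ∧ res _ η = χ := by
  let U : Subgroup c.E := (Stb (c.Ah 1) _ χ).comap (inr : c.E →* c.AA ι)
  have hc : ∀ x ∈ c.Ah 1, (inr c.F : c.AA ι) * x = x * inr c.F := fun x hx => c.mem_Ah'.1 hx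
  have hF : c.F ∈ U := ⟨inr_mem_Ah _, nr_Gt (inr_mem_Ah _), tr_of_comm (fun x hx => hc x (c.Gt_le_Ah _ hx)) χ⟩
  have hN : c.Gt 1 ≤ Stb (c.Ah 1) _ χ := fun x hx => ⟨hx.1, nr_of_mem hx, tr_of_mem hx (isIrr_isClassFunction hχ)⟩
  have h1 : Stb (c.Ah 1) _ χ ≤ HH c ι U := fun x hx => ⟨hx.1, by
    have h1 := mul_mem (inv_mem (hN (inl_left_mem hx.1))) hx
    (simp only [show (inl x.left)⁻¹ * x = inr x.right from inv_mul_eq_of_eq_mul (SemidirectProduct.inl_left_mul_inr_right x).symm] at h1; assumption)⟩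
  suffices h : ∃ η : HH c ι U → ℂ, IsIrrCharacter _ η ∧ res _ η = χ by
    obtain ⟨η, h2, h3⟩ := h
    exact ⟨res _ η, res_char h1 (isIrr_isCharacter h2), by rw [res_res hN, h3]⟩
  have hU : ∀ u ∈ U, Tr _ (inr u) χ χ := fun u hu => (mem_stb.1 (mem_comap.1 hu)).2.2
  rcases dich U hF with ⟨e, he, h⟩ | ⟨e, he, t, ht, a, m, ha, hf, hs, hσ, h2, h⟩
  · refine ext_two hF he h hχ hU fun ψ h2 h3 => tr_of_central (cq_Gt _).le
      (z := ⟨inr c.F, inr_mem (mem_zpowers _)⟩) (gen_Gt _) (fun g => Subtype.ext (hc g.1 (mem_HH.1 g.2).1))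
      (hc _ (inr_mem_Ah e)).symm (nr_Gt (inr_mem_Ah e)) h2 ?_
    rw [h3]
    exact hU e he
  · refine ext_two he ht h hχ hU fun ψ h3 h4 => stable T hG ha hf hs hσ h2 h3 ?_ ?_
    · rwa [h4]
    · rw [h4]
      exact hU t ht

theorem mul_one' (T : c.Tab (1 : GL ι c.K)) (hF : c.Frm (1 : GL ι c.K)) {m' : ℕ}
    {ch : LabZ c.Q c.M m' (Fintype.card ι) → c.Gt (1 : GL ι c.K) → ℂ}
    (hG : c.Glob 1 ch) {s : ℕ} (hs : s.Prime)
    (hQ : ¬ (s : ℤ) ∣ c.Q - 1) {χ : c.Gt (1 : GL ι c.K) → ℂ} (hχ : IsIrrCharacter _ χ) : Mul (c.G 1) (c.Gh 1) χ s := by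
  intro D h1 h2 h3
  have := Fact.mk hs
  have hq := hF.fr.cq
  have h4 : ¬ s ∣ (c.G (1 : GL ι c.K)).relIndex (c.Gt 1) := fun e => hQ ((Int.natCast_dvd_natCast.2 e).trans hF.idx)
  have h5 : D ≤ c.Ah 1 := fun d hd => c.Gh_le_Ah _ (h2 hd).1
  obtain ⟨χ', h6, h7, h8⟩ := fix_of_ndvd hq.aq h4 hχ (fun d hd => nr_Gt (h5 hd)) (fun d hd => (h2 hd).2) h3
  obtain ⟨η, h9, h10⟩ := ext_stb T hG h6
  obtain ⟨θ, h11, h12⟩ := exists_under hq.le hχ
  have h13 : D ≤ Stb (c.Ah 1) _ χ' := fun d hd => ⟨h5 hd, nr_Gt (h5 hd), h8 d hd⟩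
  refine ⟨res D η, res_char h13 h9, yc (c.G 1) χ, fun e => h4 (e.trans ?_), ?_⟩
  · rw [hq.yc_eq hχ h11 h12]
    exact relIndex_dvd_of_le_left _ (hq.le_stb (isIrr_isClassFunction h11))
  · rw [res_res h1, ← res_res hq.le, h10, h7, hq.aq.ip_self hχ]

end T

/-- the local criterion at the primes which do not divide `Q - 1` -/
theorem mul_of_ndvd (hG : BoxG) (c : Cx) (ι : Type) [Fintype ι] [DecidableEq ι] (hn : Fintype.card ι ≤ c.n) (v : GL ι c.K)
    (hv : c.Lg v) {s : ℕ} (hs : s.Prime) (hQ : ¬ (s : ℤ) ∣ c.Q - 1) {χ : c.Gt v → ℂ} (hχ : IsIrrCharacter _ χ) :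
    Mul (c.G v) (c.Gh v) χ s := by
  obtain ⟨y, hy⟩ := hv.cj
  obtain ⟨ch, h⟩ := hG c ι hn 1 c.lg_one _ _ rfl le_rfl
  exact hy.symm.mul (T.mul_one' (c.tab ι hn 1 c.lg_one) (boxF c ι hn 1 c.lg_one) h hs hQ (hy.symm.Gt.isIrr.2 hχ))

/-- **box T** -/
theorem boxT_of (hG : BoxG) : BoxT := fun c ι _ _ hn v hv hp _ hχ =>
  mul_of_ndvd hG c ι hn v hv Nat.prime_two (fun e => by
    have h1 : (2 : ℤ) ∣ c.Q := by
      rw [c.hQ, hp]
      exact (dvd_pow_self _ c.fpos.ne').mul_left _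
    omega) hχ

theorem boxT : BoxT := boxT_of boxG

end Cfsg.Agent.MO.TA
end

-- part: MO/TA/Main1
section
/-!
# MO, types `A` and `²A`: the rows from the local half of the exception (helper15)
-/

set_option autoImplicit false

namespace Cfsg.Agent.MO.TA

theorem rowA_of_xl (hX : BoxXL) {l : ℕ} [Fact l.Prime] (h2 : l ≠ 2) : RowA l :=
  rowA_of (boxes_of b1 boxG boxT boxH boxS hX (boxR_of boxC)) h2

end Cfsg.Agent.MO.TA
end

private theorem dce_ff07144f68ca : _root_.True := by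
  try have : _root_.True := by simp only [_root_.Cfsg.Agent.MO.TA.R.Md.cj.congr_simp]
  try have : _root_.True := by simp only [_root_.Cfsg.Agent.MO.TA.G.Rw.eq_1]
  try have : _root_.True := by simp only [_root_.Cfsg.Agent.MO.TA.G.sz.eq_1]
  try have : _root_.True := by simp only [_root_.Cfsg.Agent.MO.TA.G.VD.eq_1]
  try have : _root_.True := by simp only [_root_.Cfsg.Agent.MO.TA.Cr.Ac.pl.congr_simp]
  try have : _root_.True := by simp only [_root_.Cfsg.Agent.MO.TA.H.K.congr_simp]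
  try have : _root_.True := by simp only [_root_.Cfsg.Agent.MO.TA.D0.G.eq_1]
  try have : _root_.True := by simp only [_root_.Cfsg.Agent.MO.TA.H.th.eq_1]
  try have : _root_.True := by simp only [_root_.Cfsg.Agent.MO.TA.G.nrm.eq_1]
  try have : _root_.True := by simp only [_root_.Cfsg.Agent.MO.TA.G.sg.congr_simp]
  try have : _root_.True := by simp only [_root_.Cfsg.Agent.MO.TA.G.Sg.congr_simp]
  try have : _root_.True := by simp only [_root_.Cfsg.Agent.MO.TA.H.K.eq_1]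
  try have : _root_.True := by simp only [_root_.Cfsg.Agent.MO.TA.Cr.ot.eq_1]
  try have : _root_.True := by simp only [_root_.Cfsg.Agent.MO.TA.H.L.eq_1]
  try have : _root_.True := by simp only [_root_.Cfsg.Agent.MO.TA.H.rt.eq_1]
  try have : _root_.True := by simp only [_root_.Cfsg.indFun.eq_1]
  try have : _root_.True := by simp only [_root_.Cfsg.Agent.MO.TA.G.PB.eq_1]
  try have : _root_.True := by simp only [_root_.Cfsg.Agent.MO.TA.G.rel.eq_1]
  exact _root_.True.intro
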