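import Cfsg.Agent.MQ.Lc.Tw
import Cfsg.Agent.S0862
import Cfsg.Agent.S0866
import Cfsg.Agent.MQ.Loc.Om
import Cfsg.Agent.MQ.S3.Main
import Cfsg.Agent.Characters.GL23Assembly
import Cfsg.Agent.MQ.TA.BoxS
import Cfsg.Agent.MQ.TA.Main1
import Cfsg.Agent.Lib.FinFast
import Cfsg.Agent.FastGrp
import Cfsg.Agent.Prune
set_option linter.all false
prune_inst 0x7ffdf8fa39a8e9dedfff7e3ffed5dff995aeefffe6dff903ffe061bf8f9f0b0209c56b8589f218fc1ed6623414b87b03fdffceffe86bdc7ffffd5ff41ffbee0fe5f63508519488340fbc0ff703f07f8e6f3ffffffffffffffffffff7ffffffbeffbff3feffff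
open scoped Cfsg.Agent.FastGrp

-- part: MO/B/Fib
section
/-!
# MO/B: invariant extensions (helper76)

* `res_eq` : a `p'`-character restricts irreducibly to a normal subgroup whose index is a power of `p`;
* `ext_inv` : an invariant extension of the determinant gives an invariant extension;
* `fib_card` : the number of the invariant extensions is the number `ww M R` of invariant linear characters of `R / M`.
-/

set_option autoImplicit false
set_option maxHeartbeats 400000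

namespace Cfsg.Agent.MO.B

open Cfsg Subgroup
open Cfsg.Agent.Characters.Core Cfsg.Agent.H672
open Cfsg.Agent.MK (Ov deg_comp)
open Cfsg.Agent.MK.C (exists_desc)
open Cfsg.Agent.ODD.Red (dH dH_comp dH_eq_detChar exists_quot gall_inj exists_lin charDegree_congr)

variable {p : ℕ} {G : Type} [Group G] [Finite G] {M R U V Z : Subgroup G} {l : G → ℂ}

theorem res_eq [Fact p.Prime] {D : Type} [Group D] [Finite D] {f : D →* G} (hn : f.range.Normal) {k : ℕ}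
    (hk : f.range.index = p ^ k) {χ : G → ℂ} (hχ : PI p G χ) {Θ : D → ℂ} (hΘ : IsIrrCharacter D Θ) (h : Over f χ Θ) :
    χ ∘ f = Θ := by
  refine eq_of_over_of_charDegree_eq hχ.1 hΘ h ?_
  obtain ⟨θ, hθ, rfl, h1⟩ := exists_desc f hχ.1 hΘ h
  obtain ⟨⟨e, h2⟩, h3⟩ := charDegree_dvd_of_over _ hχ.1 hθ h1
  rw [h2, Nat.mul_div_cancel_left _ (charDegree_pos hθ), hk] at h3
  rw [deg_comp, h2, Nat.eq_one_of_dvd_coprimes (cop_pow (nd_mul.1 (h2 ▸ hχ.2)).2 k) h3 dvd_rfl, mul_one]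

/-- **invariant extensions** -/
theorem ext_inv {D : Type} [Group D] [Finite D] (f : D →* V) (hVU : V ≤ U) (hn : U ≤ normalizer (V : Set G))
    {Θ : D → ℂ} (hΘ : IsIrrCharacter D Θ) (hk : ∀ d, f d = 1 → Θ d = Θ 1)
    (hinv : ∀ u ∈ U, ∀ d, ∃ d', (f d' : G) = u * f d * u⁻¹ ∧ Θ d' = Θ d) (hc : f.range.index.Coprime (charDegree Θ))
    {μ : G → ℂˣ} (hμ : Lin U V μ) (hd : ∀ d, μ (f d) = dH Θ d) :
    ∃ ξ, IsIrrCharacter V ξ ∧ (∀ d, ξ (f d) = Θ d) ∧ ∀ u ∈ U, ∀ v v' : V, (v' : G) = u * v * u⁻¹ → ξ v' = ξ v := by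
  obtain ⟨θ, hθ, e⟩ := exists_quot f.rangeRestrict f.rangeRestrict_surjective hΘ fun d hd =>
    hk d (congrArg Subtype.val hd)
  have h1 : ∀ u ∈ U, ∀ n : f.range, ∃ n' : f.range, (n'.1 : G) = u * n.1 * u⁻¹ ∧ θ n' = θ n := fun u hu n => by
    obtain ⟨d, rfl⟩ := f.rangeRestrict_surjective n
    obtain ⟨d', h1, h2⟩ := hinv u hu d
    exact ⟨f.rangeRestrict d', h1, by rw [e, e, h2]⟩
  have hN : f.range.Normal := ⟨fun n hn g => by
    obtain ⟨n', h2, -⟩ := h1 g (hVU g.2) ⟨n, hn⟩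
    exact (Subtype.ext h2 : n'.1 = g * n * g⁻¹) ▸ n'.2⟩
  let ν : V →* ℂˣ := MonoidHom.mk' (fun v => μ v) fun a b => hμ.mul a a.2 b b.2
  have h2 : θ 1 = charDegree Θ := by rw [coe_charDegree hΘ, ← e, map_one]
  have h3 : ∀ n : f.range, lf ν n = detChar θ n := fun n => by
    obtain ⟨d, rfl⟩ := f.rangeRestrict_surjective n
    rw [← dH_eq_detChar (isIrr_isCharacter hθ), ← dH_comp _ (isIrr_isCharacter hθ), funext e, ← hd]
    rfl
  have h4 : IsCharacter V (lf ν) ∧ lf ν 1 = 1 := ⟨isCharacter_lf ν, by simp [lf]⟩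
  obtain ⟨ξ, ⟨k1, k2, k3⟩, k4⟩ := S0862.result f.range θ hθ _ h2 hc ((S0866.result f.range θ hθ (fun g n => by
    obtain ⟨n', h2, h3⟩ := h1 g (hVU g.2) n
    exact (congrArg θ (Subtype.ext (Subtype.ext h2.symm))).trans h3) _ h2 hc).2 ⟨_, h4.1, h4.2, h3⟩) _ h4 h3
  refine ⟨ξ, k1, fun d => (k2 (f.rangeRestrict d)).trans (e d), fun u hu v v' ev => ?_⟩
  have k5 := isIrr_comp (cj V (hn hu)).toMonoidHom (cj V (hn hu)).surjective k1
  refine (congrArg ξ (Subtype.ext ev : v' = cj V (hn hu) v)).trans (congrFun (k4 _ ⟨k5, fun n => ?_, funext fun w => ?_⟩) v)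
  · obtain ⟨n', h2, h3⟩ := h1 u hu n
    exact (congrArg ξ (Subtype.ext h2.symm)).trans ((k2 n').trans h3)
  · rw [← dH_eq_detChar (isIrr_isCharacter k5)]
    refine (congrArg Units.val (dH_comp _ (isIrr_isCharacter k1) w)).trans ?_
    rw [dH_eq_detChar (isIrr_isCharacter k1), k3]
    exact congrArg Units.val (hμ.inv u hu w w.2)

variable (M R) in
/-- the number of invariant linear characters of `R / M` -/
noncomputable def ww : ℕ := Nat.card {μ : R →* ℂˣ //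
  (∀ r : R, (r : G) ∈ M → μ r = 1) ∧ ∀ (g : G) (r r' : R), (r' : G) = g * r * g⁻¹ → μ r' = μ r}

theorem ww_ne : ww M R ≠ 0 := by
  have := finite_irr (G := R)
  have : Finite (R →* ℂˣ) := Finite.of_injective (fun μ => (⟨lf μ, isIrr_lf μ⟩ : IrrCharacter R))
    fun _ _ e => lf_injective (congrArg Subtype.val e)
  exact Nat.card_ne_zero.2 ⟨⟨⟨1, fun _ _ => rfl, fun _ _ _ _ => rfl⟩⟩, inferInstance⟩

/-- **the number of invariant extensions** -/
theorem fib_card [hM : M.Normal] [hR : R.Normal] (hMR : M ≤ R) (hU : ∀ g, ∃ w ∈ M, ∃ u ∈ U, g = w * u) (hZ : Z ≤ M)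
    {ξ₀ : (R ⊓ U : Subgroup G) → ℂ} (h₀ : ξ₀ ∈ IS p (R ⊓ U) Z l U)
    (hi : IsIrrCharacter (M.subgroupOf (R ⊓ U)) fun n => ξ₀ n) :
    Nat.card {ξ // ξ ∈ IS p (R ⊓ U) Z l U ∧ ∀ v : (R ⊓ U : Subgroup G), (v : G) ∈ M → ξ v = ξ₀ v} = ww M R := by
  obtain ⟨⟨h1, h2⟩, h3⟩ := mem_IS.1 h₀
  let ic : (R ⊓ U : Subgroup G) →* R := inclusion inf_le_left
  have hd : ∀ r : R, ∃ w : R, (w : G) ∈ M ∧ ∃ v, r = w * ic v := fun r => by
    obtain ⟨w, hw, u, hu, e⟩ := hU r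
    exact ⟨⟨w, hMR hw⟩, hw, ⟨u, (mul_mem_cancel_left (hMR hw)).1 (e ▸ r.2), hu⟩, Subtype.ext e⟩
  have key : ∀ μ : R →* ℂˣ, ((∀ r : R, (r : G) ∈ M → μ r = 1) ∧
      ∀ (g : G) (r r' : R), (r' : G) = g * r * g⁻¹ → μ r' = μ r) → (fun v => μ (ic v) * ξ₀ v) ∈ IS p (R ⊓ U) Z l U ∧
      ∀ v : (R ⊓ U : Subgroup G), (v : G) ∈ M → μ (ic v) * ξ₀ v = ξ₀ v := fun μ hμ => by
    refine ⟨mem_IS.2 ⟨⟨⟨isIrr_mul_lf (μ.comp ic) h1.1, ?_⟩, fun z hz => ?_⟩, fun u hu v v' e => ?_⟩, fun v hv => ?_⟩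
    · rw [charDegree_congr (ψ := ξ₀) (by simp only [_root_.map_one, _root_.Units.val_one, _root_.one_mul])]
      exact h1.2
    · simp only [hμ.1 (ic z) (hZ hz), h2 z hz, map_one, Units.val_one, one_mul]
    · rw [h3 u hu v v' e, hμ.2 u (ic v) (ic v') e]
    · rw [hμ.1 _ hv, Units.val_one, one_mul]
  refine (Nat.card_eq_of_bijective (fun μ : {μ : R →* ℂˣ // _} => ⟨fun v => μ.1 (ic v) * ξ₀ v, key μ.1 μ.2⟩)
    ⟨fun μ μ' e => Subtype.ext (MonoidHom.ext fun r => ?_), fun ξ => ?_⟩).symm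
  · obtain ⟨w, hw, v, rfl⟩ := hd r
    rw [map_mul, map_mul, μ.2.1 w hw, μ'.2.1 w hw]
    refine congrArg _ (Units.ext (gall_inj _ h1.1 hi (η := fun v => μ.1 (ic v)) (η' := fun v => μ'.1 (ic v))
      (fun n g => ?_) (fun n g => ?_) (fun g => ?_) v))
    · rw [map_mul, map_mul, μ.2.1 (ic n) n.2, one_mul]
    · rw [map_mul, map_mul, μ'.2.1 (ic n) n.2, one_mul]
    · exact (mul_comm _ _).trans ((congrFun (congrArg Subtype.val e) g).trans (mul_comm _ _))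
  · obtain ⟨⟨k1, -⟩, k3⟩ := mem_IS.1 ξ.2.1
    obtain ⟨ν, n1, n2⟩ := exists_lin _ h1.1 hi k1.1 fun n => ξ.2.2 n n.2
    have hn : U ≤ normalizer ((R ⊓ U : Subgroup G) : Set G) := fun h hh => mem_normalizer_iff.2 fun x =>
      and_congr ⟨fun e => hR.conj_mem x e h, fun e => by simpa [mul_assoc] using hR.conj_mem _ e h⁻¹⟩
        (mem_normalizer_iff.1 (le_normalizer hh) x)
    have n3 : ∀ u (hu : u ∈ U) v, ν (cj _ (hn hu) v) = ν v := fun u hu v =>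
      Units.ext (gall_inj _ h1.1 hi (η := fun v => ν (cj _ (hn hu) v)) (η' := fun v => ν v) (fun n g => by
        rw [map_mul, map_mul, n1 _ (hM.conj_mem _ n.2 u), one_mul]) (fun n g => by rw [map_mul, n1 _ n.2, one_mul])
        (fun g => by rw [mul_comm _ (ν g : ℂ), ← n2, ← k3 u hu g (cj _ (hn hu) g) rfl, n2,
          h3 u hu g (cj _ (hn hu) g) rfl, mul_comm]) v)
    let φ := (QuotientGroup.mk' (M.subgroupOf R)).comp ic
    have hφ : Function.Surjective φ := fun q => by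
      obtain ⟨r, rfl⟩ := QuotientGroup.mk_surjective q
      obtain ⟨w, hw, v, rfl⟩ := hd r
      exact ⟨v, by rw [QuotientGroup.mk_mul, (QuotientGroup.eq_one_iff w).2 hw, one_mul]; rfl⟩
    let μ : R →* ℂˣ := (φ.liftOfSurjective hφ ⟨ν, fun v hv => n1 v ((QuotientGroup.eq_one_iff (ic v)).1 hv)⟩).comp
      (QuotientGroup.mk' _)
    have m1 : ∀ v, μ (ic v) = ν v := fun v => φ.liftOfRightInverse_comp_apply _ (Function.rightInverse_surjInv hφ) _ v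
    have m2 : ∀ r : R, (r : G) ∈ M → μ r = 1 := fun r hr => by
      rw [MonoidHom.comp_apply, QuotientGroup.mk'_apply, (QuotientGroup.eq_one_iff r).2 hr, map_one]
    refine ⟨⟨μ, m2, fun g r r' e => ?_⟩, Subtype.ext (funext fun v => by rw [n2, ← m1])⟩
    obtain ⟨w, hw, u, hu, rfl⟩ := hU g
    obtain ⟨w', hw', v, rfl⟩ := hd r
    have e' : r' = ⟨w, hMR hw⟩ * ⟨_, hMR (hM.conj_mem _ hw' u)⟩ * ic (cj _ (hn hu) v) * (⟨w, hMR hw⟩ : R)⁻¹ :=
      Subtype.ext (e.trans (by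
        change _ = w * (u * w' * u⁻¹) * (u * v * u⁻¹) * w⁻¹
        change w * u * (w' * v) * _ = _
        group))
    rw [e', map_mul, map_mul, map_mul, map_inv, map_mul, m1, m1, n3 u hu, m2 w' hw', m2 ⟨w, _⟩ hw,
      m2 ⟨_, _⟩ (hM.conj_mem _ hw' u)]
    simp

end Cfsg.Agent.MO.B
end

-- part: MO/B/Sd
section
/-!
# MO/B: from `R` to the components (helper76)

`b3` : a sum over the invariant `p'`-characters of `R ⊓ hat Λ` is `ww` times a sum over `AS p Λ l`.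
-/

set_option autoImplicit false
set_option maxHeartbeats 400000
set_option linter.unusedSectionVars false

namespace Cfsg.Agent.MO.B

open Cfsg Subgroup
open Cfsg.Agent.Characters.Core Cfsg.Agent.H672 Cfsg.Agent.MO.H Cfsg.Agent.MO.C
open Cfsg.Agent.MK (Ov In rs Supp deg_comp)
open Cfsg.Agent.MK.C (exists_desc Th Th_one Th_single Th_irr Th_inj)
open Cfsg.Agent.ODD.Red (dH dH_comp dH_smul exists_quot charDegree_congr)

variable {p : ℕ} [Fact p.Prime] {G : Type} [Group G] [Finite G]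

theorem ext_inv2 {U V : Subgroup G} {D : Type} [Group D] [Finite D] (f : D →* V) (hVU : V ≤ U)
    (hn : U ≤ normalizer (V : Set G)) {Θ : D → ℂ} (hΘ : PI p D Θ) (hk : ∀ d, f d = 1 → Θ d = Θ 1)
    (hinv : ∀ u ∈ U, ∃ φ : D →* D, ∀ d, (f (φ d) : G) = u * f d * u⁻¹ ∧ Θ (φ d) = Θ d) {k : ℕ}
    (hc : f.range.index = p ^ k) (Δ : U →* ℂˣ) {n : ℕ} (h0 : ¬ p ∣ n)
    (hd : ∀ d, Δ (inclusion hVU (f d)) = dH Θ d ^ n) :
    ∃ ξ, IsIrrCharacter V ξ ∧ (∀ d, ξ (f d) = Θ d) ∧ ∀ u ∈ U, ∀ v v' : V, (v' : G) = u * v * u⁻¹ → ξ v' = ξ v := by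
  classical
  obtain ⟨θ, hθ, e⟩ := exists_quot f.rangeRestrict f.rangeRestrict_surjective hΘ.1 fun d hd =>
    hk d (congrArg Subtype.val hd)
  have h1 : ∀ d, dH Θ d = dH θ (f.rangeRestrict d) := fun d => by
    rw [← dH_comp _ (isIrr_isCharacter hθ), funext e]
  have h2 : ∀ d, Function.extend (fun d => (f d : G)) (dH Θ) 1 (f d) = dH Θ d :=
    Function.FactorsThrough.extend_apply (fun a b h => by
      rw [h1, h1]
      exact congrArg _ (Subtype.ext (Subtype.ext h))) _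
  have h3 : (f.range.map V.subtype).relIndex V = p ^ k := by
    rw [relIndex, subgroupOf, comap_map_eq_self_of_injective V.subtype_injective, hc]
  obtain ⟨μ, h4, h5⟩ := lin_ext (N := f.range.map V.subtype) (map_subtype_le _) hVU (by
      rintro u hu _ ⟨_, ⟨d, rfl⟩, rfl⟩
      obtain ⟨φ, hφ⟩ := hinv u hu
      exact ⟨_, ⟨φ d, rfl⟩, (hφ d).1⟩) (ν := Function.extend (fun d => (f d : G)) (dH Θ) 1)
    (Δ := fun g => if h : g ∈ U then Δ ⟨g, h⟩ else 1) ⟨by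
      rintro _ ⟨_, ⟨a, rfl⟩, rfl⟩ _ ⟨_, ⟨b, rfl⟩, rfl⟩
      rw [← map_mul, ← map_mul, subtype_apply, subtype_apply, subtype_apply, h2, h2, h2, map_mul], by
      rintro u hu _ ⟨_, ⟨d, rfl⟩, rfl⟩
      obtain ⟨φ, hφ⟩ := hinv u hu
      rw [subtype_apply, ← (hφ d).1, h2, h2, ← dH_comp _ (isIrr_isCharacter hΘ.1), funext fun d => (hφ d).2]⟩
    ⟨fun a ha b hb => by
      rw [dif_pos (hVU ha), dif_pos (hVU hb), dif_pos (hVU (mul_mem ha hb)), ← map_mul]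
      rfl, fun u hu a ha => by
      rw [dif_pos (hVU ha), dif_pos (mul_mem (mul_mem hu (hVU ha)) (inv_mem hu))]
      exact (map_mul Δ (⟨u, hu⟩ * ⟨a, hVU ha⟩) (⟨u, hu⟩ : U)⁻¹).trans (by
        rw [map_mul, map_inv, mul_inv_cancel_comm])⟩ (n := n) (by
      rintro _ ⟨_, ⟨d, rfl⟩, rfl⟩
      rw [subtype_apply, dif_pos (hVU (f d).2), h2]
      exact hd d) (h3 ▸ pow_ne_zero _ (Fact.out : p.Prime).ne_zero) (h3 ▸ cop_pow h0 k)
  exact ext_inv f hVU hn hΘ.1 hk (fun u hu d => (hinv u hu).elim fun φ hφ => ⟨_, hφ d⟩) (hc ▸ cop_pow hΘ.2 k) h4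
    fun d => (h5 _ ⟨_, ⟨d, rfl⟩, rfl⟩).trans (h2 d)

theorem pi_ind {Y ι : Type} [Group Y] [Fintype ι] [DecidableEq ι] {P : (ι → Y) → Prop} (one : P 1)
    (mul : ∀ a b, P a → P b → P (a * b)) (single : ∀ i y, P (Pi.mulSingle i y)) (f : ι → Y) : P f := by
  rw [← Finset.noncommProd_mulSingle f]
  exact Finset.noncommProd_induction _ _ _ P mul one fun i _ => single i _

theorem dH_Th {Z Y ι : Type} [Group Z] [Group Y] [Finite Z] [Finite Y] [Fintype ι] (m : Z →* ℂˣ) {η : Y → ℂ}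
    (hη : IsIrrCharacter Y η) (y : ι → Y) :
    dH (Th m fun _ => η) (1, y) = ∏ i, dH η (y i) ^ charDegree η ^ (Fintype.card ι - 1) := by
  classical
  induction y using pi_ind with
  | one => exact (map_one _).trans (by simp only [_root_.Pi.one_apply, _root_.map_one, _root_.one_pow, _root_.Finset.prod_const_one])
  | mul a b ha hb =>
    rw [← one_mul (1 : Z), ← Prod.mk_mul_mk, map_mul, ha, hb, ← Finset.prod_mul_distrib]
    simp only [Pi.mul_apply, map_mul, mul_pow]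
  | single i y =>
    rw [Finset.prod_eq_single i (fun j _ h => by rw [Pi.mulSingle_eq_of_ne h, map_one, one_pow]) (by simp only [_root_.Finset.mem_univ, _root_.not_true_eq_false, _root_.Pi.mulSingle_eq_same, _root_.IsEmpty.forall_iff]),
      Pi.mulSingle_eq_same, ← dH_smul (isIrr_isCharacter hη)]
    refine (dH_comp ((MonoidHom.inr Z _).comp (MonoidHom.mulSingle (fun _ => Y) i))
      (isIrr_isCharacter (Th_irr m fun _ => hη)) y).symm.trans (congrArg (fun χ => dH χ y) (funext fun x => ?_))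
    refine (Th_single m _ i x).trans ?_
    rw [Finset.prod_const, Finset.card_erase_of_mem (Finset.mem_univ i), Finset.card_univ, Nat.cast_pow,
      coe_charDegree hη, mul_comm]

variable {X : Type} [Group X] [Finite X] {Γ Λ : Subgroup (MulAut X)} {Z R : Subgroup G} {ι : Type} [Fintype ι]
  (c : Conf p Γ G Z ι) (hX : ∃ x y : X, x * y ≠ y * x) (hMR : LL c ≤ R)

theorem m_pr (m : Z →* ℂˣ) (w : ι → center X) :
    ∃ h : pr c (fun i => w i) ∈ Z, m ⟨_, h⟩ = ∏ i, m ⟨c.e i (w i), e_mem_Z c (w i).2 i⟩ := by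
  classical
  induction w using pi_ind with
  | one =>
    have e : pr c (fun i => ((1 : ι → center X) i : X)) = 1 := map_one _
    refine ⟨by rw [e]; exact one_mem _, ((congrArg m (Subtype.ext e : _ = (1 : Z))).trans (map_one m)).trans
      (Finset.prod_eq_one fun i _ => ?_).symm⟩
    exact (congrArg m (Subtype.ext (map_one (c.e i)) : _ = (1 : Z))).trans (map_one m)
  | mul a b ha hb =>
    obtain ⟨h1, ha⟩ := ha
    obtain ⟨h2, hb⟩ := hb
    have e : pr c (fun i => ((a * b) i : X)) = pr c (fun i => a i) * pr c fun i => b i := map_mul _ _ _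
    refine ⟨by rw [e]; exact mul_mem h1 h2,
      ((congrArg m (Subtype.ext e : _ = ⟨_, h1⟩ * ⟨_, h2⟩)).trans (map_mul m _ _)).trans ?_⟩
    rw [ha, hb, ← Finset.prod_mul_distrib]
    exact Finset.prod_congr rfl fun i _ => (map_mul m _ _).symm.trans (congrArg m (Subtype.ext (map_mul (c.e i) (a i : X) (b i : X)).symm))
  | single i z =>
    have e : pr c (fun j => ((Pi.mulSingle i z : ι → center X) j : X)) = c.e i z := by
      rw [← pr_single]
      exact congrArg _ (funext fun j => Pi.apply_mulSingle (fun _ => (center X).subtype) (fun _ => map_one _) i z j)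
    refine ⟨by rw [e]; exact e_mem_Z c z.2 i, (congrArg m (Subtype.ext e : _ = ⟨_, e_mem_Z c z.2 i⟩)).trans ?_⟩
    rw [Finset.prod_eq_single i (fun j _ h => (congrArg m (Subtype.ext ?_)).trans (map_one m)) (by simp only [_root_.Finset.mem_univ, _root_.not_true_eq_false, _root_.Pi.mulSingle_eq_same, _root_.IsEmpty.forall_iff])]
    · simp only [Pi.mulSingle_eq_same]
    · simp only [Pi.mulSingle_eq_of_ne h, coe_one, map_one]

variable (Λ) in
/-- the side of `R ⊓ hat Λ` -/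
def sV : Side c (R ⊓ c.hat Λ) (In Λ) where
  ρ := (In Λ).subtype
  inj := Subtype.val_injective
  b u i := rs Λ ⟨c.a u i, u.2.2 i⟩
  hb _ _ _ := rfl
  mem g h1 h2 := ⟨hMR (mem_LL_of c h1 fun i => (h2 i).elim fun _ h => ⟨_, h⟩), (sB Λ c hX).mem g h1 h2⟩
  sup u hu := (sB Λ c hX).sup u hu.2
  nc := hX

theorem range_sV : (sV Λ c hX hMR).f.range = (LL c).subgroupOf _ :=
  le_antisymm (by rintro _ ⟨d, rfl⟩; exact (mem_LL c).2 ⟨_, d.1.2, _, rfl⟩) fun _ hv => Side.mem_range _ hv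

variable [hR : R.Normal] (hp : ∀ g ∈ R, ∃ k : ℕ, g ^ p ^ k ∈ LL c) (h : Supp Γ Λ) {l : G → ℂ} {m : Z →* ℂˣ}
  (hm : ∀ z : Z, l z = m z) (i₀ : ι)

include hp in
theorem index_sV : ∃ k, (sV Λ c hX hMR).f.range.index = p ^ k := by
  rw [range_sV]
  exact rel_pow (fun r _ a ha _ => (normal_LL c).conj_mem a ha r) fun g hg => hp g hg.1

include hp h hm in
theorem res_AS {ξ : (R ⊓ c.hat Λ : Subgroup G) → ℂ} (hξ : ξ ∈ IS p (R ⊓ c.hat Λ) Z l (c.hat Λ)) :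
    ∃ η ∈ AS p Λ fun x => l (c.e i₀ x), ∀ d, ξ ((sV Λ c hX hMR).f d) = Th m (fun _ => η) d := by
  obtain ⟨⟨h1, h2⟩, h3⟩ := mem_IS.1 hξ
  obtain ⟨ϑ, k1, k2, -, k4⟩ := (sV Λ c hX hMR).under hm h1 h2
  obtain ⟨k, hk⟩ := index_sV c hX hMR hp (Λ := Λ)
  have e := congrFun (res_eq (sV Λ c hX hMR).nr.normal hk h1 (Th_irr m fun i => (k1 i).1) k4)
  have k5 : ∀ i (α : Λ) y, ϑ i₀ (rs Λ α y) = ϑ i y := fun i ⟨α, hα⟩ y => by
    obtain ⟨g, g1, g2, rfl⟩ := exists_hat c h i i₀ hα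
    have e1 := ((sB Λ c hX).mem_st m (fun i => (k1 i).1) ⟨g, g1⟩).2 fun d => by
      rw [← e, ← e]
      exact h3 g g1 _ _ (congrArg Subtype.val ((sB Λ c hX).nr ⟨g, g1⟩ d))
    rw [← congrFun (congrFun e1 i) y, ← g2]
    rfl
  refine ⟨ϑ i₀, mem_AS.2 ⟨⟨k1 i₀, k2 i₀⟩, k5 i₀⟩, fun d => (e d).trans (congrFun (congrArg _ ?_) d)⟩
  exact funext fun i => funext fun y => by rw [← k5 i 1, map_one, MulAut.one_apply]

include hp hm in
theorem ext_AS {η : In Λ → ℂ} (hη : η ∈ AS p Λ fun x => l (c.e i₀ x)) (hg : Good p Λ η) :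
    ∃ ξ ∈ IS p (R ⊓ c.hat Λ) Z l (c.hat Λ), ∀ d, ξ ((sV Λ c hX hMR).f d) = Th m (fun _ => η) d := by
  obtain ⟨⟨h1, h2⟩, h3⟩ := mem_AS.1 hη
  obtain ⟨N, hN, δ, hδ⟩ := hg
  obtain ⟨k, hk⟩ := index_sV c hX hMR hp (Λ := Λ)
  have h4 : PI p _ (Th m fun _ : ι => η) := ⟨Th_irr m fun _ => h1.1, (Th_cop m fun _ => h1.1).2 fun _ => h1.2⟩
  have h5 : ∀ u v : c.hat Λ, ∏ i, δ ⟨c.a (u * v : c.hat Λ) i, (u * v).2 i⟩ =
      (∏ i, δ ⟨c.a u i, u.2 i⟩) * ∏ i, δ ⟨c.a v i, v.2 i⟩ := fun u v => by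
    rw [← Equiv.prod_comp (c.π v) fun i => δ ⟨c.a u i, u.2 i⟩, ← Finset.prod_mul_distrib]
    exact Finset.prod_congr rfl fun i _ => (congrArg δ (Subtype.ext (c.a_mul u v i))).trans (map_mul δ _ _)
  refine (ext_inv2 (sV Λ c hX hMR).f (U := c.hat Λ) inf_le_right (fun g hg => mem_normalizer_iff.2 fun x =>
      and_congr ⟨fun e => hR.conj_mem x e g, fun e => by simpa [mul_assoc] using hR.conj_mem _ e g⁻¹⟩
        (mem_normalizer_iff.1 (le_normalizer hg) x)) h4 (fun d hd => ?_) (fun u hu => ⟨MonoidHom.mk'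
      ((sB Λ c hX).φ ⟨u, hu⟩) fun _ _ => Prod.ext rfl (funext fun _ => map_mul _ _ _), fun d =>
      ⟨congrArg Subtype.val ((sB Λ c hX).nr ⟨u, hu⟩ d), ((sB Λ c hX).Th_φ m _ ⟨u, hu⟩ d).trans
        (congrFun (congrArg _ (funext fun i => funext fun y => h3 _ y)) d)⟩⟩) hk
    (MonoidHom.mk' (fun u : c.hat Λ => ∏ i, δ ⟨c.a u i, u.2 i⟩) h5 ^
      (charDegree η ^ (Fintype.card ι - 1) * Nat.card Z)) (nd_mul' hN c.cop) fun d => ?_).imp fun ξ ⟨k1, k2, k3⟩ => ?_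
  · have e : (d.1 : G) * pr c (fun i => d.2 i) = 1 := congrArg Subtype.val hd
    have e1 : ∀ i, (d.2 i : X) ∈ center X := fun i => conj_eq_one.1 (by
      rw [← c.a_one i, ← e]
      exact ((sV Λ c hX hMR).a_q d i).symm)
    obtain ⟨e2, e3⟩ := m_pr c m fun i => ⟨_, e1 i⟩
    have e4 : ∀ i, η (d.2 i) = m ⟨c.e i (d.2 i), e_mem_Z c (e1 i) i⟩ * η 1 := fun i => by
      rw [h2 _ (e1 i), ← hm]
      exact congrArg (fun g => l g * η 1) (e_cen c (e1 i) i₀ i)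
    rw [Th_one, Th, Finset.prod_congr rfl fun i _ => e4 i, Finset.prod_mul_distrib, ← Units.coe_prod, ← mul_assoc,
      ← Units.val_mul]
    rw [← e3, ← map_mul, show d.1 * ⟨_, e2⟩ = 1 from Subtype.ext e, map_one, Units.val_one, one_mul]
  · have e : d = (d.1, 1) * (1, d.2) := by simp
    have e1 : dH (Th m fun _ : ι => η) (d.1, 1) ^ Nat.card Z = 1 := by
      rw [← map_pow, Prod.pow_mk, pow_card_eq_one', one_pow]
      exact map_one _
    conv_rhs => rw [e, map_mul, mul_pow, pow_mul', e1, one_pow, one_mul, dH_Th m h1.1]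
    rw [MonoidHom.pow_apply, MonoidHom.mk'_apply, ← Finset.prod_pow, ← Finset.prod_pow]
    refine Finset.prod_congr rfl fun i _ => ?_
    rw [(congrArg δ (Subtype.ext ((sV Λ c hX hMR).a_q d i))).trans (hδ (d.2 i)), ← pow_mul, ← pow_mul]
    congr 1
    ring
  · have k4 : ξ ∘ (sV Λ c hX hMR).f = Th m fun _ => η := funext k2
    refine ⟨mem_IS.2 ⟨⟨⟨k1, by rw [← deg_comp (sV Λ c hX hMR).f, k4]; exact h4.2⟩,
      (sV Λ c hX hMR).ov_of_over hm k1 (fun _ => h1.1) ?_⟩, k3⟩, k2⟩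
    have := Fintype.ofFinite (Z × (ι → In Λ))
    rw [over_iff, k4, classInner_irr_self h4.1]
    exact one_ne_zero

include hp h hm in
/-- **from `R` to the components** -/
theorem b3 (hg : ∀ η ∈ AS p Λ fun x => l (c.e i₀ x), Good p Λ η) (F : ((R ⊓ c.hat Λ : Subgroup G) → ℂ) → ℂ)
    (F' : (In Λ → ℂ) → ℂ) (hF : ∀ ξ ∈ IS p (R ⊓ c.hat Λ) Z l (c.hat Λ), ∀ η ∈ AS p Λ fun x => l (c.e i₀ x),
      (∀ d, ξ ((sV Λ c hX hMR).f d) = Th m (fun _ => η) d) → F ξ = F' η) :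
    ∑ ξ ∈ IS p (R ⊓ c.hat Λ) Z l (c.hat Λ), F ξ = ww (LL c) R * ∑ η ∈ AS p Λ fun x => l (c.e i₀ x), F' η := by
  classical
  have := normal_LL c
  choose! r hr hr' using fun ξ hξ => res_AS c hX hMR hp h hm i₀ (ξ := ξ) hξ
  rw [← Finset.sum_fiberwise_of_maps_to hr, Finset.mul_sum]
  refine Finset.sum_congr rfl fun η hη => ?_
  obtain ⟨ξ₀, h1, h2⟩ := ext_AS c hX hMR hp hm i₀ hη (hg η hη)
  have h3 := Th_irr m fun _ : ι => (mem_AS.1 hη).1.1.1
  have h4 : IsIrrCharacter ((LL c).subgroupOf (R ⊓ c.hat Λ)) fun n => ξ₀ n := by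
    rw [← range_sV c hX hMR]
    obtain ⟨θ, hθ, e⟩ := exists_quot _ (sV Λ c hX hMR).f.rangeRestrict_surjective h3 fun d hd => by
      rw [← h2, ← h2, map_one]
      exact congrArg ξ₀ (congrArg Subtype.val hd)
    convert hθ using 2 with n
    obtain ⟨d, rfl⟩ := (sV Λ c hX hMR).f.rangeRestrict_surjective n
    exact (h2 d).trans (e d).symm
  refine (Finset.sum_congr rfl (g := fun _ => F' η) fun ξ hξ => by
    obtain ⟨k1, rfl⟩ := Finset.mem_filter.1 hξ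
    exact hF ξ k1 _ hη (hr' ξ k1)).trans ?_
  rw [Finset.sum_const, nsmul_eq_mul,
    ← fib_card hMR (fun g => (decomp c h g).elim fun w ⟨u, hu, e⟩ => ⟨_, (mem_LL c).2 ⟨1, one_mem _, w, (one_mul _).symm⟩,
      u, hu, e⟩) le_sup_left h1 h4]
  refine congrArg (fun n : ℕ => (n : ℂ) * F' η) (Nat.subtype_card _ fun ξ => ?_).symm
  rw [Finset.mem_filter]
  refine and_congr_right fun hξ => ⟨fun e v hv => ?_, fun e => congrFun (Th_inj m (fun _ => (mem_AS.1 (hr ξ hξ)).1.1.1)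
    (fun _ => (mem_AS.1 hη).1.1.1) fun d => ?_) i₀⟩
  · obtain ⟨d, rfl⟩ := (sV Λ c hX hMR).mem_range hv
    rw [hr' ξ hξ, h2, e]
  · rw [← hr' ξ hξ, ← h2]
    exact e _ ((range_sV c hX hMR).le ⟨d, rfl⟩)

end Cfsg.Agent.MO.B
end

-- part: MO/B/Ten
section
/-!
# MO/B: the commutator trace in a product (helper72)

* `om_ten` : tensor induction of the witnesses;  `om1_ne`;
* `rel` : the quotient of the traces in the product and in one component does not depend on the side.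
-/

set_option autoImplicit false

namespace Cfsg.Agent.MO.B

open Cfsg Subgroup
open Cfsg.Agent.MK (Ov In rs)
open Cfsg.Agent.MK.C (Th Th_irr)
open Cfsg.Agent.Characters.Core Cfsg.Agent.H672

theorem om_ten {Z Y ι : Type} [Group Z] [Group Y] [Finite Z] [Finite Y] [Fintype ι] (m : Z →* ℂˣ) {η : Y → ℂ}
    (hη : IsIrrCharacter Y η) {W : Type} [Group W] {Ψ : W → ℂ} (hΨ : IsCharacter W Ψ) (j : Y →* W)
    (hj : ∀ y, Ψ (j y) = η y) {σ τ : Equiv.Perm ι} (hστ : ∀ i, σ (τ i) = τ (σ i)) (A B : ι → W) (α β : ι → Y → Y)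
    (hA : ∀ i y, A i * j y = j (α i y) * A i) (hB : ∀ i y, B i * j y = j (β i y) * B i) (n : ι → Y) (t : ι → ℂ)
    (hP : ∀ i y, Ψ (A (τ i) * B i * (B (σ i) * A i)⁻¹ * j y) = t i * η (n (σ (τ i)) * y)) (z : Z) :
    (∏ i, t i) * Om (Th m fun _ => η) (fun d => (d.1, fun k => α (σ.symm k) (d.2 (σ.symm k))))
      (fun d => (d.1, fun k => β (τ.symm k) (d.2 (τ.symm k)))) (z, n) = m z := by
  classical
  let F := (ι → W) ⋊[mulAutArrow] Equiv.Perm ι
  let w : F → ι → W := fun g i => g.left (g.right i)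
  have hw : ∀ g h : F, ∀ i, w (g * h) i = w g (h.right i) * w h i := fun g h i =>
    congrArg (fun k => w g (h.right i) * h.left k) (g.right.symm_apply_apply (h.right i))
  obtain ⟨V, _, _, _, ρ, hρ⟩ := H669.TensExt.exists_tensor (G := F) SemidirectProduct.rightHom w hw hΨ
  let J : (ι → Y) →* F := SemidirectProduct.inl.comp (j.compLeft ι)
  have hJ : ∀ (π : Equiv.Perm ι) (C : ι → W) (γ : ι → Y → Y), (∀ i y, C i * j y = j (γ i y) * C i) → ∀ u : Z × (ι → Y),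
      ((1, ⟨fun k => C (π.symm k), π⟩) : Z × F) * (MonoidHom.id Z).prodMap J u =
        (MonoidHom.id Z).prodMap J (u.1, fun k => γ (π.symm k) (u.2 (π.symm k))) * (1, ⟨fun k => C (π.symm k), π⟩) :=
    fun π C γ h u => Prod.ext ((one_mul _).trans (mul_one _).symm)
      (SemidirectProduct.ext (funext fun k => h _ _) ((mul_one _).trans (one_mul _).symm))
  let a : F := ⟨fun k => A (σ.symm k), σ⟩
  let b : F := ⟨fun k => B (τ.symm k), τ⟩
  have h1 : (a * b * a⁻¹ * b⁻¹).right = 1 := by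
    change σ * τ * σ⁻¹ * τ⁻¹ = 1
    rw [show σ * τ = τ * σ from Equiv.ext hστ]
    group
  have h2 : ∀ i, w (a * b * a⁻¹ * b⁻¹) (σ (τ i)) = A (τ i) * B i * (B (σ i) * A i)⁻¹ := fun i => by
    have e := hw (a * b * a⁻¹ * b⁻¹) (b * a) i
    rw [mul_assoc _ b⁻¹, inv_mul_cancel_left, inv_mul_cancel_right, hw, hw b] at e
    have ea : ∀ i, w a i = A i := fun i => congrArg A (σ.symm_apply_apply i)
    have eb : ∀ i, w b i = B i := fun i => congrArg B (τ.symm_apply_apply i)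
    rw [ea, ea, eb, eb] at e
    rw [hστ, eq_mul_inv_iff_mul_eq]
    exact e.symm
  have h3 := om_wit (W := Z × F) (j := (MonoidHom.id Z).prodMap J) (Ψ := fun g => lf m g.1 * ρ.character g.2)
    (isCharacter_mul (isCharacter_comp (MonoidHom.fst Z F) (isIrr_isCharacter (isIrr_lf m)))
      (isCharacter_comp (MonoidHom.snd Z F) (isCharacter_of_rep ρ))) (Th_irr m fun _ : ι => hη)
    (fun d => congrArg (m d.1 * · : ℂ → ℂ) ((hρ (J d.2) rfl).trans (Finset.prod_congr rfl fun i _ => hj _)))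
    (hJ σ A α hA) (hJ τ B β hB) (m := (z, n)) (s := (∏ i, t i) * ((m z)⁻¹ : ℂˣ)) fun d => by
      change (m (1 * 1 * 1⁻¹ * 1⁻¹ * d.1) : ℂ) * ρ.character (a * b * a⁻¹ * b⁻¹ * J d.2) =
        _ * ((m (z * d.1) : ℂ) * ∏ i, η (n i * d.2 i))
      rw [hρ _ ((by exact (map_mul _ _ _).trans ((mul_one _).trans h1))), ← Equiv.prod_comp (σ * τ),
        ← Equiv.prod_comp (σ * τ) fun i => η (n i * d.2 i), Finset.prod_congr rfl fun i _ =>
          (congrArg Ψ ((hw _ (J d.2) ((σ * τ) i)).trans (congrArg (· * _) (h2 i)))).trans (hP i (d.2 (σ (τ i)))),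
        Finset.prod_mul_distrib, map_mul m z, inv_one, mul_one, mul_one, mul_one, one_mul, Units.val_mul,
        mul_assoc (∏ i, t i), ← mul_assoc _ (_ * _), Units.inv_mul_cancel_left, mul_left_comm]
      rfl
  rw [mul_right_comm, Units.mul_inv_eq_iff_eq_mul, one_mul] at h3
  exact h3

variable {p : ℕ} [Fact p.Prime] {X : Type} [Group X] [Finite X] {Γ Λ Λ₁ Λ₂ R : Subgroup (MulAut X)}

omit [Fact p.Prime] in
theorem om1_ne (h₁ : Λ ≤ Λ₁) {l : X → ℂ} {η : In Λ₁ → ℂ} (hη : η ∈ AS p Λ₁ l) {α β : Λ} {n : In Λ}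
    (hn : (α * β * α⁻¹ * β⁻¹ : Λ) = ⟨MulAut.conj (n : X), n.2⟩) : om1 h₁ α β n η ≠ 0 := by
  obtain ⟨⟨h1, -⟩, h2⟩ := mem_AS.1 hη
  obtain ⟨W, _, Ψ, j, a, b, s, k1, k2, k3, k4, k5⟩ := exists_wit h1.1 (h2 (inclusion h₁ α)) (h2 (inclusion h₁ β))
    (m := inI h₁ n) (by
      rw [← map_inv, ← map_inv, ← map_mul, ← map_mul, ← map_mul, ← map_inv, ← map_inv, ← map_mul, ← map_mul, ← map_mul, hn]
      rfl)
  exact right_ne_zero_of_mul_eq_one (om_wit k1 h1.1 k2 k3 k4 (s := s) fun d => by rw [k5, ← map_mul, k2])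

namespace Ten

variable {A : Type} [Group A] {Z' : Subgroup A} (c : Cf p Γ A Z') {m' : Z' →* ℂˣ} {Ψ : Λ₁.comap c.a → ℂ}
  {η : In Λ₁ → ℂ}

/-- the embedding of `In Λ₁` -/
def em (Λ₁ : Subgroup (MulAut X)) : In Λ₁ →* Λ₁.comap c.a :=
  (c.e.comp (In Λ₁).subtype).codRestrict _ fun y => show c.a (c.e y) ∈ Λ₁ from c.a_e y ▸ y.2

omit [Fact p.Prime] [Finite X] in
theorem em_act (h : Λ ≤ Λ₁) {g : A} {α : Λ} (e : c.a g = α) (y : In Λ₁) :
    (⟨g, show c.a g ∈ Λ₁ from e ▸ h α.2⟩ : Λ₁.comap c.a) * em c Λ₁ y =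
      em c Λ₁ (rs Λ₁ (inclusion h α) y) * ⟨g, show c.a g ∈ Λ₁ from e ▸ h α.2⟩ :=
  Subtype.ext (by
    change g * c.e y = c.e (α.1 y) * g
    rw [← e, ← c.ha, inv_mul_cancel_right])

omit [Fact p.Prime] in
theorem sideT (h : Λ ≤ Λ₁) (hη : IsIrrCharacter _ η) (hΨ : IsCharacter _ Ψ)
    (hv : ∀ (z : Z') (y : In Λ₁) (u : Λ₁.comap c.a), (u : A) = z * c.e y → Ψ u = m' z * η y) {Z ι : Type} [Group Z]
    [Finite Z] [Fintype ι] (m : Z →* ℂˣ) {σ τ : Equiv.Perm ι} (hστ : ∀ i, σ (τ i) = τ (σ i)) {P Q : ι → Λ} {a b : ι → A}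
    (ha : ∀ i, c.a (a i) = P i) (hb : ∀ i, c.a (b i) = Q i) (z : Z) (n : ι → In Λ) (zz : ι → Z')
    (hz : ∀ i, a (τ i) * b i * (b (σ i) * a i)⁻¹ = zz i * c.e (n (σ (τ i)))) :
    (∏ i, m' (zz i) : ℂˣ) * omT h m σ τ P Q z n η = m z := by
  rw [Units.coe_prod]
  exact om_ten m hη hΨ (em c Λ₁) (fun y => by rw [hv 1 y _ (one_mul _).symm, map_one, Units.val_one, one_mul]) hστ _ _ _ _
    (fun i => em_act c h (ha i)) (fun i => em_act c h (hb i)) (fun i => inI h (n i)) _ (fun i y => hv _ _ _ (by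
      change a (τ i) * b i * (b (σ i) * a i)⁻¹ * c.e y = zz i * c.e (n (σ (τ i)) * y)
      rw [hz, map_mul, mul_assoc])) z

omit [Fact p.Prime] in
theorem side1 (h : Λ ≤ Λ₁) (hη : IsIrrCharacter _ η) (hΨ : IsCharacter _ Ψ)
    (hv : ∀ (z : Z') (y : In Λ₁) (u : Λ₁.comap c.a), (u : A) = z * c.e y → Ψ u = m' z * η y) {α β : Λ} {a b : A}
    (ha : c.a a = α) (hb : c.a b = β) (n : In Λ) (z : Z') (hz : a * b * (b * a)⁻¹ = z * c.e n) :
    m' z * om1 h α β n η = 1 :=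
  om_wit hΨ hη (j := em c Λ₁) (fun y => by rw [hv 1 y _ (one_mul _).symm, map_one, Units.val_one, one_mul])
    (em_act c h ha) (em_act c h hb) fun y => hv _ _ _ (by
      change a * b * a⁻¹ * b⁻¹ * c.e y = z * c.e (n * y)
      rw [map_mul, ← mul_assoc, ← hz, mul_inv_rev, ← mul_assoc])

omit [Fact p.Prime] [Finite X] in
theorem exists_z {g : A} {x : X} (h : c.a g = MulAut.conj x) : ∃ z : Z', g = z * c.e x :=
  ⟨⟨g * (c.e x)⁻¹, c.mem_Z.2 (by rw [map_mul, map_inv, c.a_e, h, mul_inv_cancel])⟩, (inv_mul_cancel_right _ _).symm⟩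

omit [Fact p.Prime] in
/-- the change of the representative -/
theorem shift {l : X → ℂ} (hη : η ∈ AS p Λ₁ l)
    (hv : ∀ (z : Z') (y : In Λ₁) (u : Λ₁.comap c.a), (u : A) = z * c.e y → Ψ u = m' z * η y) {z z' : Z'} {x x' : X}
    (e : z * c.e x = z' * c.e x') : (m' z' : ℂ) = m' z * l (x * x'⁻¹) := by
  obtain ⟨⟨h1, h2⟩, -⟩ := mem_AS.1 hη
  have e1 : (z' : A) = z * c.e (x * x'⁻¹) := by rw [map_mul, map_inv, ← mul_assoc, e, mul_inv_cancel_right]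
  have e2 : MulAut.conj (x * x'⁻¹) = 1 := by
    rw [← c.a_e, ← c.mem_Z, ← mul_mem_cancel_left z.2, ← e1]
    exact z'.2
  have h3 : x * x'⁻¹ ∈ center X := mem_center_iff.2 fun g =>
    (mul_inv_eq_iff_eq_mul.1 (congrArg (fun f : MulAut X => f g) e2)).symm
  let y : In Λ₁ := ⟨x * x'⁻¹, show MulAut.conj _ ∈ Λ₁ from e2 ▸ one_mem _⟩
  let u : Λ₁.comap c.a := ⟨z', show c.a z' ∈ Λ₁ from c.mem_Z.1 z'.2 ▸ one_mem _⟩
  have h4 := (hv z' 1 u (by rw [OneMemClass.coe_one, map_one, mul_one])).symm.trans (hv z y u e1)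
  rw [h2 y h3, ← mul_assoc] at h4
  exact mul_right_cancel₀ h1.one_ne h4

omit [Fact p.Prime] [Finite X] in
theorem mul_z (z z' : Z') (x x' : X) : z * c.e x * (z' * c.e x') = (z * z' : Z') * c.e (x * x') := by
  rw [coe_mul, map_mul, mul_assoc, ← mul_assoc (c.e x), mem_center_iff.1 (c.cen z'.2), mul_assoc, mul_assoc]

omit [Fact p.Prime] [Finite X] in
theorem conj_z (g : A) (z : Z') (x : X) : g * (z * c.e x) * g⁻¹ = z * c.e (c.a g x) := by
  rw [← c.ha, ← mul_assoc, mem_center_iff.1 (c.cen z.2), mul_assoc, mul_assoc, mul_assoc]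

end Ten

open Ten in
theorem rel (r : Cl p Γ R) (hΛ : Λ ≤ Γ) (h₁ : Λ ≤ Λ₁) (h₂ : Λ ≤ Λ₂) {l : X → ℂ} {η₁ : In Λ₁ → ℂ} {η₂ : In Λ₂ → ℂ}
    (k₁ : η₁ ∈ AS p Λ₁ l) (k₂ : η₂ ∈ AS p Λ₂ l) (e₁ : Exd p Γ Λ₁ η₁) (e₂ : Exd p Γ Λ₂ η₂) {Z ι : Type} [Group Z]
    [Finite Z] [Fintype ι] (m : Z →* ℂˣ) {σ τ : Equiv.Perm ι} (hστ : ∀ i, σ (τ i) = τ (σ i)) (A B : ι → Λ) {α β : Λ}
    (hc : (α * β * α⁻¹ * β⁻¹ : Λ).1 ∈ R) (a b : ι → ℤ × ℤ)
    (hA : ∀ i, (A i * (α ^ (a i).1 * β ^ (a i).2)⁻¹ : Λ).1 ∈ R) (hB : ∀ i, (B i * (α ^ (b i).1 * β ^ (b i).2)⁻¹ : Λ).1 ∈ R)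
    (hab : ∀ j, a (τ j) + b j = b (σ j) + a j) (z : Z) (n : ι → In Λ)
    (hn : ∀ i, A (τ i) * B i * (B (σ i) * A i)⁻¹ = ⟨MulAut.conj (n (σ (τ i)) : X), (n _).2⟩) {α' β' : Λ} {n' : In Λ}
    (hα : (α' * (α ^ ∑ j, ((b (σ j)).2 * (a j).1 - (a (τ j)).2 * (b j).1))⁻¹ : Λ).1 ∈ R) (hβ : (β' * β⁻¹ : Λ).1 ∈ R)
    (hn' : (α' * β' * α'⁻¹ * β'⁻¹ : Λ) = ⟨MulAut.conj (n' : X), n'.2⟩) :
    omT h₁ m σ τ A B z n η₁ * om1 h₂ α' β' n' η₂ = omT h₂ m σ τ A B z n η₂ * om1 h₁ α' β' n' η₁ := by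
  obtain ⟨A₁, _, _, Z₁, c₁, m₁, Ψ₁, s₁, v₁⟩ := e₁
  obtain ⟨A₂, _, _, Z₂, c₂, m₂, Ψ₂, s₂, v₂⟩ := e₂
  have i₁ := (mem_AS.1 k₁).1.1.1
  have i₂ := (mem_AS.1 k₂).1.1.1
  let E : Subgroup (A₁ × A₂) := (c₁.a.comp (MonoidHom.fst A₁ A₂)).eqLocus (c₂.a.comp (MonoidHom.snd A₁ A₂)) ⊓
    Λ.comap (c₁.a.comp (MonoidHom.fst A₁ A₂))
  let f₁ : E →* A₁ := (MonoidHom.fst A₁ A₂).comp E.subtype
  let f₂ : E →* A₂ := (MonoidHom.snd A₁ A₂).comp E.subtype
  let π : E →* Λ := (c₁.a.comp f₁).codRestrict Λ fun u => u.2.2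
  have p₁ : ∀ u, c₁.a (f₁ u) = π u := fun _ => rfl
  have p₂ : ∀ u, c₂.a (f₂ u) = π u := fun u => u.2.1.symm
  have hπ : ∀ γ : Λ, ∃ u, π u = γ := fun γ => by
    obtain ⟨g₁, e₁⟩ := c₁.onto (hΛ γ.2)
    obtain ⟨g₂, e₂⟩ := c₂.onto (hΛ γ.2)
    exact ⟨⟨(g₁, g₂), e₁.trans e₂.symm, show c₁.a g₁ ∈ Λ from e₁ ▸ γ.2⟩, Subtype.ext e₁⟩
  clear_value π f₁ f₂
  choose s hs using hπ
  have hν : ∀ u : E, ∃ t : ℂˣ, ∀ (x : X) (z₁ : Z₁) (z₂ : Z₂), f₁ u = z₁ * c₁.e x → f₂ u = z₂ * c₂.e x →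
      t = m₁ z₁ / m₂ z₂ := fun u => by
    by_cases h : ∃ (x : X) (z₁ : Z₁) (z₂ : Z₂), f₁ u = z₁ * c₁.e x ∧ f₂ u = z₂ * c₂.e x
    · obtain ⟨x, z₁, z₂, a₁, a₂⟩ := h
      refine ⟨m₁ z₁ / m₂ z₂, fun x' z₁' z₂' b₁ b₂ => div_eq_div_iff_mul_eq_mul.2 (Units.ext ?_)⟩
      rw [Units.val_mul, Units.val_mul, shift c₁ k₁ v₁ (a₁.symm.trans b₁), shift c₂ k₂ v₂ (a₂.symm.trans b₂)]
      ring
    · exact ⟨1, fun x z₁ z₂ a₁ a₂ => absurd ⟨x, z₁, z₂, a₁, a₂⟩ h⟩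
  choose ν hν using hν
  let N : Subgroup E := (MulAut.conj : X →* MulAut X).range.comap (Λ.subtype.comp π)
  let K : Subgroup E := R.comap (Λ.subtype.comp π)
  have hN : ∀ {u : E} {x : X}, (π u).1 = MulAut.conj x → ∃ (z₁ : Z₁) (z₂ : Z₂), f₁ u = z₁ * c₁.e x ∧ f₂ u = z₂ * c₂.e x :=
    fun {u x} h => (exists_z c₁ ((p₁ u).trans h)).imp fun _ a₁ => (exists_z c₂ ((p₂ u).trans h)).imp fun _ a₂ => ⟨a₁, a₂⟩
  have hNn : ∀ g : E, ∀ u ∈ N, g * u * g⁻¹ ∈ N := by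
    rintro g u ⟨x, hx⟩
    exact ⟨(π g).1 x, by rw [MK.conj_map, hx, map_mul, map_mul, map_inv]; rfl⟩
  have : K.Normal := ⟨fun u hu g => by
    rw [mem_comap, map_mul, map_mul, map_inv]
    exact r.nrm _ (hΛ (π g).2) _ hu⟩
  obtain ⟨k, hk⟩ := rel_pow (p := p) (M := N) (R := K) (fun g _ u hu _ => hNn g u hu) fun g hg => by
    obtain ⟨k, x, h⟩ := r.pw _ hg
    exact ⟨k, x, by rw [map_pow, h]⟩
  obtain ⟨μ, hμ, hμν⟩ := lin_ext (U := ⊤) (K := K) (N := N) (ν := ν) (Δ := fun _ => 1) (n := Nat.card Z₁ * Nat.card Z₂)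
    (by rintro u ⟨x, hx⟩; exact mem_comap.2 (hx ▸ r.inn x)) le_top (fun g _ => hNn g) ⟨by
      rintro u ⟨x, hx⟩ u' ⟨x', hx'⟩
      obtain ⟨z₁, z₂, a₁, a₂⟩ := hN hx.symm
      obtain ⟨z₁', z₂', b₁, b₂⟩ := hN hx'.symm
      rw [hν u x _ _ a₁ a₂, hν u' x' _ _ b₁ b₂, hν (u * u') (x * x') (z₁ * z₁') (z₂ * z₂')
        (by rw [map_mul, a₁, b₁, mul_z]) (by rw [map_mul, a₂, b₂, mul_z]), map_mul, map_mul, mul_div_mul_comm], by
      rintro g - u ⟨x, hx⟩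
      obtain ⟨z₁, z₂, a₁, a₂⟩ := hN hx.symm
      rw [hν u x _ _ a₁ a₂, hν _ ((π g).1 x) z₁ z₂ (by rw [map_mul, map_mul, map_inv, a₁, conj_z, p₁])
        (by rw [map_mul, map_mul, map_inv, a₂, conj_z, p₂])]⟩
    ⟨fun _ _ _ _ => (mul_one _).symm, fun _ _ _ _ => rfl⟩ (by
      rintro u ⟨x, hx⟩
      obtain ⟨z₁, z₂, a₁, a₂⟩ := hN hx.symm
      rw [hν u x _ _ a₁ a₂, div_pow, ← map_pow, ← map_pow, pow_mul, pow_card_eq_one', one_pow, pow_mul',
        pow_card_eq_one', one_pow, map_one, map_one, div_one])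
    (hk ▸ pow_ne_zero k (Fact.out : p.Prime).ne_zero) (hk ▸ cop_pow (nd_mul' c₁.cop c₂.cop) k)
  have hK : ∀ {u : E} {γ : Λ}, π u = γ → γ.1 ∈ R → u ∈ K := fun e h => mem_comap.2 (show (π _).1 ∈ R from e ▸ h)
  have hc' : s α * s β * (s α)⁻¹ * (s β)⁻¹ ∈ K := hK (by simp only [map_mul, map_inv, hs]) hc
  have q₁ := plaq hμ hc' σ τ (fun i => s (A i)) (fun i => s (B i)) a b
    (fun i => hK (by simp only [map_mul, map_inv, map_zpow, hs]) (hA i))
    (fun i => hK (by simp only [map_mul, map_inv, map_zpow, hs]) (hB i)) hab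
  generalize ∑ j, ((b (σ j)).2 * (a j).1 - (a (τ j)).2 * (b j).1) = J at hα q₁
  have q₂ := plaq (ι := Unit) hμ hc' 1 1 (fun _ => s α') (fun _ => s β') (fun _ => (J, 0)) (fun _ => (0, 1))
    (fun _ => hK (by simp only [map_mul, map_inv, map_zpow, hs, zpow_zero, mul_one]) hα)
    (fun _ => hK (by simp only [map_mul, map_inv, hs, zpow_zero, one_mul, zpow_one]) hβ) fun _ => add_comm _ _
  simp only [Finset.univ_unique, Finset.prod_singleton, Finset.sum_singleton, one_mul, mul_zero, sub_zero] at q₂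
  have w₁ : ∀ i, (π (s (A (τ i)) * s (B i) * (s (B (σ i)) * s (A i))⁻¹)).1 = MulAut.conj (n (σ (τ i)) : X) := fun i => by
    simp only [map_mul, map_inv, hs, hn]
  have w₂ : (π (s α' * s β' * (s β' * s α')⁻¹)).1 = MulAut.conj (n' : X) := by
    simp only [map_mul, map_inv, hs, mul_inv_rev, ← mul_assoc, hn']
  choose z₁ z₂ a₁ a₂ using fun i => hN (w₁ i)
  obtain ⟨y₁, y₂, b₁, b₂⟩ := hN w₂
  rw [Finset.prod_congr rfl fun i _ => (hμν _ ⟨_, (w₁ i).symm⟩).trans (hν _ _ _ _ (a₁ i) (a₂ i)), ← q₂,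
    (hμν _ ⟨_, w₂.symm⟩).trans (hν _ _ _ _ b₁ b₂), Finset.prod_div_distrib, div_eq_div_iff_mul_eq_mul] at q₁
  simp only [map_mul, map_inv] at a₁ a₂ b₁ b₂
  have t₁ := sideT c₁ h₁ i₁ s₁ v₁ m hστ (fun i => (p₁ _).trans (congrArg _ (hs (A i))))
    (fun i => (p₁ _).trans (congrArg _ (hs (B i)))) z n z₁ a₁
  have t₂ := sideT c₂ h₂ i₂ s₂ v₂ m hστ (fun i => (p₂ _).trans (congrArg _ (hs (A i))))
    (fun i => (p₂ _).trans (congrArg _ (hs (B i)))) z n z₂ a₂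
  have u₁ := side1 c₁ h₁ i₁ s₁ v₁ ((p₁ _).trans (congrArg _ (hs α'))) ((p₁ _).trans (congrArg _ (hs β'))) n' y₁ b₁
  have u₂ := side1 c₂ h₂ i₂ s₂ v₂ ((p₂ _).trans (congrArg _ (hs α'))) ((p₂ _).trans (congrArg _ (hs β'))) n' y₂ b₂
  refine mul_left_cancel₀ (Units.ne_zero ((∏ i, m₁ (z₁ i)) * m₂ y₂)) ?_
  conv_rhs => rw [q₁]
  rw [Units.val_mul, Units.val_mul, mul_mul_mul_comm, t₁, u₂, mul_comm (m₁ y₁ : ℂ), mul_mul_mul_comm, t₂, u₁]

end Cfsg.Agent.MO.B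
end

-- part: MO/B/Cov
section
/-!
# MO/B: the group in which an invariant character extends (helper17)

* `cov` : the group `(X ⋊ E) / {(y⁻¹, ε y)}`, `E` the group of intertwining operators with prescribed determinant;
* `good_ih` : the induction hypothesis extends a `p'`-power of the determinant; `exd_of_good`.
-/

set_option autoImplicit false

namespace Cfsg.Agent.MO.B

open Cfsg Subgroup Representation Module
open Cfsg.Agent.MK (Ov Fa Cj In Nm rs Supp)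
open Cfsg.Agent.Characters.Core

namespace Cov

variable {X : Type} [Group X] {Γ Λ : Subgroup (MulAut X)}

/-- the inner automorphisms in `Λ` -/
def cj (Λ : Subgroup (MulAut X)) : In Λ →* Λ := (MulAut.conj.comp (In Λ).subtype).codRestrict Λ fun y => y.2

theorem cj_rs (α : Λ) (y : In Λ) : cj Λ (rs Λ α y) = α * cj Λ y * α⁻¹ := Subtype.ext (MK.conj_map α.1 y)

section amal

variable {E : Type} [Group E] (π : E →* Λ) (ε : In Λ →* E)

/-- the subgroup which identifies `In Λ` with its image in `E` -/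
def dg (h1 : ∀ y, π (ε y) = cj Λ y) : Subgroup (X ⋊[Λ.subtype.comp π] E) where
  carrier := {w | ∃ y : In Λ, w.left = (y : X)⁻¹ ∧ w.right = ε y}
  one_mem' := ⟨1, by simp, by simp⟩
  mul_mem' := by
    rintro v w ⟨y, a1, a2⟩ ⟨y', b1, b2⟩
    refine ⟨y * y', ?_, by simp [a2, b2]⟩
    rw [SemidirectProduct.mul_left, a1, a2, b1, MonoidHom.comp_apply, h1]
    change _ * ((y : X) * _ * (y : X)⁻¹) = ((y : X) * y')⁻¹
    group
  inv_mem' := by
    rintro w ⟨y, a1, a2⟩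
    refine ⟨y⁻¹, ?_, by simp [a2]⟩
    rw [SemidirectProduct.inv_left, a1, a2, ← map_inv, MonoidHom.comp_apply, h1]
    change ((y⁻¹ : In Λ) : X) * _ * ((y⁻¹ : In Λ) : X)⁻¹ = _
    simp

theorem dg_normal (h1 : ∀ y, π (ε y) = cj Λ y) (h2 : ∀ u y, u * ε y * u⁻¹ = ε (rs Λ (π u) y)) : (dg π ε h1).Normal := by
  refine ⟨?_⟩
  rintro w ⟨y, a1, a2⟩ g
  refine ⟨rs Λ (π g.right) y, ?_, by simp only [a2, h2, _root_.SemidirectProduct.mul_right, _root_.SemidirectProduct.inv_right]⟩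
  have k : (Λ.subtype.comp π) (g.right * ε y) ((Λ.subtype.comp π) g.right⁻¹ g.left⁻¹) =
      (π g.right).1 y * g.left⁻¹ * ((π g.right).1 y)⁻¹ := by
    rw [← MulAut.mul_apply, ← map_mul, h2, MonoidHom.comp_apply, h1]
    rfl
  rw [SemidirectProduct.mul_left, SemidirectProduct.mul_left, SemidirectProduct.inv_left, SemidirectProduct.mul_right, a1, a2,
    k, map_inv]
  change g.left * ((π g.right).1 y)⁻¹ * _ = ((π g.right).1 y)⁻¹
  group

/-- **the amalgam** -/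
theorem amal [Finite X] [Finite E] (hi : ∀ x : X, MulAut.conj x ∈ Γ) (h : Supp Γ Λ) (hπ : Function.Surjective π)
    (h1 : ∀ y, π (ε y) = cj Λ y) (h2 : ∀ u y, u * ε y * u⁻¹ = ε (rs Λ (π u) y)) (hε : ∀ y, ε y = 1 → y = 1)
    (hc : π.ker ≤ center E) :
    ∃ (A : Type) (_ : Group A) (_ : Finite A) (e : X →* A) (a : A →* MulAut X) (κ : E ≃* Λ.comap a),
      Function.Injective e ∧ (∀ g x, g * e x * g⁻¹ = e (a g x)) ∧ a.range = Γ ∧ a.ker ≤ center A ∧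
      (∀ u, a (κ u) = π u) ∧ ∀ y : In Λ, (κ (ε y) : A) = e y := by
  have := dg_normal π ε h1 h2
  have : Finite (X ⋊[Λ.subtype.comp π] E) := Finite.of_equiv _ SemidirectProduct.equivProd.symm
  let a0 : X ⋊[Λ.subtype.comp π] E →* MulAut X := SemidirectProduct.lift MulAut.conj (Λ.subtype.comp π) fun g =>
    MonoidHom.ext fun x => MK.conj_map _ x
  have a1 : ∀ w, a0 w = MulAut.conj w.left * (π w.right).1 := fun _ => rfl
  let q := QuotientGroup.mk' (dg π ε h1)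
  let a : _ ⧸ dg π ε h1 →* MulAut X := QuotientGroup.lift _ a0 (by
    rintro w ⟨y, b1, b2⟩
    rw [MonoidHom.mem_ker, a1, b1, b2, h1, map_inv]
    exact inv_mul_cancel _)
  have a2 : ∀ w, a (q w) = MulAut.conj w.left * (π w.right).1 := fun _ => rfl
  let e := q.comp SemidirectProduct.inl
  let k := q.comp SemidirectProduct.inr
  have a3 : ∀ u, a (k u) = π u := fun u => (a2 _).trans (by simp)
  have q1 : ∀ w, q w = e w.left * k w.right := fun w => by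
    conv_lhs => rw [← w.inl_left_mul_inr_right, map_mul]
    rfl
  have k1 : ∀ y : In Λ, k (ε y) = e y := fun y =>
    (QuotientGroup.eq.2 (show _ ∈ dg π ε h1 from ⟨y, by simp only [_root_.SemidirectProduct.mul_left, _root_.SemidirectProduct.inv_left, _root_.SemidirectProduct.right_inl, _root_.inv_one, _root_.MonoidHom.coe_comp, _root_.Subgroup.coe_subtype, _root_.Function.comp_apply, _root_.map_one, _root_.OneMemClass.coe_one, _root_.SemidirectProduct.left_inl, _root_.MulAut.one_apply, _root_.SemidirectProduct.inv_right, _root_.SemidirectProduct.left_inr, _root_.mul_one], by simp⟩)).symm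
  have k2 : Function.Injective k := (injective_iff_map_eq_one _).2 fun u hu => by
    obtain ⟨y, b1, b2⟩ := (QuotientGroup.eq_one_iff _).1 hu
    have b3 : y = 1 := Subtype.ext (inv_eq_one.1 b1.symm)
    rw [b3, map_one] at b2
    exact b2
  have k3 : k.range = Λ.comap a := by
    refine le_antisymm ?_ fun g hg => ?_
    · rintro _ ⟨u, rfl⟩
      rw [mem_comap, a3]
      exact (π u).2
    · obtain ⟨w, rfl⟩ := QuotientGroup.mk'_surjective _ g
      rw [mem_comap, a2, mul_mem_cancel_right (π _).2] at hg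
      exact ⟨ε ⟨w.left, hg⟩ * w.right, by rw [map_mul, k1, q1]⟩
  have ha : ∀ g x, g * e x * g⁻¹ = e (a g x) := fun g x => by
    obtain ⟨w, rfl⟩ := QuotientGroup.mk'_surjective _ g
    change q w * q _ * (q w)⁻¹ = q _
    rw [← map_mul, ← map_inv, ← map_mul, a2]
    congr 1
    conv_lhs => rw [← w.inl_left_mul_inr_right]
    rw [MulAut.mul_apply, MulAut.conj_apply, map_mul, map_mul, map_inv]
    erw [SemidirectProduct.inl_aut]
    rw [map_inv]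
    group
  refine ⟨_, inferInstance, inferInstance, e, a, (MonoidHom.ofInjective k2).trans (MulEquiv.subgroupCongr k3),
    (injective_iff_map_eq_one _).2 fun x hx => ?_, ha, le_antisymm ?_ fun α hα => ?_, fun z hz => ?_, a3, k1⟩
  · obtain ⟨y, b1, b2⟩ := (QuotientGroup.eq_one_iff _).1 hx
    rw [hε y b2.symm] at b1
    exact b1.trans inv_one
  · rintro _ ⟨g, rfl⟩
    obtain ⟨w, rfl⟩ := QuotientGroup.mk'_surjective _ g
    exact mul_mem (hi _) (h.le (π _).2)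
  · obtain ⟨x, β, hβ, rfl⟩ := h.sup α hα
    obtain ⟨u, hu⟩ := hπ ⟨β, hβ⟩
    exact ⟨q ⟨x, u⟩, by rw [a2, hu]⟩
  · have b1 : a z = 1 := hz
    obtain ⟨u, rfl⟩ := k3.ge (show a z ∈ Λ by rw [b1]; exact one_mem _)
    have b2 := mem_center_iff.1 (hc (show π u = 1 from Subtype.ext ((a3 u).symm.trans b1)))
    refine mem_center_iff.2 fun g => ?_
    obtain ⟨w, rfl⟩ := QuotientGroup.mk'_surjective _ g
    have b3 := ha (k u) w.left
    rw [b1, MulAut.one_apply, mul_inv_eq_iff_eq_mul] at b3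
    rw [q1, mul_assoc, ← map_mul, b2, map_mul, ← mul_assoc, ← b3, mul_assoc]

end amal

section itw

variable {n : ℕ} (ρ : Representation ℂ (In Λ) (Fin n → ℂ)) (N : ℕ) (δ : Λ →* ℂˣ)

/-- the intertwining operators with prescribed determinant -/
def itw : Subgroup (Λ × (Module.End ℂ (Fin n → ℂ))ˣ) where
  carrier := {w | (∀ y, w.2 * ρ.asGroupHom y = ρ.asGroupHom (rs Λ w.1 y) * w.2) ∧
    Units.map LinearMap.det w.2 ^ N = δ w.1}
  one_mem' := ⟨by simp only [_root_.Prod.snd_one, _root_.one_mul, _root_.Prod.fst_one, _root_.map_one, _root_.MulAut.one_apply, _root_.mul_one, _root_.implies_true], by simp only [_root_.Prod.snd_one, _root_.map_one, _root_.one_pow, _root_.Prod.fst_one]⟩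
  mul_mem' := fun {v w} hv hw => ⟨fun y => by
    rw [Prod.snd_mul, Prod.fst_mul, map_mul, MulAut.mul_apply, mul_assoc, hw.1, ← mul_assoc, hv.1, mul_assoc],
    by rw [Prod.snd_mul, Prod.fst_mul, map_mul, map_mul, mul_pow, hv.2, hw.2]⟩
  inv_mem' := fun {w} hw => ⟨fun y => by
    rw [Prod.snd_inv, Prod.fst_inv, inv_mul_eq_iff_eq_mul, ← mul_assoc, hw.1, map_inv, MulAut.apply_inv_self,
      mul_inv_cancel_right], by rw [Prod.snd_inv, Prod.fst_inv, map_inv, map_inv, inv_pow, hw.2]⟩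

variable {ρ N δ}

theorem itw_ker (hρ : ρ.IsIrreducible) {u : itw ρ N δ} (hu : u.1.1 = 1) :
    ∃ t : ℂ, (u.1.2 : Module.End ℂ (Fin n → ℂ)) = t • 1 ∧ t ^ (n * N) = 1 := by
  obtain ⟨t, ht⟩ := CharactersDeep.IrrEquiv.exists_commute_scalar ρ hρ u.1.2 fun y => by
    have h := u.2.1 y
    rw [hu, map_one, MulAut.one_apply] at h
    exact congrArg Units.val h
  refine ⟨t, ht, ?_⟩
  have h := congrArg Units.val u.2.2
  rwa [hu, map_one, Units.val_pow_eq_pow_val, Units.coe_map, ht, LinearMap.det_smul, map_one, mul_one, finrank_fin_fun,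
    ← pow_mul] at h

theorem itw_onto [Finite X] (hρ : ρ.IsIrreducible) (hinv : ∀ (α : Λ) y, ρ.character (rs Λ α y) = ρ.character y)
    (h0 : n * N ≠ 0) (α : Λ) : ∃ u : itw ρ N δ, u.1.1 = α := by
  obtain ⟨T, hT⟩ := exists_itw ρ hρ (rs Λ α).toMonoidHom (hinv α)
  obtain ⟨t, ht⟩ := IsAlgClosed.exists_pow_nat_eq ((δ α * (Units.map LinearMap.det T ^ N)⁻¹ : ℂˣ) : ℂ) (Nat.pos_of_ne_zero h0)
  have h1 : t ≠ 0 := fun e => Units.ne_zero _ (ht.symm.trans (by rw [e, zero_pow h0]))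
  let S : (Module.End ℂ (Fin n → ℂ))ˣ := Units.map (algebraMap ℂ _).toMonoidHom (Units.mk0 t h1)
  have h2 : ∀ R, S * R = R * S := fun R => Units.ext (Algebra.commutes t R.1)
  have h3 : Units.map LinearMap.det S = Units.mk0 t h1 ^ n := Units.ext (by
    change LinearMap.det (t • 1) = _
    simp only [_root_.LinearMap.det_smul, _root_.Module.finrank_fintype_fun_eq_card, _root_.Fintype.card_fin, _root_.map_one, _root_.mul_one, _root_.Units.val_pow_eq_pow_val, _root_.Units.val_mk0])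
  refine ⟨⟨(α, S * T), fun y => ?_, ?_⟩, rfl⟩
  · rw [mul_assoc, hT, ← mul_assoc, h2, mul_assoc]
    rfl
  · rw [map_mul, mul_pow, h3, ← pow_mul, ← eq_mul_inv_iff_mul_eq]
    exact Units.ext ht

end itw

theorem cen {G : Type} [Group G] [Finite G] {χ : G → ℂ} (hχ : IsIrrCharacter G χ) {z : G} (hz : z ∈ center G) {c : ℂ}
    (hc : χ z = c * χ 1) : (∀ g, χ (z * g) = c * χ g) ∧ (ODD.Red.dH χ z : ℂ) = c ^ charDegree χ := by
  obtain ⟨c', h1, -, h2⟩ := ODD.Red.exists_central hχ hz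
  have h3 := h1 1
  rw [mul_one, hc] at h3
  rw [mul_right_cancel₀ (isIrr_apply_one_ne_zero hχ) h3]
  exact ⟨h1, h2⟩

theorem faith [Finite X] {p : ℕ} {l : X → ℂ} (hl : Fa (center X) l) {η : In Λ → ℂ} (hη : η ∈ AS p Λ l) (z : In Λ)
    (hz : (z : X) ∈ center X) (h : η z = η 1) : z = 1 := by
  obtain ⟨⟨h1, h2⟩, -⟩ := mem_AS.1 hη
  exact Subtype.ext (hl z hz (mul_eq_right₀ h1.one_ne |>.1 ((h2 z hz).symm.trans h)))

/-- the extension is irreducible and has a central character -/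
theorem ext_irr [Finite X] {A : Type} [Group A] {e : X →* A} {a : A →* MulAut X} (k1 : Function.Injective e)
    (k2 : ∀ g x, g * e x * g⁻¹ = e (a g x)) {η : In Λ → ℂ} (hη : IsIrrCharacter (In Λ) η) {Ψ : Λ.comap a → ℂ}
    (hΨ : IsCharacter _ Ψ) (k3 : ∀ (y : In Λ) (u : Λ.comap a), (u : A) = e y → Ψ u = η y) (Z : Subgroup A) :
    ∃ (j : In Λ →* Λ.comap a) (l : A → ℂ), (∀ y, (j y : A) = e y) ∧ (∀ y, a (j y) = MulAut.conj (y : X)) ∧
      (fun y => Ψ (j y)) = η ∧ IsIrrCharacter _ Ψ ∧ charDegree Ψ = charDegree η ∧ Ov _ Z l Ψ := by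
  classical
  have h1 : ∀ x, a (e x) = MulAut.conj x := fun x => MulEquiv.ext fun y => k1 (by
    rw [← k2, MulAut.conj_apply, map_mul, map_mul, map_inv])
  let j : In Λ →* Λ.comap a := (e.comp (In Λ).subtype).codRestrict _ fun y => show a (e y) ∈ Λ from h1 y ▸ y.2
  have h2 : (fun y => Ψ (j y)) = η := funext fun y => k3 y _ rfl
  have h3 : IsIrrCharacter _ Ψ := by
    obtain ⟨n, ρ, rfl⟩ := hΨ
    exact ⟨n, ρ, CharactersDeep.IrrEquiv.isIrreducible_of_comp ρ j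
      (isIrreducible_of_isIrrCharacter (ρ.comp j) (by rw [← h2] at hη; exact hη)), rfl⟩
  refine ⟨j, fun g => if hg : g ∈ Λ.comap a then Ψ ⟨g, hg⟩ / Ψ 1 else 0, fun _ => rfl, fun y => h1 y, h2, h3,
    ODD.Red.charDegree_congr (k3 1 1 (map_one e).symm), fun u _ => ?_⟩
  simp only [dif_pos u.2]
  exact (div_mul_cancel₀ _ (isIrr_apply_one_ne_zero h3)).symm

end Cov

variable {p : ℕ} [Fact p.Prime] {X : Type} [Group X] [Finite X] {Γ Λ : Subgroup (MulAut X)}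

/-- **the group in which `η` extends** -/
theorem cov (hi : ∀ x : X, MulAut.conj x ∈ Γ) (h : Supp Γ Λ) {η : In Λ → ℂ} (hη : IsIrrCharacter (In Λ) η)
    (hinv : ∀ (α : Λ) y, η (rs Λ α y) = η y) (hf : ∀ z : In Λ, (z : X) ∈ center X → η z = η 1 → z = 1) {N : ℕ}
    (hN : N ≠ 0) (δ : Λ →* ℂˣ) (hδ : ∀ y : In Λ, δ ⟨MulAut.conj (y : X), y.2⟩ = ODD.Red.dH η y ^ N) :
    ∃ (A : Type) (_ : Group A) (_ : Finite A) (e : X →* A) (a : A →* MulAut X), Function.Injective e ∧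
      (∀ g x, g * e x * g⁻¹ = e (a g x)) ∧ a.range = Γ ∧ a.ker ≤ center A ∧
      (∀ z ∈ a.ker, z ^ (charDegree η * N) = 1) ∧ ∃ Ψ : Λ.comap a → ℂ, IsCharacter _ Ψ ∧
        ∀ (y : In Λ) (u : Λ.comap a), (u : A) = e y → Ψ u = η y := by
  have h0 := isIrr_apply_one_ne_zero hη
  obtain ⟨n, ρ, hρ, rfl⟩ := hη
  rw [ODD.Red.charDegree_rep, finrank_fin_fun]
  have h1 : n * N ≠ 0 := mul_ne_zero (fun e => h0 (by simp [e])) hN
  let π : Cov.itw ρ N δ →* Λ := (MonoidHom.fst _ _).comp (Subgroup.subtype _)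
  let ε : In Λ →* Cov.itw ρ N δ := ((Cov.cj Λ).prod ρ.asGroupHom).codRestrict _ fun y => ⟨fun y' => by
    change ρ.asGroupHom y * _ = ρ.asGroupHom (y * y' * y⁻¹) * ρ.asGroupHom y
    rw [← map_mul, ← map_mul, inv_mul_cancel_right],
    (congrArg (· ^ N) (Units.ext (ODD.Red.dH_rep ρ y).symm)).trans (hδ y).symm⟩
  choose t ht using fun u : π.ker => Cov.itw_ker hρ (u := u.1) u.2
  have : Finite {c : ℂ // c ^ (n * N) = 1} := ((Multiset.finite_toSet (Polynomial.nthRoots (n * N) (1 : ℂ))).subset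
    fun c hc => (Polynomial.mem_nthRoots (Nat.pos_of_ne_zero h1)).2 hc).to_subtype
  have : Finite π.ker := Finite.of_injective (fun u => (⟨t u, (ht u).2⟩ : {c : ℂ // c ^ (n * N) = 1})) fun u v e =>
    Subtype.ext (Subtype.ext (Prod.ext (u.2.trans v.2.symm)
      (Units.ext (by rw [(ht u).1, (ht v).1, show t u = t v from congrArg Subtype.val e]))))
  have : Finite (Cov.itw ρ N δ) := (π.finite_iff_finite_ker_range).2 ⟨this, inferInstance⟩
  obtain ⟨A, _, _, e, a, κ, k1, k2, k3, k4, k5, k6⟩ := Cov.amal π ε hi h (Cov.itw_onto hρ hinv h1) (fun _ => rfl)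
    (fun u y => Subtype.ext (Prod.ext (Cov.cj_rs _ _).symm (mul_inv_eq_iff_eq_mul.2 (u.2.1 y))))
    (fun y hy => hf y (H.conj_eq_one.1 (congrArg (fun u : Cov.itw ρ N δ => u.1.1.1) hy))
      (congrArg (LinearMap.trace ℂ _) ((congrArg (fun u : Cov.itw ρ N δ => u.1.2.1) hy).trans (map_one ρ).symm)))
    (fun u hu => mem_center_iff.2 fun v => Subtype.ext (Prod.ext
      (by rw [coe_mul, coe_mul, Prod.fst_mul, Prod.fst_mul, show u.1.1 = 1 from hu, mul_one, one_mul])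
      (Units.ext (by simp only [show u.1.2.1 = _ from (ht ⟨u, hu⟩).1, _root_.Subgroup.coe_mul, _root_.Prod.snd_mul, _root_.Units.val_mul, _root_.Algebra.mul_smul_comm, _root_.mul_one, _root_.Algebra.smul_mul_assoc, _root_.one_mul]))))
  refine ⟨A, inferInstance, inferInstance, e, a, k1, k2, k3, k4, fun z hz => ?_,
    _, ⟨n, (Units.coeHom _).comp ((MonoidHom.snd _ _).comp ((Subgroup.subtype _).comp κ.symm.toMonoidHom)), rfl⟩,
    fun y u hu => ?_⟩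
  · have b1 : a z = 1 := hz
    obtain ⟨u, hu⟩ := κ.surjective ⟨z, show a z ∈ Λ by rw [b1]; exact one_mem _⟩
    have b2 : u ∈ π.ker := Subtype.ext ((k5 u).symm.trans (by rw [hu, b1]; rfl))
    have b3 : u ^ (n * N) = 1 := Subtype.ext (Prod.ext (by simp only [show u.1.1 = 1 from b2, _root_.SubmonoidClass.coe_pow, _root_.Prod.pow_fst, _root_.one_pow, _root_.OneMemClass.coe_one, _root_.Prod.fst_one])
      (Units.ext (by simp [show u.1.2.1 = _ from (ht ⟨u, b2⟩).1, smul_pow, (ht ⟨u, b2⟩).2])))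
    have b4 := congrArg (fun v => (κ v : A)) b3
    simpa only [hu, _root_.map_pow, _root_.SubmonoidClass.coe_pow, _root_.map_one, _root_.OneMemClass.coe_one] using b4
  · rw [show u = κ (ε y) from Subtype.ext (hu.trans (k6 y).symm)]
    exact congrArg (fun v : Cov.itw ρ N δ => LinearMap.trace ℂ _ v.1.2.1) (κ.symm_apply_apply _)

/-- **the induction hypothesis extends a `p'`-power of the determinant** -/
theorem good_ih (s : Sit p X Γ) (ih : IH p (Nat.card Γ + 1)) (Q : Sylow p X) (h : Supp Γ Λ) (hN : Nm Γ Q ≤ Λ)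
    {l : X → ℂ} (hl : Fa (center X) l) {η : In Λ → ℂ} (hη : η ∈ AS p Λ l) : Good p Λ η := by
  obtain ⟨⟨h1, -⟩, h2⟩ := mem_AS.1 hη
  obtain ⟨A, _, _, e, a, k1, k2, k3, k4, -, Ψ, k5, k6⟩ := cov s.inn h h1.1 h2 (Cov.faith hl hη) Nat.card_pos.ne' 1
    fun y => Units.ext (ODD.Red.hom_pow_card _ y).symm
  obtain ⟨j, l', j1, j2, j3, j4, j5, j6⟩ := Cov.ext_irr k1 k2 h1.1 k5 k6 a.ker
  obtain ⟨P, hP⟩ := (Q.2.map e).exists_le_sylow
  have b1 : (P : Subgroup A).comap e = Q := Q.3 (P.2.comap_of_injective e k1) (map_le_iff_le_comap.1 hP)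
  have b2 : a.ker ≤ Λ.comap a := fun z hz => show a z ∈ Λ from hz ▸ one_mem _
  have b3 := ih.sub (K := ⊤) (P := P) b2 le_top (fun z hz g _ => mem_center_iff.1 (k4 hz) g)
    (by rw [relIndex_top_right, index_ker, k3]; exact Nat.lt_succ_self _) le_top P.2
    (by rw [relIndex_top_right]; exact P.not_dvd_index)
    (fun g hg => hN ⟨k3.le ⟨g, rfl⟩, fun x => by
      rw [← b1, mem_comap, mem_comap, ← k2]
      exact (mem_normalizer_iff.1 hg.2 _).symm⟩) l'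
  have b4 : kk p (Λ.comap a) a.ker l' ≠ 0 := by
    rw [← card_PS]
    exact Finset.card_ne_zero.2 ⟨Ψ, mem_PS.2 ⟨⟨j4, j5 ▸ h1.2⟩, j6⟩⟩
  rw [← b3, kk_top] at b4
  obtain ⟨χ, c1, c2⟩ := (Nat.card_ne_zero.1 b4).1
  let μ : Λ.comap a →* ℂˣ := ODD.Red.dH Ψ ^ charDegree χ * ((ODD.Red.dH χ).comp (Subgroup.subtype _) ^ charDegree η)⁻¹
  let b : Λ.comap a →* Λ := a.subgroupComap Λ
  have b5 : Function.Surjective b := fun α => by
    obtain ⟨g, hg⟩ := k3.ge (h.le α.2)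
    exact ⟨⟨g, show a g ∈ Λ from hg ▸ α.2⟩, Subtype.ext hg⟩
  have b6 : b.ker ≤ μ.ker := fun z hz => by
    have d1 : z.1 ∈ a.ker := congrArg Subtype.val hz
    have d2 := (Cov.cen j4 (mem_center_iff.2 fun g => Subtype.ext (mem_center_iff.1 (k4 d1) g)) (j6 z d1)).2
    have d3 := (Cov.cen c1.1 (k4 d1) (c2 _ d1)).2
    refine mul_inv_eq_one.2 (Units.ext ?_)
    change (ODD.Red.dH Ψ z : ℂ) ^ _ = (ODD.Red.dH χ z : ℂ) ^ _
    rw [d2, d3, j5, ← pow_mul, ← pow_mul, mul_comm]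
  refine ⟨charDegree χ, c1.2, b.liftOfSurjective b5 ⟨μ, b6⟩, fun y => ?_⟩
  have := s.qs.1
  have d1 : ODD.Red.dH χ (j y) = 1 := by
    rw [j1]
    exact Abelianization.commutator_subset_ker ((ODD.Red.dH χ).comp e) Group.IsPerfect.mem_commutator
  rw [show (⟨MulAut.conj (y : X), y.2⟩ : Λ) = b (j y) from Subtype.ext (j2 y).symm, ← j3, ODD.Red.dH_comp j k5]
  refine (b.liftOfRightInverse_comp_apply _ _ _ _).trans ?_
  change ODD.Red.dH Ψ (j y) ^ _ * (ODD.Red.dH χ (j y) ^ _)⁻¹ = _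
  rw [d1, one_pow, inv_one, mul_one]

theorem exd_of_good (s : Sit p X Γ) (h : Supp Γ Λ) {l : X → ℂ} (hl : Fa (center X) l) {η : In Λ → ℂ}
    (hη : η ∈ AS p Λ l) (hg : Good p Λ η) : Exd p Γ Λ η := by
  obtain ⟨⟨h1, -⟩, h2⟩ := mem_AS.1 hη
  obtain ⟨N, hN, δ, hδ⟩ := hg
  obtain ⟨A, _, _, e, a, k1, k2, k3, k4, k0, Ψ, k5, k6⟩ := cov s.inn h h1.1 h2 (Cov.faith hl hη)
    (fun e : N = 0 => hN (e ▸ dvd_zero p)) δ hδ
  obtain ⟨j, l', j1, -, j3, j4, -, j6⟩ := Cov.ext_irr k1 k2 h1.1 k5 k6 a.ker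
  have b2 : a.ker ≤ Λ.comap a := fun z hz => show a z ∈ Λ from hz ▸ one_mem _
  obtain ⟨m, hm⟩ := MK.exists_hom b2 (fun z hz g _ => mem_center_iff.1 (k4 hz) g) j4 j6
  refine ⟨A, inferInstance, inferInstance, a.ker, ⟨e, a, k1, k2, k3, rfl, k4, fun hp => ?_⟩, m, Ψ, k5, fun z y u hu => ?_⟩
  · obtain ⟨z, hz⟩ := exists_prime_orderOf_dvd_card' p hp
    exact nd_mul' h1.2 hN (hz ▸ orderOf_dvd_of_pow_eq_one (Subtype.ext (k0 z z.2)))
  · rw [show u = inclusion b2 z * j y from Subtype.ext (hu.trans (congrArg _ (j1 y).symm)), ← hm, ← j3]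
    exact (Cov.cen j4 (mem_center_iff.2 fun g => Subtype.ext (mem_center_iff.1 (k4 z.2) g)) (j6 _ z.2)).1 _

end Cfsg.Agent.MO.B
end

-- part: MO/B/Psd
section
/-!
# MO/B: the traces in one component agree (helper76)

* `SS_omT` : the trace of a generating pair in terms of the components;
* `psd` : if the McKay equality holds for all central extensions of `Γ`, then the traces of a generating pair agree.
-/

set_option autoImplicit false
set_option maxHeartbeats 400000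
set_option linter.unusedSectionVars false

namespace Cfsg.Agent.MO.B

open Cfsg Subgroup
open Cfsg.Agent.Characters.Core Cfsg.Agent.H672 Cfsg.Agent.MO.H Cfsg.Agent.MO.C
open Cfsg.Agent.MK (Ov Fa Cj In Nm rs Supp)
open Cfsg.Agent.MK.C (Th Th_irr)
open scoped ComplexConjugate

variable {p : ℕ} [Fact p.Prime] {G : Type} [Group G] [Finite G]

theorem le_gen {R U : Subgroup G} [R.Normal] {x y : G} (hg : R ⊔ _root_.Subgroup.closure {x, y} = ⊤) (hx : x ∈ U) (hy : y ∈ U) :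
    U ≤ R ⊓ U ⊔ closure {x, y} := fun u hu => by
  obtain ⟨r, hr, w, hw, rfl⟩ := mem_sup_of_normal_left.1 (hg.ge (mem_top u))
  exact mul_mem_sup ⟨hr, (mul_mem_cancel_right ((closure_le U).2 (Set.pair_subset hx hy) hw)).1 hu⟩ hw

theorem St0.gen {Z R H : Subgroup G} (s : St0 p Z R H) {x y : G} (h : R ⊓ H ⊔ _root_.Subgroup.closure {x, y} = H) :
    R ⊔ closure {x, y} = ⊤ := eq_top_iff.2 fun g _ => by
  obtain ⟨r, hr, u, hu, rfl⟩ := s.sup g
  exact mul_mem (mem_sup_left hr) ((h.ge.trans (sup_le_sup_right inf_le_left _)) hu)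

variable {X : Type} [Group X] [Finite X] {Γ Λ Λ' R' : Subgroup (MulAut X)} {Z R : Subgroup G} {ι : Type} [Fintype ι]

theorem st0 (s : Sit p X Γ) (c : Conf p Γ G Z ι) [hR : R.Normal] (hMR : LL c ≤ R) (hi : ¬ p ∣ R.index) (Q : Sylow p X)
    (h : Supp Γ Λ) (hN : Nm Γ Q ≤ Λ) : St0 p Z R (c.hat Λ) := by
  refine ⟨c.cen, c.ih, hR, le_sup_left.trans hMR, hi, fun g => ?_, ?_⟩
  · obtain ⟨w, u, hu, e⟩ := decomp c h g
    exact ⟨_, hMR ((mem_LL c).2 ⟨1, one_mem _, w, (one_mul _).symm⟩), u, hu, e⟩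
  · have h1 : In Γ = ⊤ := eq_top_iff.2 fun x _ => s.inn x
    obtain ⟨P₀, -, h4, h5, h6⟩ := exists_P c s (Λ := Γ) (Q := Q) (h1 ▸ le_top) Q.2 (by
      rw [h1, relIndex_top_right]
      exact Q.not_dvd_index)
    rw [hat_top, relIndex_top_right] at h5
    rw [hat_top, inf_top_eq] at h6
    exact ⟨h4.toSylow h5, h6.trans (hat_mono _ hN)⟩

/-- **the trace of a generating pair** -/
theorem SS_omT (c : Conf p Γ G Z ι) (hX : ∃ x y : X, x * y ≠ y * x) [hR : R.Normal] (hMR : LL c ≤ R)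
    (hp : ∀ g ∈ R, ∃ k : ℕ, g ^ p ^ k ∈ LL c) (h : Supp Γ Λ') (hΛ : Λ ≤ Λ') {l : G → ℂ} {m : Z →* ℂˣ}
    (hm : ∀ z : Z, l z = m z) (i₀ : ι) (hg : ∀ η ∈ AS p Λ' fun x => l (c.e i₀ x), Good p Λ' η) {x y : G}
    (hx : x ∈ c.hat Λ) (hy : y ∈ c.hat Λ) (hgen : R ⊔ _root_.Subgroup.closure {x, y} = ⊤) (z : Z) (n : ι → In Λ)
    (hn : x * y * x⁻¹ * y⁻¹ = z * pr c fun i => n i) :
    SS p (R ⊓ c.hat Λ') Z l x y = ww (LL c) R * ∑ η ∈ AS p Λ' fun x => l (c.e i₀ x),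
      omT hΛ m (c.π x) (c.π y) (fun i => ⟨c.a x i, hx i⟩) (fun i => ⟨c.a y i, hy i⟩) z n η := by
  have hx' := hat_mono c hΛ hx
  have hy' := hat_mono c hΛ hy
  have h1 : c.hat Λ' ≤ normalizer ((R ⊓ c.hat Λ' : Subgroup G) : Set G) := fun g hg => mem_normalizer_iff.2 fun x =>
    and_congr ⟨fun e => hR.conj_mem x e g, fun e => by simpa [mul_assoc] using hR.conj_mem _ e g⁻¹⟩
      (mem_normalizer_iff.1 (le_normalizer hg) x)
  have h2 : (sV Λ' c hX hMR).q (z, fun i => inI hΛ (n i)) = x * y * x⁻¹ * y⁻¹ := hn.symm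
  rw [SS_gen (le_gen hgen hx' hy') hx' hy' h1 (h2 ▸ ((sV Λ' c hX hMR).f (z, fun i => inI hΛ (n i))).2)]
  refine b3 c hX hMR hp h hm i₀ hg _ _ fun ξ hξ η hη e => ?_
  obtain ⟨⟨k1, -⟩, k2⟩ := mem_IS.1 hξ
  rw [om_res k1.1 (α := cj _ (h1 hx')) (β := cj _ (h1 hy')) (fun u => k2 x hx' _ _ rfl) (fun u => k2 y hy' _ _ rfl) (MulEquiv.ext fun u => Subtype.ext (by
      simp only [mul_assoc, _root_.MulAut.mul_apply, _root_.MulAut.inv_apply, _root_.Subgroup.normalizerMonoidHom_apply_apply_coe, _root_.Subgroup.normalizerMonoidHom_apply_symm_apply_coe, _root_.MulAut.conj_apply, _root_.Subgroup.coe_mul, _root_.InvMemClass.coe_inv, _root_.mul_inv_rev, _root_.inv_inv])) (sV Λ' c hX hMR).f (funext e ▸ Th_irr m fun _ => (mem_AS.1 hη).1.1.1)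
    (α' := (sB Λ' c hX).φ ⟨x, hx'⟩) (β' := (sB Λ' c hX).φ ⟨y, hy'⟩)
    (fun d => Subtype.ext (congrArg Subtype.val ((sB Λ' c hX).nr ⟨x, hx'⟩ d) :))
    (fun d => Subtype.ext (congrArg Subtype.val ((sB Λ' c hX).nr ⟨y, hy'⟩ d) :)) (n := (z, fun i => inI hΛ (n i))) (c := 1)
    (fun d => by rw [one_mul, map_mul]; exact congrArg (fun v => ξ (v * _)) (Subtype.ext h2.symm)), one_mul, funext e]
  rfl

theorem omT_unit (hΛ : Λ ≤ Λ') {Z : Type} [Group Z] [Finite Z] (m : Z →* ℂˣ) {l : X → ℂ} {η : In Λ' → ℂ}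
    (hη : η ∈ AS p Λ' l) {α β : Λ} {n : In Λ} (hn : (α * β * α⁻¹ * β⁻¹ : Λ) = ⟨MulAut.conj (n : X), n.2⟩) (z : Z) :
    omT hΛ m 1 1 (fun _ : Unit => α) (fun _ => β) z (fun _ => n) η = m z * om1 hΛ α β n η := by
  obtain ⟨⟨h1, -⟩, h2⟩ := mem_AS.1 hη
  obtain ⟨W, _, Ψ, j, a, b, s, k1, k2, k3, k4, k5⟩ := exists_wit h1.1 (h2 (inclusion hΛ α)) (h2 (inclusion hΛ β))
    (m := inI hΛ n) (by
      rw [← map_inv, ← map_inv, ← map_mul, ← map_mul, ← map_mul, ← map_inv, ← map_inv, ← map_mul, ← map_mul, ← map_mul, hn]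
      rfl)
  have e1 : s * om1 hΛ α β n η = 1 := om_wit k1 h1.1 k2 k3 k4 (s := s) fun d => by rw [k5, ← map_mul, k2]
  have e2 := om_ten m h1.1 k1 j k2 (σ := 1) (τ := 1) (fun _ : Unit => rfl) (fun _ => a) (fun _ => b) _ _ (fun _ => k3)
    (fun _ => k4) (fun _ => inI hΛ n) (fun _ => s) (fun _ y => by rw [mul_inv_rev, ← mul_assoc, k5, ← map_mul, k2]) z
  rw [Fintype.prod_unique] at e2
  refine mul_left_cancel₀ (left_ne_zero_of_mul_eq_one e1) (e2.trans ?_)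
  rw [mul_left_comm, e1, mul_one]

theorem AS_congr {l l' : X → ℂ} (h : ∀ z ∈ center X, l z = l' z) : AS p Λ l = AS p Λ l' :=
  Finset.ext fun _ => mem_AS.trans (Iff.trans (and_congr_left' (and_congr_right' (forall_congr' fun z =>
    forall_congr' fun hz => by rw [h z hz]))) mem_AS.symm)

variable (p) in
/-- the difference of the traces -/
noncomputable def DD (h : Λ ≤ Γ) (l : X → ℂ) (t : Λ × Λ × In Λ) : ℂ :=
  ∑ η ∈ AS p Γ l, om1 h t.1 t.2.1 t.2.2 η - ∑ η ∈ AS p Λ l, om1 le_rfl t.1 t.2.1 t.2.2 η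

variable (Γ R') in
/-- generating pairs -/
def GP (q : Λ × Λ) : Prop := (q.1 * q.2 * q.1⁻¹ * q.2⁻¹ : Λ).1 ∈ R' ∧ Γ ≤ R' ⊔ _root_.Subgroup.closure {q.1.1, q.2.1}

open Classical in
theorem psd1 [Fintype Λ] (s : Sit p X Γ) (ih : IH p (Nat.card Γ + 1)) (r : Cl p Γ R') (Q : Sylow p X) (h : Supp Γ Λ)
    (hN : Nm Γ Q ≤ Λ) {l : X → ℂ} (hl : Fa (center X) l) (ch : Λ × Λ → Λ × Λ × In Λ)
    (hch : ∀ q, GP Γ R' q → ((ch q).1 * q.1⁻¹ : Λ).1 ∈ R' ∧ ((ch q).2.1 * q.2⁻¹ : Λ).1 ∈ R' ∧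
      ((ch q).1 * (ch q).2.1 * (ch q).1⁻¹ * (ch q).2.1⁻¹ : Λ) = ⟨MulAut.conj ((ch q).2.2 : X), (ch q).2.2.2⟩)
    (hΛ : Λ ≤ Λ') {η : In Λ' → ℂ} (hη : η ∈ AS p Λ' l) (he : Exd p Γ Λ' η) :
    ∑ q with GP Γ R' q, conj (om1 hΛ (ch q).1 (ch q).2.1 (ch q).2.2 η) * DD p h.le l (ch q) = 0 := by
  obtain ⟨A, _, _, Z, c, m, Ψ, hΨ, hv⟩ := he
  have := Fintype.ofFinite A
  have hX := noncomm s
  have hG : Supp Γ Γ := ⟨le_rfl, fun α hα => ⟨1, α, hα, by simp⟩⟩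
  have hR : (R'.comap c.a).Normal := ⟨fun g hg b => by
    rw [mem_comap, map_mul, map_mul, map_inv]
    exact r.nrm _ (c.mem b) _ hg⟩
  have hMR : LL (c.conf s) ≤ R'.comap c.a := sup_le (fun z hz => by rw [mem_comap, c.mem_Z.1 hz]; exact one_mem _)
    (iSup_le fun _ => by
      rintro _ ⟨x, rfl⟩
      exact mem_comap.2 ((congrArg (· ∈ R') (c.a_e x)).mpr (r.inn x)))
  have hp : ∀ g ∈ R'.comap c.a, ∃ k : ℕ, g ^ p ^ k ∈ LL (c.conf s) := fun g hg => by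
    obtain ⟨k, x, e⟩ := r.pw _ hg
    exact ⟨k, mem_LL_of _ rfl fun _ => ⟨x, (map_pow c.a g _).trans e⟩⟩
  have t := st0 s (c.conf s) hMR (by rw [c.index_comap]; exact r.ind) Q h hN
  have hm : ∀ z : Z, extendByZero Z (lf m) z = m z := fun z => extendByZero_of_mem Z _ z.2
  have e0 : ∀ Λ : Subgroup (MulAut X), AS p Λ (fun x => extendByZero Z (lf m) ((c.conf s).e () x)) = AS p Λ l := fun _ =>
    AS_congr fun z hz => by
      have e1 := Ten.shift c hη hv (z := 1) (z' := ⟨_, e_mem_Z (c.conf s) hz ()⟩) (x := z) (x' := 1) (by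
        rw [map_one, mul_one]
        exact one_mul _)
      rw [map_one, Units.val_one, one_mul, inv_one, mul_one] at e1
      exact (hm ⟨_, e_mem_Z (c.conf s) hz ()⟩).trans e1
  -- the equality for `A`
  have e1 := kk_sub t (extendByZero Z (lf m))
  obtain ⟨P, hP⟩ := t.syl
  have e2 : (P : Subgroup A) ≤ (c.conf s).hat Λ := le_normalizer.trans hP
  rw [ih A Z c.cen (c.index_Z ▸ Nat.lt_succ_self _) _ P, ih_sub ih c.cen (Nat.lt_succ_of_le (c.index_Z ▸ Nat.le_of_dvd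
    (Nat.pos_of_ne_zero index_ne_zero_of_finite) (relIndex_dvd_index_of_le t.leH))) e2 P.2
    (nd_of_dvd P.not_dvd_index (relIndex_dvd_index_of_le e2)), inf_eq_left.2 hP, sub_self, mul_zero, mul_eq_zero,
    or_iff_right (Nat.cast_ne_zero.2 index_ne_zero_of_finite), Finset.sum_filter] at e1
  let a' : (c.conf s).hat Λ →* Λ := (c.a.comp (Subgroup.subtype _)).codRestrict Λ fun u => u.2 ()
  have ha' : Function.Surjective a' := fun α => (c.onto (h.le α.2)).elim fun g e =>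
    ⟨⟨g, fun _ => (congrArg (· ∈ Λ) e).mpr α.2⟩, Subtype.ext e⟩
  let g : Λ × Λ → ℂ := fun q =>
    if GP Γ R' q then conj (om1 hΛ (ch q).1 (ch q).2.1 (ch q).2.2 η) * DD p h.le l (ch q) else 0
  rw [← Fintype.sum_of_injective (fun q : (c.conf s).hat Λ × (c.conf s).hat Λ => ((q.1 : A), (q.2 : A)))
    (Subtype.val_injective.prodMap Subtype.val_injective) (fun q => ww (LL (c.conf s)) (R'.comap c.a) * g (a'.prodMap a' q)) _ (fun q hq => if_neg fun e => hq ?_) fun ⟨x, y⟩ => ?_, ← Finset.mul_sum,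
    H829.GowDesc.sum_comp_surj (a'.prodMap a') (ha'.prodMap ha') g, mul_eq_zero, or_iff_right (Nat.cast_ne_zero.2 ww_ne), mul_eq_zero,
    or_iff_right card_ne_zero_complex] at e1
  · rwa [Finset.sum_filter]
  · have e3 := (closure_le _).1 (le_sup_right.trans e.le)
    exact ⟨(⟨q.1, e3 (by simp)⟩, ⟨q.2, e3 (by simp)⟩), rfl⟩
  have k1 : (R'.comap c.a ⊔ _root_.Subgroup.closure {x.1, y.1}).map c.a = R' ⊔ _root_.Subgroup.closure {c.a x, c.a y} := by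
    rw [Subgroup.map_sup, map_comap_eq_self (r.le.trans c.rng.ge), MonoidHom.map_closure, Set.image_pair]
  change _ * g (a' x, a' y) = if _ then SS _ _ _ _ x.1 y.1 - SS _ _ _ _ x.1 y.1 else 0
  simp only [g]
  by_cases k2 : GP Γ R' (a' x, a' y)
  swap
  · rw [if_neg k2, mul_zero]
    split_ifs with k3
    · have k4 : x.1 * y * x.1⁻¹ * y.1⁻¹ ∉ R'.comap c.a := fun e => k2 ⟨by
        rw [← map_inv, ← map_inv, ← map_mul, ← map_mul, ← map_mul]
        exact e, by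
        refine le_trans ?_ k1.le
        rw [t.gen k3, ← MonoidHom.range_eq_map, c.rng]⟩
      rw [SS_zero (t.nR x.2) (t.nR y.2) k4, SS_zero (t.nH x.2) (t.nH y.2) fun e => k4 e.1, sub_zero]
    · rfl
  have k3 : R'.comap c.a ⊔ _root_.Subgroup.closure {x.1, y.1} = ⊤ := eq_top_iff.2 fun g _ => by
    have e : g ∈ ((R'.comap c.a ⊔ closure {x.1, y.1}).map c.a).comap c.a := k1.ge (k2.2 (c.mem g))
    rwa [comap_map_eq, sup_eq_left.2 (c.ker.le.trans (t.le.trans le_sup_left))] at e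
  obtain ⟨k4, k5, k6⟩ := hch _ k2
  obtain ⟨x', hx'⟩ := ha' (ch (a' x, a' y)).1
  obtain ⟨y', hy'⟩ := ha' (ch (a' x, a' y)).2.1
  have k7 : x'.1 * x.1⁻¹ ∈ R'.comap c.a := by
    rw [← hx', ← map_inv, ← map_mul] at k4
    exact k4
  have k8 : y'.1 * y.1⁻¹ ∈ R'.comap c.a := by
    rw [← hy', ← map_inv, ← map_mul] at k5
    exact k5
  have k9 : R'.comap c.a ⊔ closure {x'.1, y'.1} = ⊤ := eq_top_iff.2 (k3.ge.trans (sup_le le_sup_left ((closure_le _).2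
    (Set.pair_subset (by simpa only [_root_.SetLike.mem_coe, _root_.mul_inv_rev, _root_.inv_inv, _root_.inv_mul_cancel_right] using mul_mem_sup (inv_mem k7) (subset_closure (k := {x'.1, y'.1}) (Or.inl rfl)))
      (by simpa only [_root_.SetLike.mem_coe, _root_.mul_inv_rev, _root_.inv_inv, _root_.inv_mul_cancel_right] using mul_mem_sup (inv_mem k8) (subset_closure (k := {x'.1, y'.1}) (Or.inr rfl)))))))
  obtain ⟨z, hz⟩ := Ten.exists_z c (g := x'.1 * y' * x'.1⁻¹ * y'.1⁻¹) (x := (ch (a' x, a' y)).2.2) (by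
    have e := k6
    rw [← hx', ← hy', ← map_inv, ← map_inv, ← map_mul, ← map_mul, ← map_mul] at e
    exact congrArg Subtype.val e)
  have e4 : ∀ {Λ₁ : Subgroup (MulAut X)} (h₁ : Λ ≤ Λ₁), Supp Γ Λ₁ →
      SS p (R'.comap c.a ⊓ (c.conf s).hat Λ₁) Z (extendByZero Z (lf m)) x y = ww (LL (c.conf s)) (R'.comap c.a) *
        (m z * ∑ η ∈ AS p Λ₁ l, om1 h₁ (ch (a' x, a' y)).1 (ch (a' x, a' y)).2.1 (ch (a' x, a' y)).2.2 η) :=
    fun {Λ₁} h₁ hs => by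
      rw [← SS_left _ _ (u := x'.1 * x.1⁻¹) (mem_inf.2 ⟨k7, hat_mono _ h₁ (x' * x⁻¹).2⟩),
        ← SS_right _ _ (u := y'.1 * y.1⁻¹) (mem_inf.2 ⟨k8, hat_mono _ h₁ (y' * y⁻¹).2⟩), inv_mul_cancel_right, inv_mul_cancel_right,
        SS_omT (c.conf s) hX hMR hp hs h₁ hm () (fun η hη => good_ih s ih Q hs (hN.trans h₁) hl (e0 Λ₁ ▸ hη)) x'.2 y'.2 k9 z
          (fun _ => (ch (a' x, a' y)).2.2) (hz.trans (congrArg _ (pr_single (c.conf s) () _).symm)), e0, Finset.mul_sum _ _ (m z : ℂ)]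
      refine congrArg _ (Finset.sum_congr rfl fun η hη => Eq.trans ?_ (omT_unit h₁ m hη k6 z))
      rw [← hx', ← hy']
      rfl
  have e5 := e4 h.le hG
  rw [hat_top, inf_top_eq] at e5
  have e6 := Ten.side1 c hΛ (mem_AS.1 hη).1.1.1 hΨ hv (congrArg Subtype.val hx') (congrArg Subtype.val hy') _ z
    (by rw [mul_inv_rev, ← mul_assoc]; exact hz)
  rw [if_pos k2, if_pos (le_antisymm (sup_le inf_le_right ((closure_le _).2 (Set.pair_subset x.2 y.2))) (le_gen k3 x.2 y.2)),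
    e5, e4 le_rfl h, ← mul_sub, ← mul_sub, eq_inv_of_mul_eq_one_right e6, ← Units.val_inv_eq_inv_val, ← map_inv,
    ← lf_apply, isCharacter_apply_inv (isCharacter_lf m), Complex.conj_conj]
  rfl

/-- **the traces of a generating pair agree** -/
theorem psd (s : Sit p X Γ) (ih : IH p (Nat.card Γ + 1)) (r : Cl p Γ R') (Q : Sylow p X) (h : Supp Γ Λ)
    (hN : Nm Γ Q ≤ Λ) {l : X → ℂ} (hl : Fa (center X) l) {α β : Λ} {n : In Λ}
    (hn : (α * β * α⁻¹ * β⁻¹ : Λ) = ⟨MulAut.conj (n : X), n.2⟩) (hg : Λ ≤ R' ⊔ _root_.Subgroup.closure {α.1, β.1}) :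
    ∑ η ∈ AS p Γ l, om1 h.le α β n η = ∑ η ∈ AS p Λ l, om1 le_rfl α β n η := by
  classical
  have := Fintype.ofFinite Λ
  have hG : Supp Γ Γ := ⟨le_rfl, fun α hα => ⟨1, α, hα, by simp⟩⟩
  have hM : ((Cj (⊤ : Subgroup X)).subgroupOf Λ).Normal := ⟨by
    rintro a ⟨x, -, e⟩ b
    exact ⟨b.1 x, trivial, (MK.conj_map b.1 x).trans (congrArg (fun γ => b.1 * γ * b.1⁻¹) e)⟩⟩
  have hR : (R'.subgroupOf Λ).Normal := ⟨fun a ha b => r.nrm _ (h.le b.2) _ ha⟩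
  have h1 : ∀ q : Λ × Λ, ∃ t : Λ × Λ × In Λ, (GP Γ R' q → (t.1 * q.1⁻¹ : Λ).1 ∈ R' ∧ (t.2.1 * q.2⁻¹ : Λ).1 ∈ R' ∧
      (t.1 * t.2.1 * t.1⁻¹ * t.2.1⁻¹ : Λ) = ⟨MulAut.conj (t.2.2 : X), t.2.2.2⟩) ∧ (q = (α, β) → t = (α, β, n)) := fun q => by
    by_cases e : q = (α, β)
    · exact ⟨(α, β, n), fun _ => ⟨by simp [e, one_mem], by simp [e, one_mem], hn⟩, fun _ => rfl⟩
    by_cases k : GP Γ R' q
    · obtain ⟨u, hu, v, hv, x, -, ex⟩ := exists_reps (p := p) (M := (Cj ⊤).subgroupOf Λ) (R := R'.subgroupOf Λ)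
        (fun a ⟨x, _, e⟩ => mem_subgroupOf.2 ((congrArg (· ∈ R') e).mp (r.inn x)))
        (fun g hg => (r.pw _ hg).imp fun k ⟨x, e⟩ => ⟨x, trivial, e.symm⟩)
        (nd_of_dvd r.ind (by
          have : (R'.subgroupOf Γ).Normal := ⟨fun a ha b => r.nrm _ b.2 _ ha⟩
          rw [← relIndex, ← relIndex_subgroupOf h.le]
          exact relIndex_dvd_index_of_normal _ _)) (x := q.1) (y := q.2) k.1
      exact ⟨(u * q.1, v * q.2, ⟨x, (congrArg (· ∈ Λ) ex).mpr (u * q.1 * (v * q.2) * (u * q.1)⁻¹ * (v * q.2)⁻¹).2⟩), fun _ =>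
        ⟨by rwa [mul_inv_cancel_right], by rwa [mul_inv_cancel_right], Subtype.ext ex.symm⟩, fun e' => absurd e' e⟩
    · exact ⟨(1, 1, 1), fun k' => absurd k' k, fun e' => absurd e' e⟩
  choose ch hch hch' using h1
  have h2 : ∑ q with GP Γ R' q, conj (DD p h.le l (ch q)) * DD p h.le l (ch q) = 0 := by
    have e : ∀ t, conj (DD p h.le l t) * DD p h.le l t =
        ∑ η ∈ AS p Γ l, conj (om1 h.le t.1 t.2.1 t.2.2 η) * DD p h.le l t -
          ∑ η ∈ AS p Λ l, conj (om1 le_rfl t.1 t.2.1 t.2.2 η) * DD p h.le l t := fun t => by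
      rw [← Finset.sum_mul, ← Finset.sum_mul, ← sub_mul, ← map_sum, ← map_sum, ← map_sub]
      rfl
    simp only [e, Finset.sum_sub_distrib]
    rw [Finset.sum_comm, Finset.sum_eq_zero fun η hη => psd1 s ih r Q h hN hl ch hch h.le hη
      (exd_of_good s hG hl hη (good_ih s ih Q hG (hN.trans h.le) hl hη)), Finset.sum_comm,
      Finset.sum_eq_zero fun η hη => psd1 s ih r Q h hN hl ch hch le_rfl hη
        (exd_of_good s h hl hη (good_ih s ih Q h hN hl hη)), sub_zero]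
  simp only [← Complex.normSq_eq_conj_mul_self, ← Complex.ofReal_sum, Complex.ofReal_eq_zero] at h2
  have h3 := (Finset.sum_eq_zero_iff_of_nonneg fun q _ => Complex.normSq_nonneg _).1 h2 (α, β)
    (Finset.mem_filter.2 ⟨Finset.mem_univ _, (congrArg (fun γ : Λ => γ.1 ∈ R') hn).mpr (r.inn _), fun γ hγ => by
      obtain ⟨x, δ, hδ, rfl⟩ := h.sup γ hγ
      exact mul_mem (mem_sup_left (r.inn x)) (hg hδ)⟩)
  rw [hch' _ rfl, Complex.normSq_eq_zero] at h3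
  exact sub_eq_zero.1 h3

end Cfsg.Agent.MO.B
end

-- part: MO/B/One
section
/-!
# MO/B: one component, the induction hypothesis for several components (helper54)

`crit_one`, `ih_succ`, `nm_ne`.
-/

set_option autoImplicit false
set_option linter.unusedSectionVars false

namespace Cfsg.Agent.MO.B

open Cfsg Subgroup
open Cfsg.Agent.MK (Ov Fa Cj In Nm rs Supp)

variable {p : ℕ} [Fact p.Prime] {X : Type} [Group X] [Finite X] {Γ : Subgroup (MulAut X)} {G : Type} [Group G] [Finite G]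
  {Z R : Subgroup G} {ι : Type} [Fintype ι]

theorem crit_one (hA : AllOne p) (s : Sit p X Γ) (c : Conf p Γ G Z ι) [Subsingleton ι] [R.Normal] (hMR : H.LL c ≤ R)
    (hp : ∀ g ∈ R, ∃ k : ℕ, g ^ p ^ k ∈ H.LL c) (hi : ¬ p ∣ R.index) {x y : G} (hxy : x * y * x⁻¹ * y⁻¹ ∈ R)
    (hg : R ⊔ _root_.Subgroup.closure {x, y} = ⊤) {l : G → ℂ} (hl : Fa Z l) (P : Sylow p G) :
    kk p ⊤ Z l = kk p (normalizer ((P : Subgroup G) : Set G)) Z l := by
  obtain ⟨i⟩ := c.ne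
  let a : G →* MulAut X := MonoidHom.mk' (c.a · i) fun g h => by rw [c.a_mul, Subsingleton.elim (c.π h i) i]
  let d : Cf p Γ G Z :=
    { e := c.e i
      a := a
      inj := c.inj i
      ha := fun g u => by rw [c.ha, Subsingleton.elim (c.π g i) i]; rfl
      rng := le_antisymm (by rintro _ ⟨g, rfl⟩; exact c.mem g i) fun α hα => (c.onto i i α hα).imp fun _ h => h.2
      ker := le_antisymm (fun g hg => c.ker g (Subsingleton.elim _ _) fun j => Subsingleton.elim i j ▸ hg)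
        fun z hz => H.a_cen c (H.noncomm s) (c.cen hz) i
      cen := c.cen
      cop := c.cop }
  refine hA X Γ s ⟨R.map d.a, ?_, fun u => ?_, fun α hα => ?_, ?_, ?_, d.a x, d.mem x, d.a y, d.mem y,
    ⟨_, hxy, by simp only [map_mul, map_inv]⟩, fun γ hγ => ?_⟩ G Z d l hl P
  · rintro _ ⟨g, -, rfl⟩
    exact d.mem g
  · exact ⟨c.e i u, hMR (mem_sup_right (mem_iSup_of_mem i ⟨u, rfl⟩)), d.a_e u⟩
  · rintro _ ⟨g, hg, rfl⟩
    obtain ⟨b, rfl⟩ := d.onto hα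
    exact ⟨b * g * b⁻¹, ‹R.Normal›.conj_mem g hg b, by simp only [map_mul, map_inv]⟩
  · rintro _ ⟨g, hg, rfl⟩
    obtain ⟨k, hk⟩ := hp g hg
    obtain ⟨z, hz, u, e⟩ := (H.mem_LL c).1 hk
    exact ⟨k, u i, by rw [← map_pow, e, map_mul, d.mem_Z.1 hz, one_mul]; exact H.a_pr c u i⟩
  · rwa [← d.index_comap, comap_map_eq, d.ker, sup_eq_left.2 (le_sup_left.trans hMR)]
  · obtain ⟨g, rfl⟩ := d.onto hγ
    obtain ⟨r, hr, i, j, rfl⟩ := gen_nat hxy hg g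
    exact ⟨_, ⟨r, hr, rfl⟩, i, j, by simp only [map_mul, map_pow]⟩

theorem ih_succ (s : Sit p X Γ) (c : Conf p Γ G Z ι) [Nontrivial ι] : IH p (Nat.card Γ + 1) := by
  obtain ⟨i, j, hij⟩ := exists_pair_ne ι
  let S : Subgroup G := (MulAction.stabilizer (Equiv.Perm ι) i).comap c.π
  have hS : ∀ g : S, c.π g i = i := fun g => g.2
  let a : S →* MulAut X := MonoidHom.mk' (fun g => c.a g i) fun g h => by rw [coe_mul, c.a_mul, hS]
  have h1 : a.range = Γ := le_antisymm (by rintro _ ⟨g, rfl⟩; exact c.mem g i) fun α hα =>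
    (c.onto i i α hα).elim fun g h => ⟨⟨g, h.1⟩, h.2⟩
  have h2 : Z ≤ S := fun z hz => show c.π z i = i by rw [H.π_cen c (H.noncomm s) (c.cen hz)]; rfl
  have h3 : Z.subgroupOf S ≤ a.ker := fun z hz => H.a_cen c (H.noncomm s) (c.cen hz) i
  have h4 : S ≠ ⊤ := fun e => by
    obtain ⟨g, hg, -⟩ := c.onto i j 1 (one_mem _)
    exact hij ((hS ⟨g, e.ge trivial⟩).symm.trans hg)
  refine c.ih.mono (Nat.succ_le_of_lt (lt_of_le_of_lt ?_ (MK.H.relIndex_lt h2 h4)))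
  rw [← h1, ← index_ker]
  exact index_antitone h3

theorem nm_ne (s : Sit p X Γ) (Q : Sylow p X) : Nm Γ Q ≠ Γ := E.nm_ne s Q

end Cfsg.Agent.MO.B
end

-- part: MO/B/Lin2
section
/-!
# MO/B: the lattice of a subgroup of an abelian group with two generators (helper77)

* `latt` : coordinates of the transition elements of a permutation action with respect to a basis of the stabiliser.
-/

set_option autoImplicit false

namespace Cfsg.Agent.MO.B

open Cfsg Subgroup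

namespace LinAux

theorem sum_plaq {ι : Type} [Fintype ι] {σ τ : Equiv.Perm ι} (h : ∀ i, σ (τ i) = τ (σ i)) (U V : ι → ℚ)
    (p₁ p₂ q₁ q₂ : ℚ) :
    ∑ j, ((q₂ + V (σ j) - V (τ (σ j))) * (p₁ + U j - U (σ j)) - (q₁ + V (τ j) - V (σ (τ j))) * (p₂ + U j - U (τ j))) =
      Fintype.card ι * (q₂ * p₁ - q₁ * p₂) := by
  set! F : ι → ℚ := fun j => q₂ * U j - p₂ * V (τ j) - V (τ j) * U j + V j * U j
  set! G : ι → ℚ := fun j => -q₁ * U j + p₁ * V (σ j) + V (σ j) * U j - V j * U j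
  have h1 : ∀ j, (q₂ + V (σ j) - V (τ (σ j))) * (p₁ + U j - U (σ j)) -
      (q₁ + V (τ j) - V (σ (τ j))) * (p₂ + U j - U (τ j)) =
      q₂ * p₁ - q₁ * p₂ + (F j - F (σ j)) + (G j - G (τ j)) := fun j => by
    simp only [F, G, h]
    ring
  rw [Finset.sum_congr rfl fun j _ => h1 j, Finset.sum_add_distrib, Finset.sum_add_distrib, Finset.sum_sub_distrib F,
    Finset.sum_sub_distrib G, Equiv.sum_comp σ F, Equiv.sum_comp τ G, sub_self, sub_self, add_zero, add_zero,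
    Finset.sum_const, Finset.card_univ, nsmul_eq_mul]

theorem zpow_mem_iff {Q : Type} [CommGroup Q] (N : Subgroup Q) (y : Q) (j : ℤ) :
    y ^ j ∈ N ↔ (N.relIndex (N ⊔ zpowers y) : ℤ) ∣ j := by
  have h1 := relIndex_ker (zpowers y) (QuotientGroup.mk' N)
  rw [QuotientGroup.ker_mk', MonoidHom.map_zpowers, Nat.card_zpowers] at h1
  rw [relIndex_sup_left, h1, orderOf_dvd_iff_zpow_eq_one, ← map_zpow, QuotientGroup.mk'_apply, QuotientGroup.eq_one_iff]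

theorem latt_comm {Q ι : Type} [CommGroup Q] [Finite Q] [Fintype ι] {x y : Q} (hg : ∀ q, ∃ i j : ℤ, q = x ^ i * y ^ j)
    (S : Subgroup Q) {σ τ : Equiv.Perm ι} (hστ : ∀ i, σ (τ i) = τ (σ i)) (g : ι → Q)
    (hx : ∀ i, (g (σ i))⁻¹ * x * g i ∈ S) (hy : ∀ i, (g (τ i))⁻¹ * y * g i ∈ S) :
    ∃ u ∈ S, ∃ v ∈ S, (∀ s ∈ S, ∃ i j : ℤ, s = u ^ i * v ^ j) ∧ ∃ a b : ι → ℤ × ℤ,
      (∀ i, (g (σ i))⁻¹ * x * g i = u ^ (a i).1 * v ^ (a i).2) ∧
      (∀ i, (g (τ i))⁻¹ * y * g i = u ^ (b i).1 * v ^ (b i).2) ∧ (∀ j, a (τ j) + b j = b (σ j) + a j) ∧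
      (∑ j, ((b (σ j)).2 * (a j).1 - (a (τ j)).2 * (b j).1)).natAbs * S.index = Fintype.card ι := by
  have hT : S ⊔ zpowers x ⊔ zpowers y = ⊤ := eq_top_iff.2 fun q _ => by
    obtain ⟨i, j, rfl⟩ := hg q
    exact mul_mem (mem_sup_left (mem_sup_right (zpow_mem_zpowers x i))) (mem_sup_right (zpow_mem_zpowers y j))
  have h1 := zpow_mem_iff S x
  have h2 := zpow_mem_iff (S ⊔ zpowers x) y
  have h3 := relIndex_mul_index (le_sup_left : S ≤ S ⊔ zpowers x)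
  rw [hT, relIndex_top_right] at h2
  generalize S.relIndex (S ⊔ zpowers x) = d₁ at h1 h3
  generalize (S ⊔ zpowers x).index = d₂ at h2 h3
  obtain ⟨n₁, n₂⟩ := mul_ne_zero_iff.1 (h3 ▸ FiniteIndex.index_ne_zero : d₁ * d₂ ≠ 0)
  obtain ⟨v, hv, _, ⟨k, rfl⟩, e⟩ := mem_sup.1 ((h2 d₂).2 dvd_rfl)
  beta_reduce at e
  have h4 : ∀ c₁ c₂ : ℤ, (x ^ (d₁ : ℤ)) ^ c₁ * v ^ c₂ = x ^ (d₁ * c₁ - k * c₂) * y ^ (d₂ * c₂) := fun c₁ c₂ => by
    rw [zpow_mul y, ← e, mul_zpow, zpow_sub, zpow_mul, zpow_mul, mul_comm (v ^ c₂), mul_assoc, inv_mul_cancel_left]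
  have h5 : ∀ i j : ℤ, x ^ i * y ^ j ∈ S → ∃ c : ℤ × ℤ, d₁ * c.1 - k * c.2 = i ∧ d₂ * c.2 = j := fun i j h => by
    obtain ⟨c₂, rfl⟩ := (h2 j).1 ((mul_mem_cancel_left (mem_sup_right (zpow_mem_zpowers x i))).1 (mem_sup_left h))
    rw [zpow_mul, ← e, mul_zpow, mul_comm (v ^ c₂), ← mul_assoc, mul_mem_cancel_right (zpow_mem hv _), ← zpow_mul,
      ← zpow_add, h1] at h
    obtain ⟨c₁, h⟩ := h
    exact ⟨(c₁, c₂), by rw [← h, add_sub_cancel_right], rfl⟩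
  choose γ δ hγ using fun i => hg (g i)
  have h6 : ∀ i j, (g j)⁻¹ * x * g i = x ^ (1 + γ i - γ j) * y ^ (δ i - δ j) := fun i j => by
    rw [hγ i, hγ j, zpow_sub, zpow_sub, zpow_add, zpow_one, mul_inv]
    generalize x ^ γ i = a₁, (x ^ γ j)⁻¹ = a₂, y ^ δ i = a₃, (y ^ δ j)⁻¹ = a₄
    ac_rfl
  have h7 : ∀ i j, (g j)⁻¹ * y * g i = x ^ (γ i - γ j) * y ^ (1 + δ i - δ j) := fun i j => by
    rw [hγ i, hγ j, zpow_sub, zpow_sub, zpow_add, zpow_one, mul_inv]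
    generalize x ^ γ i = a₁, (x ^ γ j)⁻¹ = a₂, y ^ δ i = a₃, (y ^ δ j)⁻¹ = a₄
    ac_rfl
  choose a ha₁ ha₂ using fun i => h5 _ _ (h6 i _ ▸ hx i)
  choose b hb₁ hb₂ using fun i => h5 _ _ (h7 i _ ▸ hy i)
  refine ⟨_, (h1 d₁).2 dvd_rfl, v, hv, fun s hs => ?_, a, b, fun i => by rw [h6, h4, ha₁, ha₂],
    fun i => by rw [h7, h4, hb₁, hb₂], fun j => ?_, ?_⟩
  · obtain ⟨i, j, rfl⟩ := hg s
    obtain ⟨c, h8, h9⟩ := h5 i j hs
    exact ⟨c.1, c.2, by rw [h4, h8, h9]⟩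
  · have h8 : (a (τ j)).2 + (b j).2 = (b (σ j)).2 + (a j).2 := mul_left_cancel₀ (Nat.cast_ne_zero.2 n₂ : (d₂ : ℤ) ≠ 0) (by
      rw [mul_add, mul_add, ha₂, ha₂, hb₂, hb₂, hστ]
      ring)
    refine Prod.ext (mul_left_cancel₀ (Nat.cast_ne_zero.2 n₁ : (d₁ : ℤ) ≠ 0) ?_) h8
    have h9 := ha₁ (τ j)
    rw [hστ] at h9
    rw [Prod.fst_add, Prod.fst_add]
    linear_combination h9 + hb₁ j - hb₁ (σ j) - ha₁ j + k * h8
  · have m₁ : (d₁ : ℚ) ≠ 0 := Nat.cast_ne_zero.2 n₁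
    have m₂ : (d₂ : ℚ) ≠ 0 := Nat.cast_ne_zero.2 n₂
    set! V : ι → ℚ := fun i => δ i / d₂
    set! U : ι → ℚ := fun i => (γ i + k * V i) / d₁
    have a₂ : ∀ i, ((a i).2 : ℚ) = 0 + V i - V (σ i) := fun i => by
      have h8 : (d₂ : ℚ) * (a i).2 = δ i - δ (σ i) := by exact_mod_cast ha₂ i
      simp only [V]
      field_simp
      linear_combination h8
    have b₂ : ∀ i, ((b i).2 : ℚ) = 1 / d₂ + V i - V (τ i) := fun i => by
      have h8 : (d₂ : ℚ) * (b i).2 = 1 + δ i - δ (τ i) := by exact_mod_cast hb₂ i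
      simp only [V]
      field_simp
      linear_combination h8
    have a₁ : ∀ i, ((a i).1 : ℚ) = 1 / d₁ + U i - U (σ i) := fun i => by
      have h8 : (d₁ : ℚ) * (a i).1 - k * (a i).2 = 1 + γ i - γ (σ i) := by exact_mod_cast ha₁ i
      rw [a₂] at h8
      simp only [U]
      field_simp
      linear_combination h8
    have b₁ : ∀ i, ((b i).1 : ℚ) = k * (1 / d₂) / d₁ + U i - U (τ i) := fun i => by
      have h8 : (d₁ : ℚ) * (b i).1 - k * (b i).2 = γ i - γ (τ i) := by exact_mod_cast hb₁ i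
      rw [b₂] at h8
      simp only [U]
      generalize (1 : ℚ) / d₂ = w at h8 ⊢
      field_simp
      linear_combination h8
    have h8 : (∑ j, ((b (σ j)).2 * (a j).1 - (a (τ j)).2 * (b j).1)) * (S.index : ℤ) = Fintype.card ι := by
      rw [← Int.cast_inj (α := ℚ), ← h3]
      push_cast
      simp only [a₁, a₂, b₁, b₂]
      rw [sum_plaq hστ]
      field_simp
      ring
    have h9 := congrArg Int.natAbs h8
    rwa [Int.natAbs_mul, Int.natAbs_natCast, Int.natAbs_natCast] at h9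

end LinAux

theorem latt {Q ι : Type} [Group Q] [Finite Q] [Fintype ι] {x y : Q} (hxy : x * y = y * x) (hg : _root_.Subgroup.closure {x, y} = ⊤)
    (S : Subgroup Q) {σ τ : Equiv.Perm ι} (hστ : ∀ i, σ (τ i) = τ (σ i)) (g : ι → Q)
    (hx : ∀ i, (g (σ i))⁻¹ * x * g i ∈ S) (hy : ∀ i, (g (τ i))⁻¹ * y * g i ∈ S) :
    ∃ u ∈ S, ∃ v ∈ S, (∀ s ∈ S, ∃ i j : ℤ, s = u ^ i * v ^ j) ∧ ∃ a b : ι → ℤ × ℤ,
      (∀ i, (g (σ i))⁻¹ * x * g i = u ^ (a i).1 * v ^ (a i).2) ∧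
      (∀ i, (g (τ i))⁻¹ * y * g i = u ^ (b i).1 * v ^ (b i).2) ∧ (∀ j, a (τ j) + b j = b (σ j) + a j) ∧
      (∑ j, ((b (σ j)).2 * (a j).1 - (a (τ j)).2 * (b j).1)).natAbs * S.index = Fintype.card ι := by
  have hc : Commute x y := hxy
  have h1 : ∀ q : Q, ∃ i j : ℤ, q = x ^ i * y ^ j := fun q => LinAux.gen_int hc (hg ▸ mem_top q)
  let _ : CommGroup Q := { ‹Group Q› with
    mul_comm := fun a b => by
      obtain ⟨i, j, rfl⟩ := h1 a
      obtain ⟨i', j', rfl⟩ := h1 b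
      exact (((Commute.refl x).zpow_zpow i i').mul_right (hc.zpow_zpow i j')).mul_left
        ((hc.symm.zpow_zpow j i').mul_right ((Commute.refl y).zpow_zpow j j')) }
  exact LinAux.latt_comm h1 S hστ g hx hy

end Cfsg.Agent.MO.B
end

-- part: MO/B/Coord
section
/-!
# MO/B: the coordinates of the transition automorphisms (helper17)

* `coord` : the automorphisms induced by two generators `x`, `y` of `G / R` are monomials in two automorphisms `α`, `β`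
  modulo `R'`; the representatives `α'`, `β'` of `α ^ J`, `β` which commute modulo the inner automorphisms.
-/

set_option autoImplicit false

namespace Cfsg.Agent.MO.B

open Cfsg Subgroup
open Cfsg.Agent.MK (Ov Fa Cj In Nm rs Supp conj_map)

namespace CoordAux

theorem comm_all {Q : Type} [Group Q] {x y : Q} (hc : Commute x y) (hg : _root_.Subgroup.closure {x, y} = ⊤) (a b : Q) : Commute a b := by
  obtain ⟨i, j, rfl⟩ := LinAux.gen_int hc (hg ▸ mem_top a)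
  obtain ⟨i', j', rfl⟩ := LinAux.gen_int hc (hg ▸ mem_top b)
  exact (((Commute.refl x).zpow_zpow i i').mul_right (hc.zpow_zpow i j')).mul_left
    ((hc.symm.zpow_zpow j i').mul_right ((Commute.refl y).zpow_zpow j j'))

theorem comm_iff {E : Type} [Group E] (K : Subgroup E) [K.Normal] (x y : E) :
    x * y * x⁻¹ * y⁻¹ ∈ K ↔ Commute (QuotientGroup.mk' K x) (QuotientGroup.mk' K y) := by
  rw [← commutatorElement_eq_one_iff_commute, ← map_commutatorElement, QuotientGroup.mk'_apply,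
    QuotientGroup.eq_one_iff, commutatorElement_def]

theorem mem_of_cop {E : Type} [Group E] {T : Subgroup E} {g : E} {m n : ℤ} (h : IsCoprime m n) (hm : g ^ m ∈ T)
    (hn : g ^ n ∈ T) : g ∈ T := by
  obtain ⟨s, t, e⟩ := h
  rw [← zpow_one g, ← e, zpow_add, mul_comm s, mul_comm t, zpow_mul, zpow_mul]
  exact mul_mem (zpow_mem hm _) (zpow_mem hn _)

variable {p : ℕ} {X : Type} [Group X] {Γ Λ R' : Subgroup (MulAut X)}

theorem normal (r : Cl p Γ R') (h : Λ ≤ Γ) : (R'.subgroupOf Λ).Normal := ⟨fun x hx g => r.nrm g (h g.2) x hx⟩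

theorem rel_dvd (r : Cl p Γ R') (h : Λ ≤ Γ) : R'.relIndex Λ ∣ R'.relIndex Γ := by
  have := normal r le_rfl
  rw [← relIndex_subgroupOf h]
  exact relIndex_dvd_index_of_normal _ _

theorem pow_rel (r : Cl p Γ R') {α : MulAut X} (h : α ∈ Γ) : α ^ (R'.relIndex Γ : ℤ) ∈ R' := by
  have := normal r le_rfl
  rw [zpow_natCast]
  exact pow_index_mem (R'.subgroupOf Γ) ⟨α, h⟩

variable [Fact p.Prime]

/-- an element of `Γ` lies in every group over `R'` which contains a `p`-power of it -/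
theorem mem_of_pow (r : Cl p Γ R') {T : Subgroup (MulAut X)} (hT : R' ≤ T) {α : MulAut X} (h : α ∈ Γ) {J : ℤ} {k : ℕ}
    (hJ : J.natAbs = p ^ k) (hα : α ^ J ∈ T) : α ∈ T :=
  mem_of_cop (Int.isCoprime_iff_nat_coprime.2 (by rw [hJ, Int.natAbs_natCast]; exact cop_pow r.ind k)) hα
    (hT (pow_rel r h))

/-- the representatives -/
theorem reps [Finite X] (r : Cl p Γ R') (h : Λ ≤ Γ) {α β : Λ} (hc : (α * β * α⁻¹ * β⁻¹ : Λ).1 ∈ R') {J : ℤ} {k : ℕ}
    (hJ : J.natAbs = p ^ k) (hg : ∀ γ : Λ, ∃ i j : ℤ, (γ * (α ^ i * β ^ j)⁻¹ : Λ).1 ∈ R') :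
    ∃ (α' β' : Λ) (n' : In Λ), (α' * (α ^ J)⁻¹ : Λ).1 ∈ R' ∧ (β' * β⁻¹ : Λ).1 ∈ R' ∧
      (α' * β' * α'⁻¹ * β'⁻¹ : Λ) = ⟨MulAut.conj (n' : X), n'.2⟩ ∧ Λ ≤ R' ⊔ _root_.Subgroup.closure {α'.1, β'.1} := by
  have := normal r h
  have : Finite (MulAut X) := Finite.of_injective (fun f : MulAut X => (f : X → X)) DFunLike.coe_injective
  have : ((MulAut.conj (G := X)).range.subgroupOf Λ).Normal := ⟨fun a ⟨x, hx⟩ g => ⟨g.1 x, by rw [conj_map, hx]; rfl⟩⟩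
  have h1 := LinAux.comm_mem (K := R'.subgroupOf Λ) hc J 1
  rw [zpow_one] at h1
  obtain ⟨u, hu, v, hv, n, hn⟩ := exists_reps (p := p) (M := (MulAut.conj (G := X)).range.subgroupOf Λ)
    (R := R'.subgroupOf Λ) (fun a ⟨x, hx⟩ => mem_subgroupOf.2 (by rw [← show _ = a.1 from hx]; exact r.inn x))
    (fun g hg => (r.pw g hg).imp fun _ ⟨x, hx⟩ => ⟨x, hx.symm⟩) (nd_of_dvd r.ind (rel_dvd r h)) h1
  refine ⟨u * α ^ J, v * β, ⟨n, (hn ▸ (u * α ^ J * (v * β) * (u * α ^ J)⁻¹ * (v * β)⁻¹).2 : MulAut.conj n ∈ Λ)⟩,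
    by rwa [mul_inv_cancel_right], by rwa [mul_inv_cancel_right], Subtype.ext hn.symm, fun γ hγ => ?_⟩
  obtain ⟨i, j, e⟩ := hg ⟨γ, hγ⟩
  have h2 : α.1 ∈ R' ⊔ _root_.Subgroup.closure {(u * α ^ J).1, (v * β).1} := mem_of_pow r le_sup_left (h α.2) hJ
    ((mul_mem_cancel_left (mem_sup_left (mem_subgroupOf.1 hu))).1 (mem_sup_right (_root_.Subgroup.subset_closure (Or.inl rfl))))
  have h3 : β.1 ∈ R' ⊔ closure {(u * α ^ J).1, (v * β).1} :=
    (mul_mem_cancel_left (mem_sup_left (mem_subgroupOf.1 hv))).1 (mem_sup_right (_root_.Subgroup.subset_closure (Or.inr rfl)))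
  exact (mul_mem_cancel_right (inv_mem (mul_mem (zpow_mem h2 i) (zpow_mem h3 j)))).1 (mem_sup_left e)

variable {G : Type} [Group G] {Z : Subgroup G} {ι : Type} (c : Conf p Γ G Z ι) (i₀ : ι)

/-- the stabiliser of a component -/
def st : Subgroup G := (MulAction.stabilizer (Equiv.Perm ι) i₀).comap c.π

omit [Fact p.Prime] in
theorem index_st [Fintype ι] : (st c i₀).index = Fintype.card ι := by
  let _ : MulAction G ι := MulAction.compHom ι c.π
  have : MulAction.IsPretransitive G ι := ⟨fun i j => (c.onto i j 1 (one_mem _)).imp fun _ hg => hg.1⟩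
  rw [← Nat.card_eq_fintype_card]
  exact MulAction.index_stabilizer_of_transitive G i₀

/-- the action of the stabiliser on its component -/
def ψ : st c i₀ →* MulAut X :=
  MonoidHom.mk' (fun g => c.a g i₀) fun g h => by rw [coe_mul, c.a_mul, show c.π h i₀ = i₀ from h.2]

theorem ψ_mem [Fintype ι] (s : Sit p X Γ) (r : Cl p Γ R') {t : st c i₀} {k : ℕ} (h : (t : G) ^ p ^ k ∈ H.LL c) :
    ψ c i₀ t ∈ R' := by
  obtain ⟨z, hz, w, e⟩ := (H.mem_LL c).1 h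
  refine mem_of_pow r le_rfl (c.mem _ _) (Int.natAbs_natCast (p ^ k)) ?_
  rw [zpow_natCast, ← map_pow]
  change c.a ((t : G) ^ p ^ k) i₀ ∈ R'
  rw [e, H.a_mul_pr, H.a_cen c (H.noncomm s) (c.cen hz), one_mul]
  exact r.inn _

end CoordAux

open CoordAux

variable {p : ℕ} [Fact p.Prime] {X : Type} [Group X] [Finite X] {Γ : Subgroup (MulAut X)} {G : Type} [Group G] [Finite G]
  {Z R : Subgroup G} {ι : Type} [Fintype ι]

/-- the coordinates -/
theorem coord {Λ R' : Subgroup (MulAut X)} (s : Sit p X Γ) (r : Cl p Γ R') (h : Supp Γ Λ) (c : Conf p Γ G Z ι) [R.Normal]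
    (hMR : H.LL c ≤ R) (hp : ∀ g ∈ R, ∃ k : ℕ, g ^ p ^ k ∈ H.LL c) {x y : G} (hx : x ∈ c.hat Λ) (hy : y ∈ c.hat Λ)
    (hxy : x * y * x⁻¹ * y⁻¹ ∈ H.LL c) (hg : R ⊔ _root_.Subgroup.closure {x, y} = ⊤) :
    ∃ (α β : Λ) (a b : ι → ℤ × ℤ), (α * β * α⁻¹ * β⁻¹ : Λ).1 ∈ R' ∧
      (∀ i, ((⟨c.a x i, hx i⟩ : Λ) * (α ^ (a i).1 * β ^ (a i).2)⁻¹ : Λ).1 ∈ R') ∧
      (∀ i, ((⟨c.a y i, hy i⟩ : Λ) * (α ^ (b i).1 * β ^ (b i).2)⁻¹ : Λ).1 ∈ R') ∧
      (∀ j, a (c.π y j) + b j = b (c.π x j) + a j) ∧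
      ∃ (α' β' : Λ) (n' : In Λ), (α' * (α ^ ∑ j, ((b (c.π x j)).2 * (a j).1 - (a (c.π y j)).2 * (b j).1))⁻¹ : Λ).1 ∈ R' ∧
        (β' * β⁻¹ : Λ).1 ∈ R' ∧ (α' * β' * α'⁻¹ * β'⁻¹ : Λ) = ⟨MulAut.conj (n' : X), n'.2⟩ ∧
        Λ ≤ R' ⊔ _root_.Subgroup.closure {α'.1, β'.1} := by
  obtain ⟨i₀⟩ := c.ne
  have hX := H.noncomm s
  have := H.normal_LL c
  choose g g₁ g₂ using fun i => c.onto i₀ i 1 (one_mem _)
  have h1 : ∀ (z : G) i, (g (c.π z i))⁻¹ * z * g i ∈ st c i₀ := fun z i => by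
    change c.π ((g (c.π z i))⁻¹ * z * g i) i₀ = i₀
    rw [map_mul, map_mul, map_inv, Equiv.Perm.mul_apply, Equiv.Perm.mul_apply, g₁, Equiv.Perm.inv_eq_iff_eq, g₁]
  have h2 : ∀ (z : G) i, ψ c i₀ ⟨_, h1 z i⟩ = c.a z i := fun z i => by
    change c.a ((g (c.π z i))⁻¹ * z * g i) i₀ = _
    have h3 := H.a_inv' c (g (c.π z i)) i₀
    rw [g₁, g₂, inv_one] at h3
    rw [c.a_mul, c.a_mul, g₁, g₂, h3, one_mul, mul_one]
  have hc := (comm_iff R x y).1 (hMR hxy)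
  have hg' : _root_.Subgroup.closure {QuotientGroup.mk' R x, QuotientGroup.mk' R y} = ⊤ := by
    have h3 := congrArg (map (QuotientGroup.mk' R)) hg
    rwa [Subgroup.map_sup, QuotientGroup.map_mk'_self, bot_sup_eq, MonoidHom.map_closure, Set.image_pair,
      map_top_of_surjective _ (QuotientGroup.mk'_surjective R)] at h3
  have hστ : ∀ i, c.π x (c.π y i) = c.π y (c.π x i) := fun i => by
    have h3 := H.π_LL c hX hxy
    rw [map_mul, map_mul, map_mul, map_inv, map_inv, mul_inv_eq_one, mul_inv_eq_iff_eq_mul] at h3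
    exact DFunLike.congr_fun h3 i
  obtain ⟨u, hu, v, hv, hS, a, b, ha, hb, hab, hJ⟩ := latt hc hg' ((st c i₀).map (QuotientGroup.mk' R)) hστ
    (fun i => QuotientGroup.mk' R (g i)) (fun i => mem_map_of_mem _ (h1 x i)) fun i => mem_map_of_mem _ (h1 y i)
  obtain ⟨k, hk⟩ := index_stab (p := p) (R := R) (S := st c i₀) (fun t ht => by
    change c.π t i₀ = i₀
    rw [H.π_LL c hX ht, Equiv.Perm.one_apply]) hp
  rw [← index_st c i₀, hk] at hJ
  have h3 : ∀ q ∈ (st c i₀).map (QuotientGroup.mk' R), ∃ t : st c i₀, ψ c i₀ t ∈ Λ ∧ QuotientGroup.mk' R t = q := by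
    rintro _ ⟨t, ht, rfl⟩
    obtain ⟨w, t', ht', rfl⟩ := C.decomp c h t
    have h4 : c.π (H.pr c w * t') i₀ = i₀ := ht
    have h5 : QuotientGroup.mk' R (H.pr c w) = 1 :=
      (QuotientGroup.eq_one_iff _).2 (hMR ((H.mem_LL c).2 ⟨1, one_mem _, w, (one_mul _).symm⟩))
    rw [map_mul, H.π_pr, one_mul] at h4
    exact ⟨⟨t', h4⟩, ht' i₀, by rw [map_mul, h5, one_mul]⟩
  obtain ⟨t₁, m₁, rfl⟩ := h3 u hu
  obtain ⟨t₂, m₂, rfl⟩ := h3 v hv
  have h4 : ∀ t : st c i₀, (t : G) ∈ R → ψ c i₀ t ∈ R' := fun t ht => (hp t ht).elim fun _ => ψ_mem c i₀ s r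
  have h5 : ∀ (t : st c i₀) (i j : ℤ), QuotientGroup.mk' R t = QuotientGroup.mk' R t₁ ^ i * QuotientGroup.mk' R t₂ ^ j →
      ψ c i₀ t * (ψ c i₀ t₁ ^ i * ψ c i₀ t₂ ^ j)⁻¹ ∈ R' := fun t i j e => by
    rw [← map_zpow, ← map_zpow, ← map_mul, ← map_inv, ← map_mul]
    refine h4 _ ((QuotientGroup.eq_one_iff _).1 ?_)
    rw [← QuotientGroup.mk'_apply, coe_mul, coe_inv, coe_mul, coe_zpow, coe_zpow, map_mul, map_inv, map_mul, map_zpow,
      map_zpow, e, mul_inv_cancel]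
  have h6 : ((⟨_, m₁⟩ * ⟨_, m₂⟩ * ⟨_, m₁⟩⁻¹ * ⟨_, m₂⟩⁻¹ : Λ) : MulAut X) ∈ R' := by
    have h7 := h4 (t₁ * t₂ * t₁⁻¹ * t₂⁻¹) ((comm_iff R _ _).2 (comm_all hc hg' _ _))
    rwa [map_mul, map_mul, map_mul, map_inv, map_inv] at h7
  refine ⟨⟨_, m₁⟩, ⟨_, m₂⟩, a, b, h6, fun i => ?_, fun i => ?_, hab,
    reps r h.le h6 (mul_right_cancel₀ FiniteIndex.index_ne_zero hJ) fun γ => ?_⟩
  · have h7 := h5 ⟨_, h1 x i⟩ _ _ (ha i)
    rwa [h2] at h7
  · have h7 := h5 ⟨_, h1 y i⟩ _ _ (hb i)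
    rwa [h2] at h7
  · obtain ⟨t, t₃, t₄⟩ := c.onto i₀ i₀ γ (h.le γ.2)
    obtain ⟨i, j, e⟩ := hS _ (mem_map_of_mem _ (show t ∈ st c i₀ from t₃))
    have h7 := h5 ⟨t, t₃⟩ i j e
    rw [show ψ c i₀ ⟨t, t₃⟩ = γ from t₄] at h7
    exact ⟨i, j, h7⟩

end Cfsg.Agent.MO.B
end

-- part: MO/B/Main
section
/-!
# MO/B: **`stepBi : StepBi p`** and the assembly `main_of1` from the rows with one component (helper76)
-/

set_option autoImplicit false
set_option maxHeartbeats 400000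

namespace Cfsg.Agent.MO.B

open Cfsg Subgroup
open Cfsg.Agent.MO.H
open Cfsg.Agent.MK (Ov Fa Cj In Nm rs Supp)

variable {p : ℕ} [Fact p.Prime] {X : Type} [Group X] [Finite X] {Γ Λ : Subgroup (MulAut X)} {G : Type} [Group G] [Finite G]
  {Z R : Subgroup G} {ι : Type} [Fintype ι]

/-- several components: the traces agree -/
theorem SS_eq (s : Sit p X Γ) (c : Conf p Γ G Z ι) [Nontrivial ι] [R.Normal] (hMR : LL c ≤ R)
    (hp : ∀ g ∈ R, ∃ k : ℕ, g ^ p ^ k ∈ LL c) (Q : Sylow p X) (h : Supp Γ Λ) (hN : Nm Γ Q ≤ Λ) {l : G → ℂ} (hl : Fa Z l)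
    {m : Z →* ℂˣ} (hm : ∀ z : Z, l z = m z) {x y : G} (hx : x ∈ c.hat Λ) (hy : y ∈ c.hat Λ)
    (hxy : x * y * x⁻¹ * y⁻¹ ∈ LL c) (hg : R ⊔ _root_.Subgroup.closure {x, y} = ⊤) : SS p R Z l x y = SS p (R ⊓ c.hat Λ) Z l x y := by
  have hX := noncomm s
  have ih := ih_succ s c
  obtain ⟨i₀⟩ := c.ne
  have hG : Supp Γ Γ := ⟨le_rfl, fun α hα => ⟨1, α, hα, by simp⟩⟩
  have hl' : Fa (center X) fun x => l (c.e i₀ x) := fun z hz h1 =>
    c.inj i₀ ((hl _ (e_mem_Z c hz i₀) h1).trans (map_one _).symm)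
  obtain ⟨R', r1, r2, r3, r4, r5⟩ := s.cl
  have r : Cl p Γ R' := ⟨r1, r2, r3, r4, r5⟩
  obtain ⟨z, hz, w, hw, e⟩ := (mem_hat_LL c hX).1 
    (mem_inf.2 ⟨mul_mem (mul_mem (mul_mem hx hy) (inv_mem hx)) (inv_mem hy), hxy⟩)
  have g1 := fun η hη => good_ih s ih Q hG (hN.trans h.le) hl' (η := η) hη
  have g2 := fun η hη => good_ih s ih Q h hN hl' (η := η) hη
  have e1 := SS_omT c hX hMR hp hG h.le hm i₀ g1 hx hy hg ⟨z, hz⟩ (fun i => ⟨w i, hw i⟩) e
  rw [hat_top, inf_top_eq] at e1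
  rw [e1, SS_omT c hX hMR hp h le_rfl hm i₀ g2 hx hy hg ⟨z, hz⟩ (fun i => ⟨w i, hw i⟩) e]
  obtain ⟨α, β, a, b, k1, k2, k3, k4, α', β', n', k5, k6, k7, k8⟩ := coord s r h c hMR hp hx hy hxy hg
  have e2 : x * y = z * pr c w * (y * x) := by
    rw [← e]
    group
  have e3 : ∀ i, c.π x (c.π y i) = c.π y (c.π x i) := fun i => by
    rw [← Equiv.Perm.mul_apply, ← map_mul, e2, map_mul, ← e, π_LL c hX hxy, one_mul, map_mul, Equiv.Perm.mul_apply]
  have e4 : ∀ i, (⟨c.a x (c.π y i), hx _⟩ * ⟨c.a y i, hy i⟩ * (⟨c.a y (c.π x i), hy _⟩ * ⟨c.a x i, hx i⟩)⁻¹ : Λ) =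
      ⟨MulAut.conj (w (c.π x (c.π y i))), hw _⟩ := fun i => Subtype.ext (by
    change c.a x (c.π y i) * c.a y i * (c.a y (c.π x i) * c.a x i)⁻¹ = _
    rw [← c.a_mul, ← c.a_mul, e2, c.a_mul _ (y * x), mul_inv_cancel_right, a_mul_pr, a_cen c hX (c.cen hz), one_mul,
      map_mul, Equiv.Perm.mul_apply, e3])
  have key : ∀ {Λ₀ : Subgroup (MulAut X)} (h₀ : Λ ≤ Λ₀), ∀ η₀ ∈ AS p Λ₀ fun x => l (c.e i₀ x), Exd p Γ Λ₀ η₀ →
      ∑ η ∈ AS p Γ fun x => l (c.e i₀ x), omT h.le m (c.π x) (c.π y) (fun i => ⟨c.a x i, hx i⟩)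
        (fun i => ⟨c.a y i, hy i⟩) ⟨z, hz⟩ (fun i => ⟨w i, hw i⟩) η =
      ∑ η ∈ AS p Λ fun x => l (c.e i₀ x), omT le_rfl m (c.π x) (c.π y) (fun i => ⟨c.a x i, hx i⟩)
        (fun i => ⟨c.a y i, hy i⟩) ⟨z, hz⟩ (fun i => ⟨w i, hw i⟩) η := fun h₀ η₀ h1 h2 => by
    refine mul_right_cancel₀ (om1_ne h₀ h1 k7) ?_
    rw [Finset.sum_mul, Finset.sum_mul,
      Finset.sum_congr rfl fun η hη => rel r h.le h.le h₀ hη h1 (exd_of_good s hG hl' hη (g1 η hη)) h2 m e3 _ _ k1 a b k2 k3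
        k4 ⟨z, hz⟩ (fun i => ⟨w i, hw i⟩) e4 k5 k6 k7,
      Finset.sum_congr rfl fun η hη => rel r h.le le_rfl h₀ hη h1 (exd_of_good s h hl' hη (g2 η hη)) h2 m e3 _ _ k1 a b k2 k3
        k4 ⟨z, hz⟩ (fun i => ⟨w i, hw i⟩) e4 k5 k6 k7,
      ← Finset.mul_sum, ← Finset.mul_sum, psd s ih r Q h hN hl' k7 k8]
  refine congrArg _ ?_
  rcases (AS p Γ fun x => l (c.e i₀ x)).eq_empty_or_nonempty with h1 | ⟨η, hη⟩
  · rcases (AS p Λ fun x => l (c.e i₀ x)).eq_empty_or_nonempty with h2 | ⟨η, hη⟩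
    · rw [h1, h2, Finset.sum_empty, Finset.sum_empty]
    · exact key le_rfl η hη (exd_of_good s h hl' hη (g2 η hη))
  · exact key h.le η hη (exd_of_good s hG hl' hη (g1 η hη))

/-- **the reduction to one component** -/
theorem stepBi : StepBi p := by
  intro hA X _ _ Γ G _ _ Z ι _ c s l hl P
  obtain ⟨R, hR, hMR, hp, hi⟩ := c.cl
  obtain ⟨Q⟩ : Nonempty (Sylow p X) := inferInstance
  have h := E.supp_nm s.inn Q
  have t := st0 s c hMR hi Q h le_rfl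
  obtain ⟨P₀, hP⟩ := t.syl
  have hne := hat_ne_top c h.le (nm_ne s Q)
  rcases subsingleton_or_nontrivial ι with _ | _
  · by_cases e : ∃ x y : G, x * y * x⁻¹ * y⁻¹ ∈ R ∧ R ⊔ _root_.Subgroup.closure {x, y} = ⊤
    · obtain ⟨x, y, h1, h2⟩ := e
      exact crit_one hA s c hMR hp hi h1 h2 hl P
    · exact mck_of_sub c.ih c.cen P₀ hne hP (kk_of_pairs t l fun x _ y _ h1 h2 => absurd ⟨x, y, h2, t.gen h1⟩ e) P
  refine mck_of_sub c.ih c.cen P₀ hne hP (kk_eq_of_hom c.cen le_top t.leH fun m hm =>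
    kk_of_pairs t l fun x hx y hy h1 h2 => ?_) P
  have := normal_LL c
  obtain ⟨u, hu, v, hv, h3⟩ := exists_reps (p := p) (M := (LL c).subgroupOf (c.hat (Nm Γ Q)))
    (R := R.subgroupOf (c.hat (Nm Γ Q))) (fun _ h => hMR h) (fun g hg => hp g hg)
    (nd_of_dvd hi (relIndex_dvd_index_of_normal _ _)) (x := ⟨x, hx⟩) (y := ⟨y, hy⟩) h2
  rw [← SS_left x y (V := R) (u := u) hu, ← SS_right _ y (V := R) (u := v) hv,
    ← SS_left x y (V := R ⊓ _) (u := u) ⟨hu, u.2⟩, ← SS_right _ y (V := R ⊓ _) (u := v) ⟨hv, v.2⟩]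
  refine SS_eq s c hMR hp Q h le_rfl hl hm (mul_mem u.2 hx) (mul_mem v.2 hy) h3 (eq_top_iff.2 ((t.gen h1).ge.trans
    (sup_le le_sup_left ((closure_le _).2 (Set.pair_subset ?_ ?_)))))
  · simpa only [_root_.SetLike.mem_coe, _root_.inv_mul_cancel_left] using mul_mem_sup (inv_mem (show u.1 ∈ R from hu)) (subset_closure (k := {u.1 * x, v.1 * y}) (Or.inl rfl))
  · simpa only [_root_.SetLike.mem_coe, _root_.inv_mul_cancel_left] using mul_mem_sup (inv_mem (show v.1 ∈ R from hv)) (subset_closure (k := {u.1 * x, v.1 * y}) (Or.inr rfl))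

end Cfsg.Agent.MO.B

namespace Cfsg.Agent.MO

open Cfsg Subgroup

universe u

/-- **the assembly** from the rows with one component -/
theorem main_of1 (hC : Cls) (h2 : Two.{u}) (b : ∀ (p : ℕ) [Fact p.Prime], p ≠ 2 → Box1 p) {G : Type u} [Group G]
    [Finite G] (p : ℕ) [Fact p.Prime] (P : Sylow p G) :
    Nat.card {χ : IrrCharacter G // ¬ p ∣ charDegree (χ : G → ℂ)} =
      Nat.card {ψ : IrrCharacter (normalizer ((P : Subgroup G) : Set G)) //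
        ¬ p ∣ charDegree (ψ : normalizer ((P : Subgroup G) : Set G) → ℂ)} :=
  main_of_bi hC h2 (fun _ _ => B.stepBi) b p P

end Cfsg.Agent.MO
end

-- part: MO/TA/XA
section
/-!
# MO, types `A` and `²A`: the exception, the characters of the local subgroup (helper68)

* `T` : the endomorphisms of the extraspecial group `3^(1+2)` of exponent three, in Lie coordinates;
* `Ps i` : the characters of degrees `1, 2, 8, 3` of its automorphism group;
* `base` : base points and good constituents from a homomorphism `C →* T`.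
-/

set_option autoImplicit false

namespace Cfsg.Agent.MO.TA.XA

open Cfsg Subgroup Finset Cfsg.Agent.Characters.Core Cfsg.Agent.Characters.GL23Table
open Cfsg.Agent.Characters.GL23 (emb emb_star)
open scoped ComplexConjugate

/-- the matrix `!![a, b, 0; c, d, 0; u, v, a * d - b * c]` -/
@[ext] structure T where
  /-- entry -/
  a : ZMod 3
  /-- entry -/
  b : ZMod 3
  /-- entry -/
  c : ZMod 3
  /-- entry -/
  d : ZMod 3
  /-- entry -/
  u : ZMod 3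
  /-- entry -/
  v : ZMod 3
  deriving DecidableEq

/-- coordinates -/
def eqv : ZMod 3 × ZMod 3 × ZMod 3 × ZMod 3 × ZMod 3 × ZMod 3 ≃ T where
  toFun x := ⟨x.1, x.2.1, x.2.2.1, x.2.2.2.1, x.2.2.2.2.1, x.2.2.2.2.2⟩
  invFun t := (t.a, t.b, t.c, t.d, t.u, t.v)
  left_inv _ := rfl
  right_inv _ := rfl

instance fintypeT : Fintype T := Fintype.ofEquiv _ eqv

/-- the determinant -/
def T.det (t : T) : ZMod 3 := t.a * t.d - t.b * t.c

instance mulT : _root_.Mul T := ⟨fun t s => ⟨t.a * s.a + t.b * s.c, t.a * s.b + t.b * s.d, t.c * s.a + t.d * s.c,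
  t.c * s.b + t.d * s.d, t.u * s.a + t.v * s.c + t.det * s.u, t.u * s.b + t.v * s.d + t.det * s.v⟩⟩

instance oneT : _root_.One T := ⟨⟨1, 0, 0, 1, 0, 0⟩⟩

theorem mul_def (t s : T) : t * s = ⟨t.a * s.a + t.b * s.c, t.a * s.b + t.b * s.d, t.c * s.a + t.d * s.c,
  t.c * s.b + t.d * s.d, t.u * s.a + t.v * s.c + t.det * s.u, t.u * s.b + t.v * s.d + t.det * s.v⟩ := rfl

theorem one_def : (1 : T) = ⟨1, 0, 0, 1, 0, 0⟩ := rfl

instance monoidT : Monoid T where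
  mul_assoc t s r := by ext <;> simp only [mul_def, T.det] <;> ring
  one_mul t := by ext <;> simp [mul_def, one_def, T.det]
  mul_one t := by ext <;> simp [mul_def, one_def, T.det]

theorem det_mul (t s : T) : (t * s).det = t.det * s.det := by
  simp only [mul_def, T.det]
  ring

theorem det_ne {G : Type} [Group G] (ρ : G →* T) (g : G) : (ρ g).det ≠ 0 := fun h => by
  have h1 := det_mul (ρ g) (ρ g⁻¹)
  rw [← map_mul, mul_inv_cancel, map_one, h, zero_mul] at h1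
  exact absurd h1 (by decide)

/-- the semidihedral group modulo the inner automorphisms -/
def sd (t : T) : Prop := (t.a = 0 ↔ t.d = 0) ∧ (t.b = 0 ↔ t.c = 0)

instance decSd : DecidablePred sd := fun _ => inferInstanceAs (Decidable (_ ∧ _))

/-- the action on nine points -/
def pt (x : ZMod 3 × ZMod 3) (t : T) : ZMod 3 × ZMod 3 :=
  (t.det * (x.1 * t.a + x.2 * t.c + t.u), t.det * (x.1 * t.b + x.2 * t.d + t.v))

theorem pt_mul (x : ZMod 3 × ZMod 3) {t : T} (h : t.det ≠ 0) (s : T) : pt x (t * s) = pt (pt x t) s := by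
  have h1 : t.det * t.det = 1 := (by decide : ∀ y : ZMod 3, y ≠ 0 → y * y = 1) _ h
  ext
  · simp only [pt, det_mul]
    simp only [mul_def]
    linear_combination s.det * s.u * h1
  · simp only [pt, det_mul]
    simp only [mul_def]
    linear_combination s.det * s.v * h1

/-- the number of fixed points -/
def fx (t : T) : R := ∑ x : ZMod 3 × ZMod 3, if x = pt x t then 1 else 0

/-- the characters -/
def Ps (i : Fin 4) (t : T) : R :=
  match i with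
  | 0 => 1
  | 1 => psi t.a t.b t.c t.d
  | 2 => fx t - 1
  | 3 => c3' (psi t.a t.b t.c t.d)

/-- the linear character -/
def ep (t : T) : ℤˣ := if t.a * t.b = 0 then 1 else -1

/-- the degrees -/
def dd : Fin 4 → ℕ := ![1, 2, 8, 3]

theorem Ps_one : ∀ i, Ps i 1 = dd i := by decide +kernel

private noncomputable def _root_.Cfsg.Agent.LsF.f439898_0 : {f // @Cfsg.Agent.MO.TA.XA.T.det = f} := ⟨_, by first | (delta Cfsg.Agent.MO.TA.XA.T.det; rewrite [Cfsg.Agent.LsF.zmul_pat, Cfsg.Agent.LsF.zsub_pat]; exact rfl) | exact rfl⟩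
private noncomputable def _root_.Cfsg.Agent.LsF.f439898_1 : {f // @Cfsg.Agent.MO.TA.XA.mulT = f} := ⟨_, by first | (delta Cfsg.Agent.MO.TA.XA.mulT; rewrite [Cfsg.Agent.LsF.f439898_0.2, Cfsg.Agent.LsF.zadd_pat, Cfsg.Agent.LsF.zmul_pat]; exact rfl) | exact rfl⟩
private noncomputable def _root_.Cfsg.Agent.LsF.f439898_2 : {f // @Cfsg.Agent.MO.TA.XA.instDecidableEqT.decEq = f} := ⟨_, by first | (delta Cfsg.Agent.MO.TA.XA.instDecidableEqT.decEq; rewrite [Cfsg.Agent.LsF.zdecEq_eq, Cfsg.Agent.LsF.dite_eq]; (try delta Cfsg.Agent.MO.TA.XA.instDecidableEqT.decEq.match_1); (try delta Cfsg.Agent.MO.TA.XA.T.casesOn); exact rfl) | exact rfl⟩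
private noncomputable def _root_.Cfsg.Agent.LsF.f439898_3 : {f // @Cfsg.Agent.MO.TA.XA.instDecidableEqT = f} := ⟨_, by first | (delta Cfsg.Agent.MO.TA.XA.instDecidableEqT; rewrite [Cfsg.Agent.LsF.f439898_2.2]; exact rfl) | exact rfl⟩
private noncomputable def _root_.Cfsg.Agent.LsF.f439898_4 : {f // @Cfsg.Agent.MO.TA.XA.fintypeT = f} := ⟨_, by first | (delta Cfsg.Agent.MO.TA.XA.fintypeT; rewrite [Cfsg.Agent.LsF.zFintype_eq, Cfsg.Agent.LsF.prodFintype_eq, Cfsg.Agent.LsF.ofEqv_eq]; exact rfl) | exact rfl⟩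
theorem unit_of : ∀ t : T, t.det ≠ 0 → t * (t * t * t * t * t * t * t * (t * t * t * t * t * t * t * t *
    (t * t * t * t * t * t * t * t))) = 1 := by (refine of_decide_eq_true ?_; (try (rewrite [Cfsg.Agent.LsF.f439898_0.2, Cfsg.Agent.LsF.f439898_1.2, Cfsg.Agent.LsF.f439898_3.2, Cfsg.Agent.LsF.f439898_4.2, Cfsg.Agent.LsF.zdecEq_eq, Cfsg.Agent.LsF.dForall_eq, Cfsg.Agent.LsF.dNot_eq, Cfsg.Agent.LsF.dAllP_eq, Cfsg.Agent.LsF.decide_eq])); decide +kernel)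

private noncomputable def _root_.Cfsg.Agent.LsF.f439898_5 : {f // @Cfsg.Agent.Characters.GL23Table.dec = f} := ⟨_, by first | (delta Cfsg.Agent.Characters.GL23Table.dec; rewrite [Cfsg.Agent.LsF.ndiv_pat, Cfsg.Agent.LsF.nmod_pat, Cfsg.Agent.LsF.isub_pat, Cfsg.Agent.LsF.icast_pat]; exact rfl) | exact rfl⟩
private noncomputable def _root_.Cfsg.Agent.LsF.f439898_6 : {f // @Cfsg.Agent.Characters.GL23Table.idx = f} := ⟨_, by first | (delta Cfsg.Agent.Characters.GL23Table.idx; rewrite [Cfsg.Agent.LsF.nadd_pat, Cfsg.Agent.LsF.nmul_pat, Cfsg.Agent.LsF.zval_eq]; exact rfl) | exact rfl⟩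
private noncomputable def _root_.Cfsg.Agent.LsF.f439898_7 : {f // @Cfsg.Agent.Characters.GL23Table.p = f} := ⟨_, by first | (delta Cfsg.Agent.Characters.GL23Table.p; rewrite [Cfsg.Agent.LsF.f439898_5.2, Cfsg.Agent.LsF.f439898_6.2, Cfsg.Agent.LsF.ndiv_pat, Cfsg.Agent.LsF.nmod_pat, Cfsg.Agent.LsF.npow_pat]; exact rfl) | exact rfl⟩
private noncomputable def _root_.Cfsg.Agent.LsF.f439898_8 : {f // @Cfsg.Agent.Characters.GL23Table.s = f} := ⟨_, by first | (delta Cfsg.Agent.Characters.GL23Table.s; rewrite [Cfsg.Agent.LsF.f439898_5.2, Cfsg.Agent.LsF.f439898_6.2, Cfsg.Agent.LsF.ndiv_pat, Cfsg.Agent.LsF.nmod_pat, Cfsg.Agent.LsF.npow_pat]; exact rfl) | exact rfl⟩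
private noncomputable def _root_.Cfsg.Agent.LsF.f439898_9 : {f // @Cfsg.Agent.Characters.GL23Table.psi = f} := ⟨_, by first | (delta Cfsg.Agent.Characters.GL23Table.psi; rewrite [Cfsg.Agent.LsF.f439898_7.2, Cfsg.Agent.LsF.f439898_8.2]; exact rfl) | exact rfl⟩
private noncomputable def _root_.Cfsg.Agent.LsF.f439898_10 : {f // @Cfsg.Agent.MO.TA.XA.pt = f} := ⟨_, by first | (delta Cfsg.Agent.MO.TA.XA.pt; rewrite [Cfsg.Agent.LsF.f439898_0.2, Cfsg.Agent.LsF.zadd_pat, Cfsg.Agent.LsF.zmul_pat]; exact rfl) | exact rfl⟩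
private noncomputable def _root_.Cfsg.Agent.LsF.f439898_11 : {f // @Cfsg.Agent.MO.TA.XA.fx = f} := ⟨_, by first | (delta Cfsg.Agent.MO.TA.XA.fx; rewrite [Cfsg.Agent.LsF.f439898_10.2, Cfsg.Agent.LsF.zdecEq_eq, Cfsg.Agent.LsF.dProdEq_eq, Cfsg.Agent.LsF.zFintype_eq, Cfsg.Agent.LsF.prodFintype_eq, Cfsg.Agent.LsF.fsum_eq, Cfsg.Agent.LsF.ite_eq]; exact rfl) | exact rfl⟩
private noncomputable def _root_.Cfsg.Agent.LsF.f439898_12 : {f // @Cfsg.Agent.MO.TA.XA.Ps = f} := ⟨_, by first | (delta Cfsg.Agent.MO.TA.XA.Ps; rewrite [Cfsg.Agent.LsF.f439898_9.2, Cfsg.Agent.LsF.f439898_11.2]; (try delta Cfsg.Agent.MO.TA.XA.Ps.match_1); (try delta Fin.casesOn Nat.casesOn Nat.le.casesOn); exact rfl) | exact rfl⟩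
theorem nrm_all : #{t : T | t.det ≠ 0} = 432 ∧ ∀ i, ∑ t : T with t.det ≠ 0, Ps i t * star (Ps i t) = (432 : ℕ) * 1 := by
  (refine of_decide_eq_true ?_; (try (rewrite [Cfsg.Agent.LsF.f439898_0.2, Cfsg.Agent.LsF.f439898_4.2, Cfsg.Agent.LsF.f439898_12.2, Cfsg.Agent.LsF.zdecEq_eq, Cfsg.Agent.LsF.fsum_eq, Cfsg.Agent.LsF.fcard_eq, Cfsg.Agent.LsF.ffilter_eq, Cfsg.Agent.LsF.instDecEq_eq, Cfsg.Agent.LsF.dAnd_eq, Cfsg.Agent.LsF.dNot_eq, Cfsg.Agent.LsF.dForallFin_eq, Cfsg.Agent.LsF.decide_eq])); decide +kernel)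

theorem nrm_zero : #{t : T | t.det = 1} = 216 ∧ ∀ i, ∑ t : T with t.det = 1, Ps i t * star (Ps i t) = (216 : ℕ) * 1 := by
  (refine of_decide_eq_true ?_; (try (rewrite [Cfsg.Agent.LsF.f439898_0.2, Cfsg.Agent.LsF.f439898_4.2, Cfsg.Agent.LsF.f439898_12.2, Cfsg.Agent.LsF.zdecEq_eq, Cfsg.Agent.LsF.fsum_eq, Cfsg.Agent.LsF.fcard_eq, Cfsg.Agent.LsF.ffilter_eq, Cfsg.Agent.LsF.instDecEq_eq, Cfsg.Agent.LsF.dAnd_eq, Cfsg.Agent.LsF.dForallFin_eq, Cfsg.Agent.LsF.decide_eq])); decide +kernel)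

private noncomputable def _root_.Cfsg.Agent.LsF.f439898_13 : {f // @Cfsg.Agent.MO.TA.XA.ep = f} := ⟨_, by first | (delta Cfsg.Agent.MO.TA.XA.ep; rewrite [Cfsg.Agent.LsF.zmul_pat, Cfsg.Agent.LsF.zdecEq_eq, Cfsg.Agent.LsF.ite_eq]; exact rfl) | exact rfl⟩
theorem nrm_one : #{t : T | t.det = 1 ∧ sd t} = 72 ∧
    (∀ i, i ≠ 3 → ∑ t : T with t.det = 1 ∧ sd t, Ps i t * star (Ps i t) = (72 : ℕ) * 1) ∧
    ∑ t : T with t.det = 1 ∧ sd t, Ps 3 t * star ((ep t : ℤ) : R) = (72 : ℕ) * 1 := by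
  (refine of_decide_eq_true ?_; (try (delta Cfsg.Agent.MO.TA.XA.decSd Cfsg.Agent.MO.TA.XA.decSd._aux_1 Cfsg.Agent.MO.TA.XA.sd; rewrite [Cfsg.Agent.LsF.f439898_0.2, Cfsg.Agent.LsF.f439898_4.2, Cfsg.Agent.LsF.f439898_12.2, Cfsg.Agent.LsF.f439898_13.2, Cfsg.Agent.LsF.zdecEq_eq, Cfsg.Agent.LsF.fsum_eq, Cfsg.Agent.LsF.fcard_eq, Cfsg.Agent.LsF.ffilter_eq, Cfsg.Agent.LsF.instDecEq_eq, Cfsg.Agent.LsF.dAnd_eq, Cfsg.Agent.LsF.dNot_eq, Cfsg.Agent.LsF.dFinEq_eq, Cfsg.Agent.LsF.dForallFin_eq, Cfsg.Agent.LsF.dAllP_eq, Cfsg.Agent.LsF.dIffI_eq, Cfsg.Agent.LsF.decide_eq])); decide +kernel)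

theorem reg : ∀ t : T, t.det = 1 ∧ sd t →
    star (Ps 0 t) + 2 * star (Ps 1 t) + 8 * star (Ps 2 t) + star (Ps 3 t) = if t = 1 then 72 else 0 := by
  (refine of_decide_eq_true ?_; (try (delta Cfsg.Agent.MO.TA.XA.decSd Cfsg.Agent.MO.TA.XA.decSd._aux_1 Cfsg.Agent.MO.TA.XA.sd; rewrite [Cfsg.Agent.LsF.f439898_0.2, Cfsg.Agent.LsF.f439898_12.2, Cfsg.Agent.LsF.f439898_3.2, Cfsg.Agent.LsF.f439898_4.2, Cfsg.Agent.LsF.zdecEq_eq, Cfsg.Agent.LsF.dForall_eq, Cfsg.Agent.LsF.dAnd_eq, Cfsg.Agent.LsF.dAllP_eq, Cfsg.Agent.LsF.dIffI_eq, Cfsg.Agent.LsF.ite_eq, Cfsg.Agent.LsF.decide_eq])); decide +kernel)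

theorem van : ∀ t : T, t.det = 1 → ¬ sd t → Ps 3 t = 0 := by (refine of_decide_eq_true ?_; (try (delta Cfsg.Agent.MO.TA.XA.decSd Cfsg.Agent.MO.TA.XA.decSd._aux_1 Cfsg.Agent.MO.TA.XA.sd; rewrite [Cfsg.Agent.LsF.f439898_0.2, Cfsg.Agent.LsF.f439898_12.2, Cfsg.Agent.LsF.f439898_4.2, Cfsg.Agent.LsF.zdecEq_eq, Cfsg.Agent.LsF.dForall_eq, Cfsg.Agent.LsF.dAnd_eq, Cfsg.Agent.LsF.dNot_eq, Cfsg.Agent.LsF.dAllP_eq, Cfsg.Agent.LsF.dIffI_eq, Cfsg.Agent.LsF.decide_eq])); decide +kernel)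

theorem cube : ∀ t : T, t.det = 1 → (t * t * t).det = 1 ∧ sd (t * t * t) := by (refine of_decide_eq_true ?_; (try (delta Cfsg.Agent.MO.TA.XA.decSd Cfsg.Agent.MO.TA.XA.decSd._aux_1 Cfsg.Agent.MO.TA.XA.sd; rewrite [Cfsg.Agent.LsF.f439898_0.2, Cfsg.Agent.LsF.f439898_1.2, Cfsg.Agent.LsF.f439898_4.2, Cfsg.Agent.LsF.zdecEq_eq, Cfsg.Agent.LsF.dForall_eq, Cfsg.Agent.LsF.dAnd_eq, Cfsg.Agent.LsF.dAllP_eq, Cfsg.Agent.LsF.dIffI_eq, Cfsg.Agent.LsF.decide_eq])); decide +kernel)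

set_option synthInstance.maxSize 1024 in
theorem ep_mul {t s : T} (h1 : t.det ≠ 0) (h2 : sd t) (h3 : s.det ≠ 0) (h4 : sd s) : ep (t * s) = ep t * ep s :=
  (by (refine of_decide_eq_true ?_; (try (delta Cfsg.Agent.MO.TA.XA.decSd Cfsg.Agent.MO.TA.XA.decSd._aux_1 Cfsg.Agent.MO.TA.XA.sd; rewrite [Cfsg.Agent.LsF.f439898_13.2, Cfsg.Agent.LsF.f439898_1.2, Cfsg.Agent.LsF.zmul_pat, Cfsg.Agent.LsF.zsub_pat, Cfsg.Agent.LsF.zdecEq_eq, Cfsg.Agent.LsF.zFintype_eq, Cfsg.Agent.LsF.dForall_eq, Cfsg.Agent.LsF.instIDecEq_eq, Cfsg.Agent.LsF.dAnd_eq, Cfsg.Agent.LsF.dNot_eq, Cfsg.Agent.LsF.dAllP_eq, Cfsg.Agent.LsF.dIffI_eq, Cfsg.Agent.LsF.decide_eq])); decide +kernel) : ∀ a b c d : ZMod 3, a * d - b * c ≠ 0 → sd ⟨a, b, c, d, 0, 0⟩ → ∀ a' b' c' d' : ZMod 3,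
    a' * d' - b' * c' ≠ 0 → sd ⟨a', b', c', d', 0, 0⟩ → ep (⟨a, b, c, d, 0, 0⟩ * ⟨a', b', c', d', 0, 0⟩) =
      ep ⟨a, b, c, d, 0, 0⟩ * ep ⟨a', b', c', d', 0, 0⟩) _ _ _ _ h1 h2 _ _ _ _ h3 h4

/-- inner products of pulled back functions -/
theorem ip_hom {K : Type} [Group K] [Finite K] (φ : K →* T) (P : T → Prop) [DecidablePred P]
    (hP : ∀ t, P t ↔ ∃ x, φ x = t) (f g : T → R) {n : ℕ} (hn : #{t | P t} = n) {y : R}
    (hy : ∑ t with P t, f t * star (g t) = n * y) : ip (fun x => emb (f (φ x))) (fun x => emb (g (φ x))) = emb y := by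
  have := Fintype.ofFinite K
  have key : ∀ F : T → ℂ, ∑ x, F (φ x) = #{x | φ x = 1} * ∑ t with P t, F t := fun F => by
    rw [← sum_fiberwise_of_maps_to (s := univ) (t := {t | P t}) (g := φ) (fun x _ => by simpa using (hP _).2 ⟨x, rfl⟩),
      mul_sum]
    refine sum_congr rfl fun t ht => ?_
    rw [sum_congr rfl (g := fun _ => F t) fun x hx => by rw [(mem_filter.1 hx).2], sum_const, nsmul_eq_mul,
      MonoidHom.card_fiber_eq_of_mem_range φ ((hP t).1 (mem_filter.1 ht).2) ⟨1, map_one φ⟩]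
  have h1 := key fun _ => 1
  have h2 := key fun t => emb (f t * star (g t))
  rw [sum_const, sum_const, hn, nsmul_one, nsmul_one, card_univ, ← Nat.card_eq_fintype_card] at h1
  rw [← map_sum emb _ (filter _ _), hy, map_mul, map_natCast, ← mul_assoc, ← h1] at h2
  rw [ip_def, sum_congr rfl fun x _ => by rw [← emb_star, ← map_mul], h2, inv_mul_cancel_left₀ card_ne_zero_complex]

theorem isChar_trace {G n : Type} [Group G] [Fintype n] [DecidableEq n] (M : G →* Matrix n n R) :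
    IsCharacter G fun g => emb (M g).trace := by
  have h := isCharacter_of_rep (G := G) ((Matrix.toLinAlgEquiv' (R := ℂ) (n := n)).toAlgHom.toMonoidHom.comp
    ((emb.mapMatrix : Matrix n n R →+* Matrix n n ℂ).toMonoidHom.comp M))
  convert h using 2 with g
  exact ((Matrix.trace_toLin'_eq ((M g).map emb)).trans (AddMonoidHom.map_trace emb.toAddMonoidHom _).symm).symm

theorem isChar_psi : IsCharacter Tˣ fun g => emb (Ps 1 g) := by
  have h := isChar_trace (G := Tˣ) (n := Fin 2)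
    { toFun g := !![p g.1.a g.1.b g.1.c g.1.d, q g.1.a g.1.b g.1.c g.1.d; r g.1.a g.1.b g.1.c g.1.d, s g.1.a g.1.b g.1.c g.1.d]
      map_one' := by
        obtain ⟨h1, h2, h3, h4⟩ := pqrs_one
        change !![p 1 0 0 1, q 1 0 0 1; r 1 0 0 1, s 1 0 0 1] = _
        rw [h1, h2, h3, h4, Matrix.one_fin_two]
      map_mul' g h := by
        obtain ⟨h1, h2, h3, h4⟩ := pqrs_mul g.1.a g.1.b g.1.c g.1.d h.1.a h.1.b h.1.c h.1.d (det_ne (Units.coeHom T) g)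
          (det_ne (Units.coeHom T) h)
        rw [Matrix.mul_fin_two, ← h1, ← h2, ← h3, ← h4]
        rfl }
  simp only [Matrix.trace_fin_two] at h
  exact h

theorem isChar_fx : IsCharacter Tˣ fun g => emb (fx g) := by
  have h := isChar_trace (G := Tˣ) (n := ZMod 3 × ZMod 3)
    { toFun g := Matrix.of fun x y => if y = pt x g then 1 else 0
      map_one' := by
        refine Matrix.ext fun x y => ?_
        rw [Matrix.of_apply, Matrix.one_apply, show pt x (1 : Tˣ) = x by simp [pt, one_def, T.det]]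
        simp only [eq_comm]
      map_mul' g h := by
        refine Matrix.ext fun x y => ?_
        simp only [Matrix.mul_apply, Matrix.of_apply, Units.val_mul, pt_mul x (show g.1.det ≠ 0 from det_ne (Units.coeHom T) g),
          ite_mul, one_mul, zero_mul, sum_ite_eq', mem_univ, if_true] }
  exact h

theorem ip_units (f g : T → R) {y : R} (hy : ∑ t with T.det t ≠ 0, f t * star (g t) = (432 : ℕ) * y) :
    ip (fun x : Tˣ => emb (f x)) (fun x => emb (g x)) = emb y :=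
  ip_hom (Units.coeHom T) (fun t => t.det ≠ 0) (fun t => ⟨fun h => (IsUnit.of_mul_eq_one _ (unit_of t h)),
    fun ⟨x, e⟩ => e ▸ det_ne _ x⟩) f g nrm_all.1 hy

theorem isChar_of {f : Tˣ → ℂ} {i : Fin 4} (hf : IsCharacter Tˣ f) (e : (fun g : Tˣ => emb (Ps i g)) = f - 1) :
    IsCharacter Tˣ fun g => emb (Ps i g) := by
  have := Fintype.ofFinite Tˣ
  have h1 := ip_units _ _ (nrm_all.2 i)
  rw [ip_eq, map_one] at h1
  rcases isIrr_of_generalized ⟨f, 1, hf, isCharacter_one, e⟩ h1 with h | h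
  · exact isIrr_isCharacter h
  · obtain ⟨n, -, h2⟩ := isIrr_apply_one h
    rw [Pi.neg_apply, Units.val_one, Ps_one, map_natCast, neg_eq_iff_add_eq_zero, ← Nat.cast_add, Nat.cast_eq_zero] at h2
    exact absurd (Nat.eq_zero_of_add_eq_zero_right h2) ((by decide : ∀ i, dd i ≠ 0) i)

theorem isChar_Ps (i : Fin 4) : IsCharacter Tˣ fun g => emb (Ps i g) :=
  match i with
  | 0 => by
      simp only [Ps, map_one]
      exact isCharacter_one
  | 1 => isChar_psi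
  | 2 => isChar_of isChar_fx (funext fun g => by simp only [Ps, map_sub, map_one, Pi.sub_apply, Pi.one_apply])
  | 3 => isChar_of (isCharacter_mul isChar_psi (isCharacter_conj isChar_psi)) (funext fun g => by
      simp only [Ps, c3', map_sub, map_one, map_mul, emb_star, Pi.sub_apply, Pi.one_apply, Pi.mul_apply])

theorem isChar_hom {K : Type} [Group K] (φ : K →* T) (i : Fin 4) : IsCharacter K fun x => emb (Ps i (φ x)) :=
  isCharacter_comp φ.toHomUnits (isChar_Ps i)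

variable {A : Type} [Group A]

/-- the data of the local subgroup -/
structure Hyp (N Nt Nh C : Subgroup A) (F : A) (Zc Z₀ : Set A) (ρ : C →* T) : Prop where
  fr : Fr C N Nt Nh F
  h0 : ∀ t : T, t.det = 1 ↔ ∃ a : C, (a : A) ∈ Nt ∧ ρ a = t
  h1 : ∀ t : T, t.det = 1 ∧ sd t ↔ ∃ a : C, (a : A) ∈ N ∧ ρ a = t
  h2 : ∀ a : C, (a : A) ∈ Nh → sd (ρ a)
  hF : ∀ a : C, (a : A) = F → ρ a = 1
  hz : ∀ a : C, (a : A) ∈ Nt → (a : A) ∈ Zc → ρ a = 1
  hk : ∀ a : C, (a : A) ∈ Nt → ρ a = 1 → ∃ m : ℕ, ¬ 3 ∣ m ∧ (a : A) ^ m ∈ N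
  hk0 : ∀ a : C, (a : A) ∈ N → ρ a = 1 → (a : A) ∈ Z₀

namespace Hyp

variable {N Nt Nh C : Subgroup A} {F : A} {Zc Z₀ : Set A} {ρ : C →* T}

/-- the characters of `Nt` -/
noncomputable def ps (h : Hyp N Nt Nh C F Zc Z₀ ρ) (i : Fin 4) : Nt → ℂ := fun x => emb (Ps i (ρ (inclusion h.fr.tB x)))

theorem le (h : Hyp N Nt Nh C F Zc Z₀ ρ) : N ≤ C := (As.le_t h.fr).trans h.fr.tB

theorem res_ps (h : Hyp N Nt Nh C F Zc Z₀ ρ) (i : Fin 4) :
    res N (h.ps i) = fun x => emb (Ps i (ρ.comp (inclusion h.le) x)) := funext fun x => res_of_le (As.le_t h.fr) _ x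

theorem ps_one (h : Hyp N Nt Nh C F Zc Z₀ ρ) (i : Fin 4) {x : Nt} (hx : ρ (inclusion h.fr.tB x) = 1) : h.ps i x = dd i := by
  rw [ps, hx, Ps_one, map_natCast]

theorem rg (h : Hyp N Nt Nh C F Zc Z₀ ρ) (t : T) : t.det = 1 ∧ sd t ↔ ∃ x, ρ.comp (inclusion h.le) x = t :=
  (h.h1 t).trans ⟨fun ⟨a, ha, e⟩ => ⟨⟨a, ha⟩, e⟩, fun ⟨a, e⟩ => ⟨_, a.2, e⟩⟩

/-- an element of `Nt` with image in the image of `N` -/
theorem split (h : Hyp N Nt Nh C F Zc Z₀ ρ) {μ : Nt →* ℂˣ} (hμ : Lin N μ)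
    (h1 : ∀ z : Nt, ρ (inclusion h.fr.tB z) = 1 → μ z = 1) (x : Nt)
    (hx : (ρ (inclusion h.fr.tB x)).det = 1 ∧ sd (ρ (inclusion h.fr.tB x))) : μ x = 1 := by
  obtain ⟨a, ha, e⟩ := (h.h1 _).1 hx
  have h2 := h1 ((⟨a, As.le_t h.fr ha⟩ : Nt)⁻¹ * x) (by
    rw [map_mul, map_mul, ← e]
    exact (map_mul ρ a⁻¹ a).symm.trans (by rw [inv_mul_cancel, map_one]))
  rwa [map_mul, map_inv, hμ _ ha, inv_one, one_mul] at h2

variable [Finite A]

theorem irr (h : Hyp N Nt Nh C F Zc Z₀ ρ) (i : Fin 4) : IsIrrCharacter Nt (h.ps i) := by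
  have := Fintype.ofFinite Nt
  refine isIrr_of_classInner_self (isChar_hom (ρ.comp (inclusion h.fr.tB)) i) ?_
  rw [← ip_eq, ← map_one emb]
  exact ip_hom (ρ.comp (inclusion h.fr.tB)) (fun t => t.det = 1)
    (fun t => (h.h0 t).trans ⟨fun ⟨a, ha, e⟩ => ⟨⟨a, ha⟩, e⟩, fun ⟨a, e⟩ => ⟨_, a.2, e⟩⟩) _ _ nrm_zero.1 (nrm_zero.2 i)

theorem ip_res (h : Hyp N Nt Nh C F Zc Z₀ ρ) {i : Fin 4} (hi : i ≠ 3) : ip (res N (h.ps i)) (res N (h.ps i)) = 1 := by
  rw [h.res_ps, ← map_one emb]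
  exact ip_hom _ _ h.rg _ _ nrm_one.1 (nrm_one.2.1 i hi)

theorem irr_res (h : Hyp N Nt Nh C F Zc Z₀ ρ) {i : Fin 4} (hi : i ≠ 3) : IsIrrCharacter N (res N (h.ps i)) := by
  have := Fintype.ofFinite N
  exact isIrr_of_classInner_self (res_char (As.le_t h.fr) (isIrr_isCharacter (h.irr i))) ((ip_eq _ _).symm.trans (h.ip_res hi))

theorem stab (h : Hyp N Nt Nh C F Zc Z₀ ρ) {μ : Nt →* ℂˣ} (hμ : Lin N μ) (i : Fin 4) :
    (fun x => (μ x : ℂ) * h.ps i x) = h.ps i ↔ μ ^ ![1, 1, 1, 3] i = 1 := by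
  by_cases hi : i = 3
  · subst hi
    have h0 : ∀ x : Nt, (ρ (inclusion h.fr.tB x)).det = 1 := fun x => (h.h0 _).2 ⟨_, x.2, rfl⟩
    change _ ↔ μ ^ 3 = 1
    refine ⟨fun e => MonoidHom.ext fun x => ?_, fun e => funext fun x => ?_⟩
    · rw [MonoidHom.pow_apply, ← map_pow]
      refine h.split hμ (fun z hz => Units.ext ?_) _ ?_
      · have h1 := congrFun e z
        rw [h.ps_one 3 hz] at h1
        exact (mul_eq_right₀ (Nat.cast_ne_zero.2 (by decide))).1 h1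
      · rw [map_pow, map_pow, pow_three']
        exact cube _ (h0 x)
    · by_cases hx : sd (ρ (inclusion h.fr.tB x))
      · rw [h.split hμ (fun z hz => ?_) x ⟨h0 x, hx⟩, Units.val_one, one_mul]
        obtain ⟨m, hm, h1⟩ := h.hk _ z.2 hz
        have h2 : μ z ^ m = 1 := (map_pow μ z m).symm.trans (hμ _ h1)
        have h3 : μ z ^ 3 = 1 := DFunLike.congr_fun e z
        rw [← pow_one (μ z), ← ((Nat.Prime.coprime_iff_not_dvd Nat.prime_three).2 hm).gcd_eq_one, pow_gcd_eq_one]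
        exact ⟨h3, h2⟩
      · rw [ps, van _ (h0 x) hx, map_zero, mul_zero]
  · rw [show ![1, 1, 1, 3] i = 1 from (by decide : ∀ i : Fin 4, i ≠ 3 → ![1, 1, 1, 3] i = 1) i hi, pow_one]
    exact ⟨fun e => h.fr.cq.aq.eq_one (h.irr i) (h.irr_res hi) hμ (congrFun e), fun e => by simp [e]⟩

theorem out (h : Hyp N Nt Nh C F Zc Z₀ ρ) {φ : Nt → ℂ} (hφ : IsIrrCharacter _ φ) (hz : ∀ z : Nt, (z : A) ∈ Z₀ → φ z = φ 1) :
    ∃ i, ip (res N φ) (res N (h.ps i)) ≠ 0 := by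
  classical
  have := Fintype.ofFinite N
  by_contra h1
  push Not at h1
  have h2 : ∀ i, ∑ x, res N φ x * emb (star (Ps i (ρ.comp (inclusion h.le) x))) = 0 := fun i => by
    have h3 := h1 i
    rw [ip_def, h.res_ps, mul_eq_zero, inv_eq_zero] at h3
    simpa only [emb_star] using h3.resolve_left card_ne_zero_complex
  have h3 : ∑ x : N, (if ρ.comp (inclusion h.le) x = 1 then 72 * φ 1 else 0) = 0 := by
    have h3 := (by intro a b c d h1 h2 h3 h4; simp [*] : ∀ a b c d : ℂ, a = 0 → b = 0 → c = 0 → d = 0 →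
      a + 2 * b + 8 * c + d = 0) _ _ _ _ (h2 0) (h2 1) (h2 2) (h2 3)
    rw [mul_sum, mul_sum, ← sum_add_distrib, ← sum_add_distrib, ← sum_add_distrib] at h3
    refine (sum_congr rfl fun x _ => ?_).trans h3
    have h4 := congrArg emb (reg _ ((h.rg _).2 ⟨x, rfl⟩))
    simp only [map_add, map_mul, map_ofNat] at h4
    split_ifs at h4 ⊢ with h5
    · rw [map_ofNat] at h4
      rw [← hz ⟨x, As.le_t h.fr x.2⟩ (h.hk0 _ x.2 h5), ← res_apply φ x ⟨x, As.le_t h.fr x.2⟩ rfl]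
      linear_combination -res N φ x * h4
    · rw [map_zero] at h4
      linear_combination -res N φ x * h4
  rw [← sum_filter, sum_const, nsmul_eq_mul] at h3
  exact mul_ne_zero (Nat.cast_ne_zero.2 (card_ne_zero_of_mem (a := 1) (by simp only [_root_.MonoidHom.coe_comp, _root_.Function.comp_apply, _root_.Finset.mem_filter, _root_.Finset.mem_univ, _root_.map_one, _root_.and_self])))
    (mul_ne_zero (by norm_num) (isIrr_apply_one_ne_zero hφ)) h3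

theorem good (h : Hyp N Nt Nh C F Zc Z₀ ρ) (i : Fin 4) : ∃ θ, Good N Nh F (h.ps i) θ := by
  have hS : Stb Nh N (res N (h.ps i)) ≤ C := (stb_le _).trans h.fr.hB
  have hN : N ≤ Stb Nh N (res N (h.ps i)) := Nq.le_stb ⟨As.le_h h.fr, fun b hb => h.fr.nN b (h.fr.hB hb)⟩
    (isCharacter_isClassFunction (res_char (As.le_t h.fr) (isIrr_isCharacter (h.irr i))))
  by_cases hi : i = 3
  · subst hi
    let ε : Nh →* ℂˣ := (Units.map (Int.castRingHom ℂ : ℤ →* ℂ)).comp (MonoidHom.mk' (fun x => ep (ρ (inclusion h.fr.hB x)))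
      fun x y => by
        rw [map_mul, map_mul]
        exact ep_mul (det_ne _ _) (h.h2 _ x.2) (det_ne _ _) (h.h2 _ y.2))
    have hl : ∀ {K : Subgroup A} (hK : K ≤ Nh), IsIrrCharacter K fun x => (ε (inclusion hK x) : ℂ) := fun {K} hK => by
      simpa only [_root_.MonoidHom.coe_comp, _root_.Function.comp_apply, _root_.Pi.one_apply, _root_.mul_one] using irr_lin (ε.comp (inclusion hK)) isIrr_one
    refine ⟨_, hl (As.le_h h.fr), ?_, _, isIrr_isCharacter (hl (stb_le _)), funext fun x => res_of_le hN _ x,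
      fun y hy => ?_⟩
    · have h1 := ip_hom _ _ h.rg (Ps 3) (fun t => ((ep t : ℤ) : R)) nrm_one.1 nrm_one.2.2
      simp only [map_intCast, map_one] at h1
      rw [h.res_ps]
      exact fun e => one_ne_zero (h1.symm.trans e)
    · change ((ep (ρ _) : ℤ) : ℂ) = ((ep (ρ _) : ℤ) : ℂ)
      rw [h.hF _ hy, map_one, map_one, map_one]
  · refine ⟨_, h.irr_res hi, by rw [h.ip_res hi]; exact one_ne_zero, _, isChar_hom (ρ.comp (inclusion hS)) i,
      funext fun x => (res_of_le hN _ x).trans (congrFun (h.res_ps i) x).symm, fun y hy => ?_⟩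
    rw [map_one, show ρ.comp (inclusion hS) y = 1 from h.hF _ hy]

/-- **base points and good constituents** -/
theorem base (h : Hyp N Nt Nh C F Zc Z₀ ρ) : ∃ ψ : Fin 4 → Nt → ℂ, Base 3 N Nt C Zc Z₀ ψ ![1, 1, 1, 3] ![0, 0, 0, 1] ∧
    ∀ i, ∃ θ, Good N Nh F (ψ i) θ := by
  have h1 : ∀ i, h.ps i 1 = dd i := fun i => h.ps_one i (by rw [map_one, map_one])
  refine ⟨h.ps, ⟨h.irr, fun c hc i x y e => ?_, fun z hz i => (h.ps_one i (h.hz _ z.2 hz)).trans (h1 i).symm, fun i => ?_,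
    fun μ hμ i j => ⟨fun e => ?_, fun ⟨e, e'⟩ => e ▸ (h.stab hμ i).2 e'⟩, fun φ hφ hz => Or.inl ?_⟩, h.good⟩
  · exact (congrArg (fun w => emb (Ps i (ρ w))) (Subtype.ext e)).trans
      (isCharacter_isClassFunction (isChar_hom ρ i) (inclusion h.fr.tB x) ⟨c, hc⟩)
  · rw [deg_eq (h1 i), Nat.factorization_def _ Nat.prime_three]
    exact (by decide +kernel : ∀ i, padicValNat 3 (dd i) = ![0, 0, 0, 1] i) i
  · have h2 := congrFun e 1
    rw [map_one, Units.val_one, one_mul, h1, h1, Nat.cast_inj] at h2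
    obtain rfl : i = j := (by decide : ∀ i j, dd i = dd j → i = j) i j h2
    exact ⟨rfl, (h.stab hμ i).1 e⟩
  · obtain ⟨i, hi⟩ := h.out hφ hz
    obtain ⟨μ, h2, h3⟩ := h.fr.cq.aq.twist (h.irr i) hφ fun e => hi (by rw [← ip_conj, e, map_zero])
    exact ⟨μ, i, h2, h3⟩

end Hyp

end Cfsg.Agent.MO.TA.XA
end

-- part: MO/TA/XL
section
/-!
# MO, types `A` and `²A`: the exception, the normaliser of the Sylow subgroup (helper68)
-/

set_option autoImplicit false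

namespace Cfsg.Agent.MO.TA.X

open Cfsg Subgroup
open scoped MatrixGroups Pointwise

/-- a normal `l`-subgroup of a quasisimple group is central -/
theorem le_center {A : Type} [Group A] [Finite A] (h : IsQuasisimple A) {l : ℕ} [Fact l.Prime] (N : Subgroup A)
    [hN : N.Normal] (hp : IsPGroup l N) : N ≤ center A := by
  have := h.1
  have := h.2
  rcases (hN.map _ (QuotientGroup.mk'_surjective (center A))).eq_bot_or_eq_top with e | e
  · rwa [Subgroup.map_eq_bot_iff, QuotientGroup.ker_mk'] at e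
  · have h1 := (e ▸ hp.map (QuotientGroup.mk' (center A)) : IsPGroup l (⊤ : Subgroup (A ⧸ center A)))
    exact absurd (h1.of_equiv topEquiv).isNilpotent (Group.IsPerfect.not_isNilpotent _)

/-- the normaliser of a non-abelian Sylow subgroup -/
theorem loc_abs {A : Type} [Group A] [Finite A] {B G Gt Gh P : Subgroup A} {F : A} {l : ℕ} [Fact l.Prime]
    (fr : Fr B G Gt Gh F) (qs : IsQuasisimple G) (hP : P ≤ G) (hp : IsPGroup l P) (hi : ¬ l ∣ P.relIndex G)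
    (hn : ∃ p ∈ P, ∃ q ∈ P, p * q ≠ q * p) : Loc l B G Gt (B ⊓ normalizer (P : Set A)) F := by
  have hB : G ≤ B := (As.le_t fr).trans fr.tB
  have k : ∀ z : A, (∀ x ∈ G, z * x = x * z) → z ∈ normalizer (P : Set A) := fun z hz =>
    centralizer_le_normalizer _ fun x hx => (hz x (hP hx)).symm
  refine ⟨inf_le_left, fun b hb => ?_, fun z hz => ⟨fr.tB hz.1, k z fun x hx => hz.2 x (As.le_t fr hx)⟩,
    ⟨fr.hB fr.Fh, k F fun x hx => fr.Fc x (hB hx)⟩, fun h => ?_, P, hP, hp, hi,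
    fun b hb h => ⟨hb, mem_normalizer_fintype h⟩⟩
  · have h1 : IsPGroup l (P.subgroupOf G) := hp.comap_subtype
    let α : G ≃* G := cje (nr_of_all fr.nN hb)
    obtain ⟨g, hg⟩ := MulAction.exists_smul_eq G ((show MulAut G from α) • h1.toSylow hi) (h1.toSylow hi)
    have h2 : (g : A) * b ∈ B ⊓ normalizer (P : Set A) := ⟨mul_mem (hB g.2) hb, mem_normalizer_fintype fun x hx => by
      have h3 : MulAut.conj g • (show MulAut G from α) • (⟨x, hP hx⟩ : G) ∈ (h1.toSylow hi : Subgroup G) := by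
        rw [← hg]
        exact smul_mem_pointwise_smul _ _ _ (smul_mem_pointwise_smul _ _ _ hx)
      rw [show g * b * x * (g * b)⁻¹ = g * (b * x * b⁻¹) * (g : A)⁻¹ by group]
      exact h3⟩
    exact ⟨_, h2, _, fr.nN _ (inv_mem h2.1) _ (inv_mem g.2), by group⟩
  · have : (P.subgroupOf G).Normal := ⟨fun n hn g => (mem_normalizer_iff.1 (h g.2).2 n.1).1 hn⟩
    obtain ⟨p, h1, q, h2, h3⟩ := hn
    exact h3 (congrArg Subtype.val (mem_center_iff.1
      (le_center qs (P.subgroupOf G) hp.comap_subtype (x := ⟨q, hP h2⟩) h2) ⟨p, hP h1⟩))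

theorem loc_of (c : Cx) (h3 : vz 3 (c.Q - 1) = 1) (F : c.Frm (1 : GL (Fin 3) c.K))
    (qs : IsQuasisimple (c.G (1 : GL (Fin 3) c.K))) (P : Subgroup (c.AA (Fin 3))) (hP : P ≤ c.G 1)
    (hc : Nat.card P = 3 ^ 3) (hn : ∃ p ∈ P, ∃ q ∈ P, p * q ≠ q * p) :
    Loc 3 (c.Ah 1) (c.G 1) (c.Gt 1) (c.Ah 1 ⊓ normalizer (P : Set (c.AA (Fin 3)))) (c.tw 1) := by
  have : Fact (Nat.Prime 3) := ⟨Nat.prime_three⟩
  have h1 := XG.three_dvd h3
  have hp : 3 ≠ c.p := fun e => by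
    have h4 : (3 : ℤ) ∣ c.Q := by
      rw [c.hQ, ← e]
      exact (dvd_pow_self _ c.fpos.ne').mul_left _
    omega
  refine loc_abs F.fr qs hP (IsPGroup.of_card hc) (S.nd_rel Nat.prime_three hP ?_) hn
  have h4 := F.card 3 Nat.prime_three hp
  have h5 := ((c.G (1 : GL (Fin 3) c.K)).subgroupOf (c.Gt 1)).card_mul_index
  rw [Nat.card_congr (subgroupOfEquivOfLe (c.G_le_Gt 1)).toEquiv, ← relIndex, c.lg_one.relIndex ⟨0⟩] at h5
  rw [Fintype.card_fin, XG.vz_PH c.ctx.two h3, ← h5, Nat.factorization_mul Nat.card_pos.ne' fun e => by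
    rw [vz, e] at h3
    simp at h3, Finsupp.add_apply, show (c.Q - 1).natAbs.factorization 3 = 1 from h3] at h4
  rw [hc, Nat.factorization_pow_self Nat.prime_three]
  omega

end Cfsg.Agent.MO.TA.X
end

-- part: MO/TA/XB
section
/-!
# MO, types `A` and `²A`: the exception, the extraspecial group in `SL₃` (helper68)

* `He` : the extraspecial group of order `27` and exponent three; `ap` : the action of `T`; `exists_rho`;
* `hm` : its matrices; `Dj` : the homologies with centre `(1, 1, 1)`;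
* `boxXL_of`, `boxXL`.
-/

set_option autoImplicit false

namespace Cfsg.Agent.MO.TA.XA

open Cfsg Subgroup Matrix SemidirectProduct
open scoped MatrixGroups

/-- the extraspecial group in Lie coordinates -/
@[ext] structure He where
  /-- coordinate -/
  i : ZMod 3
  /-- coordinate -/
  j : ZMod 3
  /-- coordinate -/
  k : ZMod 3
  deriving DecidableEq

/-- coordinates -/
def eqvH : ZMod 3 × ZMod 3 × ZMod 3 ≃ He where
  toFun x := ⟨x.1, x.2.1, x.2.2⟩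
  invFun t := (t.i, t.j, t.k)
  left_inv _ := rfl
  right_inv _ := rfl

instance fintypeHe : Fintype He := Fintype.ofEquiv _ eqvH

instance mulHe : _root_.Mul He := ⟨fun p q => ⟨p.i + q.i, p.j + q.j, p.k + q.k + p.j * q.i - p.i * q.j⟩⟩

instance oneHe : _root_.One He := ⟨⟨0, 0, 0⟩⟩

instance invHe : Inv He := ⟨fun p => ⟨-p.i, -p.j, -p.k⟩⟩

theorem mulH (p q : He) : p * q = ⟨p.i + q.i, p.j + q.j, p.k + q.k + p.j * q.i - p.i * q.j⟩ := rfl

instance groupHe : Group He := Group.ofLeftAxioms (fun p q r => by ext <;> simp only [mulH] <;> ring) (by decide +kernel) (by decide +kernel)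

/-- the action of `T` -/
def ap (t : T) : He →* He :=
  MonoidHom.mk' (fun p => ⟨t.a * p.i + t.b * p.j, t.c * p.i + t.d * p.j, t.u * p.i + t.v * p.j + t.det * p.k⟩) fun p q => by
    ext <;> simp only [mulH, T.det] <;> ring

theorem ap_def (t : T) (p : He) :
    ap t p = ⟨t.a * p.i + t.b * p.j, t.c * p.i + t.d * p.j, t.u * p.i + t.v * p.j + t.det * p.k⟩ := rfl

theorem ap_mul (t s : T) (p : He) : ap (t * s) p = ap t (ap s p) := by
  ext <;> simp only [ap_def, mul_def, T.det] <;> ring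

theorem ap_one : ∀ p : He, ap 1 p = p := by decide +kernel

theorem ap_x (t : T) : ap t ⟨1, 0, 0⟩ = ⟨t.a, t.c, t.u⟩ := by simp [ap_def]

theorem ap_y (t : T) : ap t ⟨0, 1, 0⟩ = ⟨t.b, t.d, t.v⟩ := by simp [ap_def]

private noncomputable def _root_.Cfsg.Agent.LsF.f439898_14 : {f // @Cfsg.Agent.MO.TA.XA.mulHe = f} := ⟨_, by first | (delta Cfsg.Agent.MO.TA.XA.mulHe; rewrite [Cfsg.Agent.LsF.zadd_pat, Cfsg.Agent.LsF.zmul_pat, Cfsg.Agent.LsF.zsub_pat]; exact rfl) | exact rfl⟩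
private noncomputable def _root_.Cfsg.Agent.LsF.f439898_15 : {f // @Cfsg.Agent.MO.TA.XA.instDecidableEqHe.decEq = f} := ⟨_, by first | (delta Cfsg.Agent.MO.TA.XA.instDecidableEqHe.decEq; rewrite [Cfsg.Agent.LsF.zdecEq_eq, Cfsg.Agent.LsF.dite_eq]; (try delta Cfsg.Agent.MO.TA.XA.instDecidableEqHe.decEq.match_1); (try delta Cfsg.Agent.MO.TA.XA.He.casesOn); exact rfl) | exact rfl⟩
private noncomputable def _root_.Cfsg.Agent.LsF.f439898_16 : {f // @Cfsg.Agent.MO.TA.XA.instDecidableEqHe = f} := ⟨_, by first | (delta Cfsg.Agent.MO.TA.XA.instDecidableEqHe; rewrite [Cfsg.Agent.LsF.f439898_15.2]; exact rfl) | exact rfl⟩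
private noncomputable def _root_.Cfsg.Agent.LsF.f439898_17 : {f // @Cfsg.Agent.MO.TA.XA.fintypeHe = f} := ⟨_, by first | (delta Cfsg.Agent.MO.TA.XA.fintypeHe; rewrite [Cfsg.Agent.LsF.zFintype_eq, Cfsg.Agent.LsF.prodFintype_eq, Cfsg.Agent.LsF.ofEqv_eq]; exact rfl) | exact rfl⟩
theorem ap_inn : ∀ p q : He, p * q * p⁻¹ = ap ⟨1, 0, 0, 1, -p.j, p.i⟩ q := by (refine of_decide_eq_true ?_; (try (rewrite [Cfsg.Agent.LsF.f439898_14.2, Cfsg.Agent.LsF.f439898_16.2, Cfsg.Agent.LsF.f439898_17.2, Cfsg.Agent.LsF.zneg_pat, Cfsg.Agent.LsF.dForall_eq, Cfsg.Agent.LsF.decide_eq])); decide +kernel)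

theorem words : ∀ a b c d : ZMod 3, a * d - b * c = 1 → ∃ k l m n : Fin 3,
    (⟨a, b, c, d, 0, 0⟩ : T) = ⟨1, 1, 0, 1, 0, 0⟩ ^ k.1 * ⟨1, 0, -1, 1, 0, 0⟩ ^ l.1 * ⟨1, 1, 0, 1, 0, 0⟩ ^ m.1 *
      ⟨1, 0, -1, 1, 0, 0⟩ ^ n.1 ∧ (sd ⟨a, b, c, d, 0, 0⟩ ↔ 3 ∣ k.1 + l.1 + m.1 + n.1) := by decide +kernel

section abs

variable {A : Type} [Group A]

theorem hom_ext {f g : He →* A} (h1 : f ⟨1, 0, 0⟩ = g ⟨1, 0, 0⟩) (h2 : f ⟨0, 1, 0⟩ = g ⟨0, 1, 0⟩) (p : He) : f p = g p := by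
  obtain ⟨k, l, m, e⟩ := (by (refine of_decide_eq_true ?_; (try (rewrite [Cfsg.Agent.LsF.f439898_14.2, Cfsg.Agent.LsF.f439898_16.2, Cfsg.Agent.LsF.f439898_17.2, Cfsg.Agent.LsF.dForall_eq, Cfsg.Agent.LsF.dExistsFin_eq, Cfsg.Agent.LsF.decide_eq])); decide +kernel) : ∀ p : He, ∃ k l m : Fin 3, p = ⟨1, 0, 0⟩ ^ k.1 * ⟨0, 1, 0⟩ ^ l.1 *
    (⟨1, 0, 0⟩ * ⟨0, 1, 0⟩ * (⟨1, 0, 0⟩ : He)⁻¹ * (⟨0, 1, 0⟩ : He)⁻¹) ^ m.1) p
  rw [e]
  simp only [map_mul, map_pow, map_inv, h1, h2]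

/-- conjugation by `a` acts as `t` -/
def Ac (ι : He →* A) (a : A) (t : T) : Prop := ∀ p, a * ι p * a⁻¹ = ι (ap t p)

variable {ι : He →* A} {a b : A} {t s : T}

theorem ac_of (h1 : a * ι ⟨1, 0, 0⟩ = ι ⟨t.a, t.c, t.u⟩ * a) (h2 : a * ι ⟨0, 1, 0⟩ = ι ⟨t.b, t.d, t.v⟩ * a) : Ac ι a t :=
  hom_ext (f := (MulAut.conj a).toMonoidHom.comp ι) (g := ι.comp (ap t))
    ((mul_inv_eq_of_eq_mul h1).trans (congrArg ι (ap_x t).symm)) ((mul_inv_eq_of_eq_mul h2).trans (congrArg ι (ap_y t).symm))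

theorem Ac.mul (h : Ac ι a t) (h' : Ac ι b s) : Ac ι (a * b) (t * s) := fun p => by
  rw [ap_mul, ← h, ← h']
  group

theorem Ac.uniq (hi : Function.Injective ι) (h : Ac ι a t) (h' : Ac ι a s) : t = s := by
  have h1 := hi ((h ⟨1, 0, 0⟩).symm.trans (h' _))
  have h2 := hi ((h ⟨0, 1, 0⟩).symm.trans (h' _))
  simp only [ap_x, ap_y, He.mk.injEq] at h1 h2
  exact T.ext h1.1 h2.1 h1.2.1 h2.2.1 h1.2.2 h2.2.2

theorem ac_one (h : ∀ p, a * ι p = ι p * a) : Ac ι a 1 := fun p => by rw [h, ap_one, mul_inv_cancel_right]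

theorem Ac.norm [Finite A] (h : Ac ι a t) : a ∈ normalizer (ι.range : Set A) :=
  mem_normalizer_fintype fun _ ⟨p, e⟩ => ⟨_, e ▸ (h p).symm⟩

theorem exists_rho (hi : Function.Injective ι) {C : Subgroup A} (hC : C ≤ normalizer (ι.range : Set A)) :
    ∃ ρ : C →* T, ∀ a : C, Ac ι a (ρ a) := by
  have h : ∀ a : C, ∃ t, Ac ι a t := fun a => by
    obtain ⟨p, hp⟩ := (mem_normalizer_iff.1 (hC a.2) _).1 ⟨⟨1, 0, 0⟩, rfl⟩
    obtain ⟨q, hq⟩ := (mem_normalizer_iff.1 (hC a.2) _).1 ⟨⟨0, 1, 0⟩, rfl⟩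
    exact ⟨⟨p.i, q.i, p.j, q.j, p.k, q.k⟩, ac_of (eq_mul_of_mul_inv_eq hp.symm) (eq_mul_of_mul_inv_eq hq.symm)⟩
  choose ρ hρ using h
  exact ⟨⟨⟨ρ, (hρ 1).uniq hi (ac_one fun p => by simp)⟩, fun a b => (hρ (a * b)).uniq hi ((hρ a).mul (hρ b))⟩, hρ⟩

end abs

section mat

variable {K : Type} [Field K] {ω : Kˣ}

/-- the powers of `ω` -/
def ww (ω : Kˣ) (k : ZMod 3) : Kˣ := ω ^ k.val

theorem ww_add (h : orderOf ω = 3) (k l : ZMod 3) : ww ω (k + l) = ww ω k * ww ω l := by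
  rw [ww, ww, ww, ← pow_add, ZMod.val_add, ← pow_mod_orderOf ω (_ + _), h]

theorem ww_inj (h : orderOf ω = 3) : Function.Injective (ww ω) := fun k l e =>
  ZMod.val_injective 3 (pow_injOn_Iio_orderOf (k.val_lt.trans_eq h.symm) (l.val_lt.trans_eq h.symm) e)

theorem ww_zero : ww ω 0 = 1 := pow_zero ω

theorem ww_nat (h : orderOf ω = 3) (n : ℕ) : ww ω n = ω ^ n := by rw [ww, ZMod.val_natCast, ← pow_mod_orderOf ω n, h]

/-- the cyclic permutations -/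
def sh (j : ZMod 3) : Equiv.Perm (Fin 3) := (Equiv.addRight j : Equiv.Perm (ZMod 3))

/-- an index as a residue class -/
def zz (r : Fin 3) : ZMod 3 := r

theorem sh_facts : (∀ j l, sh (j + l) = sh j * sh l) ∧ (∀ j r, zz ((sh j)⁻¹ r) = zz r - j) ∧ (∀ j, sh j = 1 → j = 0) ∧
    (∀ j, Equiv.Perm.sign (sh j) = 1) ∧ sh 0 = 1 := by decide +kernel

theorem mono_mul (f g : ZMod 3 → ZMod 3) (h : orderOf ω = 3) (j l : ZMod 3) :
    (dg (fun r => ww ω (f (zz r))) * pm (sh j) * (dg (fun r => ww ω (g (zz r))) * pm (sh l)) : GL (Fin 3) K) =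
      dg (fun r => ww ω (f (zz r) + g (zz r - j))) * pm (sh (j + l)) := by
  rw [mul_assoc, ← mul_assoc (pm _), pm_mul_dg, mul_assoc, ← map_mul, ← mul_assoc, ← map_mul, sh_facts.1]
  simp only [sh_facts.2.1, ww_add h]
  rfl

/-- the matrices of the extraspecial group -/
def hm (h : orderOf ω = 3) : He →* GL (Fin 3) K :=
  MonoidHom.mk' (fun p => dg (fun r => ww ω (zz r * p.i + p.k + p.i * p.j)) * pm (sh p.j)) fun p q => by
    rw [mono_mul (fun r => r * p.i + p.k + p.i * p.j) (fun r => r * q.i + q.k + q.i * q.j) h]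
    refine congrArg₂ (fun s π => dg s * pm π) (funext fun r => congrArg _ ?_) rfl
    simp only [mulH]
    linear_combination (p.j * q.i) * (by decide : (3 : ZMod 3) = 0)

theorem hm_def (h : orderOf ω = 3) (p : He) :
    hm h p = dg (fun r => ww ω (zz r * p.i + p.k + p.i * p.j)) * pm (sh p.j) := rfl

theorem hm_apply (h : orderOf ω = 3) (p : He) (r s : Fin 3) :
    (hm h p).1 r s = if r = sh p.j s then (ww ω (zz r * p.i + p.k + p.i * p.j) : K) else 0 := dg_pm_apply _ _ _ _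

theorem hm_inj (h : orderOf ω = 3) : Function.Injective (hm h) := (injective_iff_map_eq_one _).2 fun p e => by
  have h1 : ∀ r, zz r * p.i + p.k + p.i * p.j = 0 ∧ r = sh p.j r := fun r => by
    have h2 := hm_apply h p r r
    rw [e, Units.val_one, one_apply_eq] at h2
    split_ifs at h2 with h3
    · exact ⟨ww_inj h ((Units.ext h2.symm).trans ww_zero.symm), h3⟩
    · exact absurd h2 one_ne_zero
  exact (by decide +kernel : ∀ p : He, (∀ r, zz r * p.i + p.k + p.i * p.j = 0 ∧ r = sh p.j r) → p = 1) p h1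

theorem det_hm (h : orderOf ω = 3) (p : He) : GeneralLinearGroup.det (hm h p) = 1 := by
  rw [hm_def, map_mul, det_dg, det_pm, sh_facts.2.2.2.1, map_one, mul_one, Fin.prod_univ_three, ← ww_add h, ← ww_add h]
  exact (congrArg (ww ω) ((by decide +kernel : ∀ p : He, zz 0 * p.i + p.k + p.i * p.j + (zz 1 * p.i + p.k + p.i * p.j) +
    (zz 2 * p.i + p.k + p.i * p.j) = 0) p)).trans ww_zero

theorem hm_z (h : orderOf ω = 3) : hm h ⟨0, 0, 1⟩ = dg fun _ => ω := by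
  rw [hm_def, sh_facts.2.2.2.2, map_one, mul_one]
  exact congrArg _ (funext fun r => by simp [ww, show (1 : ZMod 3).val = 1 from rfl])

theorem scal_of (h : orderOf ω = 3) {g : GL (Fin 3) K} (e : ∀ p, g * hm h p = hm h p * g) : ∃ x : Kˣ, g = dg fun _ => x := by
  have h1 : ∀ r s, r ≠ s → g.1 r s = 0 := fun r s hrs => by_contra fun h2 => by
    have h3 := e ⟨1, 0, 0⟩
    rw [hm_def, sh_facts.2.2.2.2, map_one, mul_one] at h3
    exact hrs ((by decide : ∀ r s : Fin 3, zz r * 1 + 0 + 1 * 0 = zz s * 1 + 0 + 1 * 0 → r = s) r s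
      (ww_inj h (S.eq_of_mul h3 h2)))
  have h2 : ∀ r, g.1 r r = g.1 (sh 1 r) (sh 1 r) := fun r => by
    have h3 := congrArg (fun y : GL (Fin 3) K => y.1 (sh 1 r) r) (e ⟨0, 1, 0⟩)
    simpa only [hm_def, ww, mul_pm_apply, pm_mul_apply, ← Pi.one_def, _root_.MulZeroClass.mul_zero, _root_.add_zero, _root_.mul_one, _root_.ZMod.val_zero, _root_.pow_zero, _root_.map_one, _root_.one_mul, _root_.Equiv.Perm.coe_inv, _root_.Equiv.symm_apply_apply] using h3.symm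
  refine F.scal_of_val (a := g.1 0 0) (Matrix.ext fun r s => ?_)
  rw [scalar_apply, diagonal_apply]
  split_ifs with h3
  · subst h3
    fin_cases r
    exacts [rfl, (h2 0).symm, h2 2]
  · exact h1 r s h3

theorem sum_eq (h : orderOf ω = 3) : (ω : K) ^ 2 + ω + 1 = 0 := by
  have h1 : (ω : K) ^ 3 = 1 := by rw [← Units.val_pow_eq_pow_val, ← h, pow_orderOf_eq_one, Units.val_one]
  have h2 : (ω : K) - 1 ≠ 0 := fun e => absurd (h.symm.trans (orderOf_eq_one_iff.2 (Units.ext (sub_eq_zero.1 e)))) (by decide)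
  exact mul_left_cancel₀ h2 (by linear_combination h1)

theorem three_ne (h : orderOf ω = 3) : (3 : K) ≠ 0 := fun e => by
  have h2 : (ω : K) - 1 ≠ 0 := fun e => absurd (h.symm.trans (orderOf_eq_one_iff.2 (Units.ext (sub_eq_zero.1 e)))) (by decide)
  exact pow_ne_zero 2 h2 (by linear_combination sum_eq h - ω * e)

theorem root_cases (h : orderOf ω = 3) {x : Kˣ} (hx : orderOf x = 3) : x = ω ∨ x = ω ^ 2 := by
  have h1 : ((x : K) - ω) * (x - ω ^ 2) = 0 := by linear_combination sum_eq hx + (ω - 1 - x) * sum_eq h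
  exact (mul_eq_zero.1 h1).imp (fun e => Units.ext (sub_eq_zero.1 e)) fun e => Units.ext (sub_eq_zero.1 e)

/-- the homologies with centre `(1, 1, 1)` -/
def Dj (h : (3 : K) ≠ 0) : Kˣ →* GL (Fin 3) K := MonoidHom.toHomUnits
  { toFun x := Matrix.of fun r s => (if r = s then 1 else 0) + ((x : K) - 1) / 3
    map_one' := Matrix.ext fun r s => by simp [one_apply]
    map_mul' x y := Matrix.ext fun r s => by
      simp only [mul_apply, of_apply, add_mul, mul_add, Finset.sum_add_distrib, ite_mul, mul_ite, one_mul, mul_one, zero_mul,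
        mul_zero, Finset.sum_ite_eq, Finset.sum_ite_eq', Finset.mem_univ, if_true, Finset.sum_const, Finset.card_univ,
        Fintype.card_fin, nsmul_eq_mul, Units.val_mul, Nat.cast_ofNat]
      field_simp
      ring }

theorem Dj_apply (h : (3 : K) ≠ 0) (x : Kˣ) (r s : Fin 3) : (Dj h x).1 r s = (if r = s then 1 else 0) + ((x : K) - 1) / 3 := rfl

theorem det_Dj (h : (3 : K) ≠ 0) (x : Kˣ) : GeneralLinearGroup.det (Dj h x) = x := Units.ext (by
  rw [GeneralLinearGroup.val_det_apply, det_fin_three]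
  simp only [Dj_apply, _root_.Fin.isValue, ↓ _root_.reduceIte, _root_.Fin.reduceEq, _root_.zero_add, _root_.zero_ne_one, _root_.one_ne_zero]
  field_simp
  ring)

theorem Dj_ww (h : orderOf ω = 3) (r s : Fin 3) :
    (Dj (three_ne h) ω).1 r s = ((ω : K) - 1) / 3 * ww ω (2 + (zz r - zz s) ^ 2) := by
  have h1 := three_ne h
  rw [Dj_apply]
  split_ifs with e
  · rw [e, sub_self, show ww ω (2 + 0 ^ 2) = ω ^ 2 from rfl, Units.val_pow_eq_pow_val]
    field_simp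
    linear_combination (2 - ω) * sum_eq h
  · rw [(by decide : ∀ r s : Fin 3, r ≠ s → 2 + (zz r - zz s) ^ 2 = 0) r s e, zero_add, ww_zero, Units.val_one, mul_one]

theorem Dj_comm (h : orderOf ω = 3) {p q : He}
    (e : ∀ r s, 2 + (r - (s + p.j)) ^ 2 + ((s + p.j) * p.i + p.k + p.i * p.j) = r * q.i + q.k + q.i * q.j + (2 + (r - q.j - s) ^ 2)) :
    Dj (three_ne h) ω * hm h p = hm h q * Dj (three_ne h) ω := Units.ext (Matrix.ext fun r s => by
  rw [hm_def, hm_def, ← mul_assoc, mul_assoc (dg _), mul_pm_apply, mul_dg_apply, dg_mul_apply, pm_mul_apply, Dj_ww h, Dj_ww h,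
    sh_facts.2.1, mul_assoc, mul_left_comm (_ : K) (_ / _), ← Units.val_mul, ← Units.val_mul, ← ww_add h, ← ww_add h]
  exact congrArg (fun k => ((ω : K) - 1) / 3 * ww ω k) (e (zz r) (zz s)))

end mat

variable (c : D0)

theorem act_Dj (h : (3 : c.K) ≠ 0) (e : c.E) (x : c.Kˣ) : c.act _ e (Dj h x) = Dj h (c.ue e x) :=
  Units.ext (Matrix.ext fun r s => by
    rcases Int.units_eq_one_or (c.sg e) with h1 | h1
    · rw [c.act_of_sg_one h1, Dj_apply, Dj_apply, c.ue_val, h1]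
      simp [apply_ite, map_ofNat]
    · rw [c.act_of_sg_neg h1, ← map_inv, Dj_apply, Dj_apply, c.ue_val, h1]
      simp [apply_ite, map_ofNat, eq_comm])

theorem act_hm {ω : c.Kˣ} (h : orderOf ω = 3) (e : c.E) {s : ZMod 3} (hs : c.ue e ω = ww ω s) (p : He) :
    c.act _ e (hm h p) = hm h (ap ⟨s, 0, 0, 1, 0, 0⟩ p) := by
  rw [hm_def, hm_def, map_mul, c.act_dg, c.act_pm]
  refine congrArg₂ (fun s π => dg s * pm π) (funext fun r => ?_) (by simp [ap_def])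
  rw [ww, c.ue_pow, hs, ww, ← pow_mul, ← ww_nat h, Nat.cast_mul, ZMod.natCast_zmod_val, ZMod.natCast_zmod_val]
  congr 1
  simp only [ap_def, T.det]
  ring

theorem boxXL_of (hF : BoxF) : BoxXL := by
  intro c hn h3 qs Z₀ hZ
  have F := hF c (Fin 3) hn 1 c.lg_one
  have h1 := XG.three_dvd h3
  obtain ⟨m, hm1⟩ : 3 ∣ (c.Q - 1).natAbs := Int.natCast_dvd.1 h1
  have hm3 : ¬ 3 ∣ m := fun e => by
    have h0 : (c.Q - 1).natAbs ≠ 0 := fun e => by simp [vz, e] at h3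
    have := (Nat.prime_three.pow_dvd_iff_le_factorization (k := 2) h0).1 (hm1 ▸ mul_dvd_mul_left 3 e)
    rw [show (c.Q - 1).natAbs.factorization 3 = 1 from h3] at this
    omega
  have hpw : ∀ x : c.Kˣ, x ^ (c.Q - 1) = 1 → (x ^ m) ^ 3 = 1 := fun x hx => by
    rw [← pow_mul, mul_comm, ← hm1, ← orderOf_dvd_iff_pow_eq_one, ← Int.natCast_dvd]
    exact orderOf_dvd_iff_zpow_eq_one.2 hx
  obtain ⟨ω, h⟩ := c.exists_root (k := 3) (by
    have := c.ctx.dvd 1 Nat.one_pos (by omega)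
    rw [pow_one] at this
    exact_mod_cast h1.trans this)
  have hω : ω ^ (c.Q - 1) = 1 := orderOf_dvd_iff_zpow_eq_one.1 (h ▸ h1)
  have hωF : c.ue c.F ω = ω := by rwa [c.ue_F, ← mul_inv_eq_one, ← _root_.zpow_sub_one]
  let ι : He →* c.AA (Fin 3) := inl.comp (hm h)
  have hi : Function.Injective ι := inl_injective.comp (hm_inj h)
  have hG : ∀ p, ι p ∈ c.G 1 := fun p => c.inl_mem_G.2 ⟨by
    rw [act_hm c.toD0 h c.F (s := 1) (hωF.trans (pow_one ω).symm), one_mul, mul_one]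
    exact congrArg _ (ap_one p), det_hm h p⟩
  have L := X.loc_of c h3 F qs ι.range (by rintro _ ⟨p, rfl⟩; exact hG p)
    (by rw [← Nat.card_congr (MonoidHom.ofInjective hi).toEquiv, Nat.card_eq_fintype_card]; rfl)
    ⟨_, ⟨⟨1, 0, 0⟩, rfl⟩, _, ⟨⟨0, 1, 0⟩, rfl⟩, by rw [← map_mul, ← map_mul]; exact fun e => absurd (hi e) (by decide)⟩
  set C := c.Ah 1 ⊓ normalizer (ι.range : Set (c.AA (Fin 3)))
  obtain ⟨ρ, hρ⟩ := exists_rho hi (C := C) inf_le_right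
  have hdet : ∀ a : C, a.1 ∈ c.Gt 1 → (ρ a).det = 1 := fun a ha => by
    have h4 := hρ a ⟨0, 0, 1⟩
    rw [← (c.cn_of_scal (hG _).1 (hm_z h)).2 a ha, mul_inv_cancel_right] at h4
    simpa [ap_def] using (congrArg He.k (hi h4)).symm
  have hker : ∀ a : C, a.1 ∈ c.Gt 1 → ρ a = 1 → ∃ x : c.Kˣ, a.1 = inl (dg fun _ => x) ∧ x ^ (c.Q - 1) = 1 := fun a ha e => by
    obtain ⟨x, hx⟩ := scal_of h (g := a.1.left) fun p => by
      have h4 := hρ a p
      rw [e, ap_one, c.eq_inl ha.2, mul_inv_eq_iff_eq_mul] at h4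
      exact inl_injective ((map_mul inl _ _).trans (h4.trans (map_mul inl _ _).symm))
    have h4 := (c.eq_inl ha.2).trans (congrArg inl hx)
    exact ⟨x, h4, c.dg_mem_Gt_one.1 (h4 ▸ ha) 0⟩
  let Rl : T → ℕ → Prop := fun t k => ∃ a : C, a.1 ∈ c.Gt 1 ∧ ρ a = t ∧ c.dt a.1 = ω ^ k
  have r0 : ∀ {g t k}, inl g ∈ c.Gt 1 → Ac ι (inl g) t → GeneralLinearGroup.det g = ω ^ k → Rl t k := fun h4 h5 h6 =>
    ⟨⟨_, h4.1, h5.norm⟩, h4, (hρ _).uniq hi h5, h6⟩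
  have r1 : ∀ {t s k l}, Rl t k → Rl s l → Rl (t * s) (k + l) := fun ⟨a, h4, h5, h6⟩ ⟨b, h7, h8, h9⟩ =>
    ⟨a * b, mul_mem h4 h7, by rw [map_mul, h5, h8], by rw [coe_mul, c.dt_mul, c.right_of_Gt h4, c.one_ue, h6, h9, pow_add]⟩
  have r2 : ∀ {t}, Rl t 1 → ∀ k, Rl (t ^ k) k := fun h4 k => by
    induction k with
    | zero => exact ⟨1, one_mem _, by rw [map_one, pow_zero], c.dt_one.trans (pow_zero ω).symm⟩
    | succ k ih =>
      rw [pow_succ]
      exact r1 ih h4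
  have r3 : Rl ⟨1, 1, 0, 1, 0, 0⟩ 1 := by
    have h4 : ∀ p q : He, p.j = q.j → (∀ r, -r ^ 2 + (r * p.i + p.k + p.i * p.j) = r * q.i + q.k + q.i * q.j + -(r - q.j) ^ 2) →
        inl (dg fun r => ww ω (-zz r ^ 2)) * ι p = ι q * inl (dg fun r => ww ω (-zz r ^ 2)) := fun p q h5 h6 => by
      refine (map_mul inl _ _).symm.trans (Eq.trans (congrArg _ ?_) (map_mul inl _ _))
      have h7 := mono_mul (fun r => -r ^ 2) (fun r => r * p.i + p.k + p.i * p.j) h 0 p.j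
      have h8 := mono_mul (fun r => r * q.i + q.k + q.i * q.j) (fun r => -r ^ 2) h q.j 0
      simp only [sh_facts.2.2.2.2, map_one, mul_one, sub_zero, zero_add, add_zero] at h7 h8
      rw [hm_def, hm_def, h7, h8, h5]
      simp only [← h5, h6]
    refine r0 (c.dg_mem_Gt_one.2 fun r => ?_) (ac_of (h4 _ _ rfl (by decide)) (h4 _ _ rfl (by decide))) ?_
    · rw [ww, ← zpow_natCast, ← _root_.zpow_mul, mul_comm, _root_.zpow_mul, hω, _root_.one_zpow]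
    · rw [det_dg, Fin.prod_univ_three, ← ww_add h, ← ww_add h]
      rfl
  have r4 : Rl ⟨1, 0, -1, 1, 0, 0⟩ 1 := by
    have h4 : ∀ p q : He, Dj (three_ne h) ω * hm h p = hm h q * Dj (three_ne h) ω →
        inl (Dj (three_ne h) ω) * ι p = ι q * inl (Dj (three_ne h) ω) := fun p q h5 =>
      (map_mul inl _ _).symm.trans ((congrArg _ h5).trans (map_mul inl _ _))
    exact r0 (c.inl_mem_Gt.2 (by rw [act_Dj, hωF, one_mul, mul_one]))
      (ac_of (h4 _ _ (Dj_comm h (by decide))) (h4 _ _ (Dj_comm h (by decide)))) ((det_Dj _ _).trans (pow_one ω).symm)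
  have r5 : ∀ t : T, t.det = 1 → ∃ k, Rl t k ∧ (sd t ↔ 3 ∣ k) := fun t ht => by
    obtain ⟨k, l, m, n, h4, h5⟩ := words _ _ _ _ ht
    have h6 := r1 (r1 (r1 (r1 (r2 r3 k) (r2 r4 l)) (r2 r3 m)) (r2 r4 n)) (r0 (k := 0) (hG ⟨t.v, -t.u, 0⟩).1
      (fun q => by rw [← ap_inn]; simp only [map_mul, map_inv]; rfl) ((det_hm h _).trans (pow_zero ω).symm))
    refine ⟨_, ?_, h5⟩
    rw [← h4, add_zero] at h6
    convert h6 using 1
    change t.a * t.d - t.b * t.c = 1 at ht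
    ext <;> simp [mul_def, T.det, ht]
  have r6 : ∀ a : C, a.1 ∈ c.G 1 → sd (ρ a) := fun a ha => by
    obtain ⟨k, ⟨b, h4, h5, h6⟩, h7⟩ := r5 _ (hdet a ha.1)
    obtain ⟨x, h8, h9⟩ := hker (a⁻¹ * b) (mul_mem (inv_mem ha.1) h4) (by rw [map_mul, h5, ← map_mul, inv_mul_cancel, map_one])
    rw [show b.1 = a.1 * inl (dg fun _ => x) by rw [← h8]; simp only [_root_.Subgroup.coe_mul, _root_.InvMemClass.coe_inv, _root_.mul_inv_cancel_left], c.dt_mul, c.right_of_Gt ha.1, c.one_ue, (c.mem_G'.1 ha).2,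
      one_mul, c.dt_inl, det_dg_const, Fintype.card_fin] at h6
    have h10 := hpw x h9
    rw [← pow_mul, mul_comm, pow_mul, h6, ← pow_mul, ← orderOf_dvd_iff_pow_eq_one, h] at h10
    exact h7.2 ((Nat.prime_three.dvd_mul.1 h10).resolve_right hm3)
  have H : Hyp (c.G 1 ⊓ C) (c.Gt 1 ⊓ C) (c.Gh 1 ⊓ C) C (c.tw 1) {z | Cn (c.Gt 1) z} Z₀ ρ := by
    refine ⟨As.loc F.fr L, fun t => ⟨fun ht => ?_, fun ⟨a, ha, e⟩ => e ▸ hdet a ha.1⟩,
      fun t => ⟨fun ht => ?_, fun ⟨a, ha, e⟩ => e ▸ ⟨hdet a ha.1.1, r6 a ha.1⟩⟩, fun a ha => ?_,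
      fun a e => (hρ a).uniq hi (ac_one fun p => e ▸ F.fr.Fc _ (hG p).1.1),
      fun a _ ha => (hρ a).uniq hi (ac_one fun p => ha.2 _ (hG p).1), fun a ha e => ?_, fun a ha e => ?_⟩
    · obtain ⟨k, ⟨a, h4, h5, -⟩, -⟩ := r5 t ht
      exact ⟨a, ⟨h4, a.2⟩, h5⟩
    · obtain ⟨k, ⟨a, h4, h5, h6⟩, h7⟩ := r5 t ht.1
      exact ⟨a, ⟨c.mem_G'.2 ⟨h4, h6.trans (orderOf_dvd_iff_pow_eq_one.1 (h ▸ h7.1 ht.2))⟩, a.2⟩, h5⟩
    · obtain ⟨s, h4, h5⟩ : ∃ s : ZMod 3, s ≠ 0 ∧ c.ue a.1.right ω = ww ω s :=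
        (root_cases h (((c.ueA a.1.right).orderOf_eq ω).trans h)).elim (fun e => ⟨1, by decide, e.trans (pow_one ω).symm⟩)
          fun e => ⟨2, by decide, e⟩
      have h6 : Ac ι (inr a.1.right) ⟨s, 0, 0, 1, 0, 0⟩ := fun p => (c.conj_inl _ _).trans (congrArg inl (by
        rw [left_inr, right_inr, one_mul, inv_one, mul_one, act_hm c.toD0 h _ h5]))
      let b : C := ⟨inr a.1.right, (c.inr_mem_Gh_one _).1, h6.norm⟩
      have h7 := r6 (a * b⁻¹) (c.mem_G''.2 ⟨mul_mem ha.1 (inv_mem (c.inr_mem_Gh_one _)), by simp only [b, _root_.Subgroup.coe_mul, _root_.InvMemClass.coe_inv, _root_.SemidirectProduct.mul_right, _root_.SemidirectProduct.inv_right, _root_.SemidirectProduct.right_inr, _root_.mul_inv_cancel]⟩)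
      rw [← inv_mul_cancel_right a b, map_mul, (hρ b).uniq hi h6]
      simpa only [sd, mul_def, h4, _root_.map_mul, _root_.MulZeroClass.mul_zero, _root_.add_zero, _root_.mul_one, _root_.zero_add, _root_.mul_eq_zero, _root_.or_false] using h7
    · obtain ⟨x, h4, h5⟩ := hker a ha.1 e
      refine ⟨m, hm3, c.mem_G'.2 ⟨pow_mem ha.1 m, ?_⟩, pow_mem a.2 m⟩
      rw [h4, ← map_pow, ← map_pow, c.dt_inl]
      exact (det_dg_const _).trans (hpw x h5)
    · obtain ⟨x, h4, -⟩ := hker a ha.1.1 e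
      exact hZ _ ha.1 (c.cn_of_scal ha.1.1 (congrArg SemidirectProduct.left h4))
  obtain ⟨ψ, h4, h5⟩ := H.base
  exact ⟨C, ψ, L, h4, h5⟩

theorem boxXL : BoxXL := boxXL_of boxF

end Cfsg.Agent.MO.TA.XA
end

-- part: MO/TA/Main
section
/-!
# MO, types `A` and `²A`: the rows
-/

set_option autoImplicit false

namespace Cfsg.Agent.MO.TA

theorem rowA {l : ℕ} [Fact l.Prime] (h2 : l ≠ 2) : RowA l := rowA_of_xl XA.boxXL h2

end Cfsg.Agent.MO.TA
end

private theorem dce_c4ab251b639e : _root_.True := by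
  try have : _root_.True := by simp only [_root_.Cfsg.Agent.MO.TA.XA.Ps.eq_2]
  try have : _root_.True := by simp only [_root_.Cfsg.Agent.MO.TA.XA.sd.eq_1]
  try have : _root_.True := by simp only [_root_.Cfsg.Agent.MO.Cf.conf.congr_simp]
  try have : _root_.True := by simp only [_root_.Cfsg.Agent.MO.TA.XA.Ps.eq_1]
  try have : _root_.True := by simp only [_root_.Cfsg.Agent.MO.TA.XA.pt.eq_1]
  try have : _root_.True := by simp only [_root_.Cfsg.Agent.MO.TA.XA.Hyp.ps.congr_simp]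
  try have : _root_.True := by simp only [_root_.Cfsg.Agent.MO.B.DD.congr_simp]
  try have : _root_.True := by simp only [_root_.Cfsg.Agent.MO.B.AS.congr_simp]
  try have : _root_.True := by simp only [_root_.Cfsg.Agent.MO.TA.XA.T.det.eq_1]
  try have : _root_.True := by simp only [_root_.Cfsg.Agent.MO.TA.XA.Hyp.ps.eq_1]
  try have : _root_.True := by simp only [_root_.Cfsg.Agent.MO.TA.XA.ww.eq_1]
  try have : _root_.True := by simp only [_root_.Cfsg.Agent.MO.TA.XA.Ps.eq_3]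
  try have : _root_.True := by simp only [_root_.Cfsg.Agent.MO.TA.XA.Dj.congr_simp]
  try have : _root_.True := by simp only [_root_.Cfsg.Agent.MO.TA.XA.hm.congr_simp]
  try have : _root_.True := by simp only [_root_.Cfsg.Agent.MO.TA.XA.Ps.eq_4]
  try have : _root_.True := by simp only [_root_.Cfsg.Agent.MO.B.om1.congr_simp]
  exact _root_.True.intro
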